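import Mathlib
import Groth.Agent.Lib.WQShrink_helper7
import Groth.Agent.Lib.FixedNormal_helper3
import Groth.Agent.Lib.IntegralHeight_helper5

set_option backward.isDefEq.respectTransparency false
set_option backward.isDefEq.respectTransparency.types false
set_option linter.style.haveILetI false
set_option linter.unusedSectionVars false
set_option autoImplicit false

/-!
# The Galois group of a normal local domain over a regular local ring with the same residue
field is generated by the inertia groups of height one primes (helper7)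
-/

namespace Groth.Agent.Lib.WQGal

universe u v w

open Pointwise IsLocalRing

section

variable {R : Type u} {A : Type v} {H : Type w} [CommRing R] [CommRing A] [Algebra R A]
  [Group H] [MulSemiringAction H A] [SMulCommClass H R A]

include R in
theorem smul_mem_fixed (N : Subgroup H) [hN : N.Normal] (k : H) (a : A)
    (ha : a ∈ FixedPoints.subalgebra R A N) : k • a ∈ FixedPoints.subalgebra R A N := by
  intro n
  have hmem : k⁻¹ * (n : H) * k ∈ N := hN.conj_mem' n n.2 k
  have h1 : (⟨k⁻¹ * (n : H) * k, hmem⟩ : N) • a = a := ha _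
  have h2 : (k⁻¹ * (n : H) * k) • a = a := h1
  have h3 : (n : H) * k = k * (k⁻¹ * (n : H) * k) := by group
  show (n : H) • k • a = k • a
  rw [← mul_smul, h3, mul_smul, h2]

/-- **Lemma I.** -/
theorem mem_of_inertia_le [Finite H] (N : Subgroup H) [hN : N.Normal] (P : Ideal A)
    [hP : P.IsPrime] (hI : P.inertia H ≤ N) (g : H)
    (hg : ∀ a : A, a ∈ FixedPoints.subalgebra R A N → g • a - a ∈ P) : g ∈ N := by
  let B := FixedPoints.subalgebra R A N
  haveI : Algebra.IsInvariant B A N := ⟨fun x h => ⟨⟨x, h⟩, rfl⟩⟩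
  have hg' : ∀ a : A, a ∈ B → g⁻¹ • a - a ∈ P := by
    intro a ha
    have h1 := hg (g⁻¹ • a) (smul_mem_fixed (R := R) N g⁻¹ a ha)
    rw [smul_inv_smul] at h1
    have h2 := P.neg_mem h1
    rwa [neg_sub] at h2
  have hunder : P.under B = (g • P).under B := by
    ext b
    rw [Ideal.under_def, Ideal.under_def, Ideal.mem_comap, Ideal.mem_comap,
      Ideal.mem_pointwise_smul_iff_inv_smul_mem]
    have hb := hg' (b : A) b.2
    show (b : A) ∈ P ↔ g⁻¹ • (b : A) ∈ P
    constructor
    · intro h
      have := P.add_mem hb h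
      rwa [sub_add_cancel] at this
    · intro h
      have := P.sub_mem h hb
      rwa [sub_sub_cancel] at this
  haveI : (g • P).IsPrime := Ideal.IsPrime.smul g
  obtain ⟨n, hn⟩ := Algebra.IsInvariant.exists_smul_of_under_eq B A N P (g • P) hunder
  let g' : H := (n : H)⁻¹ * g
  have hmemP : ∀ x : A, x ∈ P ↔ g' • x ∈ P := by
    intro x
    have h1 : g • x ∈ g • P ↔ x ∈ P := Ideal.smul_mem_pointwise_smul_iff
    have h2 : g • x ∈ n • P ↔ n⁻¹ • (g • x) ∈ P := Ideal.mem_pointwise_smul_iff_inv_smul_mem
    rw [hn] at h1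
    rw [← h1, h2]
    show (n : H)⁻¹ • g • x ∈ P ↔ ((n : H)⁻¹ * g) • x ∈ P
    rw [mul_smul]
  have hg'P : g' • P = P := by
    ext x
    rw [Ideal.mem_pointwise_smul_iff_inv_smul_mem]
    have := hmemP (g'⁻¹ • x)
    rw [smul_inv_smul] at this
    exact this
  have hg'B : ∀ a : A, a ∈ B → g' • a - a ∈ P := by
    intro a ha
    have h1 : g' • a = g • a := by
      show ((n : H)⁻¹ * g) • a = g • a
      rw [mul_smul]
      exact smul_mem_fixed (R := R) N g a ha (n⁻¹)
    rw [h1]
    exact hg a ha
  let Q : Ideal B := P.under B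
  haveI : P.LiesOver Q := ⟨rfl⟩
  let gs : MulAction.stabilizer H P := ⟨g', hg'P⟩
  let σ0 := Ideal.Quotient.stabilizerHom P (P.under R) H gs
  have hσ0 : ∀ a : A, σ0 (Ideal.Quotient.mk P a) = Ideal.Quotient.mk P (g' • a) :=
    fun a => Ideal.Quotient.stabilizerHom_apply P (P.under R) H gs a
  let σ' : (A ⧸ P) ≃ₐ[B ⧸ Q] (A ⧸ P) := AlgEquiv.ofRingEquiv (f := σ0.toRingEquiv) (by
    intro x
    obtain ⟨b, rfl⟩ := Ideal.Quotient.mk_surjective x
    rw [Ideal.Quotient.algebraMap_mk_of_liesOver]
    show σ0 (Ideal.Quotient.mk P (algebraMap B A b)) = _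
    rw [hσ0, Ideal.Quotient.eq]
    exact hg'B (b : A) b.2)
  obtain ⟨ns, hns⟩ := Ideal.Quotient.stabilizerHom_surjective N Q P σ'
  let m : H := ((ns : N) : H)
  have hmN : m ∈ N := (ns : N).2
  have hdiff : ∀ a : A, m • a - g' • a ∈ P := by
    intro a
    have h1 := congrArg (fun f => f (Ideal.Quotient.mk P a)) hns
    have h2 : Ideal.Quotient.stabilizerHom P Q N ns (Ideal.Quotient.mk P a) =
        Ideal.Quotient.mk P (ns • a) := Ideal.Quotient.stabilizerHom_apply P Q N ns a
    have h3 : σ' (Ideal.Quotient.mk P a) = Ideal.Quotient.mk P (g' • a) := hσ0 a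
    have h4 : Ideal.Quotient.mk P (ns • a) = Ideal.Quotient.mk P (g' • a) :=
      h2.symm.trans (h1.trans h3)
    rw [Ideal.Quotient.eq] at h4
    exact h4
  have hmP : ∀ x : A, x ∈ P → m⁻¹ • x ∈ P := by
    intro x hx
    have h1 : (ns : N) • P = P := ns.2
    have h2 : x ∈ (ns : N) • P ↔ (ns : N)⁻¹ • x ∈ P :=
      Ideal.mem_pointwise_smul_iff_inv_smul_mem
    rw [h1] at h2
    exact h2.mp hx
  let k : H := m⁻¹ * g'
  have hk : k ∈ P.inertia H := by
    intro a
    show k • a - a ∈ P
    have h1 : k • a - a = m⁻¹ • (g' • a - m • a) := by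
      show (m⁻¹ * g') • a - a = _
      rw [smul_sub, inv_smul_smul, mul_smul]
    rw [h1]
    apply hmP
    have := P.neg_mem (hdiff a)
    rwa [neg_sub] at this
  have hkN : k ∈ N := hI hk
  have hg'N : g' ∈ N := by
    have : g' = m * k := by
      show g' = m * (m⁻¹ * g')
      rw [mul_inv_cancel_left]
    rw [this]
    exact N.mul_mem hmN hkN
  have : g = (n : H) * g' := by
    show g = (n : H) * ((n : H)⁻¹ * g)
    rw [mul_inv_cancel_left]
  rw [this]
  exact N.mul_mem n.2 hg'N

theorem normal_iSup_inertia :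
    (⨆ P : {P : Ideal A // P.IsPrime ∧ P.height = 1}, P.1.inertia H).Normal := by
  refine ⟨fun n hn g => ?_⟩
  refine Subgroup.iSup_induction
    (C := fun x => g * x * g⁻¹ ∈
      ⨆ P : {P : Ideal A // P.IsPrime ∧ P.height = 1}, P.1.inertia H) _ hn ?_ ?_ ?_
  · rintro ⟨P, hP, hht⟩ x hx
    haveI := hP
    have hprime : (g • P).IsPrime := Ideal.IsPrime.smul g
    have hheight : (g • P).height = 1 := by
      rw [Ideal.pointwise_smul_eq_comap, RingEquiv.height_comap]
      exact hht
    refine Subgroup.mem_iSup_of_mem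
      (⟨g • P, hprime, hheight⟩ : {P : Ideal A // P.IsPrime ∧ P.height = 1}) ?_
    intro a
    show (g * x * g⁻¹) • a - a ∈ g • P
    rw [Ideal.mem_pointwise_smul_iff_inv_smul_mem]
    have h1 : g⁻¹ • ((g * x * g⁻¹) • a - a) = x • g⁻¹ • a - g⁻¹ • a := by
      have h2 : g⁻¹ * (g * x * g⁻¹) = x * g⁻¹ := by group
      rw [smul_sub, ← mul_smul, h2, mul_smul]
    rw [h1]
    exact hx (g⁻¹ • a)
  · show g * 1 * g⁻¹ ∈ _
    rw [mul_one, mul_inv_cancel]
    exact one_mem _
  · intro x y hx hy
    have : g * (x * y) * g⁻¹ = (g * x * g⁻¹) * (g * y * g⁻¹) := by group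
    show g * (x * y) * g⁻¹ ∈ _
    rw [this]
    exact mul_mem hx hy

theorem inertia_le_iSup [IsDomain A] [FaithfulSMul H A] (P : Ideal A) [P.IsPrime]
    (h : P.height ≤ 1) :
    P.inertia H ≤ ⨆ P : {P : Ideal A // P.IsPrime ∧ P.height = 1}, P.1.inertia H := by
  rcases lt_or_eq_of_le h with h0 | h1
  · have h00 : P.height = 0 := Order.lt_one_iff.mp h0
    have hbot : P = ⊥ := Ideal.height_eq_zero_iff_eq_bot.mp h00
    intro σ hσ
    have h1 : σ = 1 := by
      apply FaithfulSMul.eq_of_smul_eq_smul (α := A)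
      intro a
      have h2 : σ • a - a ∈ P := hσ a
      rw [hbot, Ideal.mem_bot, sub_eq_zero] at h2
      rw [one_smul, h2]
    rw [h1]
    exact one_mem _
  · exact le_iSup (fun P : {P : Ideal A // P.IsPrime ∧ P.height = 1} => P.1.inertia H)
      ⟨P, inferInstance, h1⟩

include R in
theorem isLocalRing_fixed (N : Subgroup H) [IsLocalRing A] :
    IsLocalRing (FixedPoints.subalgebra R A N) := by
  let B := FixedPoints.subalgebra R A N
  have hunit : ∀ b : B, IsUnit (b : A) → IsUnit b := by
    intro b hb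
    obtain ⟨c, hc⟩ := hb.exists_right_inv
    have hcB : c ∈ B := by
      intro n
      have h1 : (b : A) * (n • c) = 1 := by
        have h2 := congrArg (fun x => n • x) hc
        simp only [smul_mul', smul_one] at h2
        rwa [b.2 n] at h2
      exact hb.mul_left_cancel (h1.trans hc.symm)
    exact isUnit_iff_exists_inv.mpr ⟨⟨c, hcB⟩, Subtype.ext hc⟩
  refine IsLocalRing.of_nonunits_add ?_
  intro x y hx hy
  rw [mem_nonunits_iff] at hx hy ⊢
  intro hxy
  have h1 : IsUnit ((x : A) + (y : A)) := hxy.map B.val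
  have hxA : (x : A) ∈ nonunits A := fun h => hx (hunit x h)
  have hyA : (y : A) ∈ nonunits A := fun h => hy (hunit y h)
  exact IsLocalRing.nonunits_add hxA hyA h1

end

/-- **Main theorem**: `H` is generated by the inertia groups of the height one primes. -/
theorem iSup_inertia_eq_top
    (R : Type u) [CommRing R] [IsRegularLocalRing R]
    (A : Type v) [CommRing A] [IsDomain A] [IsIntegrallyClosed A] [IsLocalRing A]
    [Algebra R A] [Module.Finite R A] (hinj : Function.Injective (algebraMap R A))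
    (hres : Function.Surjective (IsLocalRing.residue A ∘ algebraMap R A))
    (H : Type w) [Group H] [Finite H] [MulSemiringAction H A] [SMulCommClass H R A]
    [FaithfulSMul H A]
    (hfix : ∀ a : A, (∀ h : H, h • a = a) → a ∈ Set.range (algebraMap R A)) :
    (⨆ P : {P : Ideal A // P.IsPrime ∧ P.height = 1}, P.1.inertia H) = ⊤ := by
  set N : Subgroup H := ⨆ P : {P : Ideal A // P.IsPrime ∧ P.height = 1}, P.1.inertia H with hNdef
  haveI hN : N.Normal := normal_iSup_inertia
  let B := FixedPoints.subalgebra R A N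
  haveI : Algebra.IsInvariant B A N := ⟨fun x h => ⟨⟨x, h⟩, rfl⟩⟩
  haveI : IsNoetherianRing R := inferInstance
  haveI : IsNoetherian R A := isNoetherian_of_isNoetherianRing_of_finite R A
  haveI : Module.Finite R B := Module.Finite.of_injective B.val.toLinearMap Subtype.val_injective
  haveI : IsIntegrallyClosed B :=
    Groth.Agent.Lib.FixedNormalH3.isIntegrallyClosed_of_fixed (k := R) B
      (σ := fun n : N => MulSemiringAction.toRingHom N A n)
      (fun x => ⟨fun h i => h i, fun h i => h i⟩)
  haveI : IsLocalRing B := isLocalRing_fixed (R := R) N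
  have hinjB : Function.Injective (algebraMap R B) :=
    fun x y h => hinj (congrArg Subtype.val h)
  have hresB : Function.Surjective (IsLocalRing.residue B ∘ algebraMap R B) := by
    intro x
    obtain ⟨b, rfl⟩ := IsLocalRing.residue_surjective x
    obtain ⟨r, hr⟩ := hres (residue A (b : A))
    refine ⟨r, ?_⟩
    show residue B (algebraMap R B r) = residue B b
    rw [← sub_eq_zero, ← map_sub, IsLocalRing.residue_eq_zero_iff, mem_maximalIdeal,
      mem_nonunits_iff]
    intro hu
    have h1 : algebraMap R A r - (b : A) ∈ maximalIdeal A := by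
      rw [← IsLocalRing.residue_eq_zero_iff, map_sub, sub_eq_zero]
      exact hr
    rw [mem_maximalIdeal, mem_nonunits_iff] at h1
    apply h1
    have h2 : B.val (algebraMap R B r - b) = algebraMap R A r - (b : A) := rfl
    rw [← h2]
    exact hu.map B.val
  have hfixB : ∀ b : B, (∀ τ : H ⧸ N, τ • b = b) → b ∈ Set.range (algebraMap R B) := by
    intro b hb
    obtain ⟨r, hr⟩ := hfix (b : A) (fun h => by
      have h1 := congrArg Subtype.val (hb (h : H ⧸ N))
      exact h1)
    exact ⟨r, Subtype.ext hr⟩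
  have hinB : ∀ (Q : Ideal B), Q.IsPrime → Q.height ≤ 1 → ∀ τ : H ⧸ N, τ ≠ 1 →
      ∃ b : B, τ • b - b ∉ Q := by
    intro Q hQ hht τ hτ
    haveI := hQ
    obtain ⟨g, rfl⟩ := QuotientGroup.mk_surjective τ
    have hgN : g ∉ N := fun h => hτ ((QuotientGroup.eq_one_iff g).mpr h)
    haveI : Algebra.IsIntegral B A := Algebra.IsInvariant.isIntegral B A N
    obtain ⟨P, -, hPprime, hPQ⟩ := Ideal.exists_ideal_over_prime_of_isIntegral Q (⊥ : Ideal A)
      (by
        intro x hx
        have h1 : (x : A) = 0 := hx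
        have h2 : x = 0 := Subtype.ext h1
        rw [h2]
        exact Q.zero_mem)
    haveI := hPprime
    have hPht : P.height ≤ 1 := by
      have h1 := Groth.Agent.IntegralHeight.height_le_height_comap_of_isIntegral B P
      rw [hPQ] at h1
      exact h1.trans hht
    have hI : P.inertia H ≤ N := inertia_le_iSup P hPht
    by_contra hcon
    push Not at hcon
    apply hgN
    refine mem_of_inertia_le (R := R) N P hI g ?_
    intro a ha
    have h1 := hcon ⟨a, ha⟩
    rw [← hPQ] at h1
    exact h1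
  have hs := Groth.Agent.Lib.WQShrink.surjective R B hinjB hresB (H ⧸ N) hfixB hinB
  rw [eq_top_iff]
  intro g _
  haveI : (⊥ : Ideal A).IsPrime := Ideal.isPrime_bot
  refine mem_of_inertia_le (R := R) N ⊥ (inertia_le_iSup ⊥ (by simp)) g ?_
  intro a ha
  obtain ⟨r, hr⟩ := hs ⟨a, ha⟩
  have hra : algebraMap R A r = a := congrArg Subtype.val hr
  rw [← hra, smul_algebraMap, sub_self]
  exact zero_mem _

end Groth.Agent.Lib.WQGal
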