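import Mathlib

set_option linter.style.haveILetI false
set_option linter.unusedSectionVars false
set_option autoImplicit false

/-!
# Internal direct products of subgroups of a finite abelian group (helper7)
-/

namespace Groth.Agent.Lib.WQGrp

variable {H : Type*} [CommGroup H] {n : ℕ} (Gi : Fin n → Subgroup H)

/-- the complementary subgroup generated by the `G_j`, `j ≠ i` -/
abbrev Ni (i : Fin n) : Subgroup H := ⨆ j ∈ (Finset.univ.erase i : Finset (Fin n)), Gi j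

/-- the product map -/
def prodHom : ((i : Fin n) → Gi i) →* H where
  toFun g := ∏ i, (g i : H)
  map_one' := by simp
  map_mul' g g' := by simp [Finset.prod_mul_distrib]

theorem prodHom_apply (g : (i : Fin n) → Gi i) : prodHom Gi g = ∏ i, (g i : H) := rfl

theorem prodHom_mulSingle (i : Fin n) (x : Gi i) : prodHom Gi (Pi.mulSingle i x) = x := by
  rw [prodHom_apply]
  rw [Finset.prod_eq_single i]
  · rw [Pi.mulSingle_eq_same]
  · intro j _ hj
    rw [Pi.mulSingle_eq_of_ne hj]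
    rfl
  · intro h
    exact absurd (Finset.mem_univ i) h

theorem prodHom_surjective (hsup : (⨆ i, Gi i) = ⊤) : Function.Surjective (prodHom Gi) := by
  have h1 : ∀ i, Gi i ≤ (prodHom Gi).range := fun i x hx =>
    ⟨Pi.mulSingle i ⟨x, hx⟩, prodHom_mulSingle Gi i ⟨x, hx⟩⟩
  have h2 : (⊤ : Subgroup H) ≤ (prodHom Gi).range := hsup ▸ iSup_le h1
  intro h
  exact h2 (Subgroup.mem_top h)

theorem prodHom_bijective [Finite H] (p : ℕ) (hcard : Nat.card H = p ^ n)
    (hGi : ∀ i, Nat.card (Gi i) = p) (hsup : (⨆ i, Gi i) = ⊤) :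
    Function.Bijective (prodHom Gi) := by
  refine (prodHom_surjective Gi hsup).bijective_of_nat_card_le ?_
  rw [Nat.card_pi, hcard]
  simp only [hGi, Finset.prod_const, Finset.card_univ, Fintype.card_fin]
  exact le_refl _

theorem prod_erase_mem (i : Fin n) (g : (i : Fin n) → Gi i) :
    ∏ j ∈ Finset.univ.erase i, (g j : H) ∈ Ni Gi i :=
  Subgroup.prod_mem _ (fun j hj =>
    Subgroup.mem_iSup_of_mem j (Subgroup.mem_iSup_of_mem hj (g j).2))

theorem prodHom_eq_mul (i : Fin n) (g : (i : Fin n) → Gi i) :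
    prodHom Gi g = (g i : H) * ∏ j ∈ Finset.univ.erase i, (g j : H) :=
  (Finset.mul_prod_erase Finset.univ (fun j => (g j : H)) (Finset.mem_univ i)).symm

theorem le_Ni (i j : Fin n) (hji : j ≠ i) : Gi j ≤ Ni Gi i := by
  intro x hx
  exact Subgroup.mem_iSup_of_mem j
    (Subgroup.mem_iSup_of_mem (Finset.mem_erase.mpr ⟨hji, Finset.mem_univ j⟩) hx)

theorem exists_of_mem_Ni (i : Fin n) (x : H) (hx : x ∈ Ni Gi i) :
    ∃ g : (i : Fin n) → Gi i, g i = 1 ∧ prodHom Gi g = x := by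
  let K : Subgroup H :=
    (MonoidHom.ker (Pi.evalMonoidHom (fun i => Gi i) i)).map (prodHom Gi)
  have hle : Ni Gi i ≤ K := by
    refine iSup₂_le (fun j hj y hy => ?_)
    have hji : j ≠ i := (Finset.mem_erase.mp hj).1
    refine ⟨Pi.mulSingle j ⟨y, hy⟩, ?_, prodHom_mulSingle Gi j ⟨y, hy⟩⟩
    show (Pi.mulSingle j (⟨y, hy⟩ : Gi j) : (i : Fin n) → Gi i) i = 1
    exact Pi.mulSingle_eq_of_ne hji.symm _
  obtain ⟨g, hg, hgx⟩ := hle hx
  exact ⟨g, hg, hgx⟩

theorem inf_Ni_eq_bot (hinj : Function.Injective (prodHom Gi)) (i : Fin n) :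
    Gi i ⊓ Ni Gi i = ⊥ := by
  rw [eq_bot_iff]
  rintro x ⟨hx1, hx2⟩
  obtain ⟨g, hg1, hgx⟩ := exists_of_mem_Ni Gi i x hx2
  have h1 : prodHom Gi (Pi.mulSingle i ⟨x, hx1⟩) = prodHom Gi g := by
    rw [prodHom_mulSingle, hgx]
  have h2 := hinj h1
  have h3 : (⟨x, hx1⟩ : Gi i) = 1 := by
    have h4 := congrFun h2 i
    rw [Pi.mulSingle_eq_same] at h4
    rw [h4, hg1]
  exact Subgroup.mem_bot.mpr (congrArg Subtype.val h3)

theorem exists_mul (hsurj : Function.Surjective (prodHom Gi)) (i : Fin n) (h : H) :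
    ∃ γ ∈ Gi i, ∃ m ∈ Ni Gi i, γ * m = h := by
  obtain ⟨g, rfl⟩ := hsurj h
  exact ⟨g i, (g i).2, _, prod_erase_mem Gi i g, (prodHom_eq_mul Gi i g).symm⟩

theorem mulMap_bijective (hbij : Function.Bijective (prodHom Gi)) (i : Fin n) :
    Function.Bijective (fun q : Gi i × Ni Gi i => (q.1 : H) * (q.2 : H)) := by
  constructor
  · rintro ⟨γ, m⟩ ⟨γ', m'⟩ hq
    have hq' : (γ : H) * m = γ' * m' := hq
    have h1 : (γ' : H)⁻¹ * γ = m' * (m : H)⁻¹ := by
      rw [inv_mul_eq_iff_eq_mul, ← mul_assoc, ← hq', mul_assoc, mul_inv_cancel, mul_one]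
    have h2 : (γ' : H)⁻¹ * γ ∈ Gi i ⊓ Ni Gi i :=
      ⟨(Gi i).mul_mem ((Gi i).inv_mem γ'.2) γ.2,
        h1 ▸ (Ni Gi i).mul_mem m'.2 ((Ni Gi i).inv_mem m.2)⟩
    rw [inf_Ni_eq_bot Gi hbij.1 i, Subgroup.mem_bot] at h2
    have h3 : (γ : H) = γ' := by
      rw [inv_mul_eq_one] at h2
      exact h2.symm
    have h4 : (m : H) = m' := by
      rw [h3] at hq'
      exact mul_left_cancel hq'
    exact Prod.ext (Subtype.ext h3) (Subtype.ext h4)
  · intro h
    obtain ⟨γ, hγ, m, hm, hγm⟩ := exists_mul Gi hbij.2 i h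
    exact ⟨(⟨γ, hγ⟩, ⟨m, hm⟩), hγm⟩

theorem eq_one_of_forall_mem_Ni (hbij : Function.Bijective (prodHom Gi)) (h : H)
    (hh : ∀ i, h ∈ Ni Gi i) : h = 1 := by
  obtain ⟨g, rfl⟩ := hbij.2 h
  have hg : g = 1 := by
    funext i
    have h1 := hh i
    rw [prodHom_eq_mul Gi i g] at h1
    have h2 : (g i : H) ∈ Ni Gi i := by
      have h3 := (Ni Gi i).mul_mem h1 ((Ni Gi i).inv_mem (prod_erase_mem Gi i g))
      rwa [mul_inv_cancel_right] at h3
    have h4 : (g i : H) ∈ Gi i ⊓ Ni Gi i := ⟨(g i).2, h2⟩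
    rw [inf_Ni_eq_bot Gi hbij.1 i, Subgroup.mem_bot] at h4
    exact Subtype.ext h4
  rw [hg, map_one]

/-- summation over `H` as a double sum over `G_i × N_i` -/
theorem sum_eq_sum_sum {M : Type*} [AddCommMonoid M] [Fintype H]
    (hbij : Function.Bijective (prodHom Gi)) (i : Fin n)
    [Fintype (Gi i)] [Fintype (Ni Gi i)] (F : H → M) :
    ∑ h : H, F h = ∑ γ : Gi i, ∑ m : Ni Gi i, F ((γ : H) * (m : H)) := by
  rw [← Fintype.sum_prod_type']
  exact (Fintype.sum_bijective _ (mulMap_bijective Gi hbij i) _ _ (fun _ => rfl)).symm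

/-- summation over `H` as a sum over tuples -/
theorem sum_eq_sum_pi {M : Type*} [AddCommMonoid M] [Fintype H]
    (hbij : Function.Bijective (prodHom Gi))
    [Fintype ((i : Fin n) → Gi i)] (F : H → M) :
    ∑ h : H, F h = ∑ g : (i : Fin n) → Gi i, F (prodHom Gi g) :=
  (Fintype.sum_bijective _ hbij _ _ (fun _ => rfl)).symm

end Groth.Agent.Lib.WQGrp
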