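import Mathlib
import Groth.Agent.Lib.WQGrp_helper7
import Groth.Agent.Lib.WQDisc_helper7
import Groth.Agent.Lib.WQGal_helper7

set_option backward.isDefEq.respectTransparency false
set_option backward.isDefEq.respectTransparency.types false
set_option linter.style.haveILetI false
set_option linter.unusedSectionVars false
set_option autoImplicit false

/-!
# Generation of `A` by the invariant rings `A^{G_i^⊥}`: preliminaries (helper7)
-/

namespace Groth.Agent.Lib.WQGen

universe u v w

open Pointwise Groth.Agent.Lib.WQGrp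

section Descend

variable {R : Type u} {A : Type v} [CommRing R] [CommRing A] [Algebra R A]

/-- an `R`-linear map into `A` with values in the image of `R` descends to `R` -/
noncomputable def descend (hinj : Function.Injective (algebraMap R A)) {X : Type*}
    [AddCommGroup X] [Module R X] (φ : X →ₗ[R] A)
    (h : ∀ x, φ x ∈ LinearMap.range (Algebra.linearMap R A)) : X →ₗ[R] R :=
  (LinearEquiv.ofInjective (Algebra.linearMap R A) hinj).symm.toLinearMap ∘ₗ
    φ.codRestrict _ h

theorem algebraMap_descend (hinj : Function.Injective (algebraMap R A)) {X : Type*}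
    [AddCommGroup X] [Module R X] (φ : X →ₗ[R] A)
    (h : ∀ x, φ x ∈ LinearMap.range (Algebra.linearMap R A)) (x : X) :
    algebraMap R A (descend hinj φ h x) = φ x :=
  LinearEquiv.ofInjective_symm_apply (Algebra.linearMap R A) (h := hinj) ⟨φ x, h x⟩

end Descend

section Main

variable {R : Type u} {A : Type v} {H : Type w} [CommRing R] [CommRing A] [IsDomain A]
  [Algebra R A] [CommGroup H] [Fintype H] [MulSemiringAction H A] [SMulCommClass H R A]
  [FaithfulSMul H A] {n : ℕ} (Gi : Fin n → Subgroup H)
  [∀ i, Fintype (Gi i)] [∀ i, Fintype (Ni Gi i)]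

variable (R A) in
/-- the invariant ring `A^{G_i^⊥}` -/
abbrev S (i : Fin n) : Subalgebra R A := FixedPoints.subalgebra R A (Ni Gi i)

theorem smul_mem_S (i : Fin n) (h : H) (a : A) (ha : a ∈ S R A Gi i) : h • a ∈ S R A Gi i :=
  Groth.Agent.Lib.WQGal.smul_mem_fixed (R := R) (Ni Gi i) h a ha

/-- `G_i` acts on `A^{G_i^⊥}` -/
@[implicit_reducible]
noncomputable def actS (i : Fin n) : MulSemiringAction (Gi i) (S R A Gi i) where
  smul γ c := ⟨(γ : H) • (c : A), smul_mem_S (R := R) (A := A) Gi i (γ : H) (c : A) c.2⟩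
  one_smul c := Subtype.ext (one_smul H (c : A))
  mul_smul γ γ' c := Subtype.ext (mul_smul (γ : H) (γ' : H) (c : A))
  smul_zero γ := Subtype.ext (smul_zero (γ : H))
  smul_add γ c c' := Subtype.ext (smul_add (γ : H) (c : A) (c' : A))
  smul_one γ := Subtype.ext (smul_one (γ : H))
  smul_mul γ c c' := Subtype.ext (smul_mul' (γ : H) (c : A) (c' : A))

theorem smul_eq (i : Fin n) (g : (i : Fin n) → Gi i)
    (a : A) (ha : a ∈ S R A Gi i) : prodHom Gi g • a = (g i : H) • a := by
  rw [prodHom_eq_mul Gi i g, mul_smul]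
  congr 1
  exact ha ⟨_, prod_erase_mem Gi i g⟩

/-- **L5**: multiplicativity of the trace. -/
theorem sum_smul_prod (hbij : Function.Bijective (prodHom Gi)) (c : (i : Fin n) → S R A Gi i) :
    ∑ h : H, h • ∏ i, (c i : A) = ∏ i, ∑ γ : Gi i, (γ : H) • (c i : A) := by
  rw [sum_eq_sum_pi Gi hbij]
  rw [Fintype.prod_sum]
  refine Finset.sum_congr rfl (fun g _ => ?_)
  rw [Finset.smul_prod']
  refine Finset.prod_congr rfl (fun i _ => ?_)
  exact smul_eq Gi i g (c i : A) (c i).2

/-- invariants of `G_i` in `A^{G_i^⊥}` are `H`-invariant -/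
theorem smul_eq_of_forall (hbij : Function.Bijective (prodHom Gi)) (i : Fin n) (a : A)
    (ha : a ∈ S R A Gi i) (hγ : ∀ γ : Gi i, (γ : H) • a = a) (h : H) : h • a = a := by
  obtain ⟨γ, hγ', m, hm, rfl⟩ := exists_mul Gi hbij.2 i h
  rw [mul_smul]
  have h1 : m • a = a := ha ⟨m, hm⟩
  rw [h1]
  exact hγ ⟨γ, hγ'⟩

/-- **L6** (Dedekind independence): an element orthogonal to all products is zero. -/
theorem eq_zero_of_forall_sum_eq_zero (hbij : Function.Bijective (prodHom Gi)) (y : A)
    (hy : ∀ c : (i : Fin n) → S R A Gi i, ∑ h : H, h • (y * ∏ i, (c i : A)) = 0) : y = 0 := by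
  classical
  let χ : H → (((i : Fin n) → S R A Gi i) →* A) := fun h =>
    { toFun := fun c => h • ∏ i, (c i : A)
      map_one' := by simp
      map_mul' := fun c c' => by
        simp only [Pi.mul_apply, MulMemClass.coe_mul, Finset.prod_mul_distrib, smul_mul'] }
  have hχ : Function.Injective χ := by
    intro h h' hh
    have h1 : ∀ i, h⁻¹ * h' ∈ Ni Gi i := by
      intro i
      haveI : (⊥ : Ideal A).IsPrime := Ideal.isPrime_bot
      refine Groth.Agent.Lib.WQGal.mem_of_inertia_le (R := R) (Ni Gi i) (⊥ : Ideal A)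
        (le_trans ?_ bot_le) (h⁻¹ * h') ?_
      · -- inertia of ⊥ is trivial
        intro σ hσ
        have h2 : σ = 1 := by
          apply FaithfulSMul.eq_of_smul_eq_smul (α := A)
          intro a
          have h3 : σ • a - a ∈ (⊥ : Ideal A) := hσ a
          rw [Ideal.mem_bot, sub_eq_zero] at h3
          rw [one_smul, h3]
        rw [h2]
        exact Subgroup.mem_bot.mpr rfl
      · intro a ha
        have h2 := DFunLike.congr_fun hh (Pi.mulSingle i ⟨a, ha⟩)
        have h3 : ∀ k : H, χ k (Pi.mulSingle i ⟨a, ha⟩) = k • a := by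
          intro k
          show k • ∏ j, ((Pi.mulSingle i (⟨a, ha⟩ : S R A Gi i) :
            (i : Fin n) → S R A Gi i) j : A) = k • a
          congr 1
          rw [Finset.prod_eq_single i]
          · rw [Pi.mulSingle_eq_same]
          · intro j _ hj
            rw [Pi.mulSingle_eq_of_ne hj]
            rfl
          · intro hi
            exact absurd (Finset.mem_univ i) hi
        rw [h3, h3] at h2
        rw [mul_smul, ← h2, inv_smul_smul, sub_self]
        exact zero_mem _
    have h2 := eq_one_of_forall_mem_Ni Gi hbij _ h1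
    exact (inv_mul_eq_one.mp h2)
  have hli := (linearIndependent_monoidHom ((i : Fin n) → S R A Gi i) A).comp χ hχ
  have h0 := Fintype.linearIndependent_iff.mp hli (fun h => h • y) (by
    funext c
    simp only [Function.comp_apply, Finset.sum_apply, Pi.smul_apply, smul_eq_mul, Pi.zero_apply]
    rw [← hy c]
    refine Finset.sum_congr rfl (fun h _ => ?_)
    rw [smul_mul']
    rfl) 1
  rwa [one_smul] at h0

end Main

end Groth.Agent.Lib.WQGen
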