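import Mathlib
import Groth.Agent.Lib.WQGen1_helper7

set_option backward.isDefEq.respectTransparency false
set_option backward.isDefEq.respectTransparency.types false
set_option linter.style.haveILetI false
set_option linter.unusedSectionVars false
set_option autoImplicit false

/-!
# Generation of `A` by the invariant rings `A^{G_i^⊥}`: traces and dual bases (helper7)
-/

namespace Groth.Agent.Lib.WQGen

universe u v w

open Pointwise Groth.Agent.Lib.WQGrp

section Main

variable {R : Type u} {A : Type v} {H : Type w} [CommRing R] [CommRing A] [IsDomain A]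
  [Algebra R A] [CommGroup H] [Fintype H] [MulSemiringAction H A] [SMulCommClass H R A]
  [FaithfulSMul H A] {n : ℕ} (Gi : Fin n → Subgroup H)
  [∀ i, Fintype (Gi i)] [∀ i, Fintype (Ni Gi i)]
  (hinj : Function.Injective (algebraMap R A))
  (hfix : ∀ a : A, (∀ h : H, h • a = a) → a ∈ Set.range (algebraMap R A))
  (hbij : Function.Bijective (prodHom Gi))

variable (R A H) in
/-- `a ↦ ∑ h, h • a` -/
noncomputable def sumH : A →ₗ[R] A := ∑ h : H, DistribSMul.toLinearMap R A h

theorem sumH_apply (a : A) : sumH R A H a = ∑ h : H, h • a := by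
  rw [sumH, LinearMap.sum_apply]
  rfl

include hfix in
theorem sumH_mem (a : A) : sumH R A H a ∈ LinearMap.range (Algebra.linearMap R A) := by
  obtain ⟨r, hr⟩ := hfix (∑ h : H, h • a) (fun g => by
    rw [Finset.smul_sum]
    refine (Fintype.sum_equiv (Equiv.mulLeft g) _ _ (fun τ => ?_)).trans rfl
    show g • τ • a = (g * τ) • a
    rw [mul_smul])
  exact ⟨r, by rw [sumH_apply]; exact hr⟩

/-- the trace `A → R` -/
noncomputable def trH : A →ₗ[R] R := descend hinj (sumH R A H) (sumH_mem hfix)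

theorem algebraMap_trH (a : A) : algebraMap R A (trH hinj hfix a) = ∑ h : H, h • a := by
  rw [trH, algebraMap_descend, sumH_apply]

variable (R A) in
/-- `c ↦ ∑ γ ∈ G_i, γ • c` on `A^{G_i^⊥}` -/
noncomputable def sumS (i : Fin n) : S R A Gi i →ₗ[R] A :=
  (∑ γ : Gi i, DistribSMul.toLinearMap R A (γ : H)) ∘ₗ (S R A Gi i).val.toLinearMap

theorem sumS_apply (i : Fin n) (c : S R A Gi i) :
    sumS R A Gi i c = ∑ γ : Gi i, (γ : H) • (c : A) := by
  rw [sumS, LinearMap.comp_apply, LinearMap.sum_apply]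
  rfl

include hfix hbij in
theorem sumS_mem (i : Fin n) (c : S R A Gi i) :
    sumS R A Gi i c ∈ LinearMap.range (Algebra.linearMap R A) := by
  rw [sumS_apply]
  have hmem : ∑ γ : Gi i, (γ : H) • (c : A) ∈ S R A Gi i :=
    Subalgebra.sum_mem _ (fun γ _ => smul_mem_S Gi i (γ : H) (c : A) c.2)
  have hγ : ∀ γ' : Gi i, (γ' : H) • ∑ γ : Gi i, (γ : H) • (c : A) =
      ∑ γ : Gi i, (γ : H) • (c : A) := by
    intro γ'
    rw [Finset.smul_sum]
    refine (Fintype.sum_equiv (Equiv.mulLeft γ') _ _ (fun τ => ?_)).trans rfl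
    show (γ' : H) • (τ : H) • (c : A) = ((γ' * τ : Gi i) : H) • (c : A)
    rw [Subgroup.coe_mul, mul_smul]
  obtain ⟨r, hr⟩ := hfix _ (smul_eq_of_forall Gi hbij i _ hmem hγ)
  exact ⟨r, hr⟩

/-- the trace `A^{G_i^⊥} → R` -/
noncomputable def trS (i : Fin n) : S R A Gi i →ₗ[R] R :=
  descend hinj (sumS R A Gi i) (sumS_mem Gi hfix hbij i)

theorem algebraMap_trS (i : Fin n) (c : S R A Gi i) :
    algebraMap R A (trS Gi hinj hfix hbij i c) = ∑ γ : Gi i, (γ : H) • (c : A) := by
  rw [trS, algebraMap_descend, sumS_apply]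

/-- **P0** -/
theorem trH_prod (c : (i : Fin n) → S R A Gi i) :
    trH hinj hfix (∏ i, (c i : A)) = ∏ i, trS Gi hinj hfix hbij i (c i) := by
  apply hinj
  rw [algebraMap_trH, sum_smul_prod Gi hbij, map_prod]
  refine Finset.prod_congr rfl (fun i _ => ?_)
  rw [algebraMap_trS]

section Basis

variable {ι : Fin n → Type} [∀ i, Fintype (ι i)] [∀ i, DecidableEq (ι i)]
  (e : ∀ i, Module.Basis (ι i) R (S R A Gi i))

/-- Gram matrix of the trace form -/
noncomputable def gram (i : Fin n) : Matrix (ι i) (ι i) R :=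
  fun a c => trS Gi hinj hfix hbij i (e i a * e i c)

/-- the discriminant -/
noncomputable def dd (i : Fin n) : R := (gram Gi hinj hfix hbij e i).det

/-- `d_i` times the dual basis -/
noncomputable def ff (i : Fin n) (a : ι i) : S R A Gi i :=
  ∑ c, (gram Gi hinj hfix hbij e i).adjugate a c • e i c

theorem trS_ff_mul (i : Fin n) (a c' : ι i) :
    trS Gi hinj hfix hbij i (ff Gi hinj hfix hbij e i a * e i c') =
      if a = c' then dd Gi hinj hfix hbij e i else 0 := by
  have h1 : trS Gi hinj hfix hbij i (ff Gi hinj hfix hbij e i a * e i c') =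
      ((gram Gi hinj hfix hbij e i).adjugate * gram Gi hinj hfix hbij e i) a c' := by
    rw [ff, Finset.sum_mul, map_sum, Matrix.mul_apply]
    refine Finset.sum_congr rfl (fun c _ => ?_)
    rw [smul_mul_assoc, map_smul, smul_eq_mul]
    rfl
  rw [h1, Matrix.adjugate_mul, Matrix.smul_apply, Matrix.one_apply, smul_eq_mul]
  by_cases hac : a = c'
  · rw [if_pos hac, if_pos hac, mul_one]
    rfl
  · rw [if_neg hac, if_neg hac, mul_zero]

theorem dd_smul_e (i : Fin n) (a : ι i) :
    dd Gi hinj hfix hbij e i • e i a =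
      ∑ c, gram Gi hinj hfix hbij e i a c • ff Gi hinj hfix hbij e i c := by
  have h1 : ∑ c, gram Gi hinj hfix hbij e i a c • ff Gi hinj hfix hbij e i c =
      ∑ c', ((gram Gi hinj hfix hbij e i) * (gram Gi hinj hfix hbij e i).adjugate) a c' •
        e i c' := by
    simp only [ff, Finset.smul_sum, smul_smul]
    rw [Finset.sum_comm]
    refine Finset.sum_congr rfl (fun c' _ => ?_)
    rw [Matrix.mul_apply, Finset.sum_smul]
  rw [h1, Matrix.mul_adjugate]
  simp only [Matrix.smul_apply, Matrix.one_apply, smul_eq_mul, mul_ite, mul_one, mul_zero,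
    ite_smul, zero_smul]
  rw [Finset.sum_ite_eq]
  simp only [Finset.mem_univ, if_true]
  rfl

/-- products of basis vectors -/
noncomputable def EE (k : (i : Fin n) → ι i) : A := ∏ i, ((e i (k i) : S R A Gi i) : A)

/-- products of dual basis vectors -/
noncomputable def FF (k : (i : Fin n) → ι i) : A :=
  ∏ i, ((ff Gi hinj hfix hbij e i (k i) : S R A Gi i) : A)

/-- the product of the discriminants -/
noncomputable def DD : R := ∏ i, dd Gi hinj hfix hbij e i

/-- **P1** -/
theorem trH_EE_mul_FF (k m : (i : Fin n) → ι i) :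
    trH hinj hfix (EE Gi e k * FF Gi hinj hfix hbij e m) =
      if m = k then DD Gi hinj hfix hbij e else 0 := by
  have h1 : EE Gi e k * FF Gi hinj hfix hbij e m =
      ∏ i, ((ff Gi hinj hfix hbij e i (m i) * e i (k i) : S R A Gi i) : A) := by
    rw [EE, FF, ← Finset.prod_mul_distrib]
    refine Finset.prod_congr rfl (fun i _ => ?_)
    rw [MulMemClass.coe_mul, mul_comm]
  rw [h1, trH_prod Gi hinj hfix hbij]
  simp only [trS_ff_mul]
  rw [Finset.prod_ite_zero]
  by_cases hmk : m = k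
  · rw [if_pos hmk, if_pos (fun i _ => congrFun hmk i)]
    rfl
  · rw [if_neg hmk, if_neg]
    intro hcon
    exact hmk (funext fun i => hcon i (Finset.mem_univ i))

/-- **(i)** -/
theorem dd_dvd_trH (i₀ : Fin n) (x : A) (k : (i : Fin n) → ι i) :
    dd Gi hinj hfix hbij e i₀ ∣ trH hinj hfix (x * FF Gi hinj hfix hbij e k) := by
  classical
  set fa : S R A Gi i₀ := ff Gi hinj hfix hbij e i₀ (k i₀) with hfa
  set u : A := ∏ j ∈ Finset.univ.erase i₀,
    ((ff Gi hinj hfix hbij e j (k j) : S R A Gi j) : A) with hu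
  have hF : FF Gi hinj hfix hbij e k = (fa : A) * u :=
    (Finset.mul_prod_erase Finset.univ
      (fun j => ((ff Gi hinj hfix hbij e j (k j) : S R A Gi j) : A)) (Finset.mem_univ i₀)).symm
  set y : A := ∑ m : Ni Gi i₀, (m : H) • (x * u) with hy
  have hyS : y ∈ S R A Gi i₀ := by
    intro m'
    show (m' : H) • y = y
    rw [hy, Finset.smul_sum]
    refine (Fintype.sum_equiv (Equiv.mulLeft m') _ _ (fun τ => ?_)).trans rfl
    show (m' : H) • (τ : H) • (x * u) = ((m' * τ : Ni Gi i₀) : H) • (x * u)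
    rw [Subgroup.coe_mul, mul_smul]
  have key : trH hinj hfix (x * FF Gi hinj hfix hbij e k) =
      trS Gi hinj hfix hbij i₀ (⟨y, hyS⟩ * fa) := by
    apply hinj
    rw [algebraMap_trH, algebraMap_trS, sum_eq_sum_sum Gi hbij i₀]
    refine Finset.sum_congr rfl (fun γ _ => ?_)
    have h1 : ∀ m : Ni Gi i₀, ((γ : H) * (m : H)) • (x * FF Gi hinj hfix hbij e k) =
        (γ : H) • ((m : H) • (x * u) * (fa : A)) := by
      intro m
      rw [mul_smul, hF]
      congr 1
      have h2 : (m : H) • (fa : A) = fa := fa.2 m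
      rw [show x * ((fa : A) * u) = x * u * (fa : A) by ring, smul_mul', h2]
    rw [Finset.sum_congr rfl (fun m _ => h1 m), ← Finset.smul_sum, ← Finset.sum_mul]
    rfl
  rw [key]
  have h3 : (⟨y, hyS⟩ : S R A Gi i₀) * fa =
      ∑ b, ((e i₀).repr ⟨y, hyS⟩ b) • (fa * e i₀ b) := by
    conv_lhs => rw [← (e i₀).sum_repr ⟨y, hyS⟩]
    rw [Finset.sum_mul]
    refine Finset.sum_congr rfl (fun b _ => ?_)
    rw [smul_mul_assoc, mul_comm]
  rw [h3, map_sum]
  simp only [map_smul, smul_eq_mul, hfa, trS_ff_mul]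
  rw [Finset.sum_eq_single (k i₀)]
  · rw [if_pos rfl]
    exact Dvd.intro_left _ rfl
  · intro b _ hb
    rw [if_neg (Ne.symm hb), mul_zero]
  · intro h
    exact absurd (Finset.mem_univ _) h

/-- **(ii')** -/
theorem dd_notMem (j : Fin n) (𝔭 : Ideal R) [𝔭.IsPrime]
    (hI : ∀ P : Ideal A, P.IsPrime → P.comap (algebraMap R A) = 𝔭 → P.inertia H ≤ Ni Gi j) :
    dd Gi hinj hfix hbij e j ∉ 𝔭 := by
  classical
  letI := actS (R := R) (A := A) Gi j
  haveI : SMulCommClass (Gi j) R (S R A Gi j) :=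
    ⟨fun γ r c => Subtype.ext (smul_comm (γ : H) r (c : A))⟩
  haveI : Algebra.IsInvariant R (S R A Gi j) (Gi j) := by
    refine ⟨fun c hc => ?_⟩
    have h1 : ∀ γ : Gi j, (γ : H) • (c : A) = c := fun γ => congrArg Subtype.val (hc γ)
    obtain ⟨r, hr⟩ := hfix (c : A) (smul_eq_of_forall Gi hbij j (c : A) c.2 h1)
    exact ⟨r, Subtype.ext hr⟩
  have hinjS : Function.Injective (algebraMap R (S R A Gi j)) :=
    fun x y h => hinj (congrArg Subtype.val h)
  refine Groth.Agent.Lib.WQDisc.det_notMem (R := R) (B := S R A Gi j) (G := Gi j) hinjS (e j)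
    (gram Gi hinj hfix hbij e j) ?_ 𝔭 ?_
  · intro a c
    apply Subtype.ext
    show algebraMap R A (gram Gi hinj hfix hbij e j a c) = _
    rw [gram, algebraMap_trS, AddSubmonoidClass.coe_finsetSum]
    rfl
  · intro Q hQprime hQ𝔭 γ hγ
    haveI := hQprime
    haveI : Algebra.IsInvariant (S R A Gi j) A (Ni Gi j) := ⟨fun x h => ⟨⟨x, h⟩, rfl⟩⟩
    haveI : Algebra.IsIntegral (S R A Gi j) A :=
      Algebra.IsInvariant.isIntegral (S R A Gi j) A (Ni Gi j)
    obtain ⟨P, -, hPprime, hPQ⟩ := Ideal.exists_ideal_over_prime_of_isIntegral Q (⊥ : Ideal A)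
      (by
        intro x hx
        have h1 : (x : A) = 0 := hx
        have h2 : x = 0 := Subtype.ext h1
        rw [h2]
        exact Q.zero_mem)
    haveI := hPprime
    have hP𝔭 : P.comap (algebraMap R A) = 𝔭 := by
      rw [← hQ𝔭, ← hPQ, Ideal.comap_comap]
      rfl
    have hIP := hI P hPprime hP𝔭
    by_contra hcon
    push Not at hcon
    apply hγ
    have hmem : (γ : H) ∈ Ni Gi j := by
      refine Groth.Agent.Lib.WQGal.mem_of_inertia_le (R := R) (Ni Gi j) P hIP (γ : H) ?_
      intro a ha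
      have h1 := hcon ⟨a, ha⟩
      rw [← hPQ] at h1
      exact h1
    have h2 : (γ : H) ∈ Gi j ⊓ Ni Gi j := ⟨γ.2, hmem⟩
    rw [inf_Ni_eq_bot Gi hbij.1 j, Subgroup.mem_bot] at h2
    exact Subtype.ext h2

end Basis

end Main

end Groth.Agent.Lib.WQGen
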