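import Mathlib
import Groth.Agent.Lib.WQGen2_helper7
import Groth.Agent.Lib.NormalLift_helper4
import Groth.Agent.Lib.Regular_helper5

set_option backward.isDefEq.respectTransparency false
set_option backward.isDefEq.respectTransparency.types false
set_option linter.style.haveILetI false
set_option linter.unusedSectionVars false
set_option autoImplicit false

/-!
# Generation of `A` by the invariant rings `A^{G_i^⊥}`: the main theorem (helper7)
-/

namespace Groth.Agent.Lib.WQGen

universe u v w

open Pointwise Groth.Agent.Lib.WQGrp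

theorem main_comm
    (p : ℕ) [Fact p.Prime] (R : Type u) [CommRing R] [IsRegularLocalRing R]
    (A : Type v) [CommRing A] [IsDomain A] [Algebra R A] [Module.Finite R A]
    (hinj : Function.Injective (algebraMap R A))
    (H : Type w) [CommGroup H] [Finite H] [MulSemiringAction H A] [SMulCommClass H R A]
    [FaithfulSMul H A]
    (hfix : ∀ a : A, (∀ h : H, h • a = a) → a ∈ Set.range (algebraMap R A))
    (n : ℕ) (hcard : Nat.card H = p ^ n) (Gi : Fin n → Subgroup H)
    (hGi : ∀ i, Nat.card (Gi i) = p) (hsup : (⨆ i, Gi i) = ⊤)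
    (hMR3 : ∀ P : Ideal A, P.IsPrime → P.height = 1 → P.inertia H ≠ ⊥ →
      ∃ i, P.inertia H = Gi i)
    (hMR4 : ∀ i, Module.Free R (FixedPoints.subalgebra R A
      ↥(⨆ j ∈ (Finset.univ.erase i : Finset (Fin n)), Gi j : Subgroup H))) :
    (⨆ i, FixedPoints.subalgebra R A
      ↥(⨆ j ∈ (Finset.univ.erase i : Finset (Fin n)), Gi j : Subgroup H)) = ⊤ := by
  classical
  cases nonempty_fintype H
  letI : ∀ i, Fintype (Gi i) := fun i => Fintype.ofFinite _
  letI : ∀ i, Fintype (Ni Gi i) := fun i => Fintype.ofFinite _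
  haveI : IsDomain R := Groth.Agent.RegularLib.isDomain R
  haveI : IsIntegrallyClosed R :=
    Groth.Agent.Lib.NormalLiftH4.isIntegrallyClosed_of_isRegularLocalRing R
  haveI : IsNoetherianRing R := inferInstance
  have hbij := prodHom_bijective Gi p hcard hGi hsup
  haveI : IsNoetherian R A := isNoetherian_of_isNoetherianRing_of_finite R A
  haveI : ∀ i, Module.Finite R (S R A Gi i) := fun i =>
    Module.Finite.of_injective (S R A Gi i).val.toLinearMap Subtype.val_injective
  haveI : ∀ i, Module.Free R (S R A Gi i) := hMR4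
  haveI : Algebra.IsIntegral R A := inferInstance
  haveI : Algebra.IsInvariant R A H := ⟨fun a ha => hfix a ha⟩
  let ι : Fin n → Type := fun i => Fin (Module.finrank R (S R A Gi i))
  let e : ∀ i, Module.Basis (ι i) R (S R A Gi i) := fun i => Module.finBasis R (S R A Gi i)
  set d : Fin n → R := fun i => dd Gi hinj hfix hbij e i with hd
  set D : R := DD Gi hinj hfix hbij e with hD
  have hDprod : D = ∏ i, d i := rfl
  -- inertia of the zero ideal
  have hbotI : (⊥ : Ideal A).inertia H = ⊥ := by
    rw [eq_bot_iff]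
    intro σ hσ
    have h2 : σ = 1 := by
      apply FaithfulSMul.eq_of_smul_eq_smul (α := A)
      intro a
      have h3 : σ • a - a ∈ (⊥ : Ideal A) := hσ a
      rw [Ideal.mem_bot, sub_eq_zero] at h3
      rw [one_smul, h3]
    rw [h2]
    exact Subgroup.mem_bot.mpr rfl
  have hd0 : ∀ j, d j ≠ 0 := by
    intro j h0
    haveI : (⊥ : Ideal R).IsPrime := Ideal.isPrime_bot
    refine dd_notMem Gi hinj hfix hbij e j (⊥ : Ideal R) ?_ (by rw [Ideal.mem_bot]; exact h0)
    intro P hP hP0
    haveI := hP
    have hPbot : P = ⊥ := Ideal.eq_bot_of_comap_eq_bot hP0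
    rw [hPbot, hbotI]
    exact bot_le
  have hD0 : D ≠ 0 := by
    rw [hDprod]
    exact Finset.prod_ne_zero_iff.mpr (fun j _ => hd0 j)
  -- height one primes
  have hprime : ∀ (𝔭 : Ideal R) [𝔭.IsPrime], 𝔭.height = 1 →
      ∃ s : R, s ∉ 𝔭 ∧ ∀ r : R, (∀ i, d i ∣ r) → D ∣ s * r := by
    intro 𝔭 h𝔭prime h𝔭
    have hker : (⊥ : Ideal A).comap (algebraMap R A) ≤ 𝔭 := by
      rw [← RingHom.ker_eq_comap_bot, (RingHom.injective_iff_ker_eq_bot _).mp hinj]
      exact bot_le
    obtain ⟨P₀, -, hP₀prime, hP₀𝔭⟩ :=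
      Ideal.exists_ideal_over_prime_of_isIntegral 𝔭 (⊥ : Ideal A) hker
    haveI := hP₀prime
    have hP₀ht : P₀.height = 1 := by
      refine le_antisymm ?_ ?_
      · have h1 := Groth.Agent.IntegralHeight.height_le_height_comap_of_isIntegral R P₀
        rw [hP₀𝔭, h𝔭] at h1
        exact h1
      · rw [Order.one_le_iff_pos, pos_iff_ne_zero, Ne, Ideal.height_eq_zero_iff_eq_bot]
        intro hbot
        rw [hbot] at hP₀𝔭
        have h2 : 𝔭 = ⊥ := by
          rw [← hP₀𝔭, ← RingHom.ker_eq_comap_bot, (RingHom.injective_iff_ker_eq_bot _).mp hinj]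
        rw [h2, Ideal.height_bot] at h𝔭
        exact zero_ne_one h𝔭
    have hall : ∀ P : Ideal A, P.IsPrime → P.comap (algebraMap R A) = 𝔭 →
        P.inertia H ≤ P₀.inertia H := by
      intro P hP hP𝔭
      haveI := hP
      obtain ⟨h, hh⟩ := Algebra.IsInvariant.exists_smul_of_under_eq R A H P₀ P
        (by rw [Ideal.under_def, Ideal.under_def, hP₀𝔭, hP𝔭])
      intro σ hσ a
      show σ • a - a ∈ P₀
      have h1 : σ • (h • a) - h • a ∈ P := hσ (h • a)
      rw [hh, Ideal.mem_pointwise_smul_iff_inv_smul_mem, smul_sub, inv_smul_smul, ← mul_smul,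
        ← mul_smul] at h1
      have h2 : h⁻¹ * σ * h = σ := by rw [mul_comm h⁻¹ σ, inv_mul_cancel_right]
      rwa [h2] at h1
    by_cases hI0 : P₀.inertia H = ⊥
    · have hnot : ∀ j, d j ∉ 𝔭 := fun j =>
        dd_notMem Gi hinj hfix hbij e j 𝔭
          (fun P hP hP𝔭 => (hall P hP hP𝔭).trans (hI0 ▸ bot_le))
      refine ⟨D, ?_, fun r _ => Dvd.intro _ rfl⟩
      intro hDmem
      rw [hDprod] at hDmem
      obtain ⟨j, -, hj⟩ := (Ideal.IsPrime.prod_mem_iff).1 hDmem
      exact hnot j hj
    · obtain ⟨i₀, hi₀⟩ := hMR3 P₀ hP₀prime hP₀ht hI0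
      have hnot : ∀ j, j ≠ i₀ → d j ∉ 𝔭 := fun j hj =>
        dd_notMem Gi hinj hfix hbij e j 𝔭
          (fun P hP hP𝔭 => (hall P hP hP𝔭).trans (hi₀ ▸ le_Ni Gi j i₀ hj.symm))
      refine ⟨∏ j ∈ Finset.univ.erase i₀, d j, ?_, ?_⟩
      · intro hs
        obtain ⟨j, hj, hj'⟩ := (Ideal.IsPrime.prod_mem_iff).1 hs
        exact hnot j (Finset.mem_erase.mp hj).1 hj'
      · intro r hr
        have hDe : D = d i₀ * ∏ j ∈ Finset.univ.erase i₀, d j := by
          rw [hDprod]
          exact (Finset.mul_prod_erase Finset.univ d (Finset.mem_univ i₀)).symm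
        rw [hDe, mul_comm (d i₀)]
        exact mul_dvd_mul_left _ (hr i₀)
  -- the main argument
  rw [eq_top_iff]
  intro x _
  let rr : ((i : Fin n) → ι i) → R := fun k => trH hinj hfix (x * FF Gi hinj hfix hbij e k)
  have hDr : ∀ k, D ∣ rr k := fun k =>
    Groth.Agent.Lib.WQDisc.dvd_of_forall_heightOne R D (rr k) hD0 (fun 𝔭 _ h𝔭 => by
      obtain ⟨s, hs, hsr⟩ := hprime 𝔭 h𝔭
      exact ⟨s, hs, hsr (rr k) (fun i => dd_dvd_trH Gi hinj hfix hbij e i x k)⟩)
  choose q hq using hDr
  let y : A := D • x - ∑ k, rr k • EE Gi e k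
  have hyF : ∀ m, trH hinj hfix (y * FF Gi hinj hfix hbij e m) = 0 := by
    intro m
    have h1 : y * FF Gi hinj hfix hbij e m = D • (x * FF Gi hinj hfix hbij e m) -
        ∑ k, rr k • (EE Gi e k * FF Gi hinj hfix hbij e m) := by
      show (D • x - ∑ k, rr k • EE Gi e k) * FF Gi hinj hfix hbij e m = _
      rw [sub_mul, smul_mul_assoc, Finset.sum_mul]
      congr 1
      refine Finset.sum_congr rfl (fun k _ => ?_)
      rw [smul_mul_assoc]
    rw [h1, map_sub, map_smul, map_sum]
    simp only [map_smul, trH_EE_mul_FF, smul_eq_mul, mul_ite, mul_zero]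
    rw [Finset.sum_ite_eq]
    simp only [Finset.mem_univ, if_true]
    show D * rr m - rr m * D = 0
    ring
  have hy0 : y = 0 := by
    refine eq_zero_of_forall_sum_eq_zero (R := R) Gi hbij y (fun c => ?_)
    rw [← algebraMap_trH hinj hfix]
    have h1 : trH hinj hfix (y * ∏ i, (c i : A)) = 0 := by
      let wv : (i : Fin n) → ι i → R := fun i c' =>
        ∑ a, (e i).repr (c i) a * gram Gi hinj hfix hbij e i a c'
      have hw : ∀ i, d i • c i = ∑ c', wv i c' • ff Gi hinj hfix hbij e i c' := by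
        intro i
        conv_lhs => rw [← (e i).sum_repr (c i)]
        rw [Finset.smul_sum]
        have h2 : ∀ a, d i • ((e i).repr (c i) a • e i a) =
            ∑ c', ((e i).repr (c i) a * gram Gi hinj hfix hbij e i a c') •
              ff Gi hinj hfix hbij e i c' := by
          intro a
          rw [smul_comm, dd_smul_e Gi hinj hfix hbij e i a, Finset.smul_sum]
          refine Finset.sum_congr rfl (fun c' _ => ?_)
          rw [smul_smul]
        rw [Finset.sum_congr rfl (fun a _ => h2 a), Finset.sum_comm]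
        refine Finset.sum_congr rfl (fun c' _ => ?_)
        rw [Finset.sum_smul]
      have hw' : ∀ i, algebraMap R A (d i) * (c i : A) =
          ∑ c', algebraMap R A (wv i c') * (ff Gi hinj hfix hbij e i c' : A) := by
        intro i
        have h3 := congrArg (Subtype.val) (hw i)
        rw [AddSubmonoidClass.coe_finsetSum] at h3
        simp only [Algebra.smul_def] at h3
        exact h3
      have h2 : algebraMap R A D * ∏ i, (c i : A) =
          ∑ m : (i : Fin n) → ι i,
            algebraMap R A (∏ i, wv i (m i)) * FF Gi hinj hfix hbij e m := by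
        rw [hDprod, map_prod, ← Finset.prod_mul_distrib]
        rw [Finset.prod_congr rfl (fun i _ => hw' i), Fintype.prod_sum]
        refine Finset.sum_congr rfl (fun m _ => ?_)
        rw [Finset.prod_mul_distrib, map_prod]
        rfl
      have h3 : D * trH hinj hfix (y * ∏ i, (c i : A)) = 0 := by
        rw [← smul_eq_mul, ← map_smul, Algebra.smul_def, mul_left_comm, h2, Finset.mul_sum,
          map_sum]
        refine Finset.sum_eq_zero (fun m _ => ?_)
        rw [mul_left_comm, ← Algebra.smul_def, map_smul, hyF m, smul_zero]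
      exact (mul_eq_zero.mp h3).resolve_left hD0
    rw [h1, map_zero]
  -- conclude
  have hx : x = ∑ k, q k • EE Gi e k := by
    have h1 : D • x = D • ∑ k, q k • EE Gi e k := by
      have h2 : D • x = ∑ k, rr k • EE Gi e k := sub_eq_zero.mp hy0
      rw [h2, Finset.smul_sum]
      refine Finset.sum_congr rfl (fun k _ => ?_)
      rw [smul_smul, ← hq k]
    rw [Algebra.smul_def, Algebra.smul_def] at h1
    have hDA : algebraMap R A D ≠ 0 := by
      intro h0
      exact hD0 (hinj (by rw [h0, map_zero]))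
    exact mul_left_cancel₀ hDA h1
  rw [hx]
  refine Subalgebra.sum_mem _ (fun k _ => Subalgebra.smul_mem _ ?_ _)
  refine Subalgebra.prod_mem _ (fun i _ => ?_)
  exact (le_iSup (fun i => S R A Gi i) i) (e i (k i)).2

end Groth.Agent.Lib.WQGen
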