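import Mathlib
import Groth.Agent.S4850
import Groth.Agent.S4851
import Groth.Agent.S4863
import Groth.Agent.Lib.CohKer_helper8
import Groth.Agent.Lib.TFFree_helper8
import Groth.Agent.Lib.RegFib1_helper8

/-!
# Openness of the fibrewise weakly regular locus
-/

set_option autoImplicit false

universe u

namespace Groth.Agent.Lib.WRegOpenH8

open AlgebraicGeometry CategoryTheory Limits RingTheory.Sequence Opposite
open scoped Pointwise

variable {X : Scheme.{u}}

/-- the stalk map of multiplication by a global section is multiplication by its germ. -/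
theorem stalkMapₗ_smulModΓ (F : X.Modules) (g : Γ(X, ⊤)) (x : X) (m : F.presheaf.stalk x) :
    Algz.stalkMapₗ (Formal.smulModΓ F g) x m = (X.presheaf.germ ⊤ x trivial g) • m := by
  obtain ⟨V, hxV, t, rfl⟩ := F.presheaf.exists_germ_eq (x := x) m
  change Algz.stalkMapAb (Formal.smulModΓ F g) x (F.presheaf.germ V x hxV t) = _
  dsimp only [Algz.stalkMapAb]
  erw [TopCat.Presheaf.stalkFunctor_map_germ_apply]
  have key : ∀ (a : Γ(X, V)) (b : F.presheaf.obj (op V)),
      F.presheaf.germ V x hxV (a • b) = X.presheaf.germ V x hxV a • F.presheaf.germ V x hxV b :=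
    fun a b => PresheafOfModules.germ_smul (R := X.presheaf)
      (show PresheafOfModules (X.presheaf ⋙ forget₂ CommRingCat RingCat) from F.val) x V hxV a b
  have hres : X.presheaf.germ ⊤ x trivial g =
      X.presheaf.germ V x hxV (X.presheaf.map (homOfLE (le_top : V ≤ ⊤)).op g) :=
    (X.presheaf.germ_res_apply (homOfLE (le_top : V ≤ ⊤)) x hxV g).symm
  rw [hres, ← key]
  rfl

theorem wreg_iff {S : Type u} [CommRing S] (J : Ideal S) (r : S) {N C : Type u} [AddCommGroup N]
    [Module S N] [AddCommGroup C] [Module S C] (v : N →ₗ[S] N) (π : N →ₗ[S] C)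
    (hv : ∀ m, v m = r • m) (hex : Function.Exact v π) (hsurj : Function.Surjective π)
    (rs : List S) :
    IsWeaklyRegular (QuotSMulTop r (N ⧸ (J • ⊤ : Submodule S N))) rs ↔
      IsWeaklyRegular (C ⧸ (J • ⊤ : Submodule S C)) rs := by
  have hrange : LinearMap.range v = r • (⊤ : Submodule S N) := by
    ext y
    simp only [LinearMap.mem_range, hv, Submodule.mem_smul_pointwise_iff_exists,
      Submodule.mem_top, true_and]
  let e1 : QuotSMulTop r N ≃ₗ[S] C :=
    (Submodule.quotEquivOfEq _ _ hrange.symm) ≪≫ₗ hex.linearEquivOfSurjective hsurj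
  let e2 : (QuotSMulTop r N ⧸ (J • ⊤ : Submodule S (QuotSMulTop r N))) ≃ₗ[S]
      (C ⧸ (J • ⊤ : Submodule S C)) :=
    Submodule.Quotient.equiv _ _ e1
      (by rw [Submodule.map_smul'', Submodule.map_top, LinearEquiv.range])
  exact ((Groth.Agent.Lib.RegFibH8.quotQuotEquiv J r N).symm ≪≫ₗ e2).isWeaklyRegular_congr rs

theorem sreg_iff {S : Type u} [CommRing S] (J : Ideal S) (r : S) {N : Type u} [AddCommGroup N]
    [Module S N] (v : N →ₗ[S] N) (hv : ∀ m, v m = r • m) :
    IsSMulRegular (N ⧸ (J • ⊤ : Submodule S N)) r ↔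
      ∀ m : N, v m ∈ (J • ⊤ : Submodule S N) → m ∈ (J • ⊤ : Submodule S N) := by
  rw [isSMulRegular_quotient_iff_mem_of_smul_mem]
  simp only [hv]

set_option maxHeartbeats 1000000 in
theorem isOpen_aux {X Y : Scheme.{u}} [IsLocallyNoetherian Y] (f : X ⟶ Y) [LocallyOfFiniteType f] :
    ∀ (n : ℕ) (F : X.Modules) (_ : Coh.IsCoh F) (g : Fin n → Γ(X, ⊤)),
      IsOpen {x : X | FlatMod.IsFlatOverAt f F x ∧
        IsWeaklyRegular
          (↑(F.presheaf.stalk x) ⧸ (Ideal.map (f.stalkMap x).hom
              (IsLocalRing.maximalIdeal ↑(Y.presheaf.stalk (f x))) •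
            (⊤ : Submodule ↑(X.presheaf.stalk x) ↑(F.presheaf.stalk x))))
          (List.ofFn fun i => (X.presheaf.germ ⊤ x trivial) (g i))} := by
  haveI : IsLocallyNoetherian X := LocallyOfFiniteType.isLocallyNoetherian f
  intro n
  induction n with
  | zero =>
    intro F hF g
    haveI : F.IsQuasicoherent := hF.1
    haveI : SheafOfModules.IsFiniteType (R := X.ringCatSheaf) F := hF.2
    have hFP : CohB1.IsFP F := FLFH8.isFinitePresentation_of_isCoh F
    have h1 := Groth.Agent.S4863.result f F hFP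
    convert h1 using 1
    ext x
    simp only [Set.mem_setOf_eq, List.ofFn_zero, IsWeaklyRegular.nil, and_true]
  | succ n ih =>
    intro F hF g
    haveI : F.IsQuasicoherent := hF.1
    haveI : SheafOfModules.IsFiniteType (R := X.ringCatSheaf) F := hF.2
    have hFP : CohB1.IsFP F := FLFH8.isFinitePresentation_of_isCoh F
    have hC : Coh.IsCoh (cokernel (Formal.smulModΓ F (g 0))) :=
      CohKerH8.isCoh_cokernel hF hF (Formal.smulModΓ F (g 0))
    have h1 := Groth.Agent.S4863.result f F hFP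
    have h2 := Groth.Agent.S4851.result f F F hFP hFP (Formal.smulModΓ F (g 0))
    have h3 := ih (cokernel (Formal.smulModΓ F (g 0))) hC (fun i => g i.succ)
    convert (h1.inter h2).inter h3 using 1
    ext x
    simp only [Set.mem_setOf_eq, Set.mem_inter_iff]
    rw [List.ofFn_succ, isWeaklyRegular_cons_iff]
    have hv := stalkMapₗ_smulModΓ F (g 0) x
    obtain ⟨hex, hsurj⟩ := Groth.Agent.Lib.FibInjH6.exact_stalk_cokernel (Formal.smulModΓ F (g 0)) x
    have hw := wreg_iff (Ideal.map (f.stalkMap x).hom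
        (IsLocalRing.maximalIdeal ↑(Y.presheaf.stalk (f x))))
      (X.presheaf.germ ⊤ x trivial (g 0)) (Algz.stalkMapₗ (Formal.smulModΓ F (g 0)) x)
      (Algz.stalkMapₗ (cokernel.π (Formal.smulModΓ F (g 0))) x) hv hex hsurj
      (List.ofFn fun i : Fin n => (X.presheaf.germ ⊤ x trivial) (g i.succ))
    have hs := sreg_iff (Ideal.map (f.stalkMap x).hom
        (IsLocalRing.maximalIdeal ↑(Y.presheaf.stalk (f x))))
      (X.presheaf.germ ⊤ x trivial (g 0)) (Algz.stalkMapₗ (Formal.smulModΓ F (g 0)) x) hv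
    constructor
    · rintro ⟨hfl, hreg, hwr⟩
      have h50 := (Groth.Agent.S4850.result f F F hFP hFP (Formal.smulModΓ F (g 0)) x hfl).mpr
        (hs.mp hreg)
      exact ⟨⟨hfl, h50⟩, h50.2, hw.mp hwr⟩
    · rintro ⟨⟨hfl, h50⟩, hCfl, hwr⟩
      exact ⟨hfl, hs.mpr ((Groth.Agent.S4850.result f F F hFP hFP
        (Formal.smulModΓ F (g 0)) x hfl).mp h50), hw.mpr hwr⟩

end Groth.Agent.Lib.WRegOpenH8
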