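import Mathlib

namespace Groth.Agent.Lib.WStab

open WeierstrassCurve

variable {k : Type*} [Field k]

theorem mem_stab_iff (W : WeierstrassCurve k) [W.IsShortNF] (h2 : (2 : k) ≠ 0) (h3 : (3 : k) ≠ 0)
    (C : VariableChange k) :
    C • W = W ↔ C.r = 0 ∧ C.s = 0 ∧ C.t = 0 ∧
      ((C.u⁻¹ : kˣ) : k) ^ 4 * W.a₄ = W.a₄ ∧ ((C.u⁻¹ : kˣ) : k) ^ 6 * W.a₆ = W.a₆ := by
  have ha1 := W.a₁_of_isShortNF
  have ha2 := W.a₂_of_isShortNF
  have ha3 := W.a₃_of_isShortNF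
  have hv : ((C.u⁻¹ : kˣ) : k) ≠ 0 := Units.ne_zero _
  constructor
  · intro h
    have e1 := congrArg WeierstrassCurve.a₁ h
    have e2 := congrArg WeierstrassCurve.a₂ h
    have e3 := congrArg WeierstrassCurve.a₃ h
    have e4 := congrArg WeierstrassCurve.a₄ h
    have e6 := congrArg WeierstrassCurve.a₆ h
    rw [variableChange_a₁, ha1] at e1
    have hs : C.s = 0 := by
      have h5 := (mul_eq_zero.mp e1).resolve_left hv
      rw [zero_add] at h5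
      exact (mul_eq_zero.mp h5).resolve_left h2
    rw [variableChange_a₂, ha2, ha1, hs] at e2
    have hr : C.r = 0 := by
      have h5 := (mul_eq_zero.mp e2).resolve_left (pow_ne_zero 2 hv)
      have h6 : 3 * C.r = 0 := by linear_combination h5
      exact (mul_eq_zero.mp h6).resolve_left h3
    rw [variableChange_a₃, ha3, ha1, hr] at e3
    have ht : C.t = 0 := by
      have h5 := (mul_eq_zero.mp e3).resolve_left (pow_ne_zero 3 hv)
      have h6 : 2 * C.t = 0 := by linear_combination h5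
      exact (mul_eq_zero.mp h6).resolve_left h2
    rw [variableChange_a₄, ha3, ha2, ha1, hr, hs, ht] at e4
    rw [variableChange_a₆, ha3, ha2, ha1, hr, ht] at e6
    exact ⟨hr, hs, ht, by linear_combination e4, by linear_combination e6⟩
  · rintro ⟨hr, hs, ht, h4, h6⟩
    refine WeierstrassCurve.ext ?_ ?_ ?_ ?_ ?_
    · rw [variableChange_a₁, ha1, hs]; ring
    · rw [variableChange_a₂, ha2, ha1, hs, hr]; ring
    · rw [variableChange_a₃, ha3, ha1, hr, ht]; ring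
    · rw [variableChange_a₄, ha3, ha2, ha1, hr, hs, ht]; linear_combination h4
    · rw [variableChange_a₆, ha3, ha2, ha1, hr, ht]; linear_combination h6

theorem pow_eq_one_of_inv {u : kˣ} {n : ℕ} (h : ((u⁻¹ : kˣ) : k) ^ n = 1) : u ^ n = 1 := by
  have h1 : (u⁻¹) ^ n = 1 := Units.ext (by rw [Units.val_pow_eq_pow_val, h, Units.val_one])
  rwa [inv_pow, inv_eq_one] at h1

theorem inv_pow_eq_one {u : kˣ} {n : ℕ} (h : u ^ n = 1) : ((u⁻¹ : kˣ) : k) ^ n = 1 := by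
  rw [← Units.val_pow_eq_pow_val, inv_pow, h, inv_one, Units.val_one]

theorem eq_one_of_mul (x a : k) (ha : a ≠ 0) (h : x * a = a) : x = 1 := by
  have h1 : (x - 1) * a = 0 := by linear_combination h
  exact sub_eq_zero.mp ((mul_eq_zero.mp h1).resolve_right ha)

def uHom : VariableChange k →* kˣ where
  toFun C := C.u
  map_one' := rfl
  map_mul' _ _ := rfl

theorem not_both_zero (W : WeierstrassCurve k) [W.IsShortNF] (hΔ : W.Δ ≠ 0) :
    ¬ (W.a₄ = 0 ∧ W.a₆ = 0) := by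
  rintro ⟨h4, h6⟩
  apply hΔ
  rw [W.Δ_of_isShortNF, h4, h6]; ring

theorem stab_cyclic (W : WeierstrassCurve k) [W.IsShortNF] (h2 : (2 : k) ≠ 0) (h3 : (3 : k) ≠ 0)
    (hΔ : W.Δ ≠ 0) : IsCyclic (MulAction.stabilizer (VariableChange k) W) := by
  have hne := not_both_zero W hΔ
  have hmem : ∀ C : MulAction.stabilizer (VariableChange k) W,
      ((uHom (k := k)).comp (Subgroup.subtype _)) C ∈ rootsOfUnity 12 k := by
    intro C
    obtain ⟨-, -, -, h4, h6⟩ :=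
      (mem_stab_iff W h2 h3 C.1).mp (MulAction.mem_stabilizer_iff.mp C.2)
    rw [mem_rootsOfUnity]
    apply pow_eq_one_of_inv
    show ((C.1.u⁻¹ : kˣ) : k) ^ 12 = 1
    by_cases ha4 : W.a₄ = 0
    · have ha6 : W.a₆ ≠ 0 := fun h => hne ⟨ha4, h⟩
      have h7 : ((C.1.u⁻¹ : kˣ) : k) ^ 6 = 1 := eq_one_of_mul _ _ ha6 h6
      calc ((C.1.u⁻¹ : kˣ) : k) ^ 12 = (((C.1.u⁻¹ : kˣ) : k) ^ 6) ^ 2 := by ring
        _ = 1 := by rw [h7, one_pow]
    · have h7 : ((C.1.u⁻¹ : kˣ) : k) ^ 4 = 1 := eq_one_of_mul _ _ ha4 h4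
      calc ((C.1.u⁻¹ : kˣ) : k) ^ 12 = (((C.1.u⁻¹ : kˣ) : k) ^ 4) ^ 3 := by ring
        _ = 1 := by rw [h7, one_pow]
  apply isCyclic_of_injective
    (((uHom (k := k)).comp (Subgroup.subtype _)).codRestrict (rootsOfUnity 12 k) hmem)
  intro C C' hCC'
  have hu : C.1.u = C'.1.u := congrArg Subtype.val hCC'
  obtain ⟨hr, hs, ht, -, -⟩ :=
    (mem_stab_iff W h2 h3 C.1).mp (MulAction.mem_stabilizer_iff.mp C.2)
  obtain ⟨hr', hs', ht', -, -⟩ :=
    (mem_stab_iff W h2 h3 C'.1).mp (MulAction.mem_stabilizer_iff.mp C'.2)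
  exact Subtype.ext
    (VariableChange.ext hu (hr.trans hr'.symm) (hs.trans hs'.symm) (ht.trans ht'.symm))

theorem card_stab (W : WeierstrassCurve k) [W.IsShortNF] (h2 : (2 : k) ≠ 0) (h3 : (3 : k) ≠ 0)
    (n : ℕ)
    (hn : ∀ u : kˣ, u ^ n = 1 ↔ (((u⁻¹ : kˣ) : k) ^ 4 * W.a₄ = W.a₄ ∧
      ((u⁻¹ : kˣ) : k) ^ 6 * W.a₆ = W.a₆)) :
    Nat.card (MulAction.stabilizer (VariableChange k) W) = Nat.card (rootsOfUnity n k) := by
  refine Nat.card_congr
    { toFun := fun C => ⟨C.1.u, (mem_rootsOfUnity n _).mpr ((hn _).mpr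
        ⟨((mem_stab_iff W h2 h3 C.1).mp (MulAction.mem_stabilizer_iff.mp C.2)).2.2.2.1,
         ((mem_stab_iff W h2 h3 C.1).mp (MulAction.mem_stabilizer_iff.mp C.2)).2.2.2.2⟩)⟩
      invFun := fun ζ => ⟨⟨ζ.1, 0, 0, 0⟩, MulAction.mem_stabilizer_iff.mpr
        ((mem_stab_iff W h2 h3 _).mpr ⟨rfl, rfl, rfl,
          ((hn ζ.1).mp ((mem_rootsOfUnity n _).mp ζ.2)).1,
          ((hn ζ.1).mp ((mem_rootsOfUnity n _).mp ζ.2)).2⟩)⟩
      left_inv := fun C => by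
        obtain ⟨hr, hs, ht, -, -⟩ :=
          (mem_stab_iff W h2 h3 C.1).mp (MulAction.mem_stabilizer_iff.mp C.2)
        exact Subtype.ext (VariableChange.ext rfl hr.symm hs.symm ht.symm)
      right_inv := fun ζ => Subtype.ext rfl }

theorem main (k : Type*) [Field k] [IsAlgClosed k] (h2 : (2 : k) ≠ 0) (h3 : (3 : k) ≠ 0)
    (W : WeierstrassCurve k) [W.IsShortNF] (hΔ : W.Δ ≠ 0) :
    IsCyclic ↥(MulAction.stabilizer (WeierstrassCurve.VariableChange k) W) ∧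
      (W.a₄ = 0 → Nat.card ↥(MulAction.stabilizer (WeierstrassCurve.VariableChange k) W) = 6) ∧
      (W.a₆ = 0 → Nat.card ↥(MulAction.stabilizer (WeierstrassCurve.VariableChange k) W) = 4) ∧
      (W.a₄ ≠ 0 → W.a₆ ≠ 0 →
        Nat.card ↥(MulAction.stabilizer (WeierstrassCurve.VariableChange k) W) = 2) := by
  have hne := not_both_zero W hΔ
  refine ⟨stab_cyclic W h2 h3 hΔ, ?_, ?_, ?_⟩
  · intro ha4
    have ha6 : W.a₆ ≠ 0 := fun h => hne ⟨ha4, h⟩
    haveI : NeZero ((6 : ℕ) : k) := ⟨by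
      have h7 : ((6 : ℕ) : k) = 2 * 3 := by norm_num
      rw [h7]; exact mul_ne_zero h2 h3⟩
    rw [card_stab W h2 h3 6 ?_, HasEnoughRootsOfUnity.natCard_rootsOfUnity k 6]
    intro u
    constructor
    · intro hu
      have h7 := inv_pow_eq_one hu
      rw [ha4, mul_zero, h7, one_mul]
      exact ⟨rfl, rfl⟩
    · rintro ⟨-, h6⟩
      exact pow_eq_one_of_inv (eq_one_of_mul _ _ ha6 h6)
  · intro ha6
    have ha4 : W.a₄ ≠ 0 := fun h => hne ⟨h, ha6⟩
    haveI : NeZero ((4 : ℕ) : k) := ⟨by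
      have h7 : ((4 : ℕ) : k) = 2 * 2 := by norm_num
      rw [h7]; exact mul_ne_zero h2 h2⟩
    rw [card_stab W h2 h3 4 ?_, HasEnoughRootsOfUnity.natCard_rootsOfUnity k 4]
    intro u
    constructor
    · intro hu
      have h7 := inv_pow_eq_one hu
      rw [ha6, mul_zero, h7, one_mul]
      exact ⟨rfl, rfl⟩
    · rintro ⟨h4, -⟩
      exact pow_eq_one_of_inv (eq_one_of_mul _ _ ha4 h4)
  · intro ha4 ha6
    haveI : NeZero ((2 : ℕ) : k) := ⟨by
      have h7 : ((2 : ℕ) : k) = 2 := by norm_num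
      rw [h7]; exact h2⟩
    rw [card_stab W h2 h3 2 ?_, HasEnoughRootsOfUnity.natCard_rootsOfUnity k 2]
    intro u
    constructor
    · intro hu
      have h7 := inv_pow_eq_one hu
      have e4 : ((u⁻¹ : kˣ) : k) ^ 4 = 1 := by
        calc ((u⁻¹ : kˣ) : k) ^ 4 = (((u⁻¹ : kˣ) : k) ^ 2) ^ 2 := by ring
          _ = 1 := by rw [h7, one_pow]
      have e6 : ((u⁻¹ : kˣ) : k) ^ 6 = 1 := by
        calc ((u⁻¹ : kˣ) : k) ^ 6 = (((u⁻¹ : kˣ) : k) ^ 2) ^ 3 := by ring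
          _ = 1 := by rw [h7, one_pow]
      rw [e4, e6, one_mul, one_mul]
      exact ⟨rfl, rfl⟩
    · rintro ⟨h4, h6⟩
      have e4 := eq_one_of_mul _ _ ha4 h4
      have e6 := eq_one_of_mul _ _ ha6 h6
      apply pow_eq_one_of_inv
      have h8 : ((u⁻¹ : kˣ) : k) ^ 6 = ((u⁻¹ : kˣ) : k) ^ 4 * ((u⁻¹ : kˣ) : k) ^ 2 := by ring
      rw [e6, e4, one_mul] at h8
      exact h8.symm

end Groth.Agent.Lib.WStab
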