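import Mathlib

/-!
# The way-out lemma (helper9)

A morphism of way-out right triangulated functors `D(A) ⥤ D(B)` which is an isomorphism on a
cogenerating class of objects (in degree `0`) is an isomorphism on all objects in degree `0`.
-/

open CategoryTheory CategoryTheory.Limits

namespace Groth.Agent.Lib.WayOut

universe w w' v v' u u'

section four

variable {C : Type u} [Category.{v} C] [Abelian C]

theorem four_mono {A₀ A₁ A₂ A₃ B₀ B₁ B₂ B₃ : C} (f₀ : A₀ ⟶ A₁) (f₁ : A₁ ⟶ A₂) (f₂ : A₂ ⟶ A₃)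
    (g₀ : B₀ ⟶ B₁) (g₁ : B₁ ⟶ B₂) (g₂ : B₂ ⟶ B₃)
    (a₀ : A₀ ⟶ B₀) (a₁ : A₁ ⟶ B₁) (a₂ : A₂ ⟶ B₂) (a₃ : A₃ ⟶ B₃)
    (c₀ : f₀ ≫ a₁ = a₀ ≫ g₀) (c₁ : f₁ ≫ a₂ = a₁ ≫ g₁) (c₂ : f₂ ≫ a₃ = a₂ ≫ g₂)
    (w : f₀ ≫ f₁ = 0) (w₁ : f₁ ≫ f₂ = 0) (hf : (ShortComplex.mk f₁ f₂ w₁).Exact)
    (w₂ : g₀ ≫ g₁ = 0) (hg : (ShortComplex.mk g₀ g₁ w₂).Exact)
    (h₀ : Epi a₀) (h₁ : Mono a₁) (h₃ : Mono a₃) : Mono a₂ := by
  let φ : ComposableArrows.mk₃ f₀ f₁ f₂ ⟶ ComposableArrows.mk₃ g₀ g₁ g₂ :=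
    ComposableArrows.homMk₃ a₀ a₁ a₂ a₃ c₀ c₁ c₂
  exact Abelian.mono_of_epi_of_mono_of_mono' φ w hf.exact_toComposableArrows
    hg.exact_toComposableArrows h₀ h₁ h₃

theorem four_epi {A₀ A₁ A₂ A₃ B₀ B₁ B₂ B₃ : C} (f₀ : A₀ ⟶ A₁) (f₁ : A₁ ⟶ A₂) (f₂ : A₂ ⟶ A₃)
    (g₀ : B₀ ⟶ B₁) (g₁ : B₁ ⟶ B₂) (g₂ : B₂ ⟶ B₃)
    (a₀ : A₀ ⟶ B₀) (a₁ : A₁ ⟶ B₁) (a₂ : A₂ ⟶ B₂) (a₃ : A₃ ⟶ B₃)
    (c₀ : f₀ ≫ a₁ = a₀ ≫ g₀) (c₁ : f₁ ≫ a₂ = a₁ ≫ g₁) (c₂ : f₂ ≫ a₃ = a₂ ≫ g₂)
    (w₁ : f₁ ≫ f₂ = 0) (hf : (ShortComplex.mk f₁ f₂ w₁).Exact)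
    (w₂ : g₀ ≫ g₁ = 0) (hg : (ShortComplex.mk g₀ g₁ w₂).Exact) (w₃ : g₁ ≫ g₂ = 0)
    (h₀ : Epi a₀) (h₂ : Epi a₂) (h₃ : Mono a₃) : Epi a₁ := by
  let φ : ComposableArrows.mk₃ f₀ f₁ f₂ ⟶ ComposableArrows.mk₃ g₀ g₁ g₂ :=
    ComposableArrows.homMk₃ a₀ a₁ a₂ a₃ c₀ c₁ c₂
  exact Abelian.epi_of_epi_of_epi_of_mono' φ hf.exact_toComposableArrows
    hg.exact_toComposableArrows w₃ h₀ h₂ h₃

end four

variable {A : Type u} [Category.{v} A] [Abelian A] [HasDerivedCategory.{w} A]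
    {B : Type u'} [Category.{v'} B] [Abelian B] [HasDerivedCategory.{w'} B]
    (F G : DerivedCategory A ⥤ DerivedCategory B) [F.CommShift ℤ] [G.CommShift ℤ]
    (η : F ⟶ G) [NatTrans.CommShift η ℤ]

open DerivedCategory Pretriangulated

/-- The morphism of triangles induced by a natural transformation commuting with shifts. -/
def mapTriangleHom (T : Triangle (DerivedCategory A)) :
    F.mapTriangle.obj T ⟶ G.mapTriangle.obj T where
  hom₁ := η.app _
  hom₂ := η.app _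
  hom₃ := η.app _
  comm₁ := by
    change F.map T.mor₁ ≫ η.app T.obj₂ = η.app T.obj₁ ≫ G.map T.mor₁
    exact η.naturality _
  comm₂ := by
    change F.map T.mor₂ ≫ η.app T.obj₃ = η.app T.obj₂ ≫ G.map T.mor₂
    exact η.naturality _
  comm₃ := by
    change (F.map T.mor₃ ≫ (F.commShiftIso (1 : ℤ)).hom.app T.obj₁) ≫
      (shiftFunctor (DerivedCategory B) (1 : ℤ)).map (η.app T.obj₁) =
        η.app T.obj₃ ≫ G.map T.mor₃ ≫ (G.commShiftIso (1 : ℤ)).hom.app T.obj₁
    rw [Category.assoc, NatTrans.shift_app_comm η (1 : ℤ) T.obj₁, NatTrans.naturality_assoc]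

/-- The map induced by `η` on the `j`-th cohomology of `X` placed in degree `0`. -/
noncomputable abbrev x (j : ℤ) (X : A) :
    (homologyFunctor B j).obj (F.obj ((singleFunctor A 0).obj X)) ⟶
      (homologyFunctor B j).obj (G.obj ((singleFunctor A 0).obj X)) :=
  (homologyFunctor B j).map (η.app ((singleFunctor A 0).obj X))

section steps

variable [F.IsTriangulated] [G.IsTriangulated]
  (S : ShortComplex A) (hS : S.ShortExact) (i j : ℤ) (hij : i + 1 = j)

include hS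

section
include hij

lemma sq₃ : HomologySequence.δ (F.mapTriangle.obj hS.singleTriangle) i j hij ≫
    x F G η j S.X₁ = x F G η i S.X₃ ≫
      HomologySequence.δ (G.mapTriangle.obj hS.singleTriangle) i j hij :=
  ((homologyFunctor B 0).homologySequenceδ_naturality _ _
    (mapTriangleHom F G η hS.singleTriangle) i j hij).symm

end

lemma sq₁ (k : ℤ) : (homologyFunctor B k).map (F.mapTriangle.obj hS.singleTriangle).mor₁ ≫
    x F G η k S.X₂ = x F G η k S.X₁ ≫
      (homologyFunctor B k).map (G.mapTriangle.obj hS.singleTriangle).mor₁ := by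
  have h := (mapTriangleHom F G η hS.singleTriangle).comm₁
  have h2 := congrArg (fun f => (homologyFunctor B k).map f) h
  simp only [Functor.map_comp] at h2
  exact h2

lemma sq₂ (k : ℤ) : (homologyFunctor B k).map (F.mapTriangle.obj hS.singleTriangle).mor₂ ≫
    x F G η k S.X₃ = x F G η k S.X₂ ≫
      (homologyFunctor B k).map (G.mapTriangle.obj hS.singleTriangle).mor₂ := by
  have h := (mapTriangleHom F G η hS.singleTriangle).comm₂
  have h2 := congrArg (fun f => (homologyFunctor B k).map f) h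
  simp only [Functor.map_comp] at h2
  exact h2

include hij

lemma step_mono (h₀ : Epi (x F G η i S.X₂)) (h₁ : Mono (x F G η i S.X₃))
    (h₃ : Mono (x F G η j S.X₂)) : Mono (x F G η j S.X₁) := by
  have hTF := F.map_distinguished _ hS.singleTriangle_distinguished
  have hTG := G.map_distinguished _ hS.singleTriangle_distinguished
  exact four_mono _ _ _ _ _ _ _ _ _ _ (sq₂ F G η S hS i) (sq₃ F G η S hS i j hij)
    (sq₁ F G η S hS j) (HomologySequence.comp_δ _ hTF i j hij)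
    (HomologySequence.δ_comp _ hTF i j hij) (HomologySequence.exact₁ _ hTF i j hij)
    (HomologySequence.comp_δ _ hTG i j hij) (HomologySequence.exact₃ _ hTG i j hij) h₀ h₁ h₃

lemma step_epi (h₀ : Epi (x F G η i S.X₃)) (h₂ : Epi (x F G η j S.X₂))
    (h₃ : Mono (x F G η j S.X₃)) : Epi (x F G η j S.X₁) := by
  have hTF := F.map_distinguished _ hS.singleTriangle_distinguished
  have hTG := G.map_distinguished _ hS.singleTriangle_distinguished
  have w₁ : (homologyFunctor B j).map (F.mapTriangle.obj hS.singleTriangle).mor₁ ≫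
      (homologyFunctor B j).map (F.mapTriangle.obj hS.singleTriangle).mor₂ = 0 := by
    rw [← Functor.map_comp, comp_distTriang_mor_zero₁₂ _ hTF, Functor.map_zero]
  have w₃ : (homologyFunctor B j).map (G.mapTriangle.obj hS.singleTriangle).mor₁ ≫
      (homologyFunctor B j).map (G.mapTriangle.obj hS.singleTriangle).mor₂ = 0 := by
    rw [← Functor.map_comp, comp_distTriang_mor_zero₁₂ _ hTG, Functor.map_zero]
  exact four_epi _ _ _ _ _ _ _ _ _ _ (sq₃ F G η S hS i j hij) (sq₁ F G η S hS j)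
    (sq₂ F G η S hS j) w₁ (HomologySequence.exact₂ _ hTF j)
    (HomologySequence.δ_comp _ hTG i j hij) (HomologySequence.exact₁ _ hTG i j hij) w₃ h₀ h₂ h₃

end steps

/-- Uniform vanishing of the cohomology of `F(X[0])` in low degrees for a way-out right functor. -/
lemma exists_bound
    (hF : ∀ n₁ : ℤ, ∃ n₂ : ℤ, ∀ Y : DerivedCategory A, Y.IsGE n₂ → (F.obj Y).IsGE n₁) :
    ∃ N : ℤ, ∀ (X : A) (j : ℤ), j < N →
      IsZero ((homologyFunctor B j).obj (F.obj ((singleFunctor A 0).obj X))) := by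
  obtain ⟨n₂, h⟩ := hF 0
  refine ⟨-n₂, fun X j hj => ?_⟩
  haveI h1 : (F.obj ((singleFunctor A n₂).obj X)).IsGE 0 := h _ inferInstance
  let e : (shiftFunctor (DerivedCategory B) (-n₂)).obj (F.obj ((singleFunctor A 0).obj X)) ≅
      F.obj ((singleFunctor A n₂).obj X) :=
    ((F.commShiftIso (-n₂)).app _).symm ≪≫
      F.mapIso (((singleFunctors A).shiftIso (-n₂) n₂ 0 (by omega)).app X)
  haveI : TStructure.t.IsGE
      ((shiftFunctor (DerivedCategory B) (-n₂)).obj (F.obj ((singleFunctor A 0).obj X))) 0 :=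
    TStructure.t.isGE_of_iso e.symm 0
  haveI : (F.obj ((singleFunctor A 0).obj X)).IsGE (-n₂) :=
    TStructure.t.isGE_of_shift _ (-n₂) (-n₂) 0 (by omega)
  exact isZero_of_isGE _ (-n₂) j hj

section main

variable [F.IsTriangulated] [G.IsTriangulated]

include η in
theorem main (P : ObjectProperty A) (hP : ∀ X : A, ∃ (Y : A) (i : X ⟶ Y), P Y ∧ Mono i)
    (hF : ∀ n₁ : ℤ, ∃ n₂ : ℤ, ∀ Y : DerivedCategory A, Y.IsGE n₂ → (F.obj Y).IsGE n₁)
    (hG : ∀ n₁ : ℤ, ∃ n₂ : ℤ, ∀ Y : DerivedCategory A, Y.IsGE n₂ → (G.obj Y).IsGE n₁)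
    (hη : ∀ X : A, P X → IsIso (η.app ((singleFunctor A 0).obj X)))
    (X : A) : IsIso (η.app ((singleFunctor A 0).obj X)) := by
  obtain ⟨N₁, hN₁⟩ := exists_bound F hF
  obtain ⟨N₂, hN₂⟩ := exists_bound G hG
  have hlow : ∀ j : ℤ, j < min N₁ N₂ → ∀ X : A, IsIso (x F G η j X) := by
    intro j hj X
    have h1 := hN₁ X j (lt_of_lt_of_le hj (min_le_left _ _))
    have h2 := hN₂ X j (lt_of_lt_of_le hj (min_le_right _ _))
    exact ⟨0, h1.eq_of_src _ _, h2.eq_of_src _ _⟩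
  have hstep : ∀ i j : ℤ, i + 1 = j → (∀ X : A, IsIso (x F G η i X)) →
      ∀ X : A, IsIso (x F G η j X) := by
    intro i j hij Qi
    have hPiso : ∀ (Y : A), P Y → ∀ k : ℤ, IsIso (x F G η k Y) := by
      intro Y hY k
      haveI := hη Y hY
      infer_instance
    have mono_all : ∀ X : A, Mono (x F G η j X) := by
      intro X
      obtain ⟨Y, ι, hY, hι⟩ := hP X
      haveI := hι
      have hS : (ShortComplex.mk ι (cokernel.π ι) (cokernel.condition ι)).ShortExact :=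
        { exact := ShortComplex.exact_cokernel ι }
      haveI := hPiso Y hY i
      haveI := hPiso Y hY j
      haveI := Qi (cokernel ι)
      exact step_mono F G η _ hS i j hij inferInstance inferInstance inferInstance
    intro X
    obtain ⟨Y, ι, hY, hι⟩ := hP X
    haveI := hι
    have hS : (ShortComplex.mk ι (cokernel.π ι) (cokernel.condition ι)).ShortExact :=
      { exact := ShortComplex.exact_cokernel ι }
    haveI := hPiso Y hY j
    haveI := Qi (cokernel ι)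
    haveI : Epi (x F G η j X) :=
      step_epi F G η _ hS i j hij inferInstance inferInstance (mono_all (cokernel ι))
    haveI := mono_all X
    exact isIso_of_mono_of_epi _
  have hall : ∀ j : ℤ, min N₁ N₂ - 1 ≤ j → ∀ X : A, IsIso (x F G η j X) := by
    intro j hj
    induction j, hj using Int.leInduction with
    | base => exact hlow _ (by omega)
    | succ n _ ih => exact hstep n (n + 1) rfl ih
  rw [DerivedCategory.isIso_iff]
  intro j
  by_cases hj : j < min N₁ N₂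
  · exact hlow j hj X
  · exact hall j (by omega) X

end main

end Groth.Agent.Lib.WayOut
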