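import Mathlib

/-!
# Weak approximation for finitely many discrete valuation subrings of a field (helper3)
-/

set_option autoImplicit false
universe u

open IsDedekindDomain IsDedekindDomain.HeightOneSpectrum

namespace Groth.Agent.Lib.WeakApproxH3

variable {K : Type u} [Field K]

section single

variable (A : ValuationSubring K) [IsDiscreteValuationRing A]

/-- The `2`-adic-style real absolute value attached to a discrete valuation subring. -/
noncomputable def abv : AbsoluteValue K ℝ :=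
  (IsDiscreteValuationRing.maximalIdeal A).adicAbv (K := K) (b := 2) (by norm_num)

theorem abv_le_one_of_mem {x : K} (hx : x ∈ A) : abv A x ≤ 1 :=
  adicAbv_coe_le_one (K := K) (IsDiscreteValuationRing.maximalIdeal A) (by norm_num) ⟨x, hx⟩

theorem abv_lt_one_iff_mem_maximalIdeal (x : A) :
    abv A (x : K) < 1 ↔ x ∈ IsLocalRing.maximalIdeal A :=
  adicAbv_coe_lt_one_iff (K := K) (IsDiscreteValuationRing.maximalIdeal A) (by norm_num) x

theorem abv_le_one_iff {x : K} : abv A x ≤ 1 ↔ x ∈ A := by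
  constructor
  · intro h
    by_contra hx
    have hx0 : x ≠ 0 := fun h0 => hx (h0 ▸ A.zero_mem)
    have hinv : x⁻¹ ∈ A := (A.mem_or_inv_mem x).resolve_left hx
    have hnu : (⟨x⁻¹, hinv⟩ : A) ∈ IsLocalRing.maximalIdeal A := by
      rw [IsLocalRing.mem_maximalIdeal, mem_nonunits_iff]
      rintro ⟨u, hu⟩
      apply hx
      have h1 : ((u : A) : K) * (((u⁻¹ : Aˣ) : A) : K) = 1 := by
        have h0 : (u : A) * ((u⁻¹ : Aˣ) : A) = 1 := u.mul_inv
        have := congrArg (Subtype.val : A → K) h0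
        exact this
      rw [hu] at h1
      have h2 : (((u⁻¹ : Aˣ) : A) : K) = x := by
        have h3 : x⁻¹ * (((u⁻¹ : Aˣ) : A) : K) = 1 := h1
        field_simp at h3
        exact h3
      rw [← h2]
      exact ((u⁻¹ : Aˣ) : A).2
    have hlt := (abv_lt_one_iff_mem_maximalIdeal A ⟨x⁻¹, hinv⟩).mpr hnu
    have hpos : 0 < abv A x := (abv A).pos hx0
    change abv A x⁻¹ < 1 at hlt
    rw [map_inv₀, inv_lt_one_iff₀] at hlt
    rcases hlt with hlt | hlt
    · linarith
    · linarith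
  · exact abv_le_one_of_mem A

theorem abv_isNontrivial : (abv A).IsNontrivial := by
  obtain ⟨ϖ, hϖ⟩ := IsDiscreteValuationRing.exists_irreducible A
  refine ⟨(ϖ : K), ?_, ?_⟩
  · intro h
    exact hϖ.ne_zero (Subtype.ext h)
  · have : abv A (ϖ : K) < 1 := by
      rw [abv_lt_one_iff_mem_maximalIdeal, IsLocalRing.mem_maximalIdeal, mem_nonunits_iff]
      exact hϖ.not_isUnit
    exact this.ne

/-- If `y` is small then `1 + y` is a unit of `A`. -/
theorem exists_unit_of_abv_lt_one {y : K} (hy : abv A y < 1) :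
    ∃ w : Aˣ, ((w : A) : K) = 1 + y := by
  have hyA : y ∈ A := (abv_le_one_iff A).mp hy.le
  have hym : (⟨y, hyA⟩ : A) ∈ IsLocalRing.maximalIdeal A :=
    (abv_lt_one_iff_mem_maximalIdeal A ⟨y, hyA⟩).mp hy
  have hu : IsUnit (1 + (⟨y, hyA⟩ : A)) := by
    have hsum : (1 + (⟨y, hyA⟩ : A)) + (-(⟨y, hyA⟩ : A)) = 1 := by ring
    rcases IsLocalRing.isUnit_or_isUnit_of_add_one hsum with h | h
    · exact h
    · exfalso
      rw [IsLocalRing.mem_maximalIdeal, mem_nonunits_iff] at hym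
      exact hym (by simpa using h)
  obtain ⟨w, hw⟩ := hu
  refine ⟨w, ?_⟩
  rw [hw]
  rfl

end single

/-- Weak approximation for pairwise distinct discrete valuation subrings. -/
theorem main {r : ℕ} (O : Fin r → ValuationSubring K)
    (hO : ∀ i, IsDiscreteValuationRing (O i)) (hinj : Function.Injective O)
    (fs : Fin r → K) (n : Fin r → ℤ) :
    ∃ f : K, ∀ i : Fin r, ∃ (ϖ : O i) (_ : Irreducible ϖ) (w : (O i)ˣ),
      f - fs i = ((w : O i) : K) * ((ϖ : K) ^ (n i)) := by
  classical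
  let v : Fin r → AbsoluteValue K ℝ := fun i => @abv K _ (O i) (hO i)
  have hnt : ∀ i, (v i).IsNontrivial := fun i => @abv_isNontrivial K _ (O i) (hO i)
  have hne : Pairwise fun i j => ¬ (v i).IsEquiv (v j) := by
    intro i j hij heq
    apply hij
    apply hinj
    ext x
    rw [← @abv_le_one_iff K _ (O i) (hO i), ← @abv_le_one_iff K _ (O j) (hO j)]
    exact heq.le_one_iff
  have hdense := AbsoluteValue.denseRange_algebraMap_pi hnt hne
  choose ϖ hϖ using fun i => @IsDiscreteValuationRing.exists_irreducible (O i) _ _ (hO i)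
  have hϖ0 : ∀ i, ((ϖ i : O i) : K) ≠ 0 := fun i h => (hϖ i).ne_zero (Subtype.ext h)
  let z : (i : Fin r) → WithAbs (v i) := fun i => WithAbs.toAbs (v i) (fs i + ((ϖ i : O i) : K) ^ (n i))
  -- radius
  have hpos : ∀ i, 0 < v i (((ϖ i : O i) : K) ^ (n i)) := fun i =>
    (v i).pos (zpow_ne_zero _ (hϖ0 i))
  obtain ⟨ρ, hρ0, hρ⟩ : ∃ ρ : ℝ, 0 < ρ ∧ ∀ i, ρ ≤ v i (((ϖ i : O i) : K) ^ (n i)) := by
    by_cases hr : r = 0
    · subst hr
      exact ⟨1, one_pos, fun i => i.elim0⟩
    · haveI : Nonempty (Fin r) := ⟨⟨0, Nat.pos_of_ne_zero hr⟩⟩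
      refine ⟨Finset.univ.inf' Finset.univ_nonempty
        (fun i => v i (((ϖ i : O i) : K) ^ (n i))), ?_, fun i => Finset.inf'_le _ (Finset.mem_univ i)⟩
      rw [Finset.lt_inf'_iff]
      exact fun i _ => hpos i
  obtain ⟨f, hf⟩ := Metric.denseRange_iff.mp hdense z ρ hρ0
  rw [dist_pi_lt_iff hρ0] at hf
  refine ⟨f, fun i => ?_⟩
  have hfi := hf i
  have hdist : dist (z i) (algebraMap K ((j : Fin r) → WithAbs (v j)) f i) =
      v i (fs i + ((ϖ i : O i) : K) ^ (n i) - f) := by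
    rw [dist_eq_norm]
    rfl
  rw [hdist] at hfi
  set p := ((ϖ i : O i) : K) ^ (n i) with hp
  have hp0 : p ≠ 0 := zpow_ne_zero _ (hϖ0 i)
  have hy : v i ((f - (fs i + p)) / p) < 1 := by
    rw [map_div₀, div_lt_one (hpos i), ← (v i).map_neg]
    have : -(f - (fs i + p)) = fs i + p - f := by ring
    rw [this]
    exact lt_of_lt_of_le hfi (hρ i)
  obtain ⟨w, hw⟩ := @exists_unit_of_abv_lt_one K _ (O i) (hO i) _ hy
  refine ⟨ϖ i, hϖ i, w, ?_⟩
  rw [hw]
  field_simp
  ring

end Groth.Agent.Lib.WeakApproxH3
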