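import Mathlib
import Groth.Agent.Lib.WeakApprox_helper3

/-!
# Rational functions with prescribed orders at codimension one points (helper3)
-/

set_option autoImplicit false
universe u

open AlgebraicGeometry CategoryTheory CategoryTheory.Limits IsLocalRing

namespace Groth.Agent.Lib.WeakApproxSchH3

theorem dvr_of_dim_one (B : Type u) [CommRing B] [IsDomain B] [IsLocalRing B] [IsNoetherianRing B]
    [IsIntegrallyClosed B] (h : ringKrullDim B = 1) : IsDiscreteValuationRing B := by
  have hnf : ¬ IsField B := fun hf => by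
    have h0 := ringKrullDim_eq_zero_of_isField hf
    rw [h] at h0
    exact one_ne_zero h0
  haveI : Ring.KrullDimLE 1 B := Ring.krullDimLE_iff.mpr h.le
  have htfae := (IsDiscreteValuationRing.TFAE B hnf).out 3 0
  apply htfae.mp
  refine ⟨inferInstance, maximalIdeal B, ⟨?_, inferInstance⟩, ?_⟩
  · exact isField_iff_maximalIdeal_eq.not.mp hnf
  · rintro P ⟨hP0, hP⟩
    haveI := hP
    exact IsLocalRing.eq_maximalIdeal (Ideal.isMaximal_of_isPrime_of_ne_bot P hP0)

section

variable (X : Scheme.{u}) [IsIntegral X]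

/-- the stalk as a valuation subring of the function field. -/
noncomputable def vs (x : X)
    (h : ∀ a : X.functionField, a ∈ (algebraMap (X.presheaf.stalk x) X.functionField).range ∨
      a⁻¹ ∈ (algebraMap (X.presheaf.stalk x) X.functionField).range) :
    ValuationSubring X.functionField :=
  { toSubring := (algebraMap (X.presheaf.stalk x) X.functionField).range
    mem_or_inv_mem' := h }

theorem mem_vs (x : X) (h) (a : X.functionField) :
    a ∈ vs X x h ↔ ∃ y, algebraMap (X.presheaf.stalk x) X.functionField y = a := Iff.rfl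

/-- the map from the stalk to its valuation subring. -/
noncomputable def toVS (x : X) (h) : X.presheaf.stalk x →+* (vs X x h) :=
  (algebraMap (X.presheaf.stalk x) X.functionField).codRestrict (vs X x h) (fun a => ⟨a, rfl⟩)

theorem toVS_coe (x : X) (h) (a : X.presheaf.stalk x) :
    ((toVS X x h a : vs X x h) : X.functionField) = algebraMap _ _ a := rfl

theorem toVS_bijective (x : X) (h) : Function.Bijective (toVS X x h) := by
  constructor
  · intro a b hab
    apply IsFractionRing.injective (X.presheaf.stalk x) X.functionField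
    exact congrArg Subtype.val hab
  · rintro ⟨a, y, rfl⟩
    exact ⟨y, rfl⟩

theorem vs_valuation_of (x : X) [ValuationRing (X.presheaf.stalk x)] :
    ∀ a : X.functionField, a ∈ (algebraMap (X.presheaf.stalk x) X.functionField).range ∨
      a⁻¹ ∈ (algebraMap (X.presheaf.stalk x) X.functionField).range := by
  intro a
  rcases ValuationRing.isInteger_or_isInteger (X.presheaf.stalk x) a with ⟨y, hy⟩ | ⟨y, hy⟩
  · exact Or.inl ⟨y, hy⟩
  · exact Or.inr ⟨y, hy⟩

/-- key: on a separated integral scheme, points are determined by their local rings inside the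
function field. -/
theorem eq_of_vs_eq [X.IsSeparated] (x y : X) (hx) (hy) (hxy : vs X x hx = vs X y hy) : x = y := by
  -- the two maps into `V`
  let αx : X.presheaf.stalk x →+* (vs X x hx) := toVS X x hx
  have hymem : ∀ a : X.presheaf.stalk y, algebraMap _ X.functionField a ∈ vs X x hx := by
    intro a
    rw [hxy]
    exact ⟨a, rfl⟩
  let αy : X.presheaf.stalk y →+* (vs X x hx) :=
    (algebraMap (X.presheaf.stalk y) X.functionField).codRestrict (vs X x hx) hymem
  have hαx : Function.Bijective αx := toVS_bijective X x hx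
  have hαy : Function.Bijective αy := by
    constructor
    · intro a b hab
      apply IsFractionRing.injective (X.presheaf.stalk y) X.functionField
      exact congrArg Subtype.val hab
    · rintro ⟨a, ha⟩
      have ha' := ha
      rw [hxy] at ha'
      obtain ⟨b, hb⟩ := ha'
      exact ⟨b, Subtype.ext hb⟩
  haveI : IsLocalHom αx :=
    ⟨fun a ha => (MulEquiv.isUnit_map (f := RingEquiv.ofBijective αx hαx)).mp ha⟩
  haveI : IsLocalHom αy :=
    ⟨fun a ha => (MulEquiv.isUnit_map (f := RingEquiv.ofBijective αy hαy)).mp ha⟩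
  have hcx : (algebraMap (vs X x hx) X.functionField).comp αx
      = algebraMap (X.presheaf.stalk x) _ := rfl
  have hcy : (algebraMap (vs X x hx) X.functionField).comp αy
      = algebraMap (X.presheaf.stalk y) _ := rfl
  -- the two lifts
  let lx : Spec (.of (vs X x hx)) ⟶ X := Spec.map (CommRingCat.ofHom αx) ≫ X.fromSpecStalk x
  let ly : Spec (.of (vs X x hx)) ⟶ X := Spec.map (CommRingCat.ofHom αy) ≫ X.fromSpecStalk y
  let i₁ : Spec (.of X.functionField) ⟶ X := X.fromSpecStalk (genericPoint X)
  have hgx : (genericPoint X) ⤳ x := (genericPoint_spec X).specializes trivial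
  have hgy : (genericPoint X) ⤳ y := (genericPoint_spec X).specializes trivial
  have hlx : Spec.map (CommRingCat.ofHom (algebraMap (vs X x hx) X.functionField)) ≫ lx = i₁ := by
    simp only [lx, i₁]
    rw [← Category.assoc, ← Spec.map_comp, ← CommRingCat.ofHom_comp, hcx]
    exact Scheme.SpecMap_stalkSpecializes_fromSpecStalk hgx
  have hly : Spec.map (CommRingCat.ofHom (algebraMap (vs X x hx) X.functionField)) ≫ ly = i₁ := by
    simp only [ly, i₁]
    rw [← Category.assoc, ← Spec.map_comp, ← CommRingCat.ofHom_comp, hcy]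
    exact Scheme.SpecMap_stalkSpecializes_fromSpecStalk hgy
  let i₂ : Spec (.of (vs X x hx)) ⟶ ⊤_ Scheme := terminal.from _
  have hsq : CommSq i₁ (Spec.map (CommRingCat.ofHom (algebraMap (vs X x hx) X.functionField)))
      (terminal.from X) i₂ := ⟨terminal.hom_ext _ _⟩
  let S : ValuativeCommSq (terminal.from X) :=
    { R := vs X x hx, K := X.functionField, i₁ := i₁, i₂ := i₂, commSq := hsq }
  have huniq : Subsingleton S.commSq.LiftStruct :=
    IsSeparated.valuativeCriterion (terminal.from X) S
  let Lx : S.commSq.LiftStruct := ⟨lx, hlx, terminal.hom_ext _ _⟩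
  let Ly : S.commSq.LiftStruct := ⟨ly, hly, terminal.hom_ext _ _⟩
  have hL : lx = ly := congrArg CommSq.LiftStruct.l (Subsingleton.elim Lx Ly)
  have h1 : lx (closedPoint (vs X x hx)) = x := by
    simp only [lx]
    rw [Scheme.Hom.comp_apply, Spec_closedPoint, Scheme.fromSpecStalk_closedPoint]
  have h2 : ly (closedPoint (vs X x hx)) = y := by
    simp only [ly]
    rw [Scheme.Hom.comp_apply, Spec_closedPoint, Scheme.fromSpecStalk_closedPoint]
  rw [← h1, ← h2, hL]

theorem main [IsNoetherian X] [X.IsSeparated]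
    (hnor : ∀ x : X, IsIntegrallyClosed (X.presheaf.stalk x))
    {r : ℕ} (ξ : Fin r → X) (hξ : Function.Injective ξ)
    (hcodim : ∀ i, ringKrullDim (X.presheaf.stalk (ξ i)) = 1) (n : Fin r → ℤ) :
    ∃ f : X.functionField, f ≠ 0 ∧ ∀ i : Fin r,
      ∃ (ϖ : X.presheaf.stalk (ξ i)) (_ : Irreducible ϖ) (w : (X.presheaf.stalk (ξ i))ˣ),
        f = algebraMap (X.presheaf.stalk (ξ i)) X.functionField (w : X.presheaf.stalk (ξ i)) *
          algebraMap (X.presheaf.stalk (ξ i)) X.functionField ϖ ^ (n i) := by
  classical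
  have hdvr : ∀ i, IsDiscreteValuationRing (X.presheaf.stalk (ξ i)) := fun i =>
    haveI := hnor (ξ i)
    dvr_of_dim_one _ (hcodim i)
  have hval : ∀ i, ∀ a : X.functionField,
      a ∈ (algebraMap (X.presheaf.stalk (ξ i)) X.functionField).range ∨
      a⁻¹ ∈ (algebraMap (X.presheaf.stalk (ξ i)) X.functionField).range := fun i =>
    haveI := hdvr i
    vs_valuation_of X (ξ i)
  let O : Fin r → ValuationSubring X.functionField := fun i => vs X (ξ i) (hval i)
  let e : ∀ i, X.presheaf.stalk (ξ i) ≃+* O i := fun i =>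
    RingEquiv.ofBijective (toVS X (ξ i) (hval i)) (toVS_bijective X (ξ i) (hval i))
  have he : ∀ i (a : X.presheaf.stalk (ξ i)), ((e i a : O i) : X.functionField)
      = algebraMap _ _ a := fun i a => rfl
  have hO : ∀ i, IsDiscreteValuationRing (O i) := fun i =>
    haveI := hdvr i
    IsDiscreteValuationRing.RingEquivClass.isDiscreteValuationRing (e i)
  have hOinj : Function.Injective O := by
    intro i j hij
    exact hξ (eq_of_vs_eq X (ξ i) (ξ j) (hval i) (hval j) hij)
  obtain ⟨f, hf⟩ := Groth.Agent.Lib.WeakApproxH3.main O hO hOinj (fun _ => 0) n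
  have key : ∀ i : Fin r,
      ∃ (ϖ : X.presheaf.stalk (ξ i)) (_ : Irreducible ϖ) (w : (X.presheaf.stalk (ξ i))ˣ),
        f = algebraMap (X.presheaf.stalk (ξ i)) X.functionField (w : X.presheaf.stalk (ξ i)) *
          algebraMap (X.presheaf.stalk (ξ i)) X.functionField ϖ ^ (n i) := by
    intro i
    obtain ⟨ϖ, hϖ, w, hw⟩ := hf i
    rw [sub_zero] at hw
    refine ⟨(e i).symm ϖ, ?_, Units.map (e i).symm.toRingHom.toMonoidHom w, ?_⟩
    · exact (MulEquiv.irreducible_iff (e i).symm.toMulEquiv).mpr hϖ
    · rw [hw]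
      congr 1
      · rw [← he i]
        simp
      · congr 1
        rw [← he i]
        simp
  by_cases hr : r = 0
  · subst hr
    exact ⟨1, one_ne_zero, fun i => i.elim0⟩
  · refine ⟨f, ?_, key⟩
    obtain ⟨ϖ, hϖ, w, hw⟩ := key ⟨0, Nat.pos_of_ne_zero hr⟩
    rw [hw]
    have hinj := IsFractionRing.injective (X.presheaf.stalk (ξ ⟨0, Nat.pos_of_ne_zero hr⟩))
      X.functionField
    refine mul_ne_zero ?_ (zpow_ne_zero _ ?_)
    · intro h0
      exact w.ne_zero (hinj (by rw [h0, map_zero]))
    · intro h0
      exact hϖ.ne_zero (hinj (by rw [h0, map_zero]))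

end

end Groth.Agent.Lib.WeakApproxSchH3
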