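import Groth.Prelude.Def_AlgSpModX
import Groth.Agent.Lib.AlgSpReduced_helper7
import Groth.Agent.Lib.IdealEtB_helper7

/-!
# Weakly associated points on the small étale site of an algebraic space, part 1 (helper7)
Algebra of annihilators and minimal primes; the prime of a point of an affine chart; the structure
sheaf of a reduced space.
APPEND-ONLY once landed.
-/

set_option backward.isDefEq.respectTransparency false
set_option backward.isDefEq.respectTransparency.types false
set_option linter.style.haveILetI false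
set_option linter.unusedSectionVars false
set_option linter.unusedVariables false
set_option autoImplicit false
set_option maxHeartbeats 1600000
universe u
open CategoryTheory CategoryTheory.Limits AlgebraicGeometry Opposite

namespace Groth.Agent.Lib.WeakAssEtH7

open AlgSp Groth.Agent.Lib.AlgSpPoints_helper7 Groth.Agent.Lib.AlgSpPullback_helper7
  Groth.Agent.Lib.IdealEtBH7

section Algebra

variable {A : Type*} [CommRing A]

theorem mem_minimalPrimes_of_le {I J p : Ideal A} (hp : p ∈ I.minimalPrimes) (hIJ : I ≤ J)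
    (hJp : J ≤ p) : p ∈ J.minimalPrimes :=
  ⟨⟨hp.1.1, hJp⟩, fun q hq hqp => hp.2 ⟨hq.1, hIJ.trans hq.2⟩ hqp⟩

/-- In a reduced ring a prime minimal over the annihilator of an element is a minimal prime. -/
theorem mem_minimalPrimes_bot_of_isReduced [IsReduced A] (s : A) (I : Ideal A)
    (hI : ∀ a, a ∈ I ↔ a * s = 0) {p : Ideal A} (hp : p ∈ I.minimalPrimes) :
    p ∈ minimalPrimes A := by
  haveI hpp : p.IsPrime := hp.1.1
  by_contra hcon
  have hs : ∀ q : Ideal A, q.IsPrime → q ≤ p → s ∈ q := by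
    intro q hq hqp
    by_contra hsq
    haveI := hq
    obtain ⟨q₀, hq₀, hq₀q⟩ := Ideal.exists_minimalPrimes_le (show (⊥ : Ideal A) ≤ q from bot_le)
    haveI hq₀p : q₀.IsPrime := hq₀.1.1
    have hsq₀ : s ∉ q₀ := fun h => hsq (hq₀q h)
    have hIq₀ : I ≤ q₀ := by
      intro a ha
      have h0 : a * s ∈ q₀ := by
        rw [(hI a).1 ha]
        exact q₀.zero_mem
      exact (hq₀p.mem_or_mem h0).resolve_right hsq₀
    have hpq₀ : p ≤ q₀ := hp.2 ⟨hq₀p, hIq₀⟩ (hq₀q.trans hqp)
    have hpe : p = q₀ := le_antisymm hpq₀ (hq₀q.trans hqp)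
    apply hcon
    rw [hpe]
    exact hq₀
  have h0 : ∃ t, t ∉ p ∧ ∃ n : ℕ, t * s ^ n = 0 := by
    by_contra hne
    have hne' : ∀ t, t ∉ p → ∀ n : ℕ, t * s ^ n ≠ 0 := by
      intro t ht n h
      exact hne ⟨t, ht, n, h⟩
    have hdisj : Disjoint ((⊥ : Ideal A) : Set A)
        ((p.primeCompl ⊔ Submonoid.powers s : Submonoid A) : Set A) := by
      rw [Set.disjoint_left]
      intro x hx hxT
      have hx0 : x = 0 := hx
      obtain ⟨y, hy, z, hz, hyz⟩ := Submonoid.mem_sup.1 hxT
      obtain ⟨n, rfl⟩ := hz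
      exact hne' y hy n (hyz.trans hx0)
    obtain ⟨q, hq, -, hqd⟩ := Ideal.exists_le_prime_disjoint ⊥ _ hdisj
    have hqp : q ≤ p := by
      intro a ha
      by_contra hap
      exact Set.disjoint_left.1 hqd ha (Submonoid.mem_sup_left hap)
    have hsq : s ∈ q := hs q hq hqp
    exact Set.disjoint_left.1 hqd hsq (Submonoid.mem_sup_right (Submonoid.mem_powers s))
  obtain ⟨t, htp, n, hn⟩ := h0
  have hnil : IsNilpotent (t * s) := by
    refine ⟨n + 1, ?_⟩
    have e : (t * s) ^ (n + 1) = t ^ n * s * (t * s ^ n) := by ring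
    rw [e, hn, mul_zero]
  have hts : t * s = 0 := hnil.eq_zero
  exact htp (hp.1.2 ((hI t).2 hts))

variable {R : Type*} [Ring R] (φ : A →+* R)

/-- the annihilator in `A` of an element of an `R`-module -/
def annOf {M : Type*} [AddCommGroup M] [Module R M] (m : M) : Ideal A :=
  Ideal.comap φ (LinearMap.ker (LinearMap.toSpanSingleton R M m))

theorem mem_annOf {M : Type*} [AddCommGroup M] [Module R M] (m : M) (a : A) :
    a ∈ annOf φ m ↔ φ a • m = 0 := Iff.rfl

/-- weakly associated primes in a left exact sequence, element form -/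
theorem minimalPrimes_annOf_of_exact {M' M M'' : Type*} [AddCommGroup M'] [Module R M']
    [AddCommGroup M] [Module R M] [AddCommGroup M''] [Module R M'']
    (i : M' →ₗ[R] M) (π : M →ₗ[R] M'') (hex : ∀ m, π m = 0 → ∃ m', i m' = m)
    (hinj : Function.Injective i) (m : M) {p : Ideal A} (hp : p ∈ (annOf φ m).minimalPrimes) :
    p ∈ (annOf φ (π m)).minimalPrimes ∨ ∃ m' : M', p ∈ (annOf φ m').minimalPrimes := by
  haveI hpp : p.IsPrime := hp.1.1
  have hle : annOf φ m ≤ annOf φ (π m) := by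
    intro a ha
    rw [mem_annOf] at ha ⊢
    rw [← map_smul, ha, map_zero]
  by_cases hc : annOf φ (π m) ≤ p
  · exact Or.inl (mem_minimalPrimes_of_le hp hle hc)
  · right
    obtain ⟨f, hf, hfp⟩ := Set.not_subset.1 hc
    have hf' : φ f • π m = 0 := (mem_annOf φ (π m) f).1 hf
    obtain ⟨m', hm'⟩ := hex (φ f • m) (by rw [map_smul, hf'])
    refine ⟨m', mem_minimalPrimes_of_le hp ?_ ?_⟩
    · intro a ha
      rw [mem_annOf] at ha ⊢
      apply hinj
      rw [map_smul, hm', map_zero, ← mul_smul, ← map_mul, mul_comm, map_mul, mul_smul, ha,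
        smul_zero]
    · intro g hg
      rw [mem_annOf] at hg
      have h1 : φ (g * f) • m = 0 := by
        have := congrArg i hg
        rw [map_smul, hm', map_zero] at this
        rw [map_mul, mul_smul]
        exact this
      have h2 : g * f ∈ p := hp.1.2 ((mem_annOf φ m (g * f)).2 h1)
      exact (hpp.mem_or_mem h2).resolve_right hfp

/-- a nonzero element has a weakly associated prime -/
theorem exists_minimalPrimes_annOf {M : Type*} [AddCommGroup M] [Module R M] (m : M)
    (hm : m ≠ 0) : ∃ p : Ideal A, p ∈ (annOf φ m).minimalPrimes := by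
  have hne : annOf φ m ≠ ⊤ := by
    intro h
    have h1 : (1 : A) ∈ annOf φ m := by rw [h]; trivial
    rw [mem_annOf, map_one, one_smul] at h1
    exact hm h1
  obtain ⟨q, hq, hqle⟩ := Ideal.exists_le_maximal _ hne
  haveI := hq.isPrime
  obtain ⟨p, hp, -⟩ := Ideal.exists_minimalPrimes_le hqle
  exact ⟨p, hp⟩

end Algebra

section Affine

theorem primeAtPt_eq_primeIdealOf (U : Scheme.{u}) [IsAffine U] (u : U) :
    primeAtPt U u = ((isAffineOpen_top U).primeIdealOf ⟨u, trivial⟩).asIdeal := by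
  rw [IsAffineOpen.primeIdealOf_eq_map_closedPoint]
  rfl

theorem exists_primeAtPt_eq (U : Scheme.{u}) [IsAffine U] (p : Ideal Γ(U, ⊤)) [hp : p.IsPrime] :
    ∃ u : U, primeAtPt U u = p := by
  obtain ⟨hU, hU'⟩ : ∃ h : IsAffineOpen (⊤ : U.Opens), h = isAffineOpen_top U := ⟨_, rfl⟩
  obtain ⟨q, hq⟩ : ∃ q : PrimeSpectrum Γ(U, ⊤), q = ⟨p, hp⟩ := ⟨_, rfl⟩
  obtain ⟨x, hx⟩ : ∃ x : (⊤ : U.Opens), x = hU.isoSpec.inv q := ⟨_, rfl⟩
  refine ⟨x.1, ?_⟩
  rw [primeAtPt_eq_primeIdealOf]
  have h1 : hU.primeIdealOf ⟨x.1, trivial⟩ = q := by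
    show hU.isoSpec.hom x = q
    rw [hx, ← Scheme.Hom.comp_apply, Iso.inv_hom_id]
    rfl
  subst hU'
  rw [h1, hq]

theorem ringKrullDim_stalk_eq_zero_iff (U : Scheme.{u}) [IsAffine U] (u : U) :
    ringKrullDim (U.presheaf.stalk u) = 0 ↔ primeAtPt U u ∈ minimalPrimes Γ(U, ⊤) := by
  rw [primeAtPt_eq_primeIdealOf]
  letI : Algebra Γ(U, ⊤) (U.presheaf.stalk u) :=
    TopCat.Presheaf.algebra_section_stalk U.presheaf (⟨u, trivial⟩ : (⊤ : U.Opens))
  haveI hloc : IsLocalization.AtPrime (U.presheaf.stalk u)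
      ((isAffineOpen_top U).primeIdealOf ⟨u, trivial⟩).asIdeal :=
    (isAffineOpen_top U).isLocalization_stalk ⟨u, trivial⟩
  rw [IsLocalization.AtPrime.ringKrullDim_eq_height
    ((isAffineOpen_top U).primeIdealOf ⟨u, trivial⟩).asIdeal (U.presheaf.stalk u),
    ← Ideal.height_eq_zero_iff]
  exact_mod_cast Iff.rfl

end Affine

section Unit

variable {S : Scheme.{u}} {X : Sp S}

/-- sections of the structure sheaf are functions -/
def secEquiv (E : EtOver X) : sectModEt (unitModEt X) E ≃ Γ(E.obj.left.left, ⊤) where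
  toFun s := ULift.down (show ULift.{u + 1} Γ(E.obj.left.left, ⊤) from s)
  invFun a := (show sectModEt (unitModEt X) E from
    (ULift.up a : ULift.{u + 1} Γ(E.obj.left.left, ⊤)))
  left_inv s := rfl
  right_inv a := rfl

theorem mem_annSect_unit_iff (E : EtOver X) (s : sectModEt (unitModEt X) E)
    (a : Γ(E.obj.left.left, ⊤)) :
    a ∈ annSect s ↔ a * secEquiv E s = 0 := by
  rw [mem_annSect_iff]
  constructor
  · intro h
    exact congrArg (secEquiv E) h
  · intro h
    apply (secEquiv E).injective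
    exact h

/-- S10805 -/
theorem main10805 (X : AlgSp.Space S) (hX : AlgSp.IsReducedSp X.obj)
    (x : AlgSp.Points X.obj) :
    x ∈ AlgSp.WeakAssEt (AlgSp.unitModEt X.obj) ↔
      AlgSp.HasAt (fun U u => ringKrullDim ↥(U.presheaf.stalk u) = 0) X.obj x := by
  constructor
  · rintro ⟨E, hE, u, hu, s, hs⟩
    haveI := hE
    haveI hred : IsReduced E.obj.left.left :=
      Groth.Agent.Lib.AlgSpReduced_helper7.isReduced_chart_of_isReducedSp X.property hX
        E.obj.hom E.property
    haveI : IsReduced Γ(E.obj.left.left, ⊤) := inferInstance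
    refine ⟨E.obj.left, E.obj.hom, u, E.property, hu, ?_⟩
    show ringKrullDim (E.obj.left.left.presheaf.stalk u) = 0
    rw [ringKrullDim_stalk_eq_zero_iff]
    exact mem_minimalPrimes_bot_of_isReduced (secEquiv E s) (annSect s)
      (mem_annSect_unit_iff E s) hs
  · rintro ⟨U, a, u, hae, hu, hd⟩
    obtain ⟨i, z, hz⟩ := U.left.affineCover.exists_eq u
    obtain ⟨V, hV⟩ : ∃ V : U.left.Opens, V = (U.left.affineCover.f i).opensRange := ⟨_, rfl⟩
    have hVaff : IsAffineOpen V := by
      rw [hV]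
      exact isAffineOpen_opensRange (U.left.affineCover.f i)
    have huV : u ∈ V := by
      rw [hV, ← hz]
      exact ⟨z, rfl⟩
    haveI : IsAffine (chartOpen a hae V).obj.left.left := hVaff
    refine ⟨chartOpen a hae V, hVaff, (⟨u, huV⟩ : V), ?_, ?_⟩
    · show Points.ofPt ((yon S).map (openι U V) ≫ a) (⟨u, huV⟩ : V) = x
      rw [ofPt_comp, ← hu]
      rfl
    · refine ⟨(secEquiv (chartOpen a hae V)).symm 1, ?_⟩
      have hbot : annSect ((secEquiv (chartOpen a hae V)).symm 1) = ⊥ := by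
        ext b
        rw [mem_annSect_unit_iff, Equiv.apply_symm_apply, mul_one, Ideal.mem_bot]
      rw [hbot]
      show primeAtPt (V : Scheme.{u}) (⟨u, huV⟩ : V) ∈ minimalPrimes Γ((V : Scheme.{u}), ⊤)
      haveI : IsAffine (V : Scheme.{u}) := hVaff
      rw [← ringKrullDim_stalk_eq_zero_iff, ← hd]
      exact ringKrullDim_eq_of_ringEquiv
        (asIso (Scheme.Hom.stalkMap V.ι (⟨u, huV⟩ : V))).commRingCatIsoToRingEquiv.symm

end Unit

end Groth.Agent.Lib.WeakAssEtH7
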