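import Groth.Agent.Lib.WeakAssEt1_helper7
import Groth.Agent.Lib.EtLocRinged_helper7

/-!
# Weakly associated points on the small étale site of an algebraic space, part 2 (helper7)
Sections of modules: left exactness, zero modules, separatedness; `IsZero M ↔ WeakAss M = ∅`;
weakly associated points in short exact sequences.
APPEND-ONLY once landed.
-/

set_option backward.isDefEq.respectTransparency false
set_option backward.isDefEq.respectTransparency.types false
set_option linter.style.haveILetI false
set_option linter.unusedSectionVars false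
set_option linter.unusedVariables false
set_option autoImplicit false
set_option maxHeartbeats 1600000
universe u
open CategoryTheory CategoryTheory.Limits AlgebraicGeometry Opposite

namespace Groth.Agent.Lib.WeakAssEtH7

open AlgSp Groth.Agent.Lib.AlgSpPoints_helper7 Groth.Agent.Lib.AlgSpPullback_helper7
  Groth.Agent.Lib.IdealEtBH7 Groth.Agent.Lib.EtLocRinged_helper7
  Groth.Agent.Lib.EtStalkPt_helper7

variable {S : Scheme.{u}} {X : Sp S}

/-- the sections functor -/
noncomputable abbrev secF (E : EtOver X) :
    ModEt X ⥤ ModuleCat.{u + 1} ((OEtRing X).obj.obj (op E)) :=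
  SheafOfModules.evaluation (OEtRing X) (op E)

instance additive_secF (E : EtOver X) : (secF E).Additive := by
  dsimp only [secF, SheafOfModules.evaluation]
  infer_instance

theorem annSect_eq_annOf {M : ModEt X} {E : EtOver X} (s : sectModEt M E) :
    annSect s = annOf (upΓ E) s := rfl

theorem app_injective_of_mono {M N : ModEt X} (f : M ⟶ N) [Mono f] (E : EtOver X) :
    Function.Injective (f.val.app (op E)).hom := by
  haveI : Mono ((secF E).map f) := inferInstance
  exact (ModuleCat.mono_iff_injective _).1 this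

theorem app_exact (C : ShortComplex (ModEt X)) (hC : C.ShortExact) (E : EtOver X)
    (m : sectModEt C.X₂ E) (hm : (C.g.val.app (op E)).hom m = 0) :
    ∃ m' : sectModEt C.X₁ E, (C.f.val.app (op E)).hom m' = m := by
  haveI := hC.mono_f
  have h := hC.exact.map_of_mono_of_preservesKernel (secF E) inferInstance inferInstance
  exact (ShortComplex.moduleCat_exact_iff _).1 h m hm

theorem subsingleton_sect_of_isZero {M : ModEt X} (hM : IsZero M) (E : EtOver X) :
    Subsingleton (sectModEt M E) := by
  have h : IsZero ((secF E).obj M) := (secF E).map_isZero hM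
  exact ModuleCat.subsingleton_of_isZero h

theorem isZero_of_subsingleton_sect {M : ModEt X}
    (h : ∀ E : EtOver X, Subsingleton (sectModEt M E)) : IsZero M := by
  rw [IsZero.iff_id_eq_zero]
  apply SheafOfModules.hom_ext
  apply PresheafOfModules.hom_ext
  intro E
  apply ModuleCat.hom_ext
  apply LinearMap.ext
  intro s
  haveI := h E.unop
  exact Subsingleton.elim _ _

/-- separatedness of a module for coverings -/
theorem sect_eq_zero_of_cover {M : ModEt X} {E : EtOver X} (s : sectModEt M E)
    (h : ∀ x : ↥E.obj.left.left, ∃ (E' : EtOver X) (g : E' ⟶ E),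
      x ∈ Set.range g.hom.left.left ∧ M.val.map g.op s = 0) : s = 0 := by
  obtain ⟨R, hR⟩ : ∃ R : Sieve E, R = 
      { arrows := fun V g => M.val.map g.op s = 0
        downward_closed := by
          intro V W g hg k
          show M.val.map (k ≫ g).op s = 0
          rw [op_comp, PresheafOfModules.map_comp]
          show M.val.map k.op (M.val.map g.op s) = 0
          rw [hg, map_zero] } := ⟨_, rfl⟩
  have hRmem : R ∈ etTop X E := by
    apply sieve_mem_of_forall_exists
    intro x
    obtain ⟨E', g, hx, hg⟩ := h x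
    refine ⟨E', g, ?_, hx⟩
    rw [hR]
    exact hg
  have hsep := (Sheaf.isSeparated ((SheafOfModules.toSheaf (OEtRing X)).obj M)) E R hRmem s 0
  apply hsep
  intro Y f hf
  rw [hR] at hf
  show M.val.map f.op s = M.val.map f.op 0
  rw [map_zero]
  exact hf

/-- a nonzero section stays nonzero on some affine open piece -/
theorem exists_affine_restrict_ne_zero {M : ModEt X} {E : EtOver X} (s : sectModEt M E)
    (hs : s ≠ 0) : ∃ (E' : EtOver X) (g : E' ⟶ E), IsAffine E'.obj.left.left ∧
      M.val.map g.op s ≠ 0 := by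
  by_contra hcon
  apply hs
  apply sect_eq_zero_of_cover s
  intro x
  obtain ⟨i, z, hz⟩ := E.obj.left.left.affineCover.exists_eq x
  obtain ⟨V, hV⟩ : ∃ V : E.obj.left.left.Opens,
      V = (E.obj.left.left.affineCover.f i).opensRange := ⟨_, rfl⟩
  have hVaff : IsAffineOpen V := by
    rw [hV]
    exact isAffineOpen_opensRange (E.obj.left.left.affineCover.f i)
  have hxV : x ∈ V := by
    rw [hV, ← hz]
    exact ⟨z, rfl⟩
  obtain ⟨g, hg⟩ : ∃ g : chartOpen E.obj.hom E.property V ⟶ E,
      g = EtOver.homMk (openι E.obj.left V) rfl := ⟨_, rfl⟩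
  refine ⟨chartOpen E.obj.hom E.property V, g, ?_, ?_⟩
  · rw [hg]
    show x ∈ Set.range V.ι
    rw [Scheme.Opens.range_ι]
    exact hxV
  · by_contra hne
    exact hcon ⟨_, g, hVaff, hne⟩

/-- S10810 -/
theorem main10810 (X : AlgSp.Space S) (M : AlgSp.ModEt X.obj) :
    IsZero M ↔ AlgSp.WeakAssEt M = ∅ := by
  constructor
  · intro hM
    rw [Set.eq_empty_iff_forall_notMem]
    rintro x ⟨E, hE, u, hu, s, hs⟩
    haveI := subsingleton_sect_of_isZero hM E
    have h0 : s = 0 := Subsingleton.elim _ _
    have htop : annSect s = ⊤ := by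
      rw [Ideal.eq_top_iff_one, mem_annSect_iff, h0, smul_zero]
    rw [htop, Ideal.minimalPrimes_top] at hs
    exact hs
  · intro hW
    by_contra hM
    have h1 : ¬ ∀ E : EtOver X.obj, Subsingleton (sectModEt M E) :=
      fun h => hM (isZero_of_subsingleton_sect h)
    obtain ⟨E, hE⟩ := not_forall.1 h1
    obtain ⟨s, hs⟩ : ∃ s : sectModEt M E, s ≠ 0 := by
      by_contra hcon
      apply hE
      refine ⟨fun a b => ?_⟩
      have ha : a = 0 := by
        by_contra h
        exact hcon ⟨a, h⟩
      have hb : b = 0 := by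
        by_contra h
        exact hcon ⟨b, h⟩
      rw [ha, hb]
    obtain ⟨E', g, hE', hs'⟩ := exists_affine_restrict_ne_zero s hs
    obtain ⟨p, hp⟩ := exists_minimalPrimes_annOf (upΓ E') (M.val.map g.op s) hs'
    haveI := hE'
    haveI : p.IsPrime := hp.1.1
    obtain ⟨u, hu⟩ := exists_primeAtPt_eq E'.obj.left.left p
    have hmem : Points.ofPt E'.obj.hom u ∈ WeakAssEt M :=
      ⟨E', hE', u, rfl, M.val.map g.op s, by rw [hu]; exact hp⟩
    rw [hW] at hmem
    exact hmem

/-- S10811 -/
theorem main10811 (X : AlgSp.Space S) (C : ShortComplex (AlgSp.ModEt X.obj))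
    (hC : C.ShortExact) :
    AlgSp.WeakAssEt C.X₂ ⊆ AlgSp.WeakAssEt C.X₁ ∪ AlgSp.WeakAssEt C.X₃ ∧
      AlgSp.WeakAssEt C.X₁ ⊆ AlgSp.WeakAssEt C.X₂ := by
  haveI := hC.mono_f
  constructor
  · rintro x ⟨E, hE, u, hu, s, hs⟩
    rw [annSect_eq_annOf] at hs
    rcases minimalPrimes_annOf_of_exact (upΓ E) (C.f.val.app (op E)).hom (C.g.val.app (op E)).hom
      (app_exact C hC E) (app_injective_of_mono C.f E) s hs with h | ⟨m', h⟩
    · exact Or.inr ⟨E, hE, u, hu, (C.g.val.app (op E)).hom s, h⟩
    · exact Or.inl ⟨E, hE, u, hu, m', h⟩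
  · rintro x ⟨E, hE, u, hu, s, hs⟩
    refine ⟨E, hE, u, hu, (C.f.val.app (op E)).hom s, ?_⟩
    have he : annSect ((C.f.val.app (op E)).hom s) = annSect s := by
      ext a
      rw [mem_annSect_iff, mem_annSect_iff, ← map_smul]
      constructor
      · intro h
        apply app_injective_of_mono C.f E
        rw [h, map_zero]
      · intro h
        rw [h, map_zero]
    rw [he]
    exact hs

end Groth.Agent.Lib.WeakAssEtH7
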