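import Groth.Agent.Lib.WeakAssEt3_helper7
import Groth.Agent.Lib.CartierSp_helper7

/-!
# Weakly associated points on the small étale site of an algebraic space, part 4 (helper7)
Pullback of an effective Cartier divisor missing the images of the weakly associated points.
APPEND-ONLY once landed.
-/

set_option backward.isDefEq.respectTransparency false
set_option backward.isDefEq.respectTransparency.types false
set_option linter.style.haveILetI false
set_option linter.unusedSectionVars false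
set_option linter.unusedVariables false
set_option autoImplicit false
set_option maxHeartbeats 1600000
universe u
open CategoryTheory CategoryTheory.Limits AlgebraicGeometry Opposite

namespace Groth.Agent.Lib.WeakAssEtH7

open AlgSp Groth.Agent.Lib.AlgSpPoints_helper7 Groth.Agent.Lib.AlgSpPullback_helper7
  Groth.Agent.Lib.IdealEtBH7 Groth.Agent.Lib.EtLocRinged_helper7
  Groth.Agent.Lib.EtStalkPt_helper7 Groth.Agent.Lib.CartierSpH7 Groth.Agent.Lib.AlgSpQC_helper7

variable {S : Scheme.{u}}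

/-- A generator of the ideal of a closed subscheme of a chart, none of whose points is weakly
associated, is a nonzerodivisor. -/
theorem nonZeroDivisor_of_weakAss {X : Sp S} {U' : Over S} (φ' : (yon S).obj U' ⟶ X)
    (hφ'e : RepWith @Etale φ') (K : U'.left.IdealSheafData)
    (hK : ∀ z : K.subscheme, Points.ofPt φ' (K.subschemeι z) ∉ WeakAssEt (unitModEt X))
    (W : U'.left.affineOpens) (g' : Γ(U'.left, W.1)) (hKW : K.ideal W = Ideal.span {g'}) :
    g' ∈ nonZeroDivisors Γ(U'.left, W.1) := by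
  rw [mem_nonZeroDivisors_iff_right]
  intro t ht
  by_contra htne
  haveI hEaff : IsAffine (chartOpen φ' hφ'e W.1).obj.left.left := W.2
  obtain ⟨ρ, hρ⟩ : ∃ ρ : Γ(U'.left, W.1) ⟶ Γ((W.1 : Scheme.{u}), ⊤), ρ = W.1.topIso.inv :=
    ⟨_, rfl⟩
  haveI : IsIso ρ := by rw [hρ]; infer_instance
  have hρinj : Function.Injective ρ.hom := (ConcreteCategory.bijective_of_isIso ρ).1
  have hρg : ∀ r : Γ(U'.left, W.1),
      W.1.ι ''ᵁ (W.1 : Scheme.{u}).basicOpen (ρ.hom r) = U'.left.basicOpen r := by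
    intro r
    rw [hρ]
    exact Scheme.Opens.ι_image_basicOpen_topIso_inv W.1 r
  have ht' : ρ.hom t ≠ 0 := by
    intro h0
    apply htne
    apply hρinj
    rw [h0, map_zero]
  have hgt : ρ.hom g' * ρ.hom t = 0 := by
    rw [← map_mul, mul_comm, ht, map_zero]
  obtain ⟨s, hs⟩ : ∃ s : sectModEt (unitModEt X) (chartOpen φ' hφ'e W.1),
      s = (secEquiv (chartOpen φ' hφ'e W.1)).symm (ρ.hom t) := ⟨_, rfl⟩
  have hsne : s ≠ 0 := by
    intro h0
    apply ht'
    have := congrArg (secEquiv (chartOpen φ' hφ'e W.1)) h0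
    rw [hs, Equiv.apply_symm_apply] at this
    exact this
  have hgs : ρ.hom g' ∈ annSect s := by
    rw [mem_annSect_unit_iff, hs, Equiv.apply_symm_apply]
    exact hgt
  obtain ⟨p, hp⟩ := exists_minimalPrimes_annOf (upΓ (chartOpen φ' hφ'e W.1)) s hsne
  haveI : p.IsPrime := hp.1.1
  obtain ⟨w', hw'⟩ := exists_primeAtPt_eq (chartOpen φ' hφ'e W.1).obj.left.left p
  have hmem : Points.ofPt (chartOpen φ' hφ'e W.1).obj.hom w' ∈ WeakAssEt (unitModEt X) :=
    ⟨chartOpen φ' hφ'e W.1, hEaff, w', rfl, s, by rw [hw']; exact hp⟩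
  have hgp : ρ.hom g' ∈ primeAtPt (W.1 : Scheme.{u}) w' := by
    have h1 : ρ.hom g' ∈ p := hp.1.2 hgs
    rw [← hw'] at h1
    exact h1
  rw [mem_primeAtPt_iff] at hgp
  have hw'W : (W.1.ι w' : U'.left) ∈ W.1 := by
    have : W.1.ι w' ∈ Set.range W.1.ι := ⟨w', rfl⟩
    rw [Scheme.Opens.range_ι] at this
    exact this
  have hsupp : (W.1.ι w' : U'.left) ∈ K.support := by
    rw [Scheme.IdealSheafData.mem_support_iff_of_mem (U := W) hw'W, Scheme.mem_zeroLocus_iff]
    intro r hr hwr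
    rw [SetLike.mem_coe, hKW, Ideal.mem_span_singleton] at hr
    obtain ⟨b, rfl⟩ := hr
    have h1 : W.1.ι w' ∈ U'.left.basicOpen g' := by
      have h2 := hwr
      rw [Scheme.basicOpen_mul] at h2
      exact h2.1
    rw [← hρg g'] at h1
    obtain ⟨w'', hw'', e⟩ := h1
    have : w'' = w' := W.1.ι.isOpenEmbedding.injective e
    rw [this] at hw''
    exact hgp hw''
  rw [← SetLike.mem_coe, ← Scheme.IdealSheafData.range_subschemeι] at hsupp
  obtain ⟨z, hz⟩ := hsupp
  apply hK z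
  rw [hz]
  have : Points.ofPt (chartOpen φ' hφ'e W.1).obj.hom w' = Points.ofPt φ' (W.1.ι w') := by
    show Points.ofPt ((yon S).map (openι U' W.1) ≫ φ') w' = _
    rw [ofPt_comp]
    rfl
  rw [← this]
  exact hmem

/-- S10796 -/
theorem main10796 (X Y D P : AlgSp.Space S) (f : X ⟶ Y) (i : D ⟶ Y)
    (hD : AlgSp.IsEffCartierSub i.hom)
    (h : ∀ x ∈ AlgSp.WeakAssEt (AlgSp.unitModEt X.obj),
      AlgSp.Points.map f.hom x ∉ Set.range (AlgSp.Points.map i.hom))
    (fst : P ⟶ D) (snd : P ⟶ X) (hP : IsPullback fst.hom snd.hom i.hom f.hom) :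
    AlgSp.IsEffCartierSub snd.hom := by
  obtain ⟨hci, V, φ, I, fstD, hφe, hφs, sqD, hI⟩ := hD
  obtain ⟨A, a, hae, has⟩ := X.property.atlas
  obtain ⟨U', hU'⟩ : ∃ U' : Over S, U' = hφe.rep.pullback (a ≫ f.hom) := ⟨_, rfl⟩
  obtain ⟨c, e, sq1⟩ : ∃ (c : U' ⟶ V) (e : U' ⟶ A),
      IsPullback ((yon S).map c) ((yon S).map e) φ (a ≫ f.hom) := by
    subst hU'
    exact ⟨hφe.rep.fst' (a ≫ f.hom), hφe.rep.snd (a ≫ f.hom), hφe.rep.isPullback' (a ≫ f.hom)⟩
  have he : Etale e.left := hφe.property _ _ _ sq1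
  have hes : Surjective e.left := hφs.property _ _ _ sq1
  obtain ⟨φ', hφ'⟩ : ∃ φ' : (yon S).obj U' ⟶ X.obj, φ' = (yon S).map e ≫ a := ⟨_, rfl⟩
  have hφ'e : RepWith @Etale φ' := by
    rw [hφ']
    exact repWith_comp @Etale ((repWith_yon_map_iff _ _).2 he) hae
  have hφ's : RepWith @Surjective φ' := by
    rw [hφ']
    exact repWith_comp @Surjective ((repWith_yon_map_iff _ _).2 hes) has
  have hw : φ' ≫ f.hom = (yon S).map c ≫ φ := by
    rw [hφ']
    exact (Category.assoc _ _ _).trans sq1.w.symm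
  obtain ⟨fst', big⟩ := exists_chart_comap i.hom φ I fstD sqD c
  rw [← hw] at big
  have hcomm : fst' ≫ i.hom = ((yon S).map (Over.homMk (I.comap c.left).subschemeι rfl :
      Over.mk ((I.comap c.left).subschemeι ≫ U'.hom) ⟶ U') ≫ φ') ≫ f.hom :=
    big.w.trans (Category.assoc _ _ _).symm
  obtain ⟨fstP, hl1, hl2⟩ : ∃ fstP : (yon S).obj (Over.mk ((I.comap c.left).subschemeι ≫ U'.hom))
      ⟶ P.obj, fstP ≫ fst.hom = fst' ∧
      fstP ≫ snd.hom = (yon S).map (Over.homMk (I.comap c.left).subschemeι rfl :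
        Over.mk ((I.comap c.left).subschemeι ≫ U'.hom) ⟶ U') ≫ φ' :=
    ⟨hP.lift fst' _ hcomm, hP.lift_fst _ _ _, hP.lift_snd _ _ _⟩
  have sqL : IsPullback fstP ((yon S).map (Over.homMk (I.comap c.left).subschemeι rfl :
      Over.mk ((I.comap c.left).subschemeι ≫ U'.hom) ⟶ U')) snd.hom φ' := by
    refine IsPullback.of_right ?_ hl2 hP
    rw [hl1]
    exact big
  have hK : ∀ z : (I.comap c.left).subscheme,
      Points.ofPt φ' ((I.comap c.left).subschemeι z) ∉ WeakAssEt (unitModEt X.obj) := by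
    intro z hz
    apply h _ hz
    refine ⟨Points.map fst.hom (Points.ofPt fstP z), ?_⟩
    rw [← Points.map_comp, hP.w, Points.map_comp, Points.map_ofPt, hl2, ofPt_comp]
    rfl
  refine ⟨repWith_snd_of_isPullback @IsClosedImmersion hP hci, U', φ', I.comap c.left, fstP,
    hφ'e, hφ's, sqL, ?_⟩
  intro x
  obtain ⟨U, hxU, g, hg, hIU⟩ := hI (c.left x)
  obtain ⟨W, hxW, hWU⟩ := Groth.Agent.Lib.CartierFlat.exists_affine_le x (c.left ⁻¹ᵁ U.1) hxU
  have hKW : (I.comap c.left).ideal W = Ideal.span {(c.left.appLE U.1 W.1 hWU).hom g} := by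
    rw [Groth.Agent.Lib.ComapIdeal_helper4.comap_ideal_eq c.left I U W hWU, hIU, Ideal.map_span,
      Set.image_singleton]
  exact ⟨W, hxW, (c.left.appLE U.1 W.1 hWU).hom g,
    nonZeroDivisor_of_weakAss φ' hφ'e (I.comap c.left) hK W _ hKW, hKW⟩

end Groth.Agent.Lib.WeakAssEtH7
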