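import Mathlib
import Groth.Agent.S1233
import Groth.Agent.Lib.WeakAssLoc_helper4
import Groth.Agent.Lib.ShEssEtSat_helper3
import Groth.Agent.Lib.Unibranch3_helper3
import Groth.Agent.Lib.StrictHens8_helper3

/-!
# Weakly associated primes and local ind-étale algebras (helper3)

For a local ind-étale algebra `S` over a local ring `R` (local structure map) and an `R`-module `N`,
the maximal ideal of `S` is weakly associated to `S ⊗ N` iff the maximal ideal of `R` is weakly
associated to `N`.
-/

set_option autoImplicit false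
universe u

open TensorProduct FlatCA IsLocalRing Groth.Agent.Lib.WeakAss_helper4

namespace Groth.Agent.Lib.WeakAssIndEtaleH3

section

variable {R S : Type u} [CommRing R] [IsLocalRing R] [CommRing S] [IsLocalRing S] [Algebra R S]
  [IsLocalHom (algebraMap R S)]

open Groth.Agent.Lib.ShUnramEssEtH3 in
theorem map_maximalIdeal_of_isIndEtale (hie : EtPBC.IsIndEtale R S) :
    (maximalIdeal R).map (algebraMap R S) = maximalIdeal S := by
  classical
  haveI : Module.Flat R S := Groth.Agent.Lib.IndEtaleH3.flat_of_isIndEtale hie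
  apply le_antisymm
  · exact ((local_hom_TFAE (algebraMap R S)).out 0 2).mp ‹IsLocalHom (algebraMap R S)›
  · intro x hx
    obtain ⟨C, _, _, hC, f, hf⟩ := Groth.Agent.Lib.IndEtaleH3.exists_finset_of_isIndEtale hie {x}
    haveI := hC
    obtain ⟨c, rfl⟩ := hf x (Finset.mem_singleton_self x)
    have hcq : c ∈ qOf R S C f := by
      rw [mem_qOf]
      exact hx
    have hq : (qOf R S C f).comap (algebraMap R C) = maximalIdeal R := comap_qOf R S C f
    haveI : IsLocalHom (algebraMap R (Localization.AtPrime (qOf R S C f))) := by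
      refine ⟨fun a ha => ?_⟩
      rw [IsScalarTower.algebraMap_apply R C (Localization.AtPrime (qOf R S C f)),
        IsLocalization.AtPrime.isUnit_to_map_iff _ (qOf R S C f)] at ha
      have h1 : a ∉ (qOf R S C f).comap (algebraMap R C) := ha
      rw [hq] at h1
      by_contra h2
      exact h1 h2
    haveI : Algebra.FormallyUnramified C (Localization.AtPrime (qOf R S C f)) :=
      Algebra.FormallyUnramified.of_isLocalization (qOf R S C f).primeCompl
    haveI : Algebra.FormallyUnramified R (Localization.AtPrime (qOf R S C f)) :=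
      Algebra.FormallyUnramified.comp R C _
    haveI : Algebra.EssFiniteType C (Localization.AtPrime (qOf R S C f)) :=
      Algebra.EssFiniteType.of_isLocalization _ (qOf R S C f).primeCompl
    haveI : Algebra.EssFiniteType R (Localization.AtPrime (qOf R S C f)) :=
      Algebra.EssFiniteType.comp R C _
    have hm : (maximalIdeal R).map (algebraMap R (Localization.AtPrime (qOf R S C f))) =
        maximalIdeal _ := Algebra.FormallyUnramified.map_maximalIdeal
    have h1 : algebraMap C (Localization.AtPrime (qOf R S C f)) c ∈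
        ((maximalIdeal R).map (algebraMap R C)).map
          (algebraMap C (Localization.AtPrime (qOf R S C f))) := by
      rw [Ideal.map_map, ← IsScalarTower.algebraMap_eq, hm,
        IsLocalization.AtPrime.to_map_mem_maximal_iff _ (qOf R S C f)]
      exact hcq
    rw [IsLocalization.mem_map_algebraMap_iff (qOf R S C f).primeCompl] at h1
    obtain ⟨⟨i, s⟩, his⟩ := h1
    have h2 := congrArg (fh R S C f) his
    rw [map_mul, fh_algebraMap, fh_algebraMap, fh_algebraMap] at h2
    have hsu : IsUnit (f (s : C)) := isUnit_of_primeCompl R S C f s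
    have hi : f (i : C) ∈ (maximalIdeal R).map (algebraMap R S) := by
      have h3 : f.toRingHom (i : C) ∈ ((maximalIdeal R).map (algebraMap R C)).map f.toRingHom :=
        Ideal.mem_map_of_mem _ i.2
      rw [Ideal.map_map] at h3
      have h4 : f.toRingHom.comp (algebraMap R C) = algebraMap R S := f.comp_algebraMap
      rw [h4] at h3
      exact h3
    obtain ⟨v, hv⟩ := hsu.exists_right_inv
    have h5 : f c = f (i : C) * v := by
      rw [← h2, mul_assoc, hv, mul_one]
    rw [h5]
    exact Ideal.mul_mem_right _ _ hi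

/-- every element of `S ⊗ N` comes from `C ⊗ N` for some étale `C` -/
theorem exists_finset_rTensor (N : Type u) [AddCommGroup N] [Module R N] (z : S ⊗[R] N) :
    ∃ T : Finset S, ∀ (C : Type u) [CommRing C] [Algebra R C] (f : C →ₐ[R] S),
      (∀ t ∈ T, t ∈ Set.range f) → ∃ zC : C ⊗[R] N, LinearMap.rTensor N f.toLinearMap zC = z := by
  classical
  induction z using TensorProduct.induction_on with
  | zero => exact ⟨∅, fun C _ _ f _ => ⟨0, map_zero _⟩⟩
  | tmul s x =>
    refine ⟨{s}, fun C _ _ f hf => ?_⟩
    obtain ⟨c, hc⟩ := hf s (Finset.mem_singleton_self s)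
    exact ⟨c ⊗ₜ x, by rw [LinearMap.rTensor_tmul, AlgHom.toLinearMap_apply, hc]⟩
  | add z₁ z₂ h₁ h₂ =>
    obtain ⟨T₁, hT₁⟩ := h₁
    obtain ⟨T₂, hT₂⟩ := h₂
    refine ⟨T₁ ∪ T₂, fun C _ _ f hf => ?_⟩
    obtain ⟨y₁, hy₁⟩ := hT₁ C f (fun t ht => hf t (Finset.mem_union_left _ ht))
    obtain ⟨y₂, hy₂⟩ := hT₂ C f (fun t ht => hf t (Finset.mem_union_right _ ht))
    exact ⟨y₁ + y₂, by rw [map_add, hy₁, hy₂]⟩

open Groth.Agent.Lib.ShUnramEssEtH3 in
theorem mem_weakAss_iff (hie : EtPBC.IsIndEtale R S) (N : Type u) [AddCommGroup N] [Module R N] :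
    maximalIdeal S ∈ weakAss S (S ⊗[R] N) ↔ maximalIdeal R ∈ weakAss R N := by
  classical
  haveI : Module.Flat R S := Groth.Agent.Lib.IndEtaleH3.flat_of_isIndEtale hie
  have hmS := map_maximalIdeal_of_isIndEtale hie
  constructor
  · rintro ⟨z, hz⟩
    have hz' : maximalIdeal S ∈ (ann S z).minimalPrimes := hz
    obtain ⟨T, hT⟩ := exists_finset_rTensor (R := R) (S := S) N z
    obtain ⟨C, _, _, hC, f, hf⟩ := Groth.Agent.Lib.IndEtaleH3.exists_finset_of_isIndEtale hie T
    haveI := hC
    obtain ⟨zC, hzC⟩ := hT C f hf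
    letI algCS : Algebra C S := f.toRingHom.toAlgebra
    haveI : IsScalarTower R C S := IsScalarTower.of_algebraMap_eq fun a => (f.commutes a).symm
    haveI : Module.Flat C S := Groth.Agent.Lib.IndEtaleH3.flat_of_flat_of_unramified R C S
    have halg : ∀ c : C, algebraMap C S c = f c := fun _ => rfl
    -- the comparison
    let κ : S ⊗[C] (C ⊗[R] N) ≃ₗ[S] S ⊗[R] N :=
      TensorProduct.AlgebraTensorModule.cancelBaseChange R C S S N
    have hκ : ∀ y : C ⊗[R] N, κ ((1 : S) ⊗ₜ[C] y) = LinearMap.rTensor N f.toLinearMap y := by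
      intro y
      induction y using TensorProduct.induction_on with
      | zero => rw [TensorProduct.tmul_zero, map_zero, map_zero]
      | tmul c x =>
        rw [TensorProduct.AlgebraTensorModule.cancelBaseChange_tmul, LinearMap.rTensor_tmul,
          AlgHom.toLinearMap_apply, Algebra.smul_def, mul_one, halg]
      | add y₁ y₂ h₁ h₂ => rw [TensorProduct.tmul_add, map_add, map_add, h₁, h₂]
    have hannS : ann S z = (ann C zC).map (algebraMap C S) := by
      apply le_antisymm
      · intro b hb
        rw [mem_ann] at hb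
        have h1 : b ⊗ₜ[C] zC = 0 := by
          apply κ.injective
          rw [map_zero]
          have : b ⊗ₜ[C] zC = b • ((1 : S) ⊗ₜ[C] zC) := by
            rw [TensorProduct.smul_tmul', smul_eq_mul, mul_one]
          rw [this, map_smul, hκ, hzC]
          exact hb
        exact Groth.Agent.S1232.tmul_eq_zero_mem zC b h1
      · rw [Ideal.map_le_iff_le_comap]
        intro c hc
        rw [Ideal.mem_comap, mem_ann, ← hzC, halg]
        have h1 : ∀ y : C ⊗[R] N, f c • LinearMap.rTensor N f.toLinearMap y =
            LinearMap.rTensor N f.toLinearMap (c • y) := by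
          intro y
          induction y using TensorProduct.induction_on with
          | zero => simp
          | tmul c' x =>
            rw [LinearMap.rTensor_tmul, TensorProduct.smul_tmul', TensorProduct.smul_tmul',
              LinearMap.rTensor_tmul, AlgHom.toLinearMap_apply, AlgHom.toLinearMap_apply,
              smul_eq_mul, smul_eq_mul, map_mul]
          | add y₁ y₂ h₁ h₂ => rw [map_add, smul_add, h₁, h₂, smul_add, map_add]
        rw [h1, mem_ann.mp hc, map_zero]
    -- the prime `q`
    haveI hqp : (qOf R S C f).IsPrime := inferInstance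
    have hqu : (maximalIdeal S).comap (algebraMap C S) = qOf R S C f := rfl
    haveI : (maximalIdeal S).LiesOver (qOf R S C f) := ⟨hqu.symm⟩
    have hqR : (qOf R S C f).comap (algebraMap R C) = maximalIdeal R := comap_qOf R S C f
    haveI : (qOf R S C f).LiesOver (maximalIdeal R) := ⟨hqR.symm⟩
    have hqmin : qOf R S C f ∈ (ann C zC).minimalPrimes := by
      refine ⟨⟨hqp, ?_⟩, ?_⟩
      · rw [← hqu, ← Ideal.map_le_iff_le_comap, ← hannS]
        exact hz'.1.2
      · rintro q' ⟨hq'p, hq'ann⟩ hq'q
        haveI := hq'p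
        obtain ⟨Q', hQ'le, hQ'p, hQ'over⟩ :=
          Ideal.exists_ideal_le_liesOver_of_le (R := C) (S := S) (p := q') (q := qOf R S C f)
            (maximalIdeal S) hq'q
        have h1 : ann S z ≤ Q' := by
          rw [hannS, Ideal.map_le_iff_le_comap]
          intro c hc
          have : c ∈ Q'.under C := by
            rw [← hQ'over.over]
            exact hq'ann hc
          exact this
        have h2 : maximalIdeal S ≤ Q' := hz'.2 ⟨hQ'p, h1⟩ hQ'le
        have h3 : Q' = maximalIdeal S := le_antisymm hQ'le h2
        have h4 : q' = Q'.under C := hQ'over.over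
        rw [h4, h3]
        exact le_of_eq hqu.symm
    have hqW : qOf R S C f ∈ weakAss C (C ⊗[R] N) := ⟨zC, hqmin⟩
    exact (Groth.Agent.S1233.result N (maximalIdeal R) (qOf R S C f)).1 hqW
  · rintro ⟨x, hx⟩
    have hx' : maximalIdeal R ∈ (ann R x).minimalPrimes := hx
    refine ⟨(1 : S) ⊗ₜ[R] x, ?_⟩
    show maximalIdeal S ∈ (ann S ((1 : S) ⊗ₜ[R] x)).minimalPrimes
    have hann : ann S ((1 : S) ⊗ₜ[R] x) = (ann R x).map (algebraMap R S) := by
      apply le_antisymm
      · intro b hb
        rw [mem_ann, TensorProduct.smul_tmul', smul_eq_mul, mul_one] at hb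
        exact Groth.Agent.S1232.tmul_eq_zero_mem x b hb
      · rw [Ideal.map_le_iff_le_comap]
        intro r hr
        rw [Ideal.mem_comap, mem_ann, algebraMap_smul, ← TensorProduct.tmul_smul, mem_ann.mp hr,
          TensorProduct.tmul_zero]
    rw [hann]
    refine ⟨⟨inferInstance, ?_⟩, ?_⟩
    · rw [← hmS]
      exact Ideal.map_mono hx'.1.2
    · rintro Q ⟨hQp, hQle⟩ hQm
      haveI := hQp
      have h1 : ann R x ≤ Q.comap (algebraMap R S) := Ideal.map_le_iff_le_comap.mp hQle
      have h2 : Q.comap (algebraMap R S) ≤ maximalIdeal R :=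
        le_maximalIdeal (Ideal.IsPrime.ne_top inferInstance)
      have h3 : maximalIdeal R ≤ Q.comap (algebraMap R S) :=
        hx'.2 ⟨Ideal.comap_isPrime _ _, h1⟩ h2
      rw [← hmS, Ideal.map_le_iff_le_comap]
      exact h3

end

section Main

variable {A : Type u} [CommRing A] (M : Type u) [AddCommGroup M] [Module A M] (p : Ideal A)
  [p.IsPrime]

theorem main (Ah Ash : Type u) [CommRing Ah] [IsLocalRing Ah] [CommRing Ash] [IsLocalRing Ash]
    [Algebra (Localization.AtPrime p) Ah] [IsLocalHom (algebraMap (Localization.AtPrime p) Ah)]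
    [Hensel.IsHenselization (Localization.AtPrime p) Ah]
    [Algebra (Localization.AtPrime p) Ash] [IsLocalHom (algebraMap (Localization.AtPrime p) Ash)]
    [Hensel.IsStrictHenselization (Localization.AtPrime p) Ash] :
    [p ∈ FlatCA.weakAss A M,
     maximalIdeal (Localization.AtPrime p) ∈
       FlatCA.weakAss (Localization.AtPrime p) (LocalizedModule p.primeCompl M),
     maximalIdeal Ah ∈ FlatCA.weakAss Ah
       (Ah ⊗[Localization.AtPrime p] LocalizedModule p.primeCompl M),
     maximalIdeal Ash ∈ FlatCA.weakAss Ash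
       (Ash ⊗[Localization.AtPrime p] LocalizedModule p.primeCompl M)].TFAE := by
  have h12 : maximalIdeal (Localization.AtPrime p) ∈
      FlatCA.weakAss (Localization.AtPrime p) (LocalizedModule p.primeCompl M) ↔
      p ∈ FlatCA.weakAss A M := by
    have hS : Disjoint (p.primeCompl : Set A) (p : Set A) := by
      rw [Set.disjoint_left]
      intro a ha hap
      exact ha hap
    have := Groth.Agent.Lib.WeakAssLoc_helper4.map_mem_weakAss_iff p.primeCompl (M := M) p hS
    rw [Localization.AtPrime.map_eq_maximalIdeal] at this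
    exact this
  have h23 := mem_weakAss_iff
    (Groth.Agent.Lib.UnibranchH3.isIndEtale_of_isHenselization (Localization.AtPrime p) Ah)
    (LocalizedModule p.primeCompl M)
  have h24 := mem_weakAss_iff
    (Groth.Agent.Lib.StrictHens.isIndEtale_of_isStrictHenselization
      (R := Localization.AtPrime p) Ash)
    (LocalizedModule p.primeCompl M)
  tfae_have 1 ↔ 2 := h12.symm
  tfae_have 2 ↔ 3 := h23.symm
  tfae_have 2 ↔ 4 := h24.symm
  tfae_finish

end Main

end Groth.Agent.Lib.WeakAssIndEtaleH3
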