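import Mathlib
import Groth.Agent.Lib.WeakColim_lead

/-!
# Weak directed colimits: maps from finitely presented algebras factor through a stage (lead)
-/

set_option autoImplicit false
universe u v

namespace Groth.Agent.Lib.WeakColim

open TensorProduct

variable {ι : Type u} [Preorder ι] [IsDirected ι (· ≤ ·)] [Nonempty ι]
  {A₀ : Type v} [CommRing A₀] {G : ι → Type u} [∀ i, CommRing (G i)] [∀ i, Algebra A₀ (G i)]
  {A : Type u} [CommRing A] [Algebra A₀ A]
  {f : ∀ i j, i ≤ j → (G i →ₐ[A₀] G j)} {g : ∀ i, G i →ₐ[A₀] A}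

namespace IsWeakColim

theorem exists_lift_bare_finset (H : IsWeakColim f g) {κ : Type*} (S : Finset κ) (t : κ → A)
    (i₀ : ι) :
    ∃ (i : ι) (_ : Adm g i₀ i) (x : κ → G i), ∀ k ∈ S, g i (x k) = t k := by
  classical
  induction S using Finset.induction_on with
  | empty =>
    exact ⟨i₀, Adm.refl i₀, fun _ => 0, fun k hk => absurd hk (Finset.notMem_empty k)⟩
  | insert k S hk ih =>
    obtain ⟨i, a, x, hx⟩ := ih
    obtain ⟨j, y, hy⟩ := H.hsurj (t k)
    obtain ⟨l, hil, hjl⟩ := exists_ge_ge i j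
    let x' : κ → G l := fun k' => if k' = k then (H.ofLE hjl).φ y else (H.ofLE hil).φ (x k')
    have hx'k : x' k = (H.ofLE hjl).φ y := if_pos rfl
    have hx'ne : ∀ k', k' ≠ k → x' k' = (H.ofLE hil).φ (x k') := fun k' h => if_neg h
    refine ⟨l, a.trans (H.ofLE hil), x', fun k' hk' => ?_⟩
    by_cases h : k' = k
    · subst h
      rw [hx'k, Adm.apply, hy]
    · rw [hx'ne k' h, Adm.apply]
      exact hx k' ((Finset.mem_insert.1 hk').resolve_left h)

/-- an algebra map from a finitely presented algebra to the weak colimit factors through a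
stage -/
theorem exists_factor_bare (H : IsWeakColim f g) (R₀ : Type u) [CommRing R₀] [Algebra A₀ R₀]
    [Algebra.FinitePresentation A₀ R₀] (χ : R₀ →ₐ[A₀] A) (i₀ : ι) :
    ∃ (i : ι) (_ : Adm g i₀ i) (φ : R₀ →ₐ[A₀] G i), (g i).comp φ = χ := by
  classical
  obtain ⟨n, π, hπ, s, hs⟩ := Algebra.FinitePresentation.out (R := A₀) (A := R₀)
  obtain ⟨i₁, a₁, y, hy⟩ := H.exists_lift_bare_finset (Finset.univ : Finset (Fin n))
    (fun k => χ (π (MvPolynomial.X k))) i₀
  let ν₁ : MvPolynomial (Fin n) A₀ →ₐ[A₀] G i₁ := MvPolynomial.aeval y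
  have h1 : (g i₁).comp ν₁ = χ.comp π := by
    refine MvPolynomial.algHom_ext fun k => ?_
    show g i₁ (MvPolynomial.aeval y (MvPolynomial.X k)) = χ (π (MvPolynomial.X k))
    rw [MvPolynomial.aeval_X]
    exact hy k (Finset.mem_univ k)
  have h1' : ∀ q, g i₁ (ν₁ q) = χ (π q) := fun q => AlgHom.congr_fun h1 q
  obtain ⟨i, b, hb⟩ := H.exists_kill_finset (s.image ν₁) (by
    intro x hx
    obtain ⟨r, hr, rfl⟩ := Finset.mem_image.1 hx
    have h2 : r ∈ RingHom.ker π.toRingHom := by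
      rw [← hs]
      exact Ideal.subset_span hr
    have h3 : π r = 0 := RingHom.mem_ker.1 h2
    rw [h1', h3, map_zero])
  let ν₂ : MvPolynomial (Fin n) A₀ →ₐ[A₀] G i := b.φ.comp ν₁
  have hle : RingHom.ker π.toRingHom ≤ RingHom.ker ν₂.toRingHom := by
    rw [← hs, Ideal.span_le]
    intro r hr
    refine RingHom.mem_ker.2 ?_
    show b.φ (ν₁ r) = 0
    exact hb _ (Finset.mem_image_of_mem ν₁ hr)
  refine ⟨i, a₁.trans b, AlgHom.liftOfSurjective π hπ ν₂ hle, ?_⟩
  refine AlgHom.ext fun c => ?_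
  obtain ⟨q, rfl⟩ := hπ c
  show g i (AlgHom.liftOfSurjective π hπ ν₂ hle (π q)) = χ (π q)
  rw [AlgHom.liftOfSurjective_apply]
  show g i (b.φ (ν₁ q)) = χ (π q)
  rw [Adm.apply, h1']

end IsWeakColim

end Groth.Agent.Lib.WeakColim
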