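import Mathlib

set_option autoImplicit false

/-! Weakly contractible objects of a site: sections turn epimorphisms into surjections. -/

namespace Groth.Agent.Lib.WeakContr_helper7
open CategoryTheory CategoryTheory.Limits Opposite
universe u

variable {C : Type u} [SmallCategory C] (J : GrothendieckTopology C) (U : C)

/-- The index type of the arrows of a sieve. -/
abbrev Idx (S : Sieve U) := Σ V : C, {f : V ⟶ U // S f}

/-- The map from the coproduct of representables indexed by a sieve. -/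
noncomputable abbrev dS (S : Sieve U) : (∐ fun i : Idx U S => yoneda.obj i.1) ⟶ yoneda.obj U :=
  Sigma.desc (fun i : Idx U S => yoneda.map i.2.1)

theorem surj_of_split
    (hsplit : ∀ S : Sieve U, S ∈ J U →
      IsSplitEpi ((presheafToSheaf J (Type u)).map (dS U S)))
    (F G : Sheaf J (Type u)) (φ : F ⟶ G) [Epi φ] :
    Function.Surjective (φ.hom.app (op U)) := by
  intro t
  haveI hls : Sheaf.IsLocallySurjective φ := (Sheaf.isLocallySurjective_iff_epi φ).2 inferInstance
  let S : Sieve U := Presheaf.imageSieve φ.hom t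
  have hS : S ∈ J U := Presheaf.imageSieve_mem J φ.hom (U := op U) t
  have hex : ∀ i : Idx U S, ∃ s : F.obj.obj (op i.1), φ.hom.app _ s = G.obj.map i.2.1.op t :=
    fun i => i.2.2
  choose sF hsF using hex
  let ρ : (∐ fun i : Idx U S => yoneda.obj i.1) ⟶ F.obj :=
    Sigma.desc (fun i => yonedaEquiv.symm (sF i))
  obtain ⟨⟨σ, hσ⟩⟩ := (hsplit S hS).exists_splitEpi
  let adj := sheafificationAdjunction J (Type u)
  let tG : yoneda.obj U ⟶ G.obj := yonedaEquiv.symm t
  have key : ρ ≫ φ.hom = dS U S ≫ tG := by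
    refine Sigma.hom_ext _ _ (fun i => ?_)
    rw [Sigma.ι_desc_assoc, Sigma.ι_desc_assoc]
    apply yonedaEquiv.injective
    rw [yonedaEquiv_comp, Equiv.apply_symm_apply, ← yonedaEquiv_naturality,
      Equiv.apply_symm_apply]
    exact hsF i
  let ρ' : (presheafToSheaf J (Type u)).obj (∐ fun i : Idx U S => yoneda.obj i.1) ⟶ F :=
    (adj.homEquiv _ _).symm ρ
  let tG' : (presheafToSheaf J (Type u)).obj (yoneda.obj U) ⟶ G := (adj.homEquiv _ _).symm tG
  have key2 : ρ' ≫ φ = (presheafToSheaf J (Type u)).map (dS U S) ≫ tG' := by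
    have h1 : (adj.homEquiv _ _).symm (ρ ≫ (sheafToPresheaf J (Type u)).map φ) = ρ' ≫ φ :=
      adj.homEquiv_naturality_right_symm ρ φ
    have h2 : (adj.homEquiv _ _).symm (dS U S ≫ tG) =
        (presheafToSheaf J (Type u)).map (dS U S) ≫ tG' :=
      adj.homEquiv_naturality_left_symm (dS U S) tG
    rw [← h1, ← h2]
    exact congrArg (fun z => (adj.homEquiv _ _).symm z) key
  have hm : (σ ≫ ρ') ≫ φ = tG' := by
    rw [Category.assoc, key2, ← Category.assoc, hσ, Category.id_comp]
  refine ⟨yonedaEquiv (adj.homEquiv _ _ (σ ≫ ρ')), ?_⟩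
  have h3 : adj.homEquiv _ _ ((σ ≫ ρ') ≫ φ) = adj.homEquiv _ _ (σ ≫ ρ') ≫ φ.hom :=
    adj.homEquiv_naturality_right (σ ≫ ρ') φ
  rw [← yonedaEquiv_comp, ← h3, hm]
  show yonedaEquiv (adj.homEquiv _ _ ((adj.homEquiv _ _).symm tG)) = t
  rw [Equiv.apply_symm_apply]
  exact Equiv.apply_symm_apply _ _

theorem split_of_surj
    (hsurj : ∀ (F G : Sheaf J (Type u)) (φ : F ⟶ G), Epi φ →
      Function.Surjective (φ.hom.app (op U)))
    (S : Sieve U) (hS : S ∈ J U) :
    IsSplitEpi ((presheafToSheaf J (Type u)).map (dS U S)) := by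
  let adj := sheafificationAdjunction J (Type u)
  have hd : Presheaf.IsLocallySurjective J (dS U S) := by
    refine ⟨fun {W} g => ?_⟩
    refine J.superset_covering ?_ (J.pullback_stable g hS)
    intro W' h hh
    refine ⟨(Sigma.ι (fun i : Idx U S => yoneda.obj i.1) ⟨W', ⟨h ≫ g, hh⟩⟩).app (op W') (𝟙 W'),
      ?_⟩
    have h1 := congrArg (fun m => m.app (op W') (𝟙 W'))
      (Sigma.ι_desc (fun i : Idx U S => yoneda.map i.2.1) ⟨W', ⟨h ≫ g, hh⟩⟩)
    refine Eq.trans h1 ?_
    simp
  haveI : Sheaf.IsLocallySurjective ((presheafToSheaf J (Type u)).map (dS U S)) :=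
    (Presheaf.isLocallySurjective_presheafToSheaf_map_iff J (dS U S)).2 hd
  have hepi : Epi ((presheafToSheaf J (Type u)).map (dS U S)) := inferInstance
  obtain ⟨x, hx⟩ := hsurj _ _ _ hepi ((adj.unit.app (yoneda.obj U)).app (op U) (𝟙 U))
  let xt : yoneda.obj U ⟶
      ((presheafToSheaf J (Type u)).obj (∐ fun i : Idx U S => yoneda.obj i.1)).obj :=
    yonedaEquiv.symm x
  refine IsSplitEpi.mk' ⟨(adj.homEquiv _ _).symm xt, ?_⟩
  apply (adj.homEquiv _ _).injective
  rw [adj.homEquiv_naturality_right, Equiv.apply_symm_apply]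
  apply yonedaEquiv.injective
  rw [yonedaEquiv_comp, Equiv.apply_symm_apply]
  refine hx.trans ?_
  rw [Adjunction.homEquiv_id]
  rfl

end Groth.Agent.Lib.WeakContr_helper7
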