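import Mathlib
import Groth.Agent.Lib.DMod50_helper6
import Groth.Agent.Lib.FlatMul_lead
import Groth.Agent.S6944

/-!
# Weak dimension ascends along weakly étale ring maps (helper2)
-/

set_option autoImplicit false
universe u
open CategoryTheory CategoryTheory.Limits
attribute [local instance] HasDerivedCategory.standard

namespace Groth.Agent.Lib.WeakDimWE

theorem main (A B : Type u) [CommRing A] [CommRing B] [Algebra A B]
    [Algebra.WeaklyEtale A B] (d : ℕ)
    (hA : ∀ (M : Type u) [AddCommGroup M] [Module A M], DRing.HasTorDimLE A d M)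
    (N : Type u) [AddCommGroup N] [Module B N] : DRing.HasTorDimLE B d N := by
  classical
  rw [Groth.Agent.Lib.DMod_helper6.hasTorDimLE_iff N d]
  let Rz := ProjectiveResolution.of (ModuleCat.of B N)
  let P : DRing.Cx B := Rz.cochainComplex
  have hb : DRing.VanishesAbove P 0 := fun i hi => CochainComplex.isZero_of_isStrictlyLE P 0 i hi
  have hflat : DRing.TermwiseFlat P := fun i => by
    haveI : Module.Projective B (P.X i) :=
      (IsProjective.iff_projective (P.X i)).2 (inferInstance : Projective (Rz.cochainComplex.X i))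
    exact Module.Flat.of_projective
  haveI : IsIso (DerivedCategory.Q.map Rz.π') :=
    (DerivedCategory.isIso_Q_map_iff_quasiIso _ _).2 inferInstance
  let e : DRing.toD P ≅ Dual.inD B N := asIso (DerivedCategory.Q.map Rz.π') ≪≫
    ((DerivedCategory.singleFunctorIsoCompQ (ModuleCat.{u} B) 0).app (ModuleCat.of B N)).symm
  have hexP : ∀ i : ℤ, i ≠ 0 → P.ExactAt i := fun i hi => by
    rw [Groth.Agent.Lib.DMod_helper6.exactAt_iff_subsingleton_HD e i]
    exact ModuleCat.subsingleton_of_isZero (Groth.Agent.Lib.DMod_helper6.isZero_HD_inD _ i hi)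
  refine Groth.Agent.Lib.DMod_helper6.hasTorAmplitudeIn_of_iso e _ _
    (Groth.Agent.Lib.DMod_helper6.hasTorAmplitudeIn_of_TN_exact' P (-(d : ℤ)) 0 hb hflat
      (fun i hi => hexP i (by omega)) ?_)
  intro N'
  -- the `A`-side
  let F := ModuleCat.restrictScalars.{u} (algebraMap A B)
  let PA : DRing.Cx A := (F.mapHomologicalComplex (ComplexShape.up ℤ)).obj P
  have hbA : DRing.VanishesAbove PA 0 := fun i hi => F.map_isZero (hb i hi)
  have hflatA : DRing.TermwiseFlat PA := fun i => by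
    haveI := hflat i
    letI : Module A (P.X i) := Module.compHom (P.X i) (algebraMap A B)
    haveI : IsScalarTower A B (P.X i) := IsScalarTower.of_algebraMap_smul (fun _ _ => rfl)
    exact Module.Flat.trans A B (P.X i)
  have hampA : DRing.HasTorAmplitudeIn A (-(d : ℤ)) 0 (DRing.toD PA) := by
    have h1 := (Groth.Agent.Lib.DMod_helper6.hasTorDimLE_iff (A := A)
      (F.obj (ModuleCat.of B N)) d).1 (hA _)
    let e' : DRing.toD PA ≅ Dual.inD A (F.obj (ModuleCat.of B N)) :=
      (F.mapDerivedCategoryFactors.app P).symm ≪≫ F.mapDerivedCategory.mapIso e ≪≫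
        (F.mapDerivedCategorySingleFunctor 0).app (ModuleCat.of B N)
    exact Groth.Agent.Lib.DMod_helper6.hasTorAmplitudeIn_of_iso e'.symm _ _ h1
  have hA1 : Module.Flat A (PA.X (-(d : ℤ)) ⧸ LinearMap.range (PA.d (-(d : ℤ) - 1) (-(d : ℤ))).hom) :=
    Groth.Agent.S6944.result A PA 0 hbA hflatA (-(d : ℤ)) 0 hampA
  -- transfer to `B`
  letI : Module A (P.X (-(d : ℤ))) := Module.compHom (P.X (-(d : ℤ))) (algebraMap A B)
  haveI : IsScalarTower A B (P.X (-(d : ℤ))) := IsScalarTower.of_algebraMap_smul (fun _ _ => rfl)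
  let SB : Submodule B (P.X (-(d : ℤ))) := LinearMap.range (P.d (-(d : ℤ) - 1) (-(d : ℤ))).hom
  have hSB : LinearMap.range (PA.d (-(d : ℤ) - 1) (-(d : ℤ))).hom = SB.restrictScalars A :=
    Submodule.ext fun x => Iff.rfl
  haveI : Module.Flat A (P.X (-(d : ℤ)) ⧸ SB) :=
    Module.Flat.of_linearEquiv
      ((Submodule.quotEquivOfEq _ _ hSB).trans (Submodule.Quotient.restrictScalarsEquiv A SB)).symm
  haveI : Module.Flat B (P.X (-(d : ℤ)) ⧸ LinearMap.range (P.d (-(d : ℤ) - 1) (-(d : ℤ))).hom) :=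
    Groth.Agent.Lib.FlatMul.flat_of_flat_mul A B (P.X (-(d : ℤ)) ⧸ SB)
      (Algebra.WeaklyEtale.flat_lmul' A B)
  have hexF : Function.Exact (P.d (-(d : ℤ) - 1 - 1) (-(d : ℤ) - 1)).hom
      (P.d (-(d : ℤ) - 1) (-(d : ℤ))).hom :=
    Groth.Agent.Lib.DMod_helper6.function_exact_of_exactAt P _ _ _ (by ring) (by ring)
      (hexP (-(d : ℤ) - 1) (by omega))
  apply Groth.Agent.Lib.DMod_helper6.exactAt_of_function_exact
    ((Groth.Agent.Lib.DMod_helper6.TN N').obj P) (-(d : ℤ) - 1 - 1) (-(d : ℤ) - 1) (-(d : ℤ))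
    (by ring) (by ring)
  rw [Groth.Agent.Lib.DMod_helper6.TN_d_hom, Groth.Agent.Lib.DMod_helper6.TN_d_hom]
  exact Groth.Agent.Lib.DMod_helper6.exact_rTensor_of_flat_coker _ _ hexF N'

end Groth.Agent.Lib.WeakDimWE
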