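import Mathlib
import Groth.Prelude.Def_FlatMod2
import Groth.Agent.S7128
import Groth.Agent.Lib.WeaklyEtaleAff_lead

open AlgebraicGeometry CategoryTheory Limits TensorProduct

namespace Groth.Agent.Lib.WeaklyEtaleRed

universe u

theorem main {X Y : Scheme.{u}} (f : X ⟶ Y) [WeaklyEtale f] [IsReduced Y] : IsReduced X := by
  have hred : ∀ x : X, ∃ U : X.Opens, x ∈ U ∧ IsReduced (↑U : Scheme.{u}) := by
    intro x
    obtain ⟨_, ⟨V, hV, rfl⟩, hxV, -⟩ :=
      Y.isBasis_affineOpens.exists_subset_of_mem_open (Set.mem_univ (f x)) isOpen_univ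
    obtain ⟨_, ⟨U, hU, rfl⟩, hxU, hUV : U ≤ f ⁻¹ᵁ V⟩ :=
      X.isBasis_affineOpens.exists_subset_of_mem_open
        (show x ∈ ((f ⁻¹ᵁ V : X.Opens) : Set X) from hxV) (f ⁻¹ᵁ V).isOpen
    refine ⟨U, hxU, ?_⟩
    have hw := (Groth.Agent.Lib.WeaklyEtaleAff.main f).mp inferInstance U V hU hV hUV
    letI := (f.appLE V U hUV).hom.toAlgebra
    haveI : Algebra.WeaklyEtale Γ(Y, V) Γ(X, U) := hw
    haveI : _root_.IsReduced Γ(X, U) := Groth.Agent.S7128.result Γ(Y, V) Γ(X, U)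
    exact isReduced_of_isOpenImmersion hU.isoSpec.hom
  choose U hxU hU using hred
  let 𝒰 : X.OpenCover := X.openCoverOfIsOpenCover U
    (show iSup U = ⊤ from eq_top_iff.mpr fun x _ => TopologicalSpace.Opens.mem_iSup.mpr ⟨x, hxU x⟩)
  exact @IsReduced.of_openCover X 𝒰 (fun i => hU i)

end Groth.Agent.Lib.WeaklyEtaleRed
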