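import Mathlib

namespace Groth.Agent.Lib.WedgeSpan

universe u v

section gen
variable {A : Type u} [CommRing A]

theorem alt_zero_of_span {N : Type*} [AddCommGroup N] [Module A N] {Mod : Type*}
    [AddCommGroup Mod] [Module A Mod] {n : ℕ} (g : Mod [⋀^Fin n]→ₗ[A] N) {κ : Type*} [Fintype κ]
    (w : κ → Mod) (hcard : Fintype.card κ < n) (v : Fin n → Mod)
    (hv : ∀ k, v k ∈ Submodule.span A (Set.range w)) : g v = 0 := by
  classical
  have hv' : ∀ k, ∃ a : κ → A, ∑ j, a j • w j = v k :=
    fun k => (Submodule.mem_span_range_iff_exists_fun A).1 (hv k)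
  choose a ha using hv'
  have hveq : v = fun k => ∑ j, a k j • w j := funext fun k => (ha k).symm
  rw [hveq]
  show (g : MultilinearMap A (fun _ : Fin n => Mod) N) (fun k => ∑ j, a k j • w j) = 0
  rw [MultilinearMap.map_sum]
  apply Finset.sum_eq_zero
  intro r _
  have h1 := MultilinearMap.map_smul_univ (g : MultilinearMap A (fun _ : Fin n => Mod) N)
    (fun i => a i (r i)) (fun i => w (r i))
  rw [h1]
  have hr : ¬ Function.Injective r := by
    intro hinj
    have := Fintype.card_le_of_injective r hinj
    simp at this
    omega
  have h2 : g (fun i => w (r i)) = 0 :=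
    g.map_eq_zero_of_not_injective _ (fun h => hr (Function.Injective.of_comp h))
  show (∏ i, a i (r i)) • g (fun i => w (r i)) = 0
  rw [h2, smul_zero]

end gen

variable {A : Type u} [CommRing A] {ι : Type v} [Fintype ι] [DecidableEq ι]

/-- the marked vectors -/
def fvec (H : Finset ι) (c : ι → ι → A) (j : ι) : ι → A :=
  Pi.single j (1 : A) - ∑ i ∈ Hᶜ, c j i • Pi.single i (1 : A)

theorem fvec_apply_of_mem (H : Finset ι) (c : ι → ι → A) (j : ι) {l : ι} (hl : l ∈ H) :
    fvec H c j l = if l = j then 1 else 0 := by
  unfold fvec
  rw [Pi.sub_apply, Finset.sum_apply]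
  have : ∑ i ∈ Hᶜ, (c j i • (Pi.single i (1 : A) : ι → A)) l = 0 := by
    apply Finset.sum_eq_zero
    intro i hi
    have hne : l ≠ i := fun h => (Finset.mem_compl.1 hi) (h ▸ hl)
    rw [Pi.smul_apply, Pi.single_eq_of_ne hne, smul_zero]
  rw [this, sub_zero, Pi.single_apply]

theorem main (H : Finset ι) (c : ι → ι → A) (M : Submodule A (ι → A))
    (hf : ∀ j ∈ H, (Pi.single j (1 : A) - ∑ i ∈ Hᶜ, c j i • Pi.single i (1 : A)) ∈ M) :
    M = Submodule.span A
        ((fun j => Pi.single j (1 : A) - ∑ i ∈ Hᶜ, c j i • Pi.single i (1 : A)) '' ↑H)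
      ↔ ∀ v : Fin (H.card + 1) → ι → A, (∀ k, v k ∈ M) →
          exteriorPower.ιMulti A (H.card + 1) v = 0 := by
  have hf' : ∀ j ∈ H, fvec H c j ∈ M := hf
  change M = Submodule.span A ((fun j => fvec H c j) '' ↑H) ↔ _
  have hrange : (fun j => fvec H c j) '' (↑H : Set ι) =
      Set.range (fun j : ↥H => fvec H c (j : ι)) := by
    ext y; constructor
    · rintro ⟨j, hj, rfl⟩; exact ⟨⟨j, Finset.mem_coe.1 hj⟩, rfl⟩
    · rintro ⟨⟨j, hj⟩, rfl⟩; exact ⟨j, Finset.mem_coe.2 hj, rfl⟩
  constructor
  · intro hM v hv
    apply alt_zero_of_span (exteriorPower.ιMulti A (H.card + 1))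
      (fun j : ↥H => fvec H c (j : ι)) (by simp) v
    intro k
    rw [← hrange, ← hM]; exact hv k
  · intro hw
    apply le_antisymm
    · intro x hx
      set x' : ι → A := x - ∑ j ∈ H, x j • fvec H c j with hx'def
      have hx'M : x' ∈ M :=
        M.sub_mem hx (M.sum_mem (fun j hj => M.smul_mem _ (hf' j hj)))
      have hx'H : ∀ l ∈ H, x' l = 0 := by
        intro l hl
        rw [hx'def, Pi.sub_apply, Finset.sum_apply]
        have hsum : ∑ j ∈ H, (x j • fvec H c j) l = x l := by
          have h1 : ∀ j ∈ H, (x j • fvec H c j) l = if l = j then x j else 0 := by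
            intro j _
            rw [Pi.smul_apply, fvec_apply_of_mem H c j hl, smul_eq_mul, mul_ite, mul_one,
              mul_zero]
          rw [Finset.sum_congr rfl h1, Finset.sum_ite_eq H l, if_pos hl]
        rw [hsum, sub_self]
      have hx'0 : x' = 0 := by
        funext i₀
        by_cases hi : i₀ ∈ H
        · exact hx'H i₀ hi
        · let e : Fin H.card ≃ ↥H := H.equivFin.symm
          let σ : Fin (H.card + 1) → ι :=
            Fin.snoc (α := fun _ => ι) (fun k => ((e k : ↥H) : ι)) i₀
          let w : Fin (H.card + 1) → ι → A :=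
            Fin.snoc (α := fun _ => ι → A) (fun k => fvec H c (e k)) x'
          have hσc : ∀ k : Fin H.card, σ (Fin.castSucc k) = ((e k : ↥H) : ι) :=
            fun k => by simp [σ]
          have hσl : σ (Fin.last _) = i₀ := by simp [σ]
          have hwc : ∀ k : Fin H.card, w (Fin.castSucc k) = fvec H c (e k) :=
            fun k => by simp [w]
          have hwl : w (Fin.last _) = x' := by simp [w]
          have hwM : ∀ k, w k ∈ M := by
            intro k
            induction k using Fin.lastCases with
            | last => rw [hwl]; exact hx'M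
            | cast k => rw [hwc]; exact hf' _ (e k).2
          have h0 := hw w hwM
          let D : (ι → A) [⋀^Fin (H.card + 1)]→ₗ[A] A :=
            Matrix.detRowAlternating.compLinearMap (LinearMap.funLeft A A σ)
          have hD : D w = 0 := by
            rw [← exteriorPower.alternatingMapLinearEquiv_apply_ιMulti D w, h0, map_zero]
          have hD' : D w = Matrix.det (Matrix.of fun k l => w k (σ l)) := rfl
          have htri : (Matrix.of fun k l => w k (σ l)).BlockTriangular id := by
            intro i j hji
            change j < i at hji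
            show w i (σ j) = 0
            induction i using Fin.lastCases with
            | last =>
              induction j using Fin.lastCases with
              | last => exact absurd hji (lt_irrefl _)
              | cast j' => rw [hwl, hσc]; exact hx'H _ (e j').2
            | cast i' =>
              induction j using Fin.lastCases with
              | last => exact absurd hji (not_lt.2 (Fin.le_last _))
              | cast j' =>
                rw [hwc, hσc, fvec_apply_of_mem H c _ (e j').2, if_neg]
                intro heq
                have hji' : j' = i' := e.injective (Subtype.ext heq)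
                rw [hji'] at hji
                exact lt_irrefl _ hji
          have hdiag : ∀ k : Fin H.card, w (Fin.castSucc k) (σ (Fin.castSucc k)) = 1 := by
            intro k
            rw [hwc, hσc, fvec_apply_of_mem H c _ (e k).2, if_pos rfl]
          rw [hD', Matrix.det_of_upperTriangular htri, Fin.prod_univ_castSucc] at hD
          simp only [Matrix.of_apply, hdiag, Finset.prod_const_one, one_mul, hwl, hσl] at hD
          exact hD
      have hxeq : x = ∑ j ∈ H, x j • fvec H c j := by
        have h1 := hx'0
        rw [hx'def, sub_eq_zero] at h1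
        exact h1
      rw [hxeq]
      exact Submodule.sum_mem _ (fun j hj =>
        Submodule.smul_mem _ _ (Submodule.subset_span ⟨j, Finset.mem_coe.2 hj, rfl⟩))
    · rw [Submodule.span_le]
      rintro _ ⟨j, hj, rfl⟩
      exact hf' j (Finset.mem_coe.1 hj)

end Groth.Agent.Lib.WedgeSpan
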