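import Mathlib

namespace Groth.Agent.Lib.WeierProjIrr

open Polynomial

lemma noRoot {K : Type*} [CommRing K] [IsDomain K] (q2 q1 q0 h : K[X])
    (h2 : natDegree q2 ≤ 0) (h1 : natDegree q1 ≤ 1) (h0 : natDegree q0 ≤ 2)
    (hc : coeff q0 2 ≠ 0) : h ^ 3 + q2 * h ^ 2 + q1 * h + q0 ≠ 0 := by
  intro heq
  have b3 : natDegree (h ^ 3) ≤ 3 * natDegree h := natDegree_pow_le
  have b2 : natDegree (q2 * h ^ 2) ≤ 2 * natDegree h := by
    refine natDegree_mul_le.trans ?_
    have h4 := natDegree_pow_le (p := h) (n := 2)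
    omega
  have b1 : natDegree (q1 * h) ≤ 1 + natDegree h := by
    refine natDegree_mul_le.trans ?_
    omega
  rcases Nat.eq_zero_or_pos (natDegree h) with hd | hd
  · have e := congrArg (fun p => coeff p 2) heq
    simp only [coeff_add, coeff_zero] at e
    rw [coeff_eq_zero_of_natDegree_lt (by omega : natDegree (h ^ 3) < 2),
      coeff_eq_zero_of_natDegree_lt (by omega : natDegree (q2 * h ^ 2) < 2),
      coeff_eq_zero_of_natDegree_lt (by omega : natDegree (q1 * h) < 2),
      zero_add, zero_add, zero_add] at e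
    exact hc e
  · have hh0 : h ≠ 0 := by rintro rfl; simp at hd
    have e := congrArg (fun p => coeff p (3 * natDegree h)) heq
    simp only [coeff_add, coeff_zero] at e
    rw [coeff_pow_mul_natDegree,
      coeff_eq_zero_of_natDegree_lt (by omega : natDegree (q2 * h ^ 2) < 3 * natDegree h),
      coeff_eq_zero_of_natDegree_lt (by omega : natDegree (q1 * h) < 3 * natDegree h),
      coeff_eq_zero_of_natDegree_lt (by omega : natDegree q0 < 3 * natDegree h),
      add_zero, add_zero, add_zero] at e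
    exact pow_ne_zero 3 (leadingCoeff_ne_zero.mpr hh0) e

variable {k : Type*} [Field k]

noncomputable def c2 (W : WeierstrassCurve k) : MvPolynomial (Fin 2) k :=
  MvPolynomial.C W.a₂ * MvPolynomial.X 1

noncomputable def c1 (W : WeierstrassCurve k) : MvPolynomial (Fin 2) k :=
  MvPolynomial.C W.a₄ * MvPolynomial.X 1 ^ 2 - MvPolynomial.C W.a₁ * MvPolynomial.X 0 * MvPolynomial.X 1

noncomputable def c0 (W : WeierstrassCurve k) : MvPolynomial (Fin 2) k :=
  MvPolynomial.C W.a₆ * MvPolynomial.X 1 ^ 3 - MvPolynomial.X 0 ^ 2 * MvPolynomial.X 1 -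
    MvPolynomial.C W.a₃ * MvPolynomial.X 0 * MvPolynomial.X 1 ^ 2

noncomputable def P (W : WeierstrassCurve k) : (MvPolynomial (Fin 2) k)[X] :=
  X ^ 3 + C (c2 W) * X ^ 2 + C (c1 W) * X + C (c0 W)

theorem main (k : Type*) [Field k] (W : WeierstrassCurve k) :
    Irreducible (WeierstrassCurve.Projective.polynomial W) := by
  have hX0 : MvPolynomial.finSuccEquiv k 2 (MvPolynomial.X 0) = Polynomial.X :=
    MvPolynomial.finSuccEquiv_X_zero
  have hX1 : MvPolynomial.finSuccEquiv k 2 (MvPolynomial.X 1) =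
      Polynomial.C (MvPolynomial.X 0) := MvPolynomial.finSuccEquiv_X_succ (j := (0 : Fin 2))
  have hX2 : MvPolynomial.finSuccEquiv k 2 (MvPolynomial.X 2) =
      Polynomial.C (MvPolynomial.X 1) := MvPolynomial.finSuccEquiv_X_succ (j := (1 : Fin 2))
  have hC : ∀ a : k, MvPolynomial.finSuccEquiv k 2 (MvPolynomial.C a) =
      Polynomial.C (MvPolynomial.C a) := fun a => by
    rw [← MvPolynomial.algebraMap_eq, AlgEquiv.commutes, Polynomial.algebraMap_apply,
      MvPolynomial.algebraMap_eq]
  have hB : MvPolynomial.finSuccEquiv k 2 (WeierstrassCurve.Projective.polynomial W) = -(P W) := by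
    unfold WeierstrassCurve.Projective.polynomial
    simp only [map_sub, map_add, map_mul, map_pow, hX0, hX1, hX2, hC, P, c2, c1, c0]
    ring
  rw [← MulEquiv.irreducible_iff (MvPolynomial.finSuccEquiv k 2), hB]
  have hassoc : Associated (-(P W)) (P W) := ⟨-1, by simp⟩
  rw [hassoc.irreducible_iff]
  have hmonic : (P W).Monic := by unfold P; monicity!
  have hdeg : (P W).natDegree = 3 := by unfold P; compute_degree!
  rw [hmonic.irreducible_iff_roots_eq_zero_of_degree_le_three (by omega) (by omega)]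
  apply Multiset.eq_zero_of_forall_notMem
  intro g hg
  rw [mem_roots hmonic.ne_zero, IsRoot.def] at hg
  unfold P at hg
  simp only [eval_add, eval_mul, eval_pow, eval_X, eval_C] at hg
  have hY0 : MvPolynomial.finSuccEquiv k 1 (MvPolynomial.X 0) = Polynomial.X :=
    MvPolynomial.finSuccEquiv_X_zero
  have hY1 : MvPolynomial.finSuccEquiv k 1 (MvPolynomial.X 1) =
      Polynomial.C (MvPolynomial.X 0) := MvPolynomial.finSuccEquiv_X_succ (j := (0 : Fin 1))
  have hC' : ∀ a : k, MvPolynomial.finSuccEquiv k 1 (MvPolynomial.C a) =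
      Polynomial.C (MvPolynomial.C a) := fun a => by
    rw [← MvPolynomial.algebraMap_eq, AlgEquiv.commutes, Polynomial.algebraMap_apply,
      MvPolynomial.algebraMap_eq]
  have hg' := congrArg (MvPolynomial.finSuccEquiv k 1) hg
  simp only [map_add, map_mul, map_pow, map_sub, map_zero, c2, c1, c0, hY0, hY1, hC'] at hg'
  have hclean : (MvPolynomial.finSuccEquiv k 1 g) ^ 3 +
      C (MvPolynomial.C W.a₂ * MvPolynomial.X 0) * (MvPolynomial.finSuccEquiv k 1 g) ^ 2 +
      (C (MvPolynomial.C W.a₄ * MvPolynomial.X 0 ^ 2) - C (MvPolynomial.C W.a₁ * MvPolynomial.X 0) * X)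
        * (MvPolynomial.finSuccEquiv k 1 g) +
      (C (MvPolynomial.C W.a₆ * MvPolynomial.X 0 ^ 3) - C (MvPolynomial.X 0) * X ^ 2 -
        C (MvPolynomial.C W.a₃ * MvPolynomial.X 0 ^ 2) * X) = 0 := by
    refine Eq.trans ?_ hg'
    simp only [map_mul, map_pow]
    ring
  refine noRoot _ _ _ _ ?_ ?_ ?_ ?_ hclean
  · compute_degree
  · compute_degree
  · compute_degree
  · simp only [coeff_sub, coeff_C_mul, coeff_C, coeff_X_pow, coeff_X]
    simp

end Groth.Agent.Lib.WeierProjIrr
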