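import Mathlib
import Groth.Prelude

set_option autoImplicit false
set_option linter.style.haveILetI false
set_option linter.unusedVariables false

universe u

open Polynomial

namespace Groth.Agent.Lib.WeierRegH4

variable {R : Type u} [CommRing R] (W : WeierstrassCurve.Affine R)

/-- class of `x` -/
noncomputable def xc : W.CoordinateRing :=
  WeierstrassCurve.Affine.CoordinateRing.mk W (C (X : R[X]))

/-- class of `y` -/
noncomputable def yc : W.CoordinateRing :=
  WeierstrassCurve.Affine.CoordinateRing.mk W (X : R[X][X])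

/-- class of a constant -/
noncomputable def cc (r : R) : W.CoordinateRing :=
  WeierstrassCurve.Affine.CoordinateRing.mk W (C (C r))

theorem algebraMap_eq_cc (r : R) : algebraMap R W.CoordinateRing r = cc W r := rfl

theorem a6_mem : cc W W.a₆ ∈ Ideal.span {xc W, yc W} := by
  have h0 : WeierstrassCurve.Affine.CoordinateRing.mk W
      ((X : R[X][X]) ^ 2 + C (C W.a₁ * X + C W.a₃) * (X : R[X][X]) -
        C (X ^ 3 + C W.a₂ * X ^ 2 + C W.a₄ * X + C W.a₆)) = 0 :=
    AdjoinRoot.mk_self (f := W.polynomial)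
  simp only [map_sub, map_add, map_mul, map_pow] at h0
  have h1 : cc W W.a₆ = yc W * (yc W + cc W W.a₁ * xc W + cc W W.a₃) -
      xc W * (xc W ^ 2 + cc W W.a₂ * xc W + cc W W.a₄) := by
    unfold cc xc yc
    linear_combination (-1 : W.CoordinateRing) * h0
  rw [h1]
  exact Ideal.sub_mem _
    (Ideal.mul_mem_right _ _ (Ideal.subset_span (by simp)))
    (Ideal.mul_mem_right _ _ (Ideal.subset_span (by simp)))

theorem cc_mul (r s : R) : cc W (r * s) = cc W r * cc W s := by
  unfold cc
  simp only [map_mul]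

theorem cc_mem_of_mem_max [IsDomain R] [IsDiscreteValuationRing R]
    (h6 : W.a₆ ∈ IsLocalRing.maximalIdeal R) (h6' : W.a₆ ∉ IsLocalRing.maximalIdeal R ^ 2)
    (r : R) (hr : r ∈ IsLocalRing.maximalIdeal R) :
    cc W r ∈ Ideal.span {xc W, yc W} := by
  obtain ⟨ϖ, hϖ⟩ := IsDiscreteValuationRing.exists_irreducible R
  have hm : IsLocalRing.maximalIdeal R = Ideal.span {ϖ} := hϖ.maximalIdeal_eq
  rw [hm] at h6 h6' hr
  obtain ⟨u, hu⟩ := Ideal.mem_span_singleton'.mp h6
  obtain ⟨s, hs⟩ := Ideal.mem_span_singleton'.mp hr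
  have hu_unit : IsUnit u := by
    by_contra hnu
    have hum : u ∈ IsLocalRing.maximalIdeal R :=
      (IsLocalRing.mem_maximalIdeal u).mpr (mem_nonunits_iff.mpr hnu)
    rw [hm] at hum
    obtain ⟨v, hv⟩ := Ideal.mem_span_singleton'.mp hum
    apply h6'
    rw [Ideal.span_singleton_pow]
    exact Ideal.mem_span_singleton'.mpr ⟨v, by rw [← hu, ← hv]; ring⟩
  obtain ⟨u', hu'⟩ := hu_unit.exists_left_inv
  have hr' : r = s * u' * W.a₆ := by
    rw [← hu, ← hs]
    linear_combination (-(s * ϖ)) * hu'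
  rw [hr', cc_mul]
  exact Ideal.mul_mem_left _ _ (a6_mem W)

theorem P_eq [IsDomain R] [IsDiscreteValuationRing R]
    (h6 : W.a₆ ∈ IsLocalRing.maximalIdeal R) (h6' : W.a₆ ∉ IsLocalRing.maximalIdeal R ^ 2)
    (P : Ideal W.CoordinateRing) [hPmax : P.IsMaximal]
    (hP : ∀ r ∈ IsLocalRing.maximalIdeal R, cc W r ∈ P) (hx : xc W ∈ P) (hy : yc W ∈ P) :
    P = Ideal.span {xc W, yc W} := by
  have hxs : xc W ∈ Ideal.span {xc W, yc W} := Ideal.subset_span (by simp)
  have hys : yc W ∈ Ideal.span {xc W, yc W} := Ideal.subset_span (by simp)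
  have hle : Ideal.span {xc W, yc W} ≤ P := by
    rw [Ideal.span_le]
    rintro z (rfl | rfl)
    · exact hx
    · exact hy
  refine le_antisymm (fun c hc => ?_) hle
  obtain ⟨p, q, rfl⟩ := WeierstrassCurve.Affine.CoordinateRing.exists_smul_basis_eq (W' := W) c
  rw [WeierstrassCurve.Affine.CoordinateRing.smul, WeierstrassCurve.Affine.CoordinateRing.smul,
    mul_one] at hc ⊢
  have hq : WeierstrassCurve.Affine.CoordinateRing.mk W (C q) *
      WeierstrassCurve.Affine.CoordinateRing.mk W (X : R[X][X]) ∈ Ideal.span {xc W, yc W} :=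
    Ideal.mul_mem_left _ _ hys
  have hp : WeierstrassCurve.Affine.CoordinateRing.mk W (C p) =
      WeierstrassCurve.Affine.CoordinateRing.mk W (C (divX p)) * xc W + cc W (p.coeff 0) := by
    conv_lhs => rw [← divX_mul_X_add p]
    unfold xc cc
    simp only [map_add, map_mul]
  have h1 : WeierstrassCurve.Affine.CoordinateRing.mk W (C p) ∈ P :=
    (Ideal.add_mem_iff_left P (hle hq)).mp hc
  have h0 : cc W (p.coeff 0) ∈ P := by
    rw [hp] at h1
    exact (Ideal.add_mem_iff_right P (Ideal.mul_mem_left _ _ hx)).mp h1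
  have hr : p.coeff 0 ∈ IsLocalRing.maximalIdeal R := by
    by_contra hnr
    have hunit : IsUnit (p.coeff 0) := IsLocalRing.notMem_maximalIdeal.mp hnr
    have hu2 : IsUnit (cc W (p.coeff 0)) :=
      ((hunit.map (C : R →+* R[X])).map (C : R[X] →+* R[X][X])).map
        (WeierstrassCurve.Affine.CoordinateRing.mk W)
    exact hPmax.ne_top (Ideal.eq_top_of_isUnit_mem _ h0 hu2)
  rw [hp]
  exact Ideal.add_mem _ (Ideal.add_mem _ (Ideal.mul_mem_left _ _ hxs)
    (cc_mem_of_mem_max W h6 h6' _ hr)) hq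

theorem two_le_height_under [IsDomain R] [IsDiscreteValuationRing R]
    (P : Ideal W.CoordinateRing) [hPmax : P.IsMaximal]
    (hP : ∀ r ∈ IsLocalRing.maximalIdeal R, cc W r ∈ P) (hx : xc W ∈ P) :
    (2 : ℕ∞) ≤ (P.under R[X]).height := by
  haveI hq1 : (Ideal.map (C : R →+* R[X]) (IsLocalRing.maximalIdeal R)).IsPrime := inferInstance
  have hle : Ideal.map (C : R →+* R[X]) (IsLocalRing.maximalIdeal R) ≤ P.under R[X] := by
    rw [Ideal.map_le_iff_le_comap]
    intro r hr
    show algebraMap R[X] W.CoordinateRing (C r) ∈ P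
    exact hP r hr
  have hXmem : (X : R[X]) ∈ P.under R[X] := by
    show algebraMap R[X] W.CoordinateRing X ∈ P
    exact hx
  have hXnot : (X : R[X]) ∉ Ideal.map (C : R →+* R[X]) (IsLocalRing.maximalIdeal R) := by
    rw [Ideal.mem_map_C_iff]
    intro h
    have h1 := h 1
    rw [coeff_X_one] at h1
    exact (Ideal.ne_top_iff_one _).mp (IsLocalRing.maximalIdeal.isMaximal R).ne_top h1
  have hlt : Ideal.map (C : R →+* R[X]) (IsLocalRing.maximalIdeal R) < P.under R[X] :=
    lt_of_le_of_ne hle (fun h => hXnot (h ▸ hXmem))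
  have hbot : (⊥ : Ideal R[X]) < Ideal.map (C : R →+* R[X]) (IsLocalRing.maximalIdeal R) := by
    rw [bot_lt_iff_ne_bot]
    intro h
    obtain ⟨r, hr, hr0⟩ :=
      Submodule.exists_mem_ne_zero_of_ne_bot (IsDiscreteValuationRing.not_a_field R)
    have h2 : C r ∈ Ideal.map (C : R →+* R[X]) (IsLocalRing.maximalIdeal R) :=
      Ideal.mem_map_of_mem _ hr
    rw [h, Ideal.mem_bot] at h2
    exact hr0 (C_eq_zero.mp h2)
  have e1 := Ideal.height_add_one_le_of_lt_of_isPrime hbot
  have e2 := Ideal.height_add_one_le_of_lt_of_isPrime hlt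
  have e3 : (1 : ℕ∞) ≤ (Ideal.map (C : R →+* R[X]) (IsLocalRing.maximalIdeal R)).height :=
    le_trans le_add_self e1
  calc (2 : ℕ∞) = 1 + 1 := one_add_one_eq_two.symm
    _ ≤ (Ideal.map (C : R →+* R[X]) (IsLocalRing.maximalIdeal R)).height + 1 :=
        by gcongr
    _ ≤ _ := e2

theorem main (R : Type u) [CommRing R] [IsDomain R]
    [IsDiscreteValuationRing R] (W : WeierstrassCurve.Affine R)
    (h6 : W.a₆ ∈ IsLocalRing.maximalIdeal R) (h6' : W.a₆ ∉ IsLocalRing.maximalIdeal R ^ 2)
    (P : Ideal W.CoordinateRing) [P.IsMaximal]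
    (hP : ∀ r ∈ IsLocalRing.maximalIdeal R, algebraMap R W.CoordinateRing r ∈ P)
    (hx : WeierstrassCurve.Affine.CoordinateRing.mk W (C X) ∈ P)
    (hy : WeierstrassCurve.Affine.CoordinateRing.mk W X ∈ P) :
    IsRegularLocalRing (Localization.AtPrime P) := by
  have hP' : ∀ r ∈ IsLocalRing.maximalIdeal R, cc W r ∈ P := fun r hr => hP r hr
  have hPeq := P_eq W h6 h6' P hP' hx hy
  haveI : IsNoetherianRing W.CoordinateRing := inferInstance
  apply IsRegularLocalRing.of_spanFinrank_maximalIdeal_le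
  have hmap : Ideal.map (algebraMap W.CoordinateRing (Localization.AtPrime P)) P =
      Ideal.span {algebraMap W.CoordinateRing (Localization.AtPrime P) (xc W),
        algebraMap W.CoordinateRing (Localization.AtPrime P) (yc W)} :=
    (congrArg (Ideal.map (algebraMap W.CoordinateRing (Localization.AtPrime P))) hPeq).trans
      (by rw [Ideal.map_span, Set.image_pair])
  have hspan : (IsLocalRing.maximalIdeal (Localization.AtPrime P)).spanFinrank ≤ 2 := by
    rw [← IsLocalization.AtPrime.map_eq_maximalIdeal P (Localization.AtPrime P), hmap]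
    refine le_trans (Submodule.spanFinrank_span_le_ncard_of_finite (Set.toFinite _)) ?_
    refine le_trans (Set.ncard_insert_le _ _) ?_
    rw [Set.ncard_singleton]
  have hht : (2 : ℕ∞) ≤ P.height := by
    have h1 := Ideal.height_eq_height_add_of_liesOver_of_hasGoingDown (P.under R[X]) P
    rw [h1]
    exact le_trans (two_le_height_under W P hP' hx) le_self_add
  rw [IsLocalization.AtPrime.ringKrullDim_eq_height P (Localization.AtPrime P)]
  have h2 : (((IsLocalRing.maximalIdeal (Localization.AtPrime P)).spanFinrank : ℕ) : WithBot ℕ∞) =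
      ((((IsLocalRing.maximalIdeal (Localization.AtPrime P)).spanFinrank : ℕ) : ℕ∞) : WithBot ℕ∞) :=
    rfl
  rw [h2]
  exact WithBot.coe_le_coe.mpr (le_trans (by exact_mod_cast hspan) hht)

end Groth.Agent.Lib.WeierRegH4
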