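import Mathlib
import Groth.Agent.Lib.RegSmoothPt_helper3
import Groth.Agent.Lib.SmoothRoot_helper3
import Groth.Agent.Lib.WeierReg_helper4

/-!
# Regularity of the affine Weierstrass scheme over a DVR (helper3)

`a₃, a₄, a₆ ∈ m`, `a₆ ∉ m²`, `Δ ≠ 0` ⟹ all local rings of `R[x,y]/(W)` are regular.
Smooth points by the Jacobian criterion (`RegSmoothPtH3`), the unique singular point of the special
fibre by helper4's `WeierRegH4.main`.
-/

set_option autoImplicit false
set_option maxSynthPendingDepth 3
universe u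

namespace Groth.Agent.Lib.WeierRegH3

open Polynomial Groth.Agent.Lib.SmoothRootH3

instance towerBase {R A : Type u} [CommRing R] [CommRing A] [Algebra R A] (g : A[X]) :
    IsScalarTower R A[X] (AdjoinRoot g) :=
  inferInstanceAs (IsScalarTower R A[X] (A[X] ⧸ Ideal.span {g}))

variable {R : Type u} [CommRing R] (W : WeierstrassCurve.Affine R)

/-- `∂/∂Y` with values in the coordinate ring. -/
noncomputable def DY : Derivation R R[X][X] W.CoordinateRing :=
  (Algebra.linearMap R[X][X] W.CoordinateRing).compDer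
    ((Polynomial.derivative' : Derivation R[X] R[X][X] R[X][X]).restrictScalars R)

theorem DY_apply (q : R[X][X]) : DY W q = AdjoinRoot.mk W.polynomial (derivative q) := rfl

/-- `d/dX` on `R[X]` with values in the coordinate ring. -/
noncomputable def D0 : Derivation R R[X] W.CoordinateRing :=
  (Algebra.linearMap R[X] W.CoordinateRing).compDer
    (Polynomial.derivative' : Derivation R R[X] R[X])

theorem D0_apply (p : R[X]) : D0 W p = AdjoinRoot.mk W.polynomial (C (derivative p)) := rfl

/-- `∂/∂X` with values in the coordinate ring. -/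
noncomputable def DX : Derivation R R[X][X] W.CoordinateRing :=
  (evalRoot W.polynomial).compDer (D0 W).mapCoeffs

theorem DX_C (p : R[X]) : DX W (C p) = AdjoinRoot.mk W.polynomial (C (derivative p)) := by
  change evalRoot W.polynomial ((D0 W).mapCoeffs (C p)) = _
  rw [Derivation.mapCoeffs_C, evalRoot_single, pow_zero, one_mul, D0_apply]

theorem DX_X : DX W (X : R[X][X]) = 0 := by
  change evalRoot W.polynomial ((D0 W).mapCoeffs X) = _
  rw [Derivation.mapCoeffs_X, map_zero]

theorem DY_polynomial :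
    DY W W.polynomial = AdjoinRoot.mk W.polynomial W.polynomialY := by
  rw [DY_apply]
  congr 1
  simp only [WeierstrassCurve.Affine.polynomial, WeierstrassCurve.Affine.polynomialY,
    derivative_sub, derivative_add, derivative_mul, derivative_C, derivative_X, derivative_X_pow,
    zero_mul, zero_add, mul_one, sub_zero]
  simp [C_ofNat]

theorem DX_polynomial :
    DX W W.polynomial = AdjoinRoot.mk W.polynomial W.polynomialX := by
  have h1 : DX W ((X : R[X][X]) ^ 2) = 0 := by
    rw [Derivation.leibniz_pow, DX_X, smul_zero, smul_zero]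
  have h2 : ∀ q : R[X], DX W (C q * X) =
      AdjoinRoot.mk W.polynomial (X * C (derivative q)) := by
    intro q
    rw [Derivation.leibniz, DX_X, smul_zero, zero_add, DX_C, Algebra.smul_def, map_mul]
    rfl
  have h0 : DX W W.polynomial = DX W ((X : R[X][X]) ^ 2 + C (C W.a₁ * X + C W.a₃) * X -
      C (X ^ 3 + C W.a₂ * X ^ 2 + C W.a₄ * X + C W.a₆)) := rfl
  have hX : W.polynomialX = C (C W.a₁) * X - C (C 3 * X ^ 2 + C (2 * W.a₂) * X + C W.a₄) := rfl
  rw [h0, hX, map_sub (DX W), map_add (DX W), h1, h2, DX_C, zero_add, ← map_sub]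
  congr 1
  simp only [derivative_add, derivative_mul, derivative_C, derivative_X, derivative_X_pow,
    zero_mul, zero_add, mul_one, add_zero]
  simp only [map_add, map_mul, map_pow, Nat.cast_ofNat, Nat.add_one_sub_one, pow_one]
  simp only [C_ofNat, C_mul, C_add, C_pow, map_ofNat]
  ring


open WeierstrassCurve.Affine in
/-- Points where one of the partial derivatives does not vanish are regular. -/
theorem regular_of_partial_notMem [IsDomain R] [IsDiscreteValuationRing R]
    (P : Ideal W.CoordinateRing) [P.IsPrime]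
    (h : AdjoinRoot.mk W.polynomial W.polynomialX ∉ P ∨
      AdjoinRoot.mk W.polynomial W.polynomialY ∉ P) :
    IsRegularLocalRing (Localization.AtPrime P) := by
  haveI : Algebra.Smooth R R[X] := {}
  haveI : Algebra.Smooth R[X] R[X][X] := {}
  haveI : Algebra.Smooth R R[X][X] := Algebra.Smooth.comp R R[X] R[X][X]
  have hsurj : Function.Surjective (algebraMap R[X][X] W.CoordinateRing) :=
    AdjoinRoot.mk_surjective
  have hker : RingHom.ker (algebraMap R[X][X] W.CoordinateRing) = Ideal.span {W.polynomial} :=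
    Ideal.mk_ker
  haveI : Algebra.FinitePresentation R W.CoordinateRing := by
    refine Algebra.FinitePresentation.of_surjective
      (f := IsScalarTower.toAlgHom R R[X][X] W.CoordinateRing) hsurj ?_
    have : RingHom.ker (IsScalarTower.toAlgHom R R[X][X] W.CoordinateRing).toRingHom =
        RingHom.ker (algebraMap R[X][X] W.CoordinateRing) := rfl
    rw [this, hker]
    exact ⟨{W.polynomial}, by simp⟩
  haveI : Algebra.IsSmoothAt R P := by
    rcases h with h | h
    · exact Groth.Agent.Lib.RegSmoothPtH3.isSmoothAt_of_derivation R R[X][X] W.CoordinateRing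
        W.polynomial hsurj hker P (DX W) (by rwa [DX_polynomial])
    · exact Groth.Agent.Lib.RegSmoothPtH3.isSmoothAt_of_derivation R R[X][X] W.CoordinateRing
        W.polynomial hsurj hker P (DY W) (by rwa [DY_polynomial])
  exact Groth.Agent.Lib.RegSmoothPtH3.isRegularLocalRing_of_isSmoothAt R W.CoordinateRing P

open WeierstrassCurve.Affine in
/-- A singular point lies over the closed point and is the origin. -/
theorem mem_of_partials_mem [IsDomain R] [IsDiscreteValuationRing R] (hΔ : W.Δ ≠ 0)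
    (h3 : W.a₃ ∈ IsLocalRing.maximalIdeal R) (h4 : W.a₄ ∈ IsLocalRing.maximalIdeal R)
    (h6 : W.a₆ ∈ IsLocalRing.maximalIdeal R)
    (P : Ideal W.CoordinateRing) [P.IsPrime]
    (hX : AdjoinRoot.mk W.polynomial W.polynomialX ∈ P)
    (hY : AdjoinRoot.mk W.polynomial W.polynomialY ∈ P) :
    (∀ r ∈ IsLocalRing.maximalIdeal R, algebraMap R W.CoordinateRing r ∈ P) ∧
      AdjoinRoot.mk W.polynomial (C X) ∈ P ∧ AdjoinRoot.mk W.polynomial X ∈ P := by
  let ev : R[X][X] →+* W.CoordinateRing ⧸ P :=
    (Ideal.Quotient.mk P).comp (AdjoinRoot.mk W.polynomial)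
  let φ : R →+* W.CoordinateRing ⧸ P := ev.comp ((C : R[X] →+* R[X][X]).comp (C : R →+* R[X]))
  set x' : W.CoordinateRing ⧸ P := ev (C X) with hx'
  set y' : W.CoordinateRing ⧸ P := ev X with hy'
  have hC : ∀ r : R, ev (C (C r)) = φ r := fun r => rfl
  have hE0 : ev W.polynomial = 0 := by
    change Ideal.Quotient.mk P (AdjoinRoot.mk W.polynomial W.polynomial) = 0
    rw [AdjoinRoot.mk_self, map_zero]
  have hFX0 : ev W.polynomialX = 0 := Ideal.Quotient.eq_zero_iff_mem.mpr hX
  have hFY0 : ev W.polynomialY = 0 := Ideal.Quotient.eq_zero_iff_mem.mpr hY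
  have hE : y' ^ 2 + φ W.a₁ * x' * y' + φ W.a₃ * y' -
      (x' ^ 3 + φ W.a₂ * x' ^ 2 + φ W.a₄ * x' + φ W.a₆) = 0 := by
    have hE0' : ev ((X : R[X][X]) ^ 2 + C (C W.a₁ * X + C W.a₃) * X -
      C (X ^ 3 + C W.a₂ * X ^ 2 + C W.a₄ * X + C W.a₆)) = 0 := hE0
    simp only [map_sub, map_add, map_mul, map_pow, C_add, C_mul, C_pow, hC] at hE0'
    linear_combination hE0'
  have hFX : φ W.a₁ * y' - (3 * x' ^ 2 + 2 * φ W.a₂ * x' + φ W.a₄) = 0 := by
    have h0 : W.polynomialX =
      C (C W.a₁) * X - C (C 3 * X ^ 2 + C (2 * W.a₂) * X + C W.a₄) := rfl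
    rw [h0] at hFX0
    simp only [map_sub, map_add, map_mul, map_pow, C_add, C_mul, C_pow, hC] at hFX0
    have h3' : φ 3 = 3 := map_ofNat φ 3
    have h2' : φ 2 = 2 := map_ofNat φ 2
    rw [h3', h2'] at hFX0
    linear_combination hFX0
  have hFY : 2 * y' + φ W.a₁ * x' + φ W.a₃ = 0 := by
    have h0 : W.polynomialY = C (C 2) * X + C (C W.a₁ * X + C W.a₃) := rfl
    rw [h0] at hFY0
    simp only [map_add, map_mul, C_add, C_mul, hC] at hFY0
    have h2' : φ 2 = 2 := map_ofNat φ 2
    rw [h2'] at hFY0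
    linear_combination hFY0
  -- the discriminant vanishes in the residue domain
  have hΔ0 : φ W.Δ = 0 := by
    by_contra hne
    have hne' : (W.map φ).toAffine.Δ ≠ 0 := by
      rw [WeierstrassCurve.map_Δ]
      exact hne
    have hEq : (W.map φ).toAffine.Equation x' y' := by
      rw [equation_iff']
      simp only [WeierstrassCurve.map_a₁, WeierstrassCurve.map_a₂, WeierstrassCurve.map_a₃,
        WeierstrassCurve.map_a₄, WeierstrassCurve.map_a₆]
      exact hE
    have hns := (equation_iff_nonsingular_of_Δ_ne_zero hne').mp hEq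
    rw [nonsingular_iff'] at hns
    simp only [WeierstrassCurve.map_a₁, WeierstrassCurve.map_a₂, WeierstrassCurve.map_a₃,
      WeierstrassCurve.map_a₄, WeierstrassCurve.map_a₆] at hns
    rcases hns.2 with h | h
    · exact h hFX
    · exact h hFY
  -- hence the kernel of `φ` is the maximal ideal
  have hker : RingHom.ker φ = IsLocalRing.maximalIdeal R := by
    haveI : (RingHom.ker φ).IsPrime := RingHom.ker_isPrime φ
    have hne : RingHom.ker φ ≠ ⊥ := by
      intro h
      have : W.Δ ∈ RingHom.ker φ := hΔ0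
      rw [h, Ideal.mem_bot] at this
      exact hΔ this
    exact IsLocalRing.eq_maximalIdeal (Ideal.IsPrime.isMaximal inferInstance hne)
  have hm : ∀ r ∈ IsLocalRing.maximalIdeal R, φ r = 0 := by
    intro r hr
    rw [← hker] at hr
    exact hr
  have h3' := hm _ h3
  have h4' := hm _ h4
  have h6' := hm _ h6
  have hx3 : x' ^ 3 = 0 := by
    linear_combination 2 * hE - x' * hFX - y' * hFY - y' * h3' + x' * h4' + 2 * h6'
  have hx0 : x' = 0 := pow_eq_zero_iff (by norm_num) |>.mp hx3
  have hy2 : y' ^ 2 = 0 := by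
    linear_combination hE - (φ W.a₁ * y' - x' ^ 2 - φ W.a₂ * x' - φ W.a₄) * hx0 - y' * h3' + h6'
  have hy0 : y' = 0 := pow_eq_zero_iff (by norm_num) |>.mp hy2
  refine ⟨fun r hr => ?_, ?_, ?_⟩
  · exact Ideal.Quotient.eq_zero_iff_mem.mp (hm r hr)
  · exact Ideal.Quotient.eq_zero_iff_mem.mp hx0
  · exact Ideal.Quotient.eq_zero_iff_mem.mp hy0

open WeierstrassCurve.Affine Groth.Agent.Lib.WeierRegH4 in
/-- A prime containing `m`, `x`, `y` is maximal. -/
theorem isMaximal_of_mem [IsDomain R] [IsDiscreteValuationRing R]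
    (P : Ideal W.CoordinateRing) [hPp : P.IsPrime]
    (hP : ∀ r ∈ IsLocalRing.maximalIdeal R, algebraMap R W.CoordinateRing r ∈ P)
    (hx : AdjoinRoot.mk W.polynomial (C X) ∈ P) (hy : AdjoinRoot.mk W.polynomial X ∈ P) :
    P.IsMaximal := by
  have hconst : ∀ c : W.CoordinateRing, ∃ r : R, c - cc W r ∈ P := by
    intro c
    obtain ⟨p, q, rfl⟩ := CoordinateRing.exists_smul_basis_eq (W' := W) c
    rw [CoordinateRing.smul, CoordinateRing.smul, mul_one]
    refine ⟨p.coeff 0, ?_⟩
    have hp : CoordinateRing.mk W (C p) =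
        CoordinateRing.mk W (C (divX p)) * xc W + cc W (p.coeff 0) := by
      conv_lhs => rw [← divX_mul_X_add p]
      unfold xc cc
      simp only [map_add, map_mul]
    rw [hp]
    have : CoordinateRing.mk W (C (divX p)) * xc W + cc W (p.coeff 0) +
        CoordinateRing.mk W (C q) * CoordinateRing.mk W (X : R[X][X]) - cc W (p.coeff 0) =
        CoordinateRing.mk W (C (divX p)) * xc W +
        CoordinateRing.mk W (C q) * CoordinateRing.mk W (X : R[X][X]) := by ring
    rw [this]
    exact Ideal.add_mem _ (Ideal.mul_mem_left _ _ hx) (Ideal.mul_mem_left _ _ hy)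
  rw [Ideal.isMaximal_iff]
  refine ⟨fun h => hPp.ne_top ((Ideal.eq_top_iff_one _).mpr h), ?_⟩
  intro J c hPJ hcP hcJ
  obtain ⟨r, hr⟩ := hconst c
  have hrJ : cc W r ∈ J := by
    have : cc W r = c - (c - cc W r) := by ring
    rw [this]
    exact Ideal.sub_mem _ hcJ (hPJ hr)
  have hrm : r ∉ IsLocalRing.maximalIdeal R := by
    intro hrm
    apply hcP
    have : c = (c - cc W r) + cc W r := by ring
    rw [this]
    exact Ideal.add_mem _ hr (hP r hrm)
  have hunit : IsUnit r := IsLocalRing.notMem_maximalIdeal.mp hrm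
  have hu2 : IsUnit (cc W r) :=
    ((hunit.map (C : R →+* R[X])).map (C : R[X] →+* R[X][X])).map (CoordinateRing.mk W)
  exact (Ideal.eq_top_iff_one _).mp (Ideal.eq_top_of_isUnit_mem _ hrJ hu2)

/-- The affine Weierstrass scheme is regular. -/
theorem main (R : Type u) [CommRing R] [IsDomain R]
    [IsDiscreteValuationRing R] (W : WeierstrassCurve.Affine R) (hΔ : W.Δ ≠ 0)
    (h3 : W.a₃ ∈ IsLocalRing.maximalIdeal R) (h4 : W.a₄ ∈ IsLocalRing.maximalIdeal R)
    (h6 : W.a₆ ∈ IsLocalRing.maximalIdeal R) (h6' : W.a₆ ∉ IsLocalRing.maximalIdeal R ^ 2)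
    (P : Ideal W.CoordinateRing) [P.IsPrime] :
    IsRegularLocalRing (Localization.AtPrime P) := by
  by_cases h : AdjoinRoot.mk W.polynomial W.polynomialX ∈ P ∧
      AdjoinRoot.mk W.polynomial W.polynomialY ∈ P
  · obtain ⟨hm, hx, hy⟩ := mem_of_partials_mem W hΔ h3 h4 h6 P h.1 h.2
    haveI := isMaximal_of_mem W P hm hx hy
    exact Groth.Agent.Lib.WeierRegH4.main R W h6 h6' P hm hx hy
  · rw [not_and_or] at h
    exact regular_of_partial_notMem W P h

end Groth.Agent.Lib.WeierRegH3
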