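import Mathlib
import Groth.Prelude
import Groth.Agent.Lib.WeightBC_helper4

/-!
# Composition of weightings (helper4)
-/

set_option autoImplicit false
set_option linter.style.haveILetI false
set_option linter.unusedVariables false

universe u

open CategoryTheory CategoryTheory.Limits AlgebraicGeometry TopologicalSpace Opposite

namespace Groth.Agent.Lib.WeightH4

open PurInsepH4 EtNbhdFinH4 EtLocH4 IsLocalRing

theorem finSepDegree_comp {F E K : Type u} [Field F] [Field E] [Field K]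
    (φ : F →+* E) (ψ : E →+* K) (hψ : ψ.Finite) :
    @Field.finSepDegree F K _ _ (ψ.comp φ).toAlgebra =
      @Field.finSepDegree F E _ _ φ.toAlgebra * @Field.finSepDegree E K _ _ ψ.toAlgebra := by
  letI : Algebra F E := φ.toAlgebra
  letI : Algebra E K := ψ.toAlgebra
  letI : Algebra F K := (ψ.comp φ).toAlgebra
  haveI : IsScalarTower F E K := IsScalarTower.of_algebraMap_eq (fun x => rfl)
  haveI : Module.Finite E K := hψ
  exact (Field.finSepDegree_mul_finSepDegree_of_isAlgebraic F E K).symm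

theorem sepDeg_comp_mul {A W B : Scheme.{u}} (α : A ⟶ W) (β : W ⟶ B) [LocallyQuasiFinite α]
    (a : A) : sepDeg (α ≫ β) a = sepDeg α a * sepDeg β (α a) := by
  unfold sepDeg
  have h1 : ((α ≫ β).residueFieldMap a).hom =
      ((α.residueFieldMap a).hom).comp (β.residueFieldMap (α a)).hom := by
    rw [Scheme.residueFieldMap_comp]; rfl
  rw [h1]
  exact (finSepDegree_comp _ _
    (finite_residueFieldMap α a (Scheme.Hom.quasiFiniteAt α a))).trans (mul_comm _ _)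

/-- Fubini for fibre integrals along a composition of finite morphisms. -/
theorem fibreIntegral_comp {A W B : Scheme.{u}} (α : A ⟶ W) (β : W ⟶ B) [IsFinite α]
    [IsFinite β] (G₁ : A → ℤ) (G₂ : W → ℤ) (z : B) :
    MoreMor.fibreIntegral (α ≫ β) (fun a => G₁ a * G₂ (α a)) z =
      MoreMor.fibreIntegral β (fun q => G₂ q * MoreMor.fibreIntegral α G₁ q) z := by
  rw [fibreIntegral_eq_mem (α ≫ β), fibreIntegral_eq_mem β]
  have hset : (α ≫ β) ⁻¹' {z} = ⋃ q ∈ β ⁻¹' {z}, α ⁻¹' {q} := by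
    ext a
    constructor
    · intro h
      exact Set.mem_biUnion (show α a ∈ β ⁻¹' {z} from h) rfl
    · intro h
      obtain ⟨q, hq, haq⟩ := Set.mem_iUnion₂.mp h
      have haq' : α a = q := haq
      have hq' : β q = z := hq
      show β (α a) = z
      rw [haq', hq']
  have hdisj : (β ⁻¹' {z}).PairwiseDisjoint (fun q => α ⁻¹' {q}) := by
    intro q _ q' _ hne
    exact Set.disjoint_left.mpr
      (fun a (ha : α a = q) (ha' : α a = q') => hne (ha.symm.trans ha'))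
  rw [hset, finsum_mem_biUnion hdisj (Scheme.Hom.finite_preimage_singleton β z)
    (fun q _ => Scheme.Hom.finite_preimage_singleton α q)]
  apply finsum_mem_congr rfl
  intro q hq
  have e1 : G₂ q * MoreMor.fibreIntegral α G₁ q * (sepDeg β q : ℤ) =
      ∑ᶠ a ∈ α ⁻¹' {q}, G₂ q * (G₁ a * (sepDeg α a : ℤ)) * (sepDeg β q : ℤ) := by
    rw [fibreIntegral_eq_mem α G₁ q, mul_finsum_mem, finsum_mem_mul]
  refine Eq.trans ?_ e1.symm
  apply finsum_mem_congr rfl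
  intro a ha
  have ha' : α a = q := ha
  subst ha'
  rw [sepDeg_comp_mul]
  push_cast
  ring

/-- One-sided version of `fibres_eq_nhd`. -/
theorem fibre_subset_nhd {P B : Scheme.{u}} (p₂ : P ⟶ B) (A C : P.Opens)
    (hA : IsFinite (A.ι ≫ p₂)) (b₀ : B) (hsub : (A : Set P) ∩ p₂ ⁻¹' {b₀} ⊆ (C : Set P)) :
    ∃ N : Set B, IsOpen N ∧ b₀ ∈ N ∧ ∀ z ∈ N, (A : Set P) ∩ p₂ ⁻¹' {z} ⊆ (C : Set P) := by
  haveI := hA
  have hC : IsClosed {τ : ↥A | A.ι τ ∉ C} := by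
    have hop : IsOpen {τ : ↥A | A.ι τ ∈ C} := C.2.preimage A.ι.continuous
    exact hop.isClosed_compl
  have hCim : IsClosed ((A.ι ≫ p₂) '' {τ : ↥A | A.ι τ ∉ C}) :=
    (A.ι ≫ p₂).isClosedMap _ hC
  refine ⟨((A.ι ≫ p₂) '' {τ : ↥A | A.ι τ ∉ C})ᶜ, hCim.isOpen_compl, ?_, ?_⟩
  · rintro ⟨τ, hτ, hτq⟩
    exact hτ (hsub ⟨τ.2, hτq⟩)
  · intro z hz p hp
    by_contra hcon
    exact hz ⟨⟨p, hp.1⟩, hcon, hp.2⟩

set_option maxHeartbeats 1600000 in
/-- From opens to open immersions. -/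
theorem immersion_of_opens {P₁ B₁ : Scheme.{u}} (q₂ : P₁ ⟶ B₁) (G' : P₁ → ℤ)
    (H' : ∀ (T₁ : P₁.Opens) (hfin : IsFinite (T₁.ι ≫ q₂)) (t₁ : P₁) (hmem : t₁ ∈ T₁)
      (huniq : ∀ q : P₁, q ∈ T₁ → q₂ q = q₂ t₁ → q = t₁)
      (hPI : PI (q₂.residueFieldMap t₁).hom),
      ∃ N : Set B₁, IsOpen N ∧ q₂ t₁ ∈ N ∧ ∀ z ∈ N,
        MoreMor.fibreIntegral (T₁.ι ≫ q₂) (fun t => G' (T₁.ι t)) z =
          MoreMor.fibreIntegral (T₁.ι ≫ q₂) (fun t => G' (T₁.ι t)) (q₂ t₁))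
    {T' : Scheme.{u}} (j : T' ⟶ P₁) [IsOpenImmersion j] (hfin : IsFinite (j ≫ q₂)) (t₀ : T')
    (huniq : ∀ q : T', q₂ (j q) = q₂ (j t₀) → q = t₀)
    (hPI : PI (q₂.residueFieldMap (j t₀)).hom) :
    ∃ N : Set B₁, IsOpen N ∧ q₂ (j t₀) ∈ N ∧ ∀ z ∈ N,
      MoreMor.fibreIntegral (j ≫ q₂) (fun t => G' (j t)) z =
        MoreMor.fibreIntegral (j ≫ q₂) (fun t => G' (j t)) (q₂ (j t₀)) := by
  obtain ⟨T, hT⟩ : ∃ T : P₁.Opens, T = j.opensRange := ⟨_, rfl⟩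
  obtain ⟨ε, hεiso, hεj⟩ : ∃ ε : T' ⟶ T.toScheme, IsIso ε ∧ ε ≫ T.ι = j := by
    subst hT
    exact ⟨j.isoOpensRange.hom, inferInstance, Scheme.Hom.isoOpensRange_hom_ι j⟩
  haveI := hεiso
  have hje : j ≫ q₂ = ε ≫ T.ι ≫ q₂ := by rw [← Category.assoc, hεj]
  have hfinT : IsFinite (T.ι ≫ q₂) :=
    (MorphismProperty.cancel_left_of_respectsIso @IsFinite ε (T.ι ≫ q₂)).mp
      (by rw [← hje]; exact hfin)
  have hpt : ∀ a : T', T.ι (ε a) = j a := fun a => congrArg (fun m : T' ⟶ P₁ => m a) hεj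
  have hmem : j t₀ ∈ T := by rw [hT]; exact ⟨t₀, rfl⟩
  have huniqT : ∀ q : P₁, q ∈ T → q₂ q = q₂ (j t₀) → q = j t₀ := by
    intro q hq hq2
    rw [hT] at hq
    obtain ⟨q', rfl⟩ := hq
    rw [huniq q' hq2]
  obtain ⟨N, hNo, hNb, hN⟩ := H' T hfinT (j t₀) hmem huniqT hPI
  have hint : ∀ z, MoreMor.fibreIntegral (j ≫ q₂) (fun t => G' (j t)) z =
      MoreMor.fibreIntegral (T.ι ≫ q₂) (fun t => G' (T.ι t)) z := by
    intro z
    rw [hje]
    exact WeightRestrictH4.fibreIntegral_comp_iso ε (T.ι ≫ q₂) (fun t => G' (T.ι t))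
      (fun t => G' (j t)) (fun a => congrArg G' (hpt a).symm) z
  refine ⟨N, hNo, hNb, fun z hz => ?_⟩
  rw [hint, hint]
  exact hN z hz

set_option maxHeartbeats 3200000 in
/-- Generic étale splitting: to prove constancy of the fibre integral of an open finite over the
base near a point, it suffices to treat (after étale base change) opens with a unique point with
purely inseparable residue field extension over the base point. -/
theorem const_nhd_of_pieces {P B : Scheme.{u}} (p₂ : P ⟶ B) (G : P → ℤ) (T : P.Opens)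
    (hfinT : IsFinite (T.ι ≫ p₂)) (b₀ : B)
    (H : ∀ {B₁ P₁ : Scheme.{u}} (e : B₁ ⟶ B) [Etale e] (q₁ : P₁ ⟶ P) (q₂ : P₁ ⟶ B₁)
      (hsq : IsPullback q₁ q₂ p₂ e) (T₁ : P₁.Opens) (hfin : IsFinite (T₁.ι ≫ q₂)) (t₁ : P₁)
      (hmem : t₁ ∈ T₁) (huniq : ∀ q : P₁, q ∈ T₁ → q₂ q = q₂ t₁ → q = t₁)
      (hPI : PI (q₂.residueFieldMap t₁).hom),
      ∃ N : Set B₁, IsOpen N ∧ q₂ t₁ ∈ N ∧ ∀ z ∈ N,
        MoreMor.fibreIntegral (T₁.ι ≫ q₂) (fun t => G (q₁ (T₁.ι t))) z =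
          MoreMor.fibreIntegral (T₁.ι ≫ q₂) (fun t => G (q₁ (T₁.ι t))) (q₂ t₁)) :
    ∃ N : Set B, IsOpen N ∧ b₀ ∈ N ∧ ∀ z ∈ N,
      MoreMor.fibreIntegral (T.ι ≫ p₂) (fun t => G (T.ι t)) z =
        MoreMor.fibreIntegral (T.ι ≫ p₂) (fun t => G (T.ι t)) b₀ := by
  obtain ⟨π, hπ⟩ : ∃ π : T.toScheme ⟶ B, π = T.ι ≫ p₂ := ⟨_, rfl⟩
  obtain ⟨G₀, hG⟩ : ∃ G₀ : T.toScheme → ℤ, G₀ = fun t => G (T.ι t) := ⟨_, rfl⟩
  rw [← hπ, ← hG]
  haveI hπfin : IsFinite π := by rw [hπ]; exact hfinT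
  have hfib : ∀ z : B, (π ⁻¹' {z}).Finite := fun z => Scheme.Hom.finite_preimage_singleton π z
  obtain ⟨n, t, htinj, htmem, htsurj⟩ := exists_enum (π ⁻¹' {b₀}) (hfib b₀)
  obtain ⟨B₁, e, b₁, he, heb, J, hJ, V, v, hclopen, hdisj, hV, hcov⟩ :=
    main9778 π b₀ t htinj (fun i => htmem i) (fun i => Scheme.Hom.quasiFiniteAt π (t i))
  haveI := he
  haveI := hJ
  haveI hσ₂fin : IsFinite (pullback.snd π e) :=
    MorphismProperty.pullback_snd (P := @IsFinite) π e hπfin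
  have hfib' : ∀ z : B₁, ((pullback.snd π e) ⁻¹' {z}).Finite := fun z =>
    Scheme.Hom.finite_preimage_singleton (pullback.snd π e) z
  have hcondpt : ∀ q : ↑(pullback π e),
      (pullback.fst π e ≫ π) q = (pullback.snd π e ≫ e) q := fun q =>
    congrArg (fun m : pullback π e ⟶ B => m q) pullback.condition
  have hbc : ∀ z : B₁, MoreMor.fibreIntegral (pullback.snd π e) (G₀ ∘ ⇑(pullback.fst π e)) z =
      MoreMor.fibreIntegral π G₀ (e z) := fun z =>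
    main1418 π hfib (pullback.snd π e) (pullback.fst π e) e (IsPullback.of_hasPullback π e) G₀ z
  obtain ⟨C, hCdef⟩ : ∃ C : Set ↑(pullback π e), C = (⋃ k : (Σ i, J i),
      ((V k.1 k.2 : (pullback π e).Opens) : Set ↑(pullback π e)))ᶜ := ⟨_, rfl⟩
  have hCcl : IsClosed C := by
    rw [hCdef]
    exact (isOpen_iUnion (fun k : (Σ i, J i) => (V k.1 k.2).isOpen)).isClosed_compl
  have hCim : IsClosed ((pullback.snd π e) '' C) := (pullback.snd π e).isClosedMap _ hCcl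
  have hb₁C : b₁ ∉ (pullback.snd π e) '' C := by
    rintro ⟨q, hqC, hq⟩
    have h1 : π (pullback.fst π e q) = b₀ := by
      have h2 : π (pullback.fst π e q) = e (pullback.snd π e q) := hcondpt q
      rw [h2, hq, heb]
    obtain ⟨i, hi⟩ := htsurj (pullback.fst π e q) h1
    obtain ⟨j, hj⟩ := hcov q i hq hi.symm
    rw [hCdef] at hqC
    exact hqC (Set.mem_iUnion.mpr ⟨⟨i, j⟩, hj⟩)
  have hcover : ∀ z, z ∉ (pullback.snd π e) '' C → (pullback.snd π e) ⁻¹' {z} ⊆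
      ⋃ k : (Σ i, J i), (((V k.1 k.2 : (pullback π e).Opens) : Set ↑(pullback π e)) ∩
        (pullback.snd π e) ⁻¹' {z}) := by
    intro z hz q hq
    by_contra hcon
    apply hz
    refine ⟨q, ?_, hq⟩
    rw [hCdef]
    intro hqU
    obtain ⟨k, hk⟩ := Set.mem_iUnion.mp hqU
    exact hcon (Set.mem_iUnion.mpr ⟨k, hk, hq⟩)
  obtain ⟨Φ, hΦ⟩ : ∃ Φ : ↑(pullback π e) → ℤ, Φ = fun p =>
      (G₀ ∘ ⇑(pullback.fst π e)) p * (sepDeg (pullback.snd π e) p : ℤ) := ⟨_, rfl⟩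
  obtain ⟨I, hI⟩ : ∃ I : (Σ i, J i) → B₁ → ℤ, I = fun k =>
      MoreMor.fibreIntegral ((V k.1 k.2).ι ≫ pullback.snd π e)
        (fun t => (G₀ ∘ ⇑(pullback.fst π e)) ((V k.1 k.2).ι t)) := ⟨_, rfl⟩
  have hIeq : ∀ k z, I k z = ∑ᶠ p ∈ (((V k.1 k.2 : (pullback π e).Opens) :
      Set ↑(pullback π e)) ∩ (pullback.snd π e) ⁻¹' {z}), Φ p := by
    intro k z
    rw [hI, hΦ]
    exact fibreIntegral_opens (pullback.snd π e) (V k.1 k.2) (G₀ ∘ ⇑(pullback.fst π e)) z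
  have hpw : ∀ z : B₁, Pairwise (Function.onFun Disjoint (fun k : (Σ i, J i) =>
      (((V k.1 k.2 : (pullback π e).Opens) : Set ↑(pullback π e)) ∩
        (pullback.snd π e) ⁻¹' {z}))) := by
    intro z k k' hne
    refine Set.disjoint_left.mpr (fun p hp hp' => hne ?_)
    obtain ⟨h1, h2⟩ := hdisj k.1 k.2 k'.1 k'.2 ⟨p, hp.1, hp'.1⟩
    exact Sigma.ext h1 h2
  have hsum : ∀ z, ∑ᶠ k, I k z = ∑ᶠ p ∈ ⋃ k : (Σ i, J i),
      (((V k.1 k.2 : (pullback π e).Opens) : Set ↑(pullback π e)) ∩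
        (pullback.snd π e) ⁻¹' {z}), Φ p := by
    intro z
    rw [finsum_mem_iUnion (hpw z) (fun k => (hfib' z).subset Set.inter_subset_right)]
    exact finsum_congr (fun k => hIeq k z)
  have hint : ∀ z, z ∉ (pullback.snd π e) '' C →
      MoreMor.fibreIntegral (pullback.snd π e) (G₀ ∘ ⇑(pullback.fst π e)) z = ∑ᶠ k, I k z := by
    intro z hz
    rw [hsum z, fibreIntegral_eq_mem, hΦ]
    refine finsum_mem_congr ?_ (fun _ _ => rfl)
    exact Set.Subset.antisymm (hcover z hz)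
      (Set.iUnion_subset (fun k => Set.inter_subset_right))
  -- the pieces
  obtain ⟨P₁, q₁, q₂, hP₁⟩ : ∃ (P₁ : Scheme.{u}) (q₁ : P₁ ⟶ P) (q₂ : P₁ ⟶ B₁),
      IsPullback q₁ q₂ p₂ e := ⟨_, _, _, IsPullback.of_hasPullback p₂ e⟩
  have hcond₁ : (pullback.fst π e ≫ T.ι) ≫ p₂ = pullback.snd π e ≫ e := by
    rw [Category.assoc, ← hπ]; exact pullback.condition
  obtain ⟨j₁, hj₁1, hj₁2⟩ : ∃ j₁ : pullback π e ⟶ P₁, j₁ ≫ q₁ = pullback.fst π e ≫ T.ι ∧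
      j₁ ≫ q₂ = pullback.snd π e :=
    ⟨hP₁.lift _ _ hcond₁, hP₁.lift_fst _ _ _, hP₁.lift_snd _ _ _⟩
  have hL : IsPullback j₁ (pullback.fst π e) q₁ T.ι := by
    refine IsPullback.of_right ?_ hj₁1 hP₁.flip
    rw [hj₁2, ← hπ]
    exact (IsPullback.of_hasPullback π e).flip
  haveI hj₁oi : IsOpenImmersion j₁ :=
    MorphismProperty.of_isPullback (P := @IsOpenImmersion) hL.flip inferInstance
  have hj₁1pt : ∀ s : ↑(pullback π e), q₁ (j₁ s) = T.ι (pullback.fst π e s) := fun s =>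
    congrArg (fun m : pullback π e ⟶ P => m s) hj₁1
  have hj₁2pt : ∀ s : ↑(pullback π e), q₂ (j₁ s) = pullback.snd π e s := fun s =>
    congrArg (fun m : pullback π e ⟶ B₁ => m s) hj₁2
  have hpiece : ∀ k : (Σ i, J i), ∃ N : Set B₁, IsOpen N ∧ b₁ ∈ N ∧
      ∀ z ∈ N, I k z = I k b₁ := by
    intro k
    obtain ⟨hvmem, hVfin, hvb, hVuniq, hVPI, -⟩ := hV k.1 k.2
    have hjk2 : ((V k.1 k.2).ι ≫ j₁) ≫ q₂ = (V k.1 k.2).ι ≫ pullback.snd π e := by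
      rw [Category.assoc, hj₁2]
    have hfink : IsFinite (((V k.1 k.2).ι ≫ j₁) ≫ q₂) := by rw [hjk2]; exact hVfin
    have hPI1 : PI ((pullback.snd π e).residueFieldMap (v k.1 k.2)).hom :=
      PI_of_isPurelyInseparable _ hVPI
    have hPI2 : PI (q₂.residueFieldMap (j₁ (v k.1 k.2))).hom := by
      have h5 : PI ((j₁ ≫ q₂).residueFieldMap (v k.1 k.2)).hom := by rw [hj₁2]; exact hPI1
      exact PI_residueFieldMap_of_comp j₁ q₂ _ h5
    have huq : ∀ q : ↥(V k.1 k.2), q₂ (((V k.1 k.2).ι ≫ j₁) q) =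
        q₂ (((V k.1 k.2).ι ≫ j₁) ⟨v k.1 k.2, hvmem⟩) → q = ⟨v k.1 k.2, hvmem⟩ := by
      intro q hq
      have h6 : pullback.snd π e q.1 = b₁ := by
        have h7 : q₂ (j₁ q.1) = q₂ (j₁ (v k.1 k.2)) := hq
        rw [hj₁2pt, hj₁2pt, hvb] at h7
        exact h7
      exact Subtype.ext (hVuniq q.1 q.2 h6)
    obtain ⟨N, hNo, hNb, hN⟩ := immersion_of_opens q₂ (fun p => G (q₁ p))
      (fun T₁ hfin t₁ hmem huniq hPI => H e q₁ q₂ hP₁ T₁ hfin t₁ hmem huniq hPI)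
      ((V k.1 k.2).ι ≫ j₁) hfink ⟨v k.1 k.2, hvmem⟩ huq hPI2
    have hF : (fun t : (V k.1 k.2).toScheme => G (q₁ (((V k.1 k.2).ι ≫ j₁) t))) =
        (fun t : (V k.1 k.2).toScheme =>
          (G₀ ∘ ⇑(pullback.fst π e)) ((V k.1 k.2).ι t)) := by
      funext t
      have h8 : q₁ (j₁ ((V k.1 k.2).ι t)) = T.ι (pullback.fst π e ((V k.1 k.2).ι t)) :=
        hj₁1pt _
      rw [hG]
      exact congrArg G h8
    have hIk : ∀ z, I k z = MoreMor.fibreIntegral (((V k.1 k.2).ι ≫ j₁) ≫ q₂)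
        (fun t => G (q₁ (((V k.1 k.2).ι ≫ j₁) t))) z := by
      intro z
      rw [hI, hjk2]
      exact (congrArg (fun F => MoreMor.fibreIntegral ((V k.1 k.2).ι ≫ pullback.snd π e) F z)
        hF).symm
    have hb : q₂ (((V k.1 k.2).ι ≫ j₁) ⟨v k.1 k.2, hvmem⟩) = b₁ := (hj₁2pt _).trans hvb
    refine ⟨N, hNo, ?_, fun z hz => ?_⟩
    · rw [← hb]; exact hNb
    · rw [hIk z, hIk b₁, hN z hz, hb]
  choose Nk hNko hNkb hNk using hpiece
  refine ⟨e '' (((pullback.snd π e) '' C)ᶜ ∩ ⋂ k, Nk k), ?_, ?_, ?_⟩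
  · exact e.isOpenMap _ (hCim.isOpen_compl.inter (isOpen_iInter_of_finite hNko))
  · exact ⟨b₁, ⟨hb₁C, Set.mem_iInter.mpr hNkb⟩, heb⟩
  · rintro _ ⟨z, ⟨hz1, hz2⟩, rfl⟩
    rw [← heb, ← hbc z, ← hbc b₁, hint z hz1, hint b₁ hb₁C]
    exact finsum_congr (fun k => hNk k z (Set.mem_iInter.mp hz2 k))

end Groth.Agent.Lib.WeightH4
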