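import Mathlib
import Groth.Prelude
import Groth.Agent.Lib.WeightComp_helper4

/-!
# Composition of weightings, part 2 (helper4)
-/

set_option autoImplicit false
set_option linter.style.haveILetI false
set_option linter.unusedVariables false

universe u

open CategoryTheory CategoryTheory.Limits AlgebraicGeometry TopologicalSpace Opposite

namespace Groth.Agent.Lib.WeightH4

open PurInsepH4 EtNbhdFinH4 EtLocH4 IsLocalRing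

set_option maxHeartbeats 3200000 in
/-- Core case of the composition lemma: the open `T` of `X ×_Y Q` lies over an open `W` of `Q`
finite over the base with a unique point over the base point. -/
theorem comp_core {X Y Z : Scheme.{u}} (f : X ⟶ Y) (g : Y ⟶ Z) [LocallyQuasiFinite f]
    [LocallyOfFiniteType f] [LocallyQuasiFinite g] [LocallyOfFiniteType g]
    (wf : ↑X → ℤ) (wg : ↑Y → ℤ) (hwf : MoreMor.IsWeighting f wf) (hwg : MoreMor.IsWeighting g wg)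
    {Q B P : Scheme.{u}} {a₁ : Q ⟶ Y} {a₂ : Q ⟶ B} {b : B ⟶ Z} (hQ : IsPullback a₁ a₂ g b)
    {p₁ : P ⟶ X} {φ : P ⟶ Q} (hP : IsPullback p₁ φ f a₁)
    (T : P.Opens) (hfinT : IsFinite (T.ι ≫ φ ≫ a₂)) (W : Q.Opens) (hfinW : IsFinite (W.ι ≫ a₂))
    (hTW : T ≤ φ ⁻¹ᵁ W) (w₀ : Q) (hw₀ : w₀ ∈ W)
    (huniqW : ∀ q : Q, q ∈ W → a₂ q = a₂ w₀ → q = w₀) :
    ∃ N : Set B, IsOpen N ∧ a₂ w₀ ∈ N ∧ ∀ z ∈ N,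
      MoreMor.fibreIntegral (T.ι ≫ φ ≫ a₂)
        (fun t => wf (p₁ (T.ι t)) * wg (f (p₁ (T.ι t)))) z =
      MoreMor.fibreIntegral (T.ι ≫ φ ≫ a₂)
        (fun t => wf (p₁ (T.ι t)) * wg (f (p₁ (T.ι t)))) (a₂ w₀) := by
  haveI := hfinW
  obtain ⟨PW, hPWdef⟩ : ∃ PW : P.Opens, PW = φ ⁻¹ᵁ W := ⟨_, rfl⟩
  obtain ⟨ψ, hψι, hψsq⟩ : ∃ ψ : PW.toScheme ⟶ W.toScheme, ψ ≫ W.ι = PW.ι ≫ φ ∧
      IsPullback PW.ι ψ φ W.ι := by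
    subst hPWdef
    exact ⟨φ ∣_ W, morphismRestrict_ι φ W, (isPullback_morphismRestrict φ W).flip⟩
  have hsqf : IsPullback (PW.ι ≫ p₁) ψ f (W.ι ≫ a₁) := hψsq.paste_horiz hP
  obtain ⟨T', hT'def⟩ : ∃ T' : PW.toScheme.Opens, T' = PW.ι ⁻¹ᵁ T := ⟨_, rfl⟩
  have hrange : Set.range (T'.ι ≫ PW.ι) = Set.range T.ι := by
    subst hT'def
    ext p
    constructor
    · rintro ⟨τ, rfl⟩
      have h1 : PW.ι ((PW.ι ⁻¹ᵁ T).ι τ) ∈ T := τ.2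
      exact ⟨⟨_, h1⟩, rfl⟩
    · rintro ⟨τ, rfl⟩
      have h1 : T.ι τ ∈ PW := by rw [hPWdef]; exact hTW τ.2
      exact ⟨⟨⟨T.ι τ, h1⟩, τ.2⟩, rfl⟩
  obtain ⟨ε, hεiso, hεfac⟩ : ∃ ε : T'.toScheme ⟶ T.toScheme, IsIso ε ∧
      ε ≫ T.ι = T'.ι ≫ PW.ι :=
    ⟨(IsOpenImmersion.isoOfRangeEq (T'.ι ≫ PW.ι) T.ι hrange).hom, inferInstance,
      IsOpenImmersion.isoOfRangeEq_hom_fac _ _ _⟩
  haveI := hεiso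
  obtain ⟨α, hα⟩ : ∃ α : T'.toScheme ⟶ W.toScheme, α = T'.ι ≫ ψ := ⟨_, rfl⟩
  obtain ⟨β, hβ⟩ : ∃ β : W.toScheme ⟶ B, β = W.ι ≫ a₂ := ⟨_, rfl⟩
  have hαβ : α ≫ β = ε ≫ (T.ι ≫ φ ≫ a₂) := by
    have e1 : (T'.ι ≫ ψ) ≫ (W.ι ≫ a₂) = T'.ι ≫ (ψ ≫ W.ι) ≫ a₂ := by
      simp only [Category.assoc]
    have e2 : ε ≫ (T.ι ≫ φ ≫ a₂) = (ε ≫ T.ι) ≫ φ ≫ a₂ := by simp only [Category.assoc]
    rw [hα, hβ, e1, e2, hψι, hεfac]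
    simp only [Category.assoc]
  haveI hfinαβ : IsFinite (α ≫ β) := by
    rw [hαβ]
    exact (MorphismProperty.cancel_left_of_respectsIso @IsFinite ε (T.ι ≫ φ ≫ a₂)).mpr hfinT
  haveI hfinβ : IsFinite β := by rw [hβ]; exact hfinW
  haveI hfinα : IsFinite α := IsFinite.of_comp α β
  have hFLC : IsLocallyConstant
      (MoreMor.fibreIntegral α (fun τ => wf ((PW.ι ≫ p₁) (T'.ι τ)))) := by
    have hfinα' : IsFinite (T'.ι ≫ ψ) := by rw [← hα]; exact hfinα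
    rw [hα]
    exact isLocallyConstant_of_isPullback f wf hwf hsqf T' hfinα'
  obtain ⟨F, hF⟩ : ∃ F : W.toScheme → ℤ,
      F = MoreMor.fibreIntegral α (fun τ => wf ((PW.ι ≫ p₁) (T'.ι τ))) := ⟨_, rfl⟩
  rw [← hF] at hFLC
  have hI₂LC : IsLocallyConstant (MoreMor.fibreIntegral β (fun q => wg (a₁ (W.ι q)))) := by
    rw [hβ]; exact isLocallyConstant_of_isPullback g wg hwg hQ W hfinW
  obtain ⟨I₂, hI₂⟩ : ∃ I₂ : B → ℤ,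
      I₂ = MoreMor.fibreIntegral β (fun q => wg (a₁ (W.ι q))) := ⟨_, rfl⟩
  rw [← hI₂] at hI₂LC
  obtain ⟨w₀', hw₀'⟩ : ∃ w₀' : W.toScheme, W.ι w₀' = w₀ := ⟨⟨w₀, hw₀⟩, rfl⟩
  have hβpt : ∀ q : W.toScheme, β q = a₂ (W.ι q) := fun q => by rw [hβ]; rfl
  have hCim : IsClosed (β '' {q : W.toScheme | F q = F w₀'}ᶜ) :=
    β.isClosedMap _ (hFLC.isOpen_fiber (F w₀')).isClosed_compl
  have hw₀C : a₂ w₀ ∉ β '' {q : W.toScheme | F q = F w₀'}ᶜ := by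
    rintro ⟨q, hqC, hq⟩
    apply hqC
    have h1 : W.ι q = w₀ := huniqW _ q.2 (by rw [← hβpt]; exact hq)
    have h2 : q = w₀' := Subtype.ext (h1.trans hw₀'.symm)
    show F q = F w₀'
    rw [h2]
  have hfub : ∀ z, MoreMor.fibreIntegral (α ≫ β)
      (fun τ => wf ((PW.ι ≫ p₁) (T'.ι τ)) * wg (a₁ (W.ι (α τ)))) z =
      MoreMor.fibreIntegral β (fun q => wg (a₁ (W.ι q)) * F q) z := by
    intro z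
    rw [hF]
    exact fibreIntegral_comp α β (fun τ => wf ((PW.ι ≫ p₁) (T'.ι τ)))
      (fun q => wg (a₁ (W.ι q))) z
  have hpt1 : ∀ τ : T'.toScheme, T.ι (ε τ) = PW.ι (T'.ι τ) := fun τ =>
    congrArg (fun m : T'.toScheme ⟶ P => m τ) hεfac
  have hpt2 : ∀ τ : T'.toScheme, a₁ (W.ι (α τ)) = f (p₁ (PW.ι (T'.ι τ))) := by
    intro τ
    have h1 : W.ι (α τ) = φ (PW.ι (T'.ι τ)) := by
      rw [hα]
      exact congrArg (fun m : PW.toScheme ⟶ Q => m (T'.ι τ)) hψι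
    rw [h1]
    exact (congrArg (fun m : P ⟶ Y => m (PW.ι (T'.ι τ))) hP.w).symm
  have hI : ∀ z, MoreMor.fibreIntegral (T.ι ≫ φ ≫ a₂)
      (fun t => wf (p₁ (T.ι t)) * wg (f (p₁ (T.ι t)))) z =
      MoreMor.fibreIntegral β (fun q => wg (a₁ (W.ι q)) * F q) z := by
    intro z
    rw [← hfub z, hαβ]
    refine (WeightRestrictH4.fibreIntegral_comp_iso ε (T.ι ≫ φ ≫ a₂)
      (fun t => wf (p₁ (T.ι t)) * wg (f (p₁ (T.ι t))))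
      (fun τ => wf ((PW.ι ≫ p₁) (T'.ι τ)) * wg (a₁ (W.ι (α τ)))) ?_ z).symm
    intro τ
    show wf (p₁ (PW.ι (T'.ι τ))) * wg (a₁ (W.ι (α τ))) =
      wf (p₁ (T.ι (ε τ))) * wg (f (p₁ (T.ι (ε τ))))
    rw [hpt1, hpt2]
  have hconst : ∀ z, z ∉ β '' {q : W.toScheme | F q = F w₀'}ᶜ →
      MoreMor.fibreIntegral β (fun q => wg (a₁ (W.ι q)) * F q) z = I₂ z * F w₀' := by
    intro z hz
    rw [hI₂, fibreIntegral_eq, fibreIntegral_eq, finsum_mul]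
    apply finsum_congr
    intro q
    have hq : F q.1 = F w₀' := by
      by_contra hcon
      exact hz ⟨q.1, hcon, q.2⟩
    rw [hq]; ring
  refine ⟨(β '' {q : W.toScheme | F q = F w₀'}ᶜ)ᶜ ∩ {z | I₂ z = I₂ (a₂ w₀)},
    hCim.isOpen_compl.inter (hI₂LC.isOpen_fiber _), ⟨hw₀C, rfl⟩, ?_⟩
  rintro z ⟨hz1, hz2⟩
  have hz2' : I₂ z = I₂ (a₂ w₀) := hz2
  rw [hI z, hI (a₂ w₀), hconst z hz1, hconst (a₂ w₀) hw₀C, hz2']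

set_option maxHeartbeats 3200000 in
/-- Constancy near a point for opens with a unique purely inseparable point. -/
theorem comp_const_nhd {X Y Z : Scheme.{u}} (f : X ⟶ Y) (g : Y ⟶ Z) [LocallyQuasiFinite f]
    [LocallyOfFiniteType f] [LocallyQuasiFinite g] [LocallyOfFiniteType g]
    (wf : ↑X → ℤ) (wg : ↑Y → ℤ) (hwf : MoreMor.IsWeighting f wf) (hwg : MoreMor.IsWeighting g wg)
    {P B : Scheme.{u}} {p₁ : P ⟶ X} {p₂ : P ⟶ B} {b : B ⟶ Z}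
    (hpb : IsPullback p₁ p₂ (f ≫ g) b)
    (T : P.Opens) (hfinT : IsFinite (T.ι ≫ p₂)) (t₀ : P) (hmem : t₀ ∈ T)
    (huniq : ∀ q : P, q ∈ T → p₂ q = p₂ t₀ → q = t₀)
    (hPI : PI (p₂.residueFieldMap t₀).hom) :
    ∃ N : Set B, IsOpen N ∧ p₂ t₀ ∈ N ∧ ∀ z ∈ N,
      MoreMor.fibreIntegral (T.ι ≫ p₂) (fun t => wf (p₁ (T.ι t)) * wg (f (p₁ (T.ι t)))) z =
        MoreMor.fibreIntegral (T.ι ≫ p₂)
          (fun t => wf (p₁ (T.ι t)) * wg (f (p₁ (T.ι t)))) (p₂ t₀) := by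
  obtain ⟨Q, a₁, a₂, hQ⟩ : ∃ (Q : Scheme.{u}) (a₁ : Q ⟶ Y) (a₂ : Q ⟶ B),
      IsPullback a₁ a₂ g b := ⟨_, _, _, IsPullback.of_hasPullback g b⟩
  obtain ⟨φ, hφ2, hPQ⟩ : ∃ φ : P ⟶ Q, φ ≫ a₂ = p₂ ∧ IsPullback p₁ φ f a₁ :=
    ⟨_, hQ.lift_snd _ _ _, IsPullback.of_bot' hpb hQ⟩
  haveI : LocallyQuasiFinite a₂ :=
    MorphismProperty.of_isPullback (P := @LocallyQuasiFinite) hQ inferInstance
  haveI : LocallyOfFiniteType a₂ :=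
    MorphismProperty.of_isPullback (P := @LocallyOfFiniteType) hQ inferInstance
  have hφ2pt : ∀ q : P, a₂ (φ q) = p₂ q := fun q => congrArg (fun m : P ⟶ B => m q) hφ2
  obtain ⟨B₁, Q₁, e, b₁, c₁, c₂, he, heb, hQ₁, n, lab, W, wpt, hSD, hWfin, hWPI⟩ :=
    core a₂ (a₂ (φ t₀)) (fun _ : Unit => φ t₀) (fun _ _ _ => Subsingleton.elim _ _)
      (fun _ => rfl) (fun _ => Scheme.Hom.quasiFiniteAt a₂ (φ t₀))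
  haveI := he
  -- level 1
  obtain ⟨P₁, r₁, φ₁, hP₁⟩ : ∃ (P₁ : Scheme.{u}) (r₁ : P₁ ⟶ P) (φ₁ : P₁ ⟶ Q₁),
      IsPullback r₁ φ₁ φ c₁ := ⟨_, _, _, IsPullback.of_hasPullback φ c₁⟩
  have hP₁B : IsPullback r₁ (φ₁ ≫ c₂) p₂ e := by
    have h5 := hP₁.paste_vert hQ₁
    rw [hφ2] at h5; exact h5
  obtain ⟨hfinT₁, -⟩ := fibreIntegral_preimage hP₁B T hfinT (fun _ => 0)
  obtain ⟨t₁, ht₁1, ht₁2⟩ := Scheme.exists_preimage_of_isPullback hP₁B t₀ b₁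
    (by rw [heb, hφ2pt])
  have ht₁1' : r₁ t₁ = t₀ := ht₁1
  have ht₁2' : c₂ (φ₁ t₁) = b₁ := ht₁2
  have hc1 : ∀ q : P₁, φ (r₁ q) = c₁ (φ₁ q) := fun q =>
    congrArg (fun m : P₁ ⟶ Q => m q) hP₁.w
  have hc2 : ∀ q : P₁, p₂ (r₁ q) = e (c₂ (φ₁ q)) := fun q =>
    congrArg (fun m : P₁ ⟶ B => m q) hP₁B.w
  have hT₁fib : ∀ q : P₁, q ∈ r₁ ⁻¹ᵁ T → c₂ (φ₁ q) = b₁ → q = t₁ := by
    intro q hq hq2
    have h2 : r₁ q = r₁ t₁ := by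
      rw [ht₁1']
      apply huniq _ hq
      rw [hc2, hq2, heb, hφ2pt]
    exact eq_of_PI_isPullback hP₁B.flip q t₁ (hq2.trans ht₁2'.symm) h2
      (PI_of_point_eq p₂ ht₁1' hPI)
  have hy2 : c₁ (φ₁ t₁) = φ t₀ := by rw [← hc1, ht₁1']
  obtain ⟨m, -, hm⟩ := hSD.cov (φ₁ t₁) () ht₁2' hy2
  have hsub : ((r₁ ⁻¹ᵁ T : P₁.Opens) : Set P₁) ∩ (φ₁ ≫ c₂) ⁻¹' {b₁} ⊆
      ((φ₁ ⁻¹ᵁ W m : P₁.Opens) : Set P₁) := by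
    rintro q ⟨hq1, hq2⟩
    rw [hT₁fib q hq1 hq2]
    exact hm
  obtain ⟨N₁, hN₁o, hN₁b, hN₁⟩ :=
    fibre_subset_nhd (φ₁ ≫ c₂) (r₁ ⁻¹ᵁ T) (φ₁ ⁻¹ᵁ W m) hfinT₁ b₁ hsub
  -- level 2
  obtain ⟨N₁o, hN₁o'⟩ : ∃ N₁o : B₁.Opens, (N₁o : Set B₁) = N₁ := ⟨⟨N₁, hN₁o⟩, rfl⟩
  obtain ⟨Q₂, k₁, k₂, hQ₂⟩ : ∃ (Q₂ : Scheme.{u}) (k₁ : Q₂ ⟶ Q₁) (k₂ : Q₂ ⟶ N₁o.toScheme),
      IsPullback k₁ k₂ c₂ N₁o.ι := ⟨_, _, _, IsPullback.of_hasPullback c₂ N₁o.ι⟩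
  obtain ⟨P₂, μ, φ₂, hP₂⟩ : ∃ (P₂ : Scheme.{u}) (μ : P₂ ⟶ P₁) (φ₂ : P₂ ⟶ Q₂),
      IsPullback μ φ₂ φ₁ k₁ := ⟨_, _, _, IsPullback.of_hasPullback φ₁ k₁⟩
  have hQ₂B : IsPullback (k₁ ≫ c₁) k₂ a₂ (N₁o.ι ≫ e) := hQ₂.paste_horiz hQ₁
  have hQ₂Z : IsPullback ((k₁ ≫ c₁) ≫ a₁) k₂ g ((N₁o.ι ≫ e) ≫ b) := hQ₂B.paste_horiz hQ
  have hP₂Q : IsPullback (μ ≫ r₁) φ₂ φ (k₁ ≫ c₁) := hP₂.paste_horiz hP₁
  have hP₂X : IsPullback ((μ ≫ r₁) ≫ p₁) φ₂ f ((k₁ ≫ c₁) ≫ a₁) := hP₂Q.paste_horiz hPQ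
  have hP₂B : IsPullback (μ ≫ r₁) (φ₂ ≫ k₂) p₂ (N₁o.ι ≫ e) := by
    have h5 := hP₂Q.paste_vert hQ₂B
    rw [hφ2] at h5; exact h5
  obtain ⟨hfinT₂, hIT₂⟩ := fibreIntegral_preimage hP₂B T hfinT
    (fun p => wf (p₁ p) * wg (f (p₁ p)))
  obtain ⟨hfinW₂, -⟩ := fibreIntegral_preimage hQ₂ (W m) (hWfin m) (fun _ => 0)
  have hμφ : ∀ τ : P₂, φ₁ (μ τ) = k₁ (φ₂ τ) := fun τ =>
    congrArg (fun m' : P₂ ⟶ Q₁ => m' τ) hP₂.w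
  have hk : ∀ q : Q₂, c₂ (k₁ q) = N₁o.ι (k₂ q) := fun q =>
    congrArg (fun m' : Q₂ ⟶ B₁ => m' q) hQ₂.w
  have hTW : (μ ≫ r₁) ⁻¹ᵁ T ≤ φ₂ ⁻¹ᵁ (k₁ ⁻¹ᵁ W m) := by
    intro τ hτ
    have h1 : μ τ ∈ r₁ ⁻¹ᵁ T := hτ
    have h2 : (φ₁ ≫ c₂) (μ τ) ∈ N₁ := by
      change c₂ (φ₁ (μ τ)) ∈ N₁
      rw [hμφ, hk, ← hN₁o']
      exact (k₂ (φ₂ τ)).2
    have h5 : μ τ ∈ φ₁ ⁻¹ᵁ W m := hN₁ _ h2 ⟨h1, rfl⟩
    change k₁ (φ₂ τ) ∈ W m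
    rw [← hμφ]; exact h5
  obtain ⟨b₂, hb₂⟩ : ∃ b₂ : N₁o.toScheme, N₁o.ι b₂ = b₁ :=
    ⟨⟨b₁, by rw [← SetLike.mem_coe, hN₁o']; exact hN₁b⟩, rfl⟩
  have hdb₂ : (N₁o.ι ≫ e) b₂ = p₂ t₀ := by
    change e (N₁o.ι b₂) = p₂ t₀
    rw [hb₂, heb, hφ2pt]
  obtain ⟨t₂, ht₂1, ht₂2⟩ := Scheme.exists_preimage_of_isPullback hP₂B t₀ b₂ hdb₂.symm
  have ht₂1' : r₁ (μ t₂) = t₀ := ht₂1
  have ht₂2' : k₂ (φ₂ t₂) = b₂ := ht₂2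
  have ht₂T : t₂ ∈ (μ ≫ r₁) ⁻¹ᵁ T := by
    change r₁ (μ t₂) ∈ T
    rw [ht₂1']; exact hmem
  have hw₀ : φ₂ t₂ ∈ k₁ ⁻¹ᵁ W m := hTW ht₂T
  have huniqW₂ : ∀ q : Q₂, q ∈ k₁ ⁻¹ᵁ W m → k₂ q = k₂ (φ₂ t₂) → q = φ₂ t₂ := by
    intro q hq hq2
    have h1 : ∀ q' : Q₂, q' ∈ k₁ ⁻¹ᵁ W m → k₂ q' = b₂ → k₁ q' = wpt m := by
      intro q' hq' hq'2
      apply hSD.uniq m _ hq'
      rw [hk, hq'2, hb₂]
    have h2 : k₁ q = k₁ (φ₂ t₂) :=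
      (h1 q hq (hq2.trans ht₂2')).trans (h1 _ hw₀ ht₂2').symm
    exact eq_of_isPullback hQ₂ q (φ₂ t₂) h2 hq2
      (ConcreteCategory.bijective_of_isIso (N₁o.ι.residueFieldMap (k₂ (φ₂ t₂))))
  obtain ⟨N₂, hN₂o, hN₂b, hN₂⟩ := comp_core f g wf wg hwf hwg hQ₂Z hP₂X ((μ ≫ r₁) ⁻¹ᵁ T)
    hfinT₂ (k₁ ⁻¹ᵁ W m) hfinW₂ hTW (φ₂ t₂) hw₀ huniqW₂
  haveI : Etale (N₁o.ι ≫ e) := inferInstance
  refine ⟨(N₁o.ι ≫ e) '' N₂, (N₁o.ι ≫ e).isOpenMap _ hN₂o, ?_, ?_⟩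
  · refine ⟨b₂, ?_, hdb₂⟩
    rw [← ht₂2']; exact hN₂b
  · rintro _ ⟨z, hz, rfl⟩
    have h1 := hN₂ z hz
    rw [ht₂2'] at h1
    rw [← hIT₂ z, ← hdb₂, ← hIT₂ b₂]
    exact h1

theorem main1422 {X Y Z : Scheme.{u}} (f : X ⟶ Y) (g : Y ⟶ Z) [LocallyQuasiFinite f]
    [LocallyOfFiniteType f] [LocallyQuasiFinite g] [LocallyOfFiniteType g]
    (wf : ↑X → ℤ) (wg : ↑Y → ℤ) (hf : MoreMor.IsWeighting f wf) (hg : MoreMor.IsWeighting g wg) :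
    MoreMor.IsWeighting (f ≫ g) (fun x => wf x * wg (f x)) := by
  intro V c _ U hfin
  rw [IsLocallyConstant.iff_exists_open]
  intro v₀
  exact const_nhd_of_pieces (pullback.snd (f ≫ g) c)
    (fun p => wf (pullback.fst (f ≫ g) c p) * wg (f (pullback.fst (f ≫ g) c p))) U hfin v₀
    (fun e _ q₁ q₂ hsq T₁ hfin₁ t₁ hmem huniq hPI =>
      comp_const_nhd f g wf wg hf hg
        (hsq.paste_horiz (IsPullback.of_hasPullback (f ≫ g) c)) T₁ hfin₁ t₁ hmem huniq hPI)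

end Groth.Agent.Lib.WeightH4
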