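import Mathlib

/-!
# Weight-zero parts of monoid algebras under the slice map (S16405)
-/

universe u v

namespace Groth.Agent.Lib.WeightZeroSlice

theorem main
    (k : Type u) [CommRing k] (r : ℕ) (L : Type v) [AddCommGroup L]
    (b : L →+ (Fin r → ℤ)) (hb : Function.Injective b) :
    Set.BijOn
      (AddMonoidAlgebra.mapDomainAlgHom k k (AddMonoidHom.snd L (Fin r → ℕ)))
      (AddMonoidAlgebra.gradeBy k
        (b.comp (AddMonoidHom.fst L (Fin r → ℕ)) +
          (AddMonoidHom.compLeft (Nat.castAddMonoidHom ℤ) (Fin r)).comp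
            (AddMonoidHom.snd L (Fin r → ℕ))) 0 :
        Set (AddMonoidAlgebra k (L × (Fin r → ℕ))))
      (AddMonoidAlgebra.gradeBy k
        ((QuotientAddGroup.mk' b.range).comp
          (AddMonoidHom.compLeft (Nat.castAddMonoidHom ℤ) (Fin r))) 0 :
        Set (AddMonoidAlgebra k (Fin r → ℕ))) := by
  classical
  set cst : (Fin r → ℕ) →+ (Fin r → ℤ) :=
    AddMonoidHom.compLeft (Nat.castAddMonoidHom ℤ) (Fin r) with hcst
  set wt : (L × (Fin r → ℕ)) →+ (Fin r → ℤ) :=
    b.comp (AddMonoidHom.fst L (Fin r → ℕ)) + cst.comp (AddMonoidHom.snd L (Fin r → ℕ)) with hwt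
  set wt' : (Fin r → ℕ) →+ ((Fin r → ℤ) ⧸ b.range) :=
    (QuotientAddGroup.mk' b.range).comp cst with hwt'
  have hwt_apply : ∀ q : L × (Fin r → ℕ), wt q = b q.1 + cst q.2 := fun q => rfl
  have hwt'_apply : ∀ n : Fin r → ℕ, wt' n = QuotientAddGroup.mk' b.range (cst n) := fun n => rfl
  have happly : ∀ x : AddMonoidAlgebra k (L × (Fin r → ℕ)),
      (AddMonoidAlgebra.mapDomainAlgHom k k (AddMonoidHom.snd L (Fin r → ℕ)) x).coeff
        = Finsupp.mapDomain Prod.snd x.coeff := fun x => rfl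
  refine ⟨?_, ?_, ?_⟩
  · -- MapsTo
    intro x hx
    rw [SetLike.mem_coe, AddMonoidAlgebra.mem_gradeBy_iff] at hx ⊢
    intro m hm
    rw [happly] at hm
    have hm' := Finsupp.mapDomain_support hm
    rw [Finset.mem_image] at hm'
    obtain ⟨q, hq, rfl⟩ := hm'
    have hq0 : wt q = 0 := hx hq
    rw [hwt_apply] at hq0
    show wt' q.2 = 0
    rw [hwt'_apply, QuotientAddGroup.mk'_apply, QuotientAddGroup.eq_zero_iff]
    refine ⟨-q.1, ?_⟩
    rw [map_neg]
    exact (eq_neg_of_add_eq_zero_right hq0).symm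
  · -- InjOn
    intro x hx y hy hxy
    rw [SetLike.mem_coe, AddMonoidAlgebra.mem_gradeBy_iff] at hx hy
    have hinj : Set.InjOn (Prod.snd : L × (Fin r → ℕ) → (Fin r → ℕ)) (wt ⁻¹' {0}) := by
      intro q hq q' hq' hqq'
      have h1 : wt q = 0 := hq
      have h2 : wt q' = 0 := hq'
      rw [hwt_apply] at h1 h2
      have h3 : b q.1 = b q'.1 := by
        have e1 := eq_neg_of_add_eq_zero_left h1
        have e2 := eq_neg_of_add_eq_zero_left h2
        rw [e1, e2, hqq']
      exact Prod.ext (hb h3) hqq'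
    have h4 : Finsupp.mapDomain Prod.snd x.coeff = Finsupp.mapDomain Prod.snd y.coeff := by
      rw [← happly, ← happly, hxy]
    exact AddMonoidAlgebra.coeff_inj.mp (Finsupp.mapDomain_injOn _ hinj hx hy h4)
  · -- SurjOn
    intro y hy
    rw [SetLike.mem_coe, AddMonoidAlgebra.mem_gradeBy_iff] at hy
    let g : (Fin r → ℕ) → L × (Fin r → ℕ) := fun n =>
      (if h : ∃ w, b w = cst n then -(Classical.choose h) else 0, n)
    have hg : ∀ n, wt' n = 0 → wt (g n) = 0 := by
      intro n hn
      rw [hwt'_apply, QuotientAddGroup.mk'_apply, QuotientAddGroup.eq_zero_iff] at hn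
      have h : ∃ w, b w = cst n := hn
      rw [hwt_apply]
      show b (if h : ∃ w, b w = cst n then -(Classical.choose h) else 0) + cst n = 0
      rw [dif_pos h, map_neg, Classical.choose_spec h, neg_add_cancel]
    refine ⟨AddMonoidAlgebra.ofCoeff (Finsupp.mapDomain g y.coeff), ?_, ?_⟩
    · rw [SetLike.mem_coe, AddMonoidAlgebra.mem_gradeBy_iff]
      intro q hq
      have hq' := Finsupp.mapDomain_support hq
      rw [Finset.mem_image] at hq'
      obtain ⟨n, hn, rfl⟩ := hq'
      exact hg n (hy hn)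
    · apply AddMonoidAlgebra.coeff_inj.mp
      rw [happly]
      show Finsupp.mapDomain Prod.snd (Finsupp.mapDomain g y.coeff) = y.coeff
      rw [← Finsupp.mapDomain_comp]
      exact Finsupp.mapDomain_id

end Groth.Agent.Lib.WeightZeroSlice
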