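import Mathlib
import Groth.Prelude
import Groth.Agent.Lib.WeilMon_helper7

/-!
# Centralizers of finite flat closed subschemes of affine group schemes (helper7)
-/

set_option autoImplicit false
set_option linter.style.haveILetI false
set_option linter.unusedVariables false
universe u
open CategoryTheory CategoryTheory.Limits AlgebraicGeometry Opposite MonoidalCategory
  CartesianMonoidalCategory MonObj GrpObj

namespace Groth.Agent.Lib.WeilCentrH7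

open Groth.Agent.Lib.WeilMonH7

theorem main16772 {S : Scheme.{u}} (G Y : Over S) [GrpObj G]
    (hGa : IsAffineHom G.hom) (hGfp : LocallyOfFinitePresentation G.hom)
    (y : Y ⟶ G) (hYf : IsFinite Y.hom) (hYfl : Flat Y.hom)
    (hYfp : LocallyOfFinitePresentation Y.hom) :
    ∃ (C : Over S) (c : C ⟶ G), IsClosedImmersion c.left ∧
      ∀ (X : Over S) (g : X ⟶ G), (∃ z : X ⟶ C, z ≫ c = g) ↔
        ∀ (X' : Over S) (x : X' ⟶ X) (a : X' ⟶ Y),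
          (x ≫ g) * (a ≫ y) = (a ≫ y) * (x ≫ g) := by
  obtain ⟨M, ev, hMa, -, huniv⟩ := main16770 Y G hYf hYfl hYfp hGa hGfp
  let ψ₁ : Y ⊗ G ⟶ G := (snd Y G) * (fst Y G ≫ y)
  let ψ₂ : Y ⊗ G ⟶ G := (fst Y G ≫ y) * (snd Y G)
  obtain ⟨u₁, hu₁, -⟩ := huniv G ψ₁
  obtain ⟨u₂, hu₂, -⟩ := huniv G ψ₂
  haveI : IsAffineHom M.hom := hMa
  haveI : IsSeparated M.hom := inferInstance
  refine ⟨equalizer u₁ u₂, equalizer.ι u₁ u₂, inferInstance, fun X g => ?_⟩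
  have hφ : ∀ (u : G ⟶ M) (ψ : Y ⊗ G ⟶ G), (Y ◁ u) ≫ ev = ψ →
      (Y ◁ (g ≫ u)) ≫ ev = (Y ◁ g) ≫ ψ := by
    intro u ψ h
    rw [MonoidalCategory.whiskerLeft_comp, Category.assoc, h]
  have hinj : ∀ v v' : X ⟶ M, (Y ◁ v) ≫ ev = (Y ◁ v') ≫ ev → v = v' := by
    intro v v' h
    obtain ⟨w, -, hw⟩ := huniv X ((Y ◁ v) ≫ ev)
    exact (hw v rfl).trans (hw v' h.symm).symm
  have h1 : (Y ◁ g) ≫ ψ₁ = (snd Y X ≫ g) * (fst Y X ≫ y) := by
    show (Y ◁ g) ≫ ((snd Y G) * (fst Y G ≫ y)) = _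
    simp only [MonObj.comp_mul, whiskerLeft_snd, whiskerLeft_fst_assoc]
  have h2 : (Y ◁ g) ≫ ψ₂ = (fst Y X ≫ y) * (snd Y X ≫ g) := by
    show (Y ◁ g) ≫ ((fst Y G ≫ y) * (snd Y G)) = _
    simp only [MonObj.comp_mul, whiskerLeft_snd, whiskerLeft_fst_assoc]
  constructor
  · rintro ⟨z, hz⟩ X' x a
    have hc : g ≫ u₁ = g ≫ u₂ := by
      rw [← hz, Category.assoc, Category.assoc, equalizer.condition]
    have h3 : (Y ◁ (g ≫ u₁)) ≫ ev = (Y ◁ (g ≫ u₂)) ≫ ev := by rw [hc]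
    rw [hφ u₁ ψ₁ hu₁, hφ u₂ ψ₂ hu₂, h1, h2] at h3
    have h4 := congrArg (fun k => lift a x ≫ k) h3
    simp only [MonObj.comp_mul, lift_fst_assoc, lift_snd_assoc] at h4
    exact h4
  · intro h
    have h3 : (snd Y X ≫ g) * (fst Y X ≫ y) = (fst Y X ≫ y) * (snd Y X ≫ g) :=
      h (Y ⊗ X) (snd Y X) (fst Y X)
    have hc : g ≫ u₁ = g ≫ u₂ :=
      hinj _ _ (by rw [hφ u₁ ψ₁ hu₁, hφ u₂ ψ₂ hu₂, h1, h2, h3])
    exact ⟨equalizer.lift g hc, equalizer.lift_ι g hc⟩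

end Groth.Agent.Lib.WeilCentrH7
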