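import Mathlib
import Groth.Prelude
import Groth.Agent.Lib.DSDict_lead

/-!
# Sections of the Weil restriction of `G_m` along a finite algebra over a semilocal ring lift from
the residue fields (helper4)
-/

set_option backward.isDefEq.respectTransparency.types false
set_option autoImplicit false
set_option linter.unusedVariables false
set_option linter.unusedTactic false
set_option linter.unreachableTactic false
set_option linter.unusedSectionVars false
set_option linter.style.haveILetI false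
set_option linter.deprecated false
set_option linter.unusedSimpArgs false
set_option linter.style.longLine false
set_option maxHeartbeats 1600000

universe u

open CategoryTheory CategoryTheory.Limits MonoidalCategory CartesianMonoidalCategory MonObj GrpObj
  AlgebraicGeometry Opposite TensorProduct

namespace Groth.Agent.Lib.WeilGmH4

open Groth.Agent.Lib.DSDict

/-! ### Algebra: units lift from the residue rings of a semilocal base -/

theorem units_lift (A : Type u) [CommRing A] [Finite (MaximalSpectrum A)]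
    (B : Type u) [CommRing B] [Algebra A B] [Algebra.IsIntegral A B]
    (β : ∀ m : MaximalSpectrum A, B ⧸ (m.asIdeal.map (algebraMap A B)))
    (hβ : ∀ m, IsUnit (β m)) :
    ∃ b : B, IsUnit b ∧ ∀ m : MaximalSpectrum A,
      Ideal.Quotient.mk (m.asIdeal.map (algebraMap A B)) b = β m := by
  classical
  have hcop : Pairwise (Function.onFun IsCoprime
      (fun m : MaximalSpectrum A => m.asIdeal.map (algebraMap A B))) := by
    intro m m' hne
    show IsCoprime (m.asIdeal.map (algebraMap A B)) (m'.asIdeal.map (algebraMap A B))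
    rw [Ideal.isCoprime_iff_sup_eq, ← Ideal.map_sup,
      Ideal.IsMaximal.coprime_of_ne m.isMaximal m'.isMaximal
        (fun h => hne (MaximalSpectrum.ext h)), Ideal.map_top]
  have hsurj := Ideal.quotientInfToPiQuotient_surj hcop
  obtain ⟨x0, hx0⟩ := hsurj β
  obtain ⟨b0, rfl⟩ := Ideal.Quotient.mk_surjective x0
  have hb0 : ∀ m, Ideal.Quotient.mk (m.asIdeal.map (algebraMap A B)) b0 = β m := fun m => by
    have h := congrFun hx0 m
    rw [Ideal.quotientInfToPiQuotient_mk'] at h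
    exact h
  choose gam hgam using fun m => (hβ m).exists_right_inv
  obtain ⟨x1, hx1⟩ := hsurj gam
  obtain ⟨b1, rfl⟩ := Ideal.Quotient.mk_surjective x1
  have hb1 : ∀ m, Ideal.Quotient.mk (m.asIdeal.map (algebraMap A B)) b1 = gam m := fun m => by
    have h := congrFun hx1 m
    rw [Ideal.quotientInfToPiQuotient_mk'] at h
    exact h
  have hmem : ∀ m : MaximalSpectrum A, b0 * b1 - 1 ∈ m.asIdeal.map (algebraMap A B) := by
    intro m
    rw [← Ideal.Quotient.eq_zero_iff_mem, map_sub, map_mul, map_one, hb0, hb1, hgam, sub_self]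
  have hu : IsUnit (b0 * b1) := by
    by_contra hnu
    obtain ⟨𝔫, h𝔫, hmem𝔫⟩ := exists_max_ideal_of_mem_nonunits (mem_nonunits_iff.mpr hnu)
    haveI := h𝔫
    have hmax : (𝔫.comap (algebraMap A B)).IsMaximal :=
      Ideal.isMaximal_comap_of_isIntegral_of_isMaximal 𝔫
    have h1 : b0 * b1 - 1 ∈ 𝔫 :=
      Ideal.map_comap_le (hmem ⟨𝔫.comap (algebraMap A B), hmax⟩)
    have h2 : (1 : B) ∈ 𝔫 := by
      have h3 := 𝔫.sub_mem hmem𝔫 h1
      rwa [sub_sub_cancel] at h3
    exact h𝔫.ne_top ((Ideal.eq_top_iff_one _).mpr h2)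
  exact ⟨b0, isUnit_of_mul_isUnit_left hu, hb0⟩

theorem units_lift_tensor (A : Type u) [CommRing A] [Finite (MaximalSpectrum A)]
    (B : Type u) [CommRing B] [Algebra A B] [Algebra.IsIntegral A B]
    (β : ∀ m : MaximalSpectrum A, (A ⧸ m.asIdeal) ⊗[A] B) (hβ : ∀ m, IsUnit (β m)) :
    ∃ b : B, IsUnit b ∧ ∀ m : MaximalSpectrum A, (1 : A ⧸ m.asIdeal) ⊗ₜ[A] b = β m := by
  obtain ⟨b, hb, hbm⟩ := units_lift A B
    (fun m => (Algebra.TensorProduct.quotIdealMapEquivQuotTensor B m.asIdeal).symm (β m))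
    (fun m => (hβ m).map (Algebra.TensorProduct.quotIdealMapEquivQuotTensor B m.asIdeal).symm)
  refine ⟨b, hb, fun m => ?_⟩
  have h := congrArg (Algebra.TensorProduct.quotIdealMapEquivQuotTensor B m.asIdeal) (hbm m)
  exact ((Algebra.TensorProduct.quotIdealMapEquivQuotTensor_mk B m.asIdeal b).symm.trans h).trans
    (AlgEquiv.apply_symm_apply _ _)

/-! ### Characters with values in `ℤ` are determined by their value at `1` -/

theorem chr_ext_one {S : Scheme.{u}} {T : Over S} (x y : T ⟶ Red.DS S ℤ)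
    (h : chr x (1 : ℤ) = chr y (1 : ℤ)) : x = y := by
  apply chr_injective
  have hn : ∀ n : ℕ, chr x (n : ℤ) = chr y (n : ℤ) := fun n => by
    rw [chr_natCast, chr_natCast, h]
  intro k
  obtain ⟨n, rfl | rfl⟩ := Int.eq_nat_or_neg k
  · exact hn n
  · have h1 := chr_mul_neg x (n : ℤ)
    have h2 := chr_mul_neg y (n : ℤ)
    rw [hn n] at h1
    calc chr x (-(n : ℤ)) = chr x (-(n : ℤ)) * (chr y (n : ℤ) * chr y (-(n : ℤ))) := by
          rw [h2, _root_.mul_one]
      _ = (chr y (n : ℤ) * chr x (-(n : ℤ))) * chr y (-(n : ℤ)) := by ring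
      _ = chr y (-(n : ℤ)) := by rw [h1, _root_.one_mul]

/-! ### The geometric set-up -/

section Geo

variable (A : Type u) [CommRing A] (B : Type u) [CommRing B] [Algebra A B]

noncomputable abbrev fAB : Spec (CommRingCat.of B) ⟶ Spec (CommRingCat.of A) :=
  Spec.map (CommRingCat.ofHom (algebraMap A B))

noncomputable abbrev T0 : Over (Spec (CommRingCat.of A)) :=
  Over.mk (𝟙 (Spec (CommRingCat.of A)))

noncomputable abbrev Tm (m : MaximalSpectrum A) : Over (Spec (CommRingCat.of A)) :=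
  Over.mk (Spec.map (CommRingCat.ofHom (Ideal.Quotient.mk m.asIdeal)))

noncomputable def tm (m : MaximalSpectrum A) : Tm A m ⟶ T0 A :=
  Over.homMk (Spec.map (CommRingCat.ofHom (Ideal.Quotient.mk m.asIdeal))) (Category.comp_id _)

theorem tm_left (m : MaximalSpectrum A) :
    (tm A m).left = Spec.map (CommRingCat.ofHom (Ideal.Quotient.mk m.asIdeal)) := rfl

theorem key [Finite (MaximalSpectrum A)] [Algebra.IsIntegral A B]
    (β : ∀ m : MaximalSpectrum A, Γ((Red.bc (fAB A B) (Tm A m)).left, ⊤))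
    (hβ : ∀ m, IsUnit (β m)) :
    ∃ b : Γ((Red.bc (fAB A B) (T0 A)).left, ⊤), IsUnit b ∧
      ∀ m, ((Over.pullback (fAB A B)).map (tm A m)).left.appTop b = β m := by
  obtain ⟨φ₀, hφ₀⟩ : ∃ φ₀ : CommRingCat.of B ⟶ Γ((Red.bc (fAB A B) (T0 A)).left, ⊤),
      φ₀ = (Scheme.ΓSpecIso (CommRingCat.of B)).inv ≫
        (pullback.snd (𝟙 (Spec (CommRingCat.of A))) (fAB A B)).appTop := ⟨_, rfl⟩
  have hm : ∀ m : MaximalSpectrum A, ∃ (φ : CommRingCat.of ((A ⧸ m.asIdeal) ⊗[A] B) ⟶
      Γ((Red.bc (fAB A B) (Tm A m)).left, ⊤))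
      (ψ : Γ((Red.bc (fAB A B) (Tm A m)).left, ⊤) ⟶ CommRingCat.of ((A ⧸ m.asIdeal) ⊗[A] B)),
      ψ ≫ φ = 𝟙 _ ∧ ∀ b : B,
        ((Over.pullback (fAB A B)).map (tm A m)).left.appTop.hom (φ₀.hom b) =
          φ.hom ((1 : A ⧸ m.asIdeal) ⊗ₜ[A] b) := by
    intro m
    obtain ⟨e, incR, hincR, he⟩ : ∃ (e : pullback (Tm A m).hom (fAB A B) ≅
        Spec (CommRingCat.of ((A ⧸ m.asIdeal) ⊗[A] B)))
        (incR : CommRingCat.of B ⟶ CommRingCat.of ((A ⧸ m.asIdeal) ⊗[A] B)),
        (∀ b : B, incR.hom b = (1 : A ⧸ m.asIdeal) ⊗ₜ[A] b) ∧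
        e.hom ≫ Spec.map incR = pullback.snd (Tm A m).hom (fAB A B) :=
      ⟨pullbackSpecIso A (A ⧸ m.asIdeal) B, _, fun b => rfl,
        pullbackSpecIso_hom_snd A (A ⧸ m.asIdeal) B⟩
    refine ⟨(Scheme.ΓSpecIso _).inv ≫ e.hom.appTop, e.inv.appTop ≫ (Scheme.ΓSpecIso _).hom,
      ?_, ?_⟩
    · simp only [Category.assoc, Iso.hom_inv_id_assoc]
      rw [← Scheme.Hom.comp_appTop, Iso.hom_inv_id, Scheme.Hom.id_appTop]
      rfl
    · intro b
      have h1 : ((Over.pullback (fAB A B)).map (tm A m)).left ≫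
          pullback.snd (𝟙 (Spec (CommRingCat.of A))) (fAB A B) =
          pullback.snd (Tm A m).hom (fAB A B) :=
        Over.w ((Over.pullback (fAB A B)).map (tm A m))
      have heq : φ₀ ≫ ((Over.pullback (fAB A B)).map (tm A m)).left.appTop =
          incR ≫ (Scheme.ΓSpecIso _).inv ≫ e.hom.appTop := by
        rw [hφ₀, Category.assoc, ← Scheme.Hom.comp_appTop, h1, ← he]
        calc (Scheme.ΓSpecIso (CommRingCat.of B)).inv ≫ (e.hom ≫ Spec.map incR).appTop
            = (Scheme.ΓSpecIso (CommRingCat.of B)).inv ≫ (Spec.map incR).appTop ≫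
                e.hom.appTop := by rw [Scheme.Hom.comp_appTop]
          _ = ((Scheme.ΓSpecIso (CommRingCat.of B)).inv ≫ (Spec.map incR).appTop) ≫
                e.hom.appTop := (Category.assoc _ _ _).symm
          _ = (incR ≫ (Scheme.ΓSpecIso _).inv) ≫ e.hom.appTop := by
              rw [Scheme.ΓSpecIso_inv_naturality]
          _ = incR ≫ (Scheme.ΓSpecIso _).inv ≫ e.hom.appTop := Category.assoc _ _ _
      have h4 := congrArg (fun k => k.hom b) heq
      simp only [CommRingCat.hom_comp, RingHom.comp_apply] at h4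
      rw [hincR b] at h4
      exact h4
  choose φ ψ hψφ hcomp using hm
  obtain ⟨b, hb, hbm⟩ := units_lift_tensor A B (fun m => (ψ m).hom (β m))
    (fun m => (hβ m).map (ψ m).hom)
  refine ⟨φ₀.hom b, hb.map φ₀.hom, fun m => ?_⟩
  have h3 : (φ m).hom ((ψ m).hom (β m)) = β m := by
    rw [← RingHom.comp_apply, ← CommRingCat.hom_comp, hψφ m]
    rfl
  exact ((hcomp m b).trans (congrArg (φ m).hom (hbm m))).trans h3

end Geo

/-! ### The main theorem -/

theorem main18694 (A : Type u) [CommRing A] [Finite (MaximalSpectrum A)]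
    (B : Type u) [CommRing B] [Algebra A B] [Module.Finite A B]
    (P : Over (Spec (CommRingCat.of A)))
    (q : Red.bc (Spec.map (CommRingCat.ofHom (algebraMap A B))) P ⟶
      Red.Gm (Spec (CommRingCat.of B)))
    (hP : WeilRes.IsWeilRes (Spec.map (CommRingCat.ofHom (algebraMap A B)))
      (Red.Gm (Spec (CommRingCat.of B))) P q)
    (u : ∀ m : MaximalSpectrum A, Spec (CommRingCat.of (A ⧸ m.asIdeal)) ⟶ P.left)
    (hu : ∀ m : MaximalSpectrum A,
      u m ≫ P.hom = Spec.map (CommRingCat.ofHom (Ideal.Quotient.mk m.asIdeal))) :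
    ∃ s : Spec (CommRingCat.of A) ⟶ P.left, s ≫ P.hom = 𝟙 (Spec (CommRingCat.of A)) ∧
      ∀ m : MaximalSpectrum A,
        Spec.map (CommRingCat.ofHom (Ideal.Quotient.mk m.asIdeal)) ≫ s = u m := by
  haveI : Algebra.IsIntegral A B := inferInstance
  obtain ⟨ub, hub⟩ : ∃ ub : ∀ m : MaximalSpectrum A, Tm A m ⟶ P, ∀ m, (ub m).left = u m :=
    ⟨fun m => Over.homMk (u m) (hu m), fun m => rfl⟩
  obtain ⟨y, hy⟩ : ∃ y : ∀ m : MaximalSpectrum A,
      Red.bc (fAB A B) (Tm A m) ⟶ Red.DS (Spec (CommRingCat.of B)) ℤ,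
      ∀ m, y m = WeilRes.restr (fAB A B) q (Tm A m) (ub m) := ⟨_, fun m => rfl⟩
  have hβ : ∀ m, IsUnit (chr (y m) (1 : ℤ)) := fun m =>
    isUnit_iff_exists_inv.mpr ⟨_, chr_mul_neg (y m) 1⟩
  obtain ⟨b, hb, hbm⟩ := key A B (fun m => chr (y m) (1 : ℤ)) hβ
  obtain ⟨bu, hbu⟩ := hb
  obtain ⟨x₀, hx₀⟩ := exists_chr_eq (T := Red.bc (fAB A B) (T0 A)) (M := ℤ)
    ((Units.coeHom _).comp (zpowersHom _ bu))
  obtain ⟨s₀, hs₀⟩ := (hP (T0 A)).2 x₀
  refine ⟨s₀.left, Over.w s₀, fun m => ?_⟩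
  have hkey : tm A m ≫ s₀ = ub m := by
    apply (hP (Tm A m)).1
    show WeilRes.restr (fAB A B) q (Tm A m) (tm A m ≫ s₀) =
      WeilRes.restr (fAB A B) q (Tm A m) (ub m)
    rw [WeilRes.restr_comp, hs₀, ← hy m]
    apply chr_ext_one
    rw [chr_comp, hx₀]
    have h1 : ((Units.coeHom _).comp (zpowersHom _ bu)) (Multiplicative.ofAdd (1 : ℤ)) = b := by
      simp [hbu]
    rw [h1]
    exact hbm m
  have h5 := congrArg (fun k => k.left) hkey
  simp only [Over.comp_left, tm_left, hub m] at h5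
  exact h5

end Groth.Agent.Lib.WeilGmH4
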