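import Mathlib

/-! Minimal central orders of Weil numbers: `ℤ[F,V]/(FV-q,h)`. -/

set_option autoImplicit false

universe u

namespace Groth.Agent.Lib.WeilNumH1

open LaurentPolynomial

noncomputable section

abbrev P := MvPolynomial (Fin 2) ℤ

abbrev F : P := MvPolynomial.X 0

abbrev V : P := MvPolynomial.X 1

def g0 (q : ℤ) : P := F * V - MvPolynomial.C q

def nf (A B : Polynomial ℤ) : P := Polynomial.aeval F A + V * Polynomial.aeval V B

theorem nf_add (A A' B B' : Polynomial ℤ) : nf (A + A') (B + B') = nf A B + nf A' B' := by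
  simp only [nf, map_add]; ring

theorem nf_neg (A B : Polynomial ℤ) : nf (-A) (-B) = -nf A B := by
  simp only [nf, map_neg]; ring

theorem nf_zero : nf 0 0 = 0 := by simp [nf]

def lam (q : ℤ) : P →ₐ[ℤ] ℤ[T;T⁻¹] := MvPolynomial.aeval ![T 1, C q * T (-1)]

theorem lam_F (q : ℤ) : lam q F = T 1 := by simp [lam, F]

theorem lam_V (q : ℤ) : lam q V = C q * T (-1) := by simp [lam, V]

theorem lam_C (q c : ℤ) : lam q (MvPolynomial.C c) = C c := by
  simp [lam, LaurentPolynomial.C_eq_algebraMap]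

theorem lam_g0 (q : ℤ) : lam q (g0 q) = 0 := by
  rw [g0, map_sub, map_mul, lam_F, lam_V, lam_C, mul_left_comm, ← T_add]
  simp

theorem FV_pow_sub (q : ℤ) (m : ℕ) :
    (F * V) ^ m - MvPolynomial.C (q ^ m) ∈ Ideal.span {g0 q} := by
  rw [map_pow]
  exact Ideal.mem_span_singleton.mpr (sub_dvd_pow_sub_pow _ _ m)

theorem M1 (q : ℤ) (c d : ℕ) (hdc : d ≤ c) :
    F ^ c * V ^ d - MvPolynomial.C (q ^ d) * F ^ (c - d) ∈ Ideal.span {g0 q} := by
  have h := Ideal.mul_mem_left _ (F ^ (c - d)) (FV_pow_sub q d)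
  obtain ⟨k, rfl⟩ := Nat.exists_eq_add_of_le hdc
  rw [Nat.add_sub_cancel_left] at h ⊢
  convert h using 1
  rw [mul_pow, pow_add]; ring

theorem M2 (q : ℤ) (c d : ℕ) (hcd : c ≤ d) :
    F ^ c * V ^ d - MvPolynomial.C (q ^ c) * V ^ (d - c) ∈ Ideal.span {g0 q} := by
  have h := Ideal.mul_mem_left _ (V ^ (d - c)) (FV_pow_sub q c)
  obtain ⟨k, rfl⟩ := Nat.exists_eq_add_of_le hcd
  rw [Nat.add_sub_cancel_left] at h ⊢
  convert h using 1
  rw [mul_pow, pow_add]; ring

theorem aeval_C' (z : P) (c : ℤ) : Polynomial.aeval z (Polynomial.C c) = MvPolynomial.C c := by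
  rw [Polynomial.aeval_C]; rfl

theorem exists_nf (q : ℤ) (x : P) :
    ∃ A B : Polynomial ℤ, x - nf A B ∈ Ideal.span {g0 q} := by
  induction x using MvPolynomial.induction_on with
  | C c =>
    refine ⟨Polynomial.C c, 0, ?_⟩
    simp [nf, aeval_C']
  | add x y hx hy =>
    obtain ⟨A, B, h1⟩ := hx
    obtain ⟨A', B', h2⟩ := hy
    refine ⟨A + A', B + B', ?_⟩
    rw [nf_add]
    convert add_mem h1 h2 using 1
    ring
  | mul_X x i hx =>
    obtain ⟨A, B, h1⟩ := hx
    fin_cases i
    · refine ⟨Polynomial.X * A + Polynomial.C (q * B.coeff 0), Polynomial.C q * B.divX, ?_⟩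
      have hB : Polynomial.aeval V B =
          Polynomial.aeval V B.divX * V + MvPolynomial.C (B.coeff 0) := by
        conv_lhs => rw [← Polynomial.divX_mul_X_add B]
        rw [map_add, map_mul, Polynomial.aeval_X, aeval_C']
      have e : x * MvPolynomial.X (0 : Fin 2) - nf (Polynomial.X * A + Polynomial.C (q * B.coeff 0))
          (Polynomial.C q * B.divX) = F * (x - nf A B) + g0 q * Polynomial.aeval V B := by
        simp only [nf, g0, map_add, map_mul, Polynomial.aeval_X, aeval_C']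
        rw [hB]
        ring
      show x * MvPolynomial.X (0 : Fin 2) - _ ∈ _
      rw [e]
      exact add_mem (Ideal.mul_mem_left _ _ h1)
        (Ideal.mul_mem_right _ _ (Ideal.mem_span_singleton_self _))
    · refine ⟨Polynomial.C q * A.divX, Polynomial.C (A.coeff 0) + Polynomial.X * B, ?_⟩
      have hA : Polynomial.aeval F A =
          Polynomial.aeval F A.divX * F + MvPolynomial.C (A.coeff 0) := by
        conv_lhs => rw [← Polynomial.divX_mul_X_add A]
        rw [map_add, map_mul, Polynomial.aeval_X, aeval_C']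
      have e : x * MvPolynomial.X (1 : Fin 2) - nf (Polynomial.C q * A.divX)
          (Polynomial.C (A.coeff 0) + Polynomial.X * B) =
          V * (x - nf A B) + g0 q * Polynomial.aeval F A.divX := by
        simp only [nf, g0, map_add, map_mul, Polynomial.aeval_X, aeval_C']
        rw [hA]
        ring
      show x * MvPolynomial.X (1 : Fin 2) - _ ∈ _
      rw [e]
      exact add_mem (Ideal.mul_mem_left _ _ h1)
        (Ideal.mul_mem_right _ _ (Ideal.mem_span_singleton_self _))

theorem trunc_invert_toLaurent (B : Polynomial ℤ) :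
    trunc (invert (Polynomial.toLaurent B)) = Polynomial.C (B.coeff 0) := by
  induction B using Polynomial.induction_on' with
  | add p q hp hq => simp only [map_add, hp, hq, Polynomial.coeff_add]
  | monomial n a =>
    rw [← Polynomial.C_mul_X_pow_eq_monomial, map_mul, Polynomial.toLaurent_C,
      Polynomial.toLaurent_X_pow, map_mul, invert_C, invert_T, trunc_C_mul_T]
    rcases Nat.eq_zero_or_pos n with rfl | hn
    · simp
    · have hneg : ¬ (0 : ℤ) ≤ -(n : ℤ) := by omega
      rw [if_neg hneg, Polynomial.coeff_C_mul_X_pow, if_neg (by omega), map_zero]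

theorem lemL (A B' : Polynomial ℤ)
    (h : Polynomial.toLaurent A + invert (Polynomial.toLaurent B') = 0)
    (h0 : B'.coeff 0 = 0) : A = 0 ∧ B' = 0 := by
  have h1 := congrArg trunc h
  rw [map_add, Polynomial.trunc_toLaurent, trunc_invert_toLaurent, h0, map_zero, map_zero,
    add_zero] at h1
  subst h1
  refine ⟨rfl, ?_⟩
  rw [map_zero, zero_add] at h
  have h2 : Polynomial.toLaurent B' = 0 := by
    apply invert.injective
    rw [h, map_zero]
  exact Polynomial.toLaurent_injective (h2.trans (map_zero _).symm)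

/-- the polynomial `qX · B(qX)` -/
def tau (q : ℤ) (B : Polynomial ℤ) : Polynomial ℤ :=
  Polynomial.X * (Polynomial.C q * B.comp (Polynomial.C q * Polynomial.X))

theorem tau_coeff_zero (q : ℤ) (B : Polynomial ℤ) : (tau q B).coeff 0 = 0 := by
  rw [tau, Polynomial.coeff_X_mul_zero]

theorem tau_coeff_succ (q : ℤ) (B : Polynomial ℤ) (n : ℕ) :
    (tau q B).coeff (n + 1) = q * (B.coeff n * q ^ n) := by
  rw [tau, Polynomial.coeff_X_mul, Polynomial.coeff_C_mul, Polynomial.comp_C_mul_X_coeff]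

theorem tau_eq_zero (q : ℤ) (hq : q ≠ 0) (B : Polynomial ℤ) (h : tau q B = 0) : B = 0 := by
  ext n
  have h1 := tau_coeff_succ q B n
  rw [h, Polynomial.coeff_zero] at h1
  rw [Polynomial.coeff_zero]
  rcases mul_eq_zero.mp h1.symm with h2 | h2
  · exact absurd h2 hq
  · rcases mul_eq_zero.mp h2 with h3 | h3
    · exact h3
    · exact absurd h3 (pow_ne_zero n hq)

theorem aeval_T_one (A : Polynomial ℤ) :
    Polynomial.aeval (T 1 : ℤ[T;T⁻¹]) A = Polynomial.toLaurent A := by
  rw [← Polynomial.toLaurent_X, ← Polynomial.toLaurentAlg_apply, ← Polynomial.toLaurentAlg_apply,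
    Polynomial.aeval_algHom_apply, Polynomial.aeval_X_left_apply]

theorem lam_aeval_F (q : ℤ) (A : Polynomial ℤ) :
    lam q (Polynomial.aeval F A) = Polynomial.toLaurent A := by
  rw [← Polynomial.aeval_algHom_apply, lam_F, aeval_T_one]

theorem lam_nf (q : ℤ) (A B : Polynomial ℤ) :
    lam q (nf A B) = Polynomial.toLaurent A + invert (Polynomial.toLaurent (tau q B)) := by
  rw [nf, map_add, lam_aeval_F, map_mul, ← Polynomial.aeval_algHom_apply, lam_V]
  congr 1
  rw [tau, map_mul, map_mul, map_mul, map_mul, Polynomial.toLaurent_X, Polynomial.toLaurent_C,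
    invert_T, invert_C, Polynomial.comp_eq_aeval]
  have e1 : Polynomial.toLaurent (Polynomial.aeval (Polynomial.C q * Polynomial.X) B) =
      Polynomial.aeval (C q * T 1 : ℤ[T;T⁻¹]) B := by
    rw [← Polynomial.toLaurentAlg_apply, ← Polynomial.aeval_algHom_apply,
      Polynomial.toLaurentAlg_apply, map_mul, Polynomial.toLaurent_C, Polynomial.toLaurent_X]
  have e2 : invert (Polynomial.aeval (C q * T 1 : ℤ[T;T⁻¹]) B) =
      Polynomial.aeval (C q * T (-1) : ℤ[T;T⁻¹]) B := by
    have := Polynomial.aeval_algHom_apply (invert : ℤ[T;T⁻¹] ≃ₐ[ℤ] ℤ[T;T⁻¹]).toAlgHom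
      (C q * T 1 : ℤ[T;T⁻¹]) B
    have h' : invert (Polynomial.aeval (C q * T 1 : ℤ[T;T⁻¹]) B) =
        Polynomial.aeval (invert (C q * T 1 : ℤ[T;T⁻¹])) B := this.symm
    rw [h', map_mul, invert_C, invert_T]
  rw [e1, e2]
  ring

theorem ker_lam (q : ℤ) (hq : q ≠ 0) :
    RingHom.ker (lam q : P →+* ℤ[T;T⁻¹]) = Ideal.span {g0 q} := by
  apply le_antisymm
  · intro x hx
    have hx' : lam q x = 0 := hx
    obtain ⟨A, B, hAB⟩ := exists_nf q x
    have h1 : lam q (x - nf A B) = 0 := by
      obtain ⟨w, hw⟩ := Ideal.mem_span_singleton.mp hAB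
      rw [hw, map_mul, lam_g0, zero_mul]
    have h2 : lam q (nf A B) = 0 := by
      rw [map_sub, hx', zero_sub, neg_eq_zero] at h1
      exact h1
    rw [lam_nf] at h2
    obtain ⟨hA, hB⟩ := lemL A (tau q B) h2 (tau_coeff_zero q B)
    have hB0 : B = 0 := tau_eq_zero q hq B hB
    rw [hA, hB0, nf_zero, sub_zero] at hAB
    exact hAB
  · rw [Ideal.span_le]
    intro x hx
    rw [Set.mem_singleton_iff.mp hx]
    exact lam_g0 q

theorem T_mul_invert_toLaurent (N : ℕ) (p : Polynomial ℤ) (hp : p.natDegree ≤ N) :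
    T (N : ℤ) * invert (Polynomial.toLaurent p) =
      Polynomial.toLaurent (Polynomial.reflect N p) := by
  refine Polynomial.induction_with_natDegree_le
    (fun p => T (N : ℤ) * invert (Polynomial.toLaurent p) =
      Polynomial.toLaurent (Polynomial.reflect N p)) N ?_ ?_ ?_ p hp
  · show T (N : ℤ) * invert (Polynomial.toLaurent 0) =
      Polynomial.toLaurent (Polynomial.reflect N 0)
    simp
  · intro n r _ hn
    show T (N : ℤ) * invert (Polynomial.toLaurent (Polynomial.C r * Polynomial.X ^ n)) =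
      Polynomial.toLaurent (Polynomial.reflect N (Polynomial.C r * Polynomial.X ^ n))
    rw [Polynomial.reflect_C_mul_X_pow, Polynomial.revAt_le hn, map_mul, map_mul,
      Polynomial.toLaurent_C, Polynomial.toLaurent_X_pow, map_mul, invert_C, invert_T,
      Polynomial.toLaurent_C, Polynomial.toLaurent_X_pow, mul_left_comm, ← T_add]
    congr 2
    rw [Nat.cast_sub hn]; ring
  · intro f g _ _ hf hg
    show T (N : ℤ) * invert (Polynomial.toLaurent (f + g)) =
      Polynomial.toLaurent (Polynomial.reflect N (f + g))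
    rw [map_add, map_add, mul_add, hf, hg, Polynomial.reflect_add, map_add]

theorem shape (q : ℤ) (hq : q ≠ 0) (D : ℕ) (Pw : Polynomial ℤ) (hmon : Pw.Monic)
    (hdeg : Pw.natDegree = 2 * D) (h : P)
    (hh : F ^ D * h - Polynomial.aeval F Pw ∈ Ideal.span {g0 q}) :
    ∃ A B : Polynomial ℤ, h - nf A B ∈ Ideal.span {g0 q} ∧ A.Monic ∧ A.natDegree = D ∧
      (∀ j, D ≤ j → B.coeff j = 0) ∧ (1 ≤ D → B.coeff (D - 1) * q ^ D = Pw.coeff 0) := by
  obtain ⟨A, B, hAB⟩ := exists_nf q h
  refine ⟨A, B, hAB, ?_⟩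
  have hk : ∀ y, y ∈ Ideal.span {g0 q} → lam q y = 0 := by
    intro y hy
    have : y ∈ RingHom.ker (lam q : P →+* ℤ[T;T⁻¹]) := by rw [ker_lam q hq]; exact hy
    exact this
  have h1 := hk _ hh
  have h2 := hk _ hAB
  rw [map_sub, sub_eq_zero] at h1 h2
  rw [map_mul, map_pow, lam_F, T_pow, mul_one, h2, lam_nf, lam_aeval_F] at h1
  obtain ⟨t, ht⟩ : ∃ t, t = tau q B := ⟨_, rfl⟩
  rw [← ht] at h1
  have hXmon : (Polynomial.X ^ (D + 1) : Polynomial ℤ).Monic := Polynomial.monic_X_pow _
  obtain ⟨lo, hlo⟩ : ∃ lo, lo = t %ₘ (Polynomial.X ^ (D + 1)) := ⟨_, rfl⟩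
  obtain ⟨hi, hhi⟩ : ∃ hi, hi = t /ₘ (Polynomial.X ^ (D + 1)) := ⟨_, rfl⟩
  have hsplit : lo + Polynomial.X ^ (D + 1) * hi = t := by
    rw [hlo, hhi]; exact Polynomial.modByMonic_add_div t _
  have hlodeg : lo.natDegree ≤ D := by
    have h3 := Polynomial.natDegree_modByMonic_lt t hXmon (by
      intro h1'
      have h4 := congrArg Polynomial.natDegree h1'
      rw [Polynomial.natDegree_X_pow, Polynomial.natDegree_one] at h4
      omega)
    rw [Polynomial.natDegree_X_pow, ← hlo] at h3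
    omega
  have e1 : T (D : ℤ) * invert (Polynomial.toLaurent t) =
      Polynomial.toLaurent (Polynomial.reflect D lo) +
        invert (Polynomial.toLaurent (Polynomial.X * hi)) := by
    rw [← hsplit, map_add, map_add, mul_add, T_mul_invert_toLaurent D lo hlodeg]
    congr 1
    rw [map_mul, map_mul, Polynomial.toLaurent_X_pow, invert_T, map_mul, map_mul,
      Polynomial.toLaurent_X, invert_T, ← mul_assoc, ← T_add]
    congr 2
    push_cast; ring
  have h3 : Polynomial.toLaurent (Polynomial.X ^ D * A + Polynomial.reflect D lo - Pw) +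
      invert (Polynomial.toLaurent (Polynomial.X * hi)) = 0 := by
    rw [map_sub, map_add, map_mul, Polynomial.toLaurent_X_pow, ← h1, mul_add, e1]; ring
  obtain ⟨h4, h5⟩ := lemL _ _ h3 (Polynomial.coeff_X_mul_zero hi)
  have hhi0 : hi = 0 := by
    rcases mul_eq_zero.mp h5 with h6 | h6
    · exact absurd h6 Polynomial.X_ne_zero
    · exact h6
  have hteq : t = lo := by rw [← hsplit, hhi0, mul_zero, add_zero]
  have htdeg : t.natDegree ≤ D := by rw [hteq]; exact hlodeg
  have hPw : Pw = Polynomial.X ^ D * A + Polynomial.reflect D t := by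
    rw [hteq]; exact (sub_eq_zero.mp h4).symm
  have hrefl : ∀ i, D ≤ i → (Polynomial.reflect D t).coeff i = 0 := by
    intro i hi
    rw [Polynomial.coeff_reflect]
    rcases eq_or_lt_of_le hi with heq | hlt
    · rw [← heq, Polynomial.revAt_le le_rfl, Nat.sub_self, ht]
      exact tau_coeff_zero q B
    · rw [Polynomial.revAt_eq_self_of_lt hlt]
      exact Polynomial.coeff_eq_zero_of_natDegree_lt (lt_of_le_of_lt htdeg hlt)
  have hAc : ∀ i, A.coeff i = Pw.coeff (i + D) := by
    intro i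
    rw [hPw, Polynomial.coeff_add, Polynomial.coeff_X_pow_mul, hrefl _ (Nat.le_add_left D i),
      add_zero]
  have hAD : A.coeff D = 1 := by
    rw [hAc, ← two_mul, ← hdeg]; exact hmon.coeff_natDegree
  have hAhigh : ∀ i, D < i → A.coeff i = 0 := by
    intro i hi
    rw [hAc]
    apply Polynomial.coeff_eq_zero_of_natDegree_lt
    rw [hdeg]; omega
  have hAnat : A.natDegree = D :=
    le_antisymm (Polynomial.natDegree_le_iff_coeff_eq_zero.mpr fun N hN => hAhigh N hN)
      (Polynomial.le_natDegree_of_ne_zero (by rw [hAD]; exact one_ne_zero))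
  have hAmon : A.Monic := by
    rw [Polynomial.Monic, Polynomial.leadingCoeff, hAnat, hAD]
  refine ⟨hAmon, hAnat, ?_, ?_⟩
  · intro j hj
    have h6 := tau_coeff_succ q B j
    rw [← ht, Polynomial.coeff_eq_zero_of_natDegree_lt (by omega)] at h6
    rcases mul_eq_zero.mp h6.symm with h7 | h7
    · exact absurd h7 hq
    · rcases mul_eq_zero.mp h7 with h8 | h8
      · exact h8
      · exact absurd h8 (pow_ne_zero j hq)
  · intro hD1
    obtain ⟨k, rfl⟩ : ∃ k, D = k + 1 := ⟨D - 1, by omega⟩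
    rw [hPw, Polynomial.coeff_add, Polynomial.coeff_X_pow_mul', if_neg (by omega), zero_add,
      Polynomial.coeff_reflect, Polynomial.revAt_le (Nat.zero_le _), Nat.sub_zero, ht,
      tau_coeff_succ, Nat.add_sub_cancel]
    ring

/-- elements congruent mod `I` to a small normal form -/
def W (D : ℕ) (I : Ideal P) : AddSubgroup P where
  carrier := {x | ∃ A' B' : Polynomial ℤ, A'.degree < D ∧ B'.degree < D ∧ x - nf A' B' ∈ I}
  zero_mem' := ⟨0, 0, by rw [Polynomial.degree_zero]; exact WithBot.bot_lt_coe _,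
    by rw [Polynomial.degree_zero]; exact WithBot.bot_lt_coe _,
    by rw [nf_zero, sub_zero]; exact zero_mem I⟩
  add_mem' := by
    rintro x y ⟨A1, B1, ha1, hb1, h1⟩ ⟨A2, B2, ha2, hb2, h2⟩
    refine ⟨A1 + A2, B1 + B2, (Polynomial.degree_add_le _ _).trans_lt (max_lt ha1 ha2),
      (Polynomial.degree_add_le _ _).trans_lt (max_lt hb1 hb2), ?_⟩
    rw [nf_add]
    convert add_mem h1 h2 using 1
    ring
  neg_mem' := by
    rintro x ⟨A1, B1, ha1, hb1, h1⟩
    refine ⟨-A1, -B1, by rwa [Polynomial.degree_neg], by rwa [Polynomial.degree_neg], ?_⟩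
    rw [nf_neg]
    convert neg_mem h1 using 1
    ring

theorem mem_W_iff (D : ℕ) (I : Ideal P) (x : P) : x ∈ W D I ↔
    ∃ A' B' : Polynomial ℤ, A'.degree < D ∧ B'.degree < D ∧ x - nf A' B' ∈ I := Iff.rfl

theorem mem_W_of_mem (D : ℕ) (I : Ideal P) (x : P) (hx : x ∈ I) : x ∈ W D I :=
  ⟨0, 0, by rw [Polynomial.degree_zero]; exact WithBot.bot_lt_coe _,
    by rw [Polynomial.degree_zero]; exact WithBot.bot_lt_coe _,
    by rw [nf_zero, sub_zero]; exact hx⟩

theorem mem_W_congr (D : ℕ) (I : Ideal P) (x y : P) (hxy : x - y ∈ I) (hy : y ∈ W D I) :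
    x ∈ W D I := by
  have h := add_mem hy (mem_W_of_mem D I _ hxy)
  rwa [add_sub_cancel] at h

theorem F_pow_mem_W (D : ℕ) (I : Ideal P) (a : ℕ) (ha : a < D) : F ^ a ∈ W D I :=
  ⟨Polynomial.X ^ a, 0, by rw [Polynomial.degree_X_pow]; exact_mod_cast ha,
    by rw [Polynomial.degree_zero]; exact WithBot.bot_lt_coe _, by simp [nf]⟩

theorem V_pow_mem_W (D : ℕ) (I : Ideal P) (b : ℕ) (hb1 : 1 ≤ b) (hbD : b ≤ D) :
    V ^ b ∈ W D I :=
  ⟨0, Polynomial.X ^ (b - 1), by rw [Polynomial.degree_zero]; exact WithBot.bot_lt_coe _,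
    by rw [Polynomial.degree_X_pow]; exact_mod_cast (by omega : b - 1 < D), by
      simp only [nf, map_zero, zero_add, map_pow, Polynomial.aeval_X]
      rw [← pow_succ', Nat.sub_add_cancel hb1, sub_self]
      exact zero_mem I⟩

theorem C_mul_mem_W (D : ℕ) (I : Ideal P) (c : ℤ) (x : P) (hx : x ∈ W D I) :
    MvPolynomial.C c * x ∈ W D I := by
  rw [eq_intCast (MvPolynomial.C : ℤ →+* P) c, ← zsmul_eq_mul]
  exact (W D I).zsmul_mem hx c

theorem helperS (D : ℕ) (I : Ideal P) (y z : P) (G : Polynomial ℤ) (n : ℕ)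
    (hG : ∀ i, n ≤ i → G.coeff i = 0) (hy : ∀ i, i < n → y * z ^ i ∈ W D I) :
    y * Polynomial.aeval z G ∈ W D I := by
  have hsum : Polynomial.aeval z G =
      ∑ i ∈ Finset.range n, MvPolynomial.C (G.coeff i) * z ^ i := by
    rcases Nat.eq_zero_or_pos n with rfl | hn
    · have hG0 : G = 0 := by
        ext i; rw [hG i (Nat.zero_le i), Polynomial.coeff_zero]
      rw [hG0]; simp
    · rw [Polynomial.aeval_eq_sum_range' (n := n)]
      · refine Finset.sum_congr rfl fun i _ => ?_
        rw [MvPolynomial.C_mul']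
      · by_cases hG0 : G = 0
        · rw [hG0]; simpa using hn
        · rw [Polynomial.natDegree_lt_iff_degree_lt hG0, Polynomial.degree_lt_iff_coeff_zero]
          exact hG
  rw [hsum, Finset.mul_sum]
  refine sum_mem fun i hi => ?_
  rw [mul_left_comm]
  exact C_mul_mem_W D I _ _ (hy i (Finset.mem_range.mp hi))

theorem claimA (q : ℤ) (D : ℕ) (hD : 1 ≤ D) (h : P) (A B : Polynomial ℤ)
    (hAB : h - nf A B ∈ Ideal.span {g0 q}) (hAmon : A.Monic) (hAdeg : A.natDegree = D)
    (hB : ∀ j, D ≤ j → B.coeff j = 0)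
    (hε : B.coeff (D - 1) = 1 ∨ B.coeff (D - 1) = -1) :
    ∀ x : P, x ∈ W D (Ideal.span {g0 q, h}) := by
  obtain ⟨I, hI⟩ : ∃ I, I = Ideal.span {g0 q, h} := ⟨_, rfl⟩
  rw [← hI]
  have hg0I : Ideal.span {g0 q} ≤ I := by
    rw [hI]; exact Ideal.span_mono (by simp)
  have hhI : h ∈ I := by rw [hI]; exact Ideal.subset_span (by simp)
  have hnfI : nf A B ∈ I := by
    have h1 := I.sub_mem hhI (hg0I hAB)
    rwa [sub_sub_cancel] at h1
  obtain ⟨A', hA'⟩ : ∃ A', A' = A - Polynomial.X ^ D := ⟨_, rfl⟩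
  have hA'c : ∀ i, D ≤ i → A'.coeff i = 0 := by
    intro i hi
    rw [hA', Polynomial.coeff_sub, Polynomial.coeff_X_pow]
    rcases eq_or_lt_of_le hi with heq | hlt
    · rw [if_pos heq.symm, ← heq, ← hAdeg, hAmon.coeff_natDegree, sub_self]
    · rw [if_neg (by omega), sub_zero]
      exact Polynomial.coeff_eq_zero_of_natDegree_lt (by omega)
  have hAeq : A = Polynomial.X ^ D + A' := by rw [hA']; ring
  have hmono : ∀ c d : ℕ, (d ≤ c → F ^ (c - d) ∈ W D I) → (c < d → V ^ (d - c) ∈ W D I) →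
      F ^ c * V ^ d ∈ W D I := by
    intro c d h1 h2
    rcases le_or_gt d c with hdc | hcd
    · exact mem_W_congr D I _ _ (hg0I (M1 q c d hdc)) (C_mul_mem_W D I _ _ (h1 hdc))
    · exact mem_W_congr D I _ _ (hg0I (M2 q c d hcd.le)) (C_mul_mem_W D I _ _ (h2 hcd))
  have A1 : ∀ a : ℕ, F ^ a ∈ W D I := by
    intro a
    induction a using Nat.strong_induction_on with
    | _ a ih =>
      rcases lt_or_ge a D with haD | haD
      · exact F_pow_mem_W D I a haD
      · obtain ⟨c, rfl⟩ : ∃ c, a = D + c := ⟨a - D, by omega⟩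
        have h0 : F ^ c * nf A B ∈ W D I := mem_W_of_mem D I _ (I.mul_mem_left _ hnfI)
        have h1 : F ^ c * Polynomial.aeval F A' ∈ W D I :=
          helperS D I (F ^ c) F A' D hA'c (fun i hi => by
            rw [← pow_add]; exact ih _ (by omega))
        have h2 : (F ^ c * V) * Polynomial.aeval V B ∈ W D I :=
          helperS D I (F ^ c * V) V B D hB (fun j hj => by
            rw [mul_assoc, ← pow_succ']
            exact hmono c (j + 1) (fun hle => ih _ (by omega))
              (fun hlt => V_pow_mem_W D I _ (by omega) (by omega)))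
        have e : F ^ (D + c) = F ^ c * nf A B - F ^ c * Polynomial.aeval F A' -
            (F ^ c * V) * Polynomial.aeval V B := by
          rw [nf, hAeq, map_add, map_pow, Polynomial.aeval_X, pow_add]; ring
        rw [e]
        exact sub_mem (sub_mem h0 h1) h2
  have A2 : ∀ b : ℕ, 1 ≤ b → V ^ b ∈ W D I := by
    intro b
    induction b using Nat.strong_induction_on with
    | _ b ih =>
      intro hb1
      rcases le_or_gt b D with hbD | hbD
      · exact V_pow_mem_W D I b hb1 hbD
      · obtain ⟨c, rfl⟩ : ∃ c, b = D + c := ⟨b - D, by omega⟩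
        have hc1 : 1 ≤ c := by omega
        obtain ⟨ε, hεdef⟩ : ∃ ε, ε = B.coeff (D - 1) := ⟨_, rfl⟩
        obtain ⟨B', hB'⟩ : ∃ B', B' = B - Polynomial.C ε * Polynomial.X ^ (D - 1) := ⟨_, rfl⟩
        have hB'c : ∀ j, D - 1 ≤ j → B'.coeff j = 0 := by
          intro j hj
          rw [hB', Polynomial.coeff_sub, Polynomial.coeff_C_mul_X_pow]
          rcases eq_or_lt_of_le hj with hjeq | hlt
          · rw [if_pos hjeq.symm, ← hjeq, hεdef, sub_self]
          · rw [if_neg (by omega), sub_zero]; exact hB j (by omega)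
        have hBeq : B = Polynomial.C ε * Polynomial.X ^ (D - 1) + B' := by rw [hB']; ring
        have h0 : V ^ c * nf A B ∈ W D I := mem_W_of_mem D I _ (I.mul_mem_left _ hnfI)
        have h1 : V ^ c * Polynomial.aeval F A ∈ W D I :=
          helperS D I (V ^ c) F A (D + 1)
            (fun i hi => Polynomial.coeff_eq_zero_of_natDegree_lt (by omega))
            (fun i hi => by
              rw [mul_comm]
              exact hmono i c (fun hle => A1 _) (fun hlt => ih _ (by omega) (by omega)))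
        have h2 : V ^ (c + 1) * Polynomial.aeval V B' ∈ W D I :=
          helperS D I (V ^ (c + 1)) V B' (D - 1) hB'c (fun j hj => by
            rw [← pow_add]; exact ih _ (by omega) (by omega))
        have e : MvPolynomial.C ε * V ^ (D + c) = V ^ c * nf A B -
            V ^ c * Polynomial.aeval F A - V ^ (c + 1) * Polynomial.aeval V B' := by
          have hD' : D + c = (c + 1) + (D - 1) := by omega
          rw [nf, hBeq, map_add, map_mul, map_pow, Polynomial.aeval_X, aeval_C', hD']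
          ring
        have h3 : MvPolynomial.C ε * V ^ (D + c) ∈ W D I := by
          rw [e]; exact sub_mem (sub_mem h0 h1) h2
        rcases hε with h1' | h1'
        · rw [hεdef, h1', map_one, one_mul] at h3; exact h3
        · rw [hεdef, h1', map_neg, map_one, neg_one_mul] at h3
          simpa using neg_mem h3
  intro x
  obtain ⟨Ax, Bx, hx⟩ := exists_nf q x
  refine mem_W_congr D I _ _ (hg0I hx) ?_
  have h1 : (1 : P) * Polynomial.aeval F Ax ∈ W D I :=
    helperS D I 1 F Ax (Ax.natDegree + 1)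
      (fun i hi => Polynomial.coeff_eq_zero_of_natDegree_lt (by omega))
      (fun i _ => by rw [one_mul]; exact A1 i)
  have h2 : V * Polynomial.aeval V Bx ∈ W D I :=
    helperS D I V V Bx (Bx.natDegree + 1)
      (fun i hi => Polynomial.coeff_eq_zero_of_natDegree_lt (by omega))
      (fun j _ => by rw [← pow_succ']; exact A2 _ (by omega))
  rw [one_mul] at h1
  exact add_mem h1 h2

theorem claimB {S : Type*} [CommRing S] (ψ : P →+* S) (q : ℤ) (hq : q ≠ 0) (D : ℕ) (hD : 1 ≤ D)
    (Pw : Polynomial ℤ) (hdeg : Pw.natDegree = 2 * D) (hψ0 : ψ (g0 q) = 0)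
    (hdiv : ∀ R : Polynomial ℤ, ψ (Polynomial.aeval F R) = 0 → Pw ∣ R)
    (A' B' : Polynomial ℤ) (hA' : A'.degree < D) (hB' : B'.degree < D)
    (hx : ψ (nf A' B') = 0) : nf A' B' ∈ Ideal.span {g0 q} := by
  have hker := ker_lam q hq
  have htdeg : (tau q B').natDegree ≤ D := by
    rw [Polynomial.natDegree_le_iff_coeff_eq_zero]
    intro N hN
    obtain ⟨n, rfl⟩ : ∃ n, N = n + 1 := ⟨N - 1, by omega⟩
    rw [tau_coeff_succ, Polynomial.coeff_eq_zero_of_degree_lt
      (lt_of_lt_of_le hB' (by exact_mod_cast (by omega : D ≤ n))), zero_mul, mul_zero]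
  obtain ⟨R, hR⟩ : ∃ R, R = Polynomial.X ^ D * A' + Polynomial.reflect D (tau q B') := ⟨_, rfl⟩
  have hlam : lam q (F ^ D * nf A' B') = Polynomial.toLaurent R := by
    rw [map_mul, map_pow, lam_F, T_pow, mul_one, lam_nf, mul_add,
      T_mul_invert_toLaurent D _ htdeg, hR, map_add, map_mul, Polynomial.toLaurent_X_pow]
  have hmem : F ^ D * nf A' B' - Polynomial.aeval F R ∈ Ideal.span {g0 q} := by
    rw [← hker]
    show lam q _ = 0
    rw [map_sub, hlam, lam_aeval_F, sub_self]
  have hψR : ψ (Polynomial.aeval F R) = 0 := by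
    obtain ⟨w, hw⟩ := Ideal.mem_span_singleton.mp hmem
    have h1 := congrArg ψ hw
    rw [map_sub, map_mul, hx, mul_zero, zero_sub, map_mul, hψ0, zero_mul, neg_eq_zero] at h1
    exact h1
  have hRdvd := hdiv R hψR
  have hRdeg : R.natDegree < Pw.natDegree := by
    rw [hdeg, hR]
    have h1 : (Polynomial.X ^ D * A').natDegree < 2 * D := by
      by_cases hA0 : A' = 0
      · rw [hA0, mul_zero, Polynomial.natDegree_zero]; omega
      · have h2 := (Polynomial.natDegree_lt_iff_degree_lt hA0).mpr hA'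
        calc (Polynomial.X ^ D * A').natDegree
            ≤ (Polynomial.X ^ D : Polynomial ℤ).natDegree + A'.natDegree :=
              Polynomial.natDegree_mul_le
          _ = D + A'.natDegree := by rw [Polynomial.natDegree_X_pow]
          _ < 2 * D := by omega
    have h2 : (Polynomial.reflect D (tau q B')).natDegree < 2 * D := by
      refine lt_of_le_of_lt Polynomial.natDegree_reflect_le ?_
      rw [max_eq_left htdeg]; omega
    exact lt_of_le_of_lt (Polynomial.natDegree_add_le _ _) (max_lt h1 h2)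
  have hR0 : R = 0 := Polynomial.eq_zero_of_dvd_of_natDegree_lt hRdvd hRdeg
  rw [hR0, map_zero, map_mul, map_pow, lam_F] at hlam
  have hu : IsUnit ((T 1 : ℤ[T;T⁻¹]) ^ D) := (isUnit_T 1).pow D
  have h3 := (hu.mul_right_eq_zero).mp hlam
  rw [← hker]
  exact h3

theorem abs_coeff_zero_minpoly {K : Type*} [Field K] [CharZero K] (x : K)
    (hx : IsIntegral ℤ x) (r : ℝ) (hr : ∀ z ∈ (minpoly ℤ x).aroots ℂ, ‖z‖ = r) :
    |(((minpoly ℤ x).coeff 0 : ℤ) : ℝ)| = r ^ (minpoly ℤ x).natDegree := by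
  obtain ⟨m, hm⟩ : ∃ m, m = minpoly ℤ x := ⟨_, rfl⟩
  rw [← hm] at hr ⊢
  have hmon : m.Monic := hm ▸ minpoly.monic hx
  have hmonC : (m.map (algebraMap ℤ ℂ)).Monic := hmon.map _
  have hsplit : (m.map (algebraMap ℤ ℂ)).Splits := IsAlgClosed.splits _
  have h1 := hsplit.coeff_zero_eq_prod_roots_of_monic hmonC
  have hcard : (m.map (algebraMap ℤ ℂ)).roots.card = m.natDegree := by
    rw [Polynomial.splits_iff_card_roots.mp hsplit, hmon.natDegree_map]
  have h2 : ‖(m.map (algebraMap ℤ ℂ)).roots.prod‖ = r ^ m.natDegree := by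
    have h3 := map_multiset_prod (normHom : ℂ →*₀ ℝ) (m.map (algebraMap ℤ ℂ)).roots
    have h4 : ((m.map (algebraMap ℤ ℂ)).roots.map (normHom : ℂ →*₀ ℝ)) =
        Multiset.replicate m.natDegree r := by
      rw [← hcard, ← Multiset.card_map (normHom : ℂ →*₀ ℝ)]
      apply Multiset.eq_replicate_of_mem
      intro b hb
      obtain ⟨z, hz, rfl⟩ := Multiset.mem_map.mp hb
      exact hr z hz
    rw [h4, Multiset.prod_replicate] at h3
    exact h3
  have h5 := congrArg norm h1
  rw [Polynomial.coeff_map, norm_mul, norm_pow, norm_neg, norm_one, one_pow, one_mul, h2] at h5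
  rw [← h5]
  simp

theorem prod_dvd_of_forall_dvd {ι : Type*} (m : ι → Polynomial ℤ) (R : Polynomial ℤ)
    (s : Finset ι) :
    (∀ i ∈ s, Prime (m i)) → (∀ i ∈ s, (m i).Monic) →
    (∀ i ∈ s, ∀ j ∈ s, m i = m j → i = j) → (∀ i ∈ s, m i ∣ R) → ∏ i ∈ s, m i ∣ R := by
  classical
  induction s using Finset.induction_on with
  | empty => intro _ _ _ _; simp
  | insert a s ha ih =>
    intro hprime hmon hinj hdvd
    rw [Finset.prod_insert ha]
    have h1 : ∏ i ∈ s, m i ∣ R :=
      ih (fun i hi => hprime i (Finset.mem_insert_of_mem hi))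
        (fun i hi => hmon i (Finset.mem_insert_of_mem hi))
        (fun i hi j hj => hinj i (Finset.mem_insert_of_mem hi) j (Finset.mem_insert_of_mem hj))
        (fun i hi => hdvd i (Finset.mem_insert_of_mem hi))
    obtain ⟨U, hU⟩ := h1
    have h2 : m a ∣ (∏ i ∈ s, m i) * U := hU ▸ hdvd a (Finset.mem_insert_self a s)
    have hpa := hprime a (Finset.mem_insert_self a s)
    rcases hpa.dvd_or_dvd h2 with h3 | h3
    · exfalso
      obtain ⟨i, hi, hdi⟩ := (Prime.dvd_finset_prod_iff hpa _).mp h3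
      have hpi := hprime i (Finset.mem_insert_of_mem hi)
      have hassoc : Associated (m a) (m i) :=
        hpa.irreducible.associated_of_dvd hpi.irreducible hdi
      have heq : m a = m i :=
        Polynomial.eq_of_monic_of_associated (hmon a (Finset.mem_insert_self a s))
          (hmon i (Finset.mem_insert_of_mem hi)) hassoc
      have hai := hinj a (Finset.mem_insert_self a s) i (Finset.mem_insert_of_mem hi) heq
      exact ha (hai ▸ hi)
    · obtain ⟨U', rfl⟩ := h3
      exact ⟨U', by rw [hU]; ring⟩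

theorem main17984 (p e : ℕ) [Fact p.Prime] (he : 0 < e)
    (ι : Type) [Fintype ι] (K : ι → Type u) [∀ i, Field (K i)] [∀ i, CharZero (K i)]
    (π : ∀ i, K i)
    (hint : ∀ i, IsIntegral ℤ (π i))
    (hweil : ∀ i, ∀ z ∈ (minpoly ℤ (π i)).aroots ℂ, ‖z‖ = Real.sqrt ((p : ℝ) ^ e))
    (hinj : ∀ i j, minpoly ℤ (π i) = minpoly ℤ (π j) → i = j)
    (D : ℕ) (hD : ∑ i, (minpoly ℤ (π i)).natDegree = 2 * D)
    (h : MvPolynomial (Fin 2) ℤ)
    (hh : MvPolynomial.X 0 ^ D * h -
        Polynomial.aeval (MvPolynomial.X 0 : MvPolynomial (Fin 2) ℤ) (∏ i, minpoly ℤ (π i)) ∈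
      Ideal.span ({MvPolynomial.X 0 * MvPolynomial.X 1 - MvPolynomial.C ((p : ℤ) ^ e)} :
        Set (MvPolynomial (Fin 2) ℤ))) :
    RingHom.ker (MvPolynomial.aeval ![fun i => π i, fun i => ((p : K i) ^ e) / π i] :
        MvPolynomial (Fin 2) ℤ →ₐ[ℤ] ((i : ι) → K i)) =
        Ideal.span {MvPolynomial.X 0 * MvPolynomial.X 1 - MvPolynomial.C ((p : ℤ) ^ e), h} ∧
      RingTheory.Sequence.IsWeaklyRegular (MvPolynomial (Fin 2) ℤ)
        [MvPolynomial.X 0 * MvPolynomial.X 1 - MvPolynomial.C ((p : ℤ) ^ e), h] := by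
  classical
  obtain ⟨q, hqdef⟩ : ∃ q : ℤ, q = (p : ℤ) ^ e := ⟨_, rfl⟩
  have hp : p ≠ 0 := (Fact.out : p.Prime).ne_zero
  have hq : q ≠ 0 := by rw [hqdef]; exact pow_ne_zero _ (by exact_mod_cast hp)
  have hqpos : 0 < q := by rw [hqdef]; exact pow_pos (by exact_mod_cast Nat.pos_of_ne_zero hp) e
  have hg0 : (MvPolynomial.X 0 * MvPolynomial.X 1 - MvPolynomial.C ((p : ℤ) ^ e) :
      MvPolynomial (Fin 2) ℤ) = g0 q := by rw [hqdef]; rfl
  rw [hg0] at hh ⊢
  obtain ⟨Pw, hPw⟩ : ∃ Pw, Pw = ∏ i, minpoly ℤ (π i) := ⟨_, rfl⟩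
  rw [← hPw] at hh
  have hmon : Pw.Monic := by
    rw [hPw]; exact Polynomial.monic_prod_of_monic _ _ (fun i _ => minpoly.monic (hint i))
  have hdeg : Pw.natDegree = 2 * D := by
    rw [hPw, Polynomial.natDegree_prod_of_monic _ _ (fun i _ => minpoly.monic (hint i))]
    exact hD
  obtain ⟨φ, hφ⟩ : ∃ φ : MvPolynomial (Fin 2) ℤ →ₐ[ℤ] ((i : ι) → K i),
      φ = MvPolynomial.aeval ![fun i => π i, fun i => ((p : K i) ^ e) / π i] := ⟨_, rfl⟩
  rw [← hφ]
  have hφF : φ F = fun i => π i := by rw [hφ]; simp [F]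
  have hφV : φ V = fun i => ((p : K i) ^ e) / π i := by rw [hφ]; simp [V]
  have hr0 : (0 : ℝ) < Real.sqrt ((p : ℝ) ^ e) :=
    Real.sqrt_pos.mpr (pow_pos (by exact_mod_cast Nat.pos_of_ne_zero hp) e)
  have hπ0 : ∀ i, π i ≠ 0 := by
    intro i h0
    have hm : minpoly ℤ (π i) = Polynomial.X - Polynomial.C 0 := by
      have h1 := minpoly.eq_X_sub_C_of_algebraMap_inj (B := K i) (0 : ℤ)
        (RingHom.injective_int (algebraMap ℤ (K i)))
      rw [map_zero] at h1
      rw [h0]; exact h1
    have hmem : (0 : ℂ) ∈ (minpoly ℤ (π i)).aroots ℂ := by rw [hm]; simp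
    have h1 := hweil i 0 hmem
    rw [norm_zero] at h1
    exact absurd h1 hr0.ne
  have hφg0 : φ (g0 q) = 0 := by
    rw [g0, map_sub, map_mul, hφF, hφV]
    ext i
    have h1 : φ (MvPolynomial.C q) i = (p : K i) ^ e := by
      rw [hφ, MvPolynomial.aeval_C, hqdef]; simp
    have h2 : π i * ((p : K i) ^ e / π i) = (p : K i) ^ e := by
      field_simp [hπ0 i]
    simp only [Pi.sub_apply, Pi.mul_apply, h1, Pi.zero_apply, h2, sub_self]
  have hφaeval : ∀ (R : Polynomial ℤ) (i : ι),
      φ (Polynomial.aeval F R) i = Polynomial.aeval (π i) R := by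
    intro R i
    rw [← Polynomial.aeval_algHom_apply, hφF]
    exact (Polynomial.aeval_algHom_apply (Pi.evalAlgHom ℤ K i) (fun i => π i) R).symm
  have hPwπ : ∀ i, Polynomial.aeval (π i) Pw = 0 := by
    intro i
    rw [hPw, map_prod]
    exact Finset.prod_eq_zero (Finset.mem_univ i) (minpoly.aeval ℤ (π i))
  have hφh : φ h = 0 := by
    obtain ⟨w, hw⟩ := Ideal.mem_span_singleton.mp hh
    have h1 := congrArg φ hw
    rw [map_sub, map_mul, map_pow, hφF, map_mul, hφg0, zero_mul] at h1
    ext i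
    have h2 := congrFun h1 i
    rw [Pi.sub_apply, hφaeval, hPwπ, sub_zero, Pi.mul_apply, Pi.pow_apply, Pi.zero_apply] at h2
    rcases mul_eq_zero.mp h2 with h3 | h3
    · exact absurd h3 (pow_ne_zero D (hπ0 i))
    · exact h3
  have hIle : Ideal.span {g0 q, h} ≤ RingHom.ker φ := by
    rw [Ideal.span_le]
    intro x hx
    rcases hx with rfl | hx
    · exact hφg0
    · rw [Set.mem_singleton_iff.mp hx]; exact hφh
  have hdiv : ∀ R : Polynomial ℤ,
      (φ : MvPolynomial (Fin 2) ℤ →+* ((i : ι) → K i)) (Polynomial.aeval F R) = 0 → Pw ∣ R := by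
    intro R hR
    rw [hPw]
    apply prod_dvd_of_forall_dvd (fun i => minpoly ℤ (π i)) R Finset.univ
    · intro i _; exact minpoly.prime_of_isIntegrallyClosed (hint i)
    · intro i _; exact minpoly.monic (hint i)
    · intro i _ j _ hij; exact hinj i j hij
    · intro i _
      apply minpoly.isIntegrallyClosed_dvd (hint i)
      have h1 : φ (Polynomial.aeval F R) i = 0 := congrFun hR i
      rw [hφaeval] at h1
      exact h1
  obtain ⟨A, B, hAB, hAmon, hAdeg, hB, hB0⟩ := shape q hq D Pw hmon hdeg h hh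
  have hlamh : lam q h ≠ 0 := by
    intro h0
    have h1 : lam q (F ^ D * h - Polynomial.aeval F Pw) = 0 := by
      have h2 : F ^ D * h - Polynomial.aeval F Pw ∈ RingHom.ker (lam q : P →+* ℤ[T;T⁻¹]) := by
        rw [ker_lam q hq]; exact hh
      exact h2
    rw [map_sub, map_mul, h0, mul_zero, zero_sub, neg_eq_zero, lam_aeval_F,
      Polynomial.toLaurent_eq_zero] at h1
    exact hmon.ne_zero h1
  refine ⟨?_, ?_⟩
  · apply le_antisymm _ hIle
    intro x hx
    have hx0 : φ x = 0 := hx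
    rcases Nat.eq_zero_or_pos D with hD0 | hDpos
    · have hA1 : A = 1 := (hAmon.natDegree_eq_zero).mp (by rw [hAdeg, hD0])
      have hB1 : B = 0 := by
        ext j; rw [hB j (by omega), Polynomial.coeff_zero]
      rw [hA1, hB1] at hAB
      have hnf1 : nf 1 0 = 1 := by simp [nf]
      rw [hnf1] at hAB
      have h1I : (1 : P) ∈ Ideal.span {g0 q, h} := by
        have h2 : h ∈ Ideal.span {g0 q, h} := Ideal.subset_span (by simp)
        have h3 : h - 1 ∈ Ideal.span {g0 q, h} := Ideal.span_mono (by simp) hAB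
        have h4 := Ideal.sub_mem _ h2 h3
        rwa [sub_sub_cancel] at h4
      rw [(Ideal.eq_top_iff_one _).mpr h1I]
      trivial
    · have hw0 : |((Pw.coeff 0 : ℤ) : ℝ)| = ((p : ℝ) ^ e) ^ D := by
        rw [hPw, Polynomial.coeff_zero_eq_eval_zero, Polynomial.eval_prod, Int.cast_prod,
          Finset.abs_prod]
        have h1 : ∀ i ∈ Finset.univ, |((Polynomial.eval 0 (minpoly ℤ (π i)) : ℤ) : ℝ)| =
            Real.sqrt ((p : ℝ) ^ e) ^ (minpoly ℤ (π i)).natDegree := by
          intro i _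
          rw [← Polynomial.coeff_zero_eq_eval_zero]
          exact abs_coeff_zero_minpoly (π i) (hint i) _ (hweil i)
        rw [Finset.prod_congr rfl h1, Finset.prod_pow_eq_pow_sum, hD, pow_mul,
          Real.sq_sqrt (by positivity)]
      have hw1 : |Pw.coeff 0| = q ^ D := by
        have h1 : ((|Pw.coeff 0| : ℤ) : ℝ) = ((q ^ D : ℤ) : ℝ) := by
          rw [Int.cast_abs, hw0, hqdef]; push_cast; rfl
        exact_mod_cast h1
      have hε : B.coeff (D - 1) = 1 ∨ B.coeff (D - 1) = -1 := by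
        have h1 := hB0 hDpos
        have hqD : q ^ D ≠ 0 := pow_ne_zero D hq
        rcases (abs_eq (pow_pos hqpos D).le).mp hw1 with h2 | h2
        · left
          apply mul_right_cancel₀ hqD
          rw [h1, h2, one_mul]
        · right
          apply mul_right_cancel₀ hqD
          rw [h1, h2, neg_one_mul]
      obtain ⟨A', B', hA', hB', hxI⟩ :=
        (mem_W_iff _ _ _).mp (claimA q D hDpos h A B hAB hAmon hAdeg hB hε x)
      have hnf0 : (φ : MvPolynomial (Fin 2) ℤ →+* ((i : ι) → K i)) (nf A' B') = 0 := by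
        have h1 : φ (x - nf A' B') = 0 := hIle hxI
        rw [map_sub, hx0, zero_sub, neg_eq_zero] at h1
        exact h1
      have hnfI := claimB (φ : MvPolynomial (Fin 2) ℤ →+* ((i : ι) → K i)) q hq D hDpos Pw hdeg
        hφg0 hdiv A' B' hA' hB' hnf0
      have h5 := Ideal.add_mem _ hxI
        (Ideal.span_mono (by simp : ({g0 q} : Set P) ⊆ {g0 q, h}) hnfI)
      rwa [sub_add_cancel] at h5
  · rw [RingTheory.Sequence.isWeaklyRegular_cons_iff, RingTheory.Sequence.isWeaklyRegular_cons_iff]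
    refine ⟨?_, ?_, RingTheory.Sequence.IsWeaklyRegular.nil _ _⟩
    · have hg0ne : g0 q ≠ 0 := by
        intro h0
        have h1 := lam_g0 q
        have h2 := congrArg (MvPolynomial.eval (fun _ => (0 : ℤ))) h0
        simp [g0] at h2
        exact hq h2
      intro a b hab
      simp only [smul_eq_mul] at hab
      exact mul_left_cancel₀ hg0ne hab
    · rw [isSMulRegular_iff_right_eq_zero_of_smul]
      intro m hm
      obtain ⟨x, rfl⟩ := Submodule.Quotient.mk_surjective _ m
      rw [← Submodule.Quotient.mk_smul, Submodule.Quotient.mk_eq_zero,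
        Submodule.mem_smul_pointwise_iff_exists] at hm
      obtain ⟨w, -, hw⟩ := hm
      rw [Submodule.Quotient.mk_eq_zero, Submodule.mem_smul_pointwise_iff_exists]
      have h1 : lam q (h * x) = 0 := by
        rw [← smul_eq_mul, ← hw, smul_eq_mul, map_mul, lam_g0, zero_mul]
      rw [map_mul] at h1
      have h2 : lam q x = 0 := (mul_eq_zero.mp h1).resolve_left hlamh
      have h3 : x ∈ Ideal.span {g0 q} := by rw [← ker_lam q hq]; exact h2
      obtain ⟨w', hw'⟩ := Ideal.mem_span_singleton.mp h3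
      exact ⟨w', trivial, by rw [smul_eq_mul]; exact hw'.symm⟩

end

end Groth.Agent.Lib.WeilNumH1
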