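import Mathlib
import Groth.Prelude.Def_CAlg
import Groth.Agent.Lib.WeilNum_helper1
import Groth.Agent.Lib.GorLCI_helper9
import Groth.Agent.Lib.KRegIdeal_helper2
import Groth.Agent.Lib.IntegralHeight_helper5

/-! Minimal central orders of Weil numbers: freeness, rank, dimension, Gorenstein (helper1).
APPEND-ONLY once landed. -/

set_option autoImplicit false
universe u

namespace Groth.Agent.Lib.WeilGor

section FE

open Polynomial

/-- functional equation of a monic integer polynomial with simple complex roots, all of absolute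
value `√Q` -/
theorem fe (P : ℤ[X]) (hmon : P.Monic) (Q : ℕ)
    (hnodup : (P.map (Int.castRingHom ℂ)).roots.Nodup)
    (habs : ∀ z ∈ (P.map (Int.castRingHom ℂ)).roots, ‖z‖ = Real.sqrt (Q : ℝ)) :
    ∀ k ≤ P.natDegree,
      P.coeff (P.natDegree - k) * (Q : ℤ) ^ (P.natDegree - k) = P.coeff 0 * P.coeff k := by
  classical
  set f : ℤ →+* ℂ := Int.castRingHom ℂ with hf
  set Pc : ℂ[X] := P.map f with hPc
  have hPcmon : Pc.Monic := hmon.map f
  have hPc0 : Pc ≠ 0 := hPcmon.ne_zero
  have hsplit : Pc.Splits := IsAlgClosed.splits Pc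
  set s := Pc.roots with hs
  set m := P.natDegree with hm
  have hdeg : Pc.natDegree = m := hmon.natDegree_map f
  have hcard : s.card = m := by rw [← hdeg]; exact (hsplit.natDegree_eq_card_roots).symm
  let S : Finset ℂ := ⟨s, hnodup⟩
  have hSmem : ∀ z, z ∈ S ↔ Pc.eval z = 0 := by
    intro z
    rw [Finset.mem_mk, hs, mem_roots hPc0, IsRoot]
  have hScard : S.card = m := hcard
  have hconj_root : ∀ z, Pc.eval z = 0 → Pc.eval (starRingEnd ℂ z) = 0 := by
    intro z hz
    rw [hPc, eval_map] at hz ⊢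
    have h1 := hom_eval₂ P f (starRingEnd ℂ) z
    have h2 : (starRingEnd ℂ).comp f = f := RingHom.ext_int _ _
    rw [h2, hz, map_zero] at h1
    exact h1.symm
  have hSabs : ∀ z ∈ S, ‖z‖ = Real.sqrt (Q : ℝ) := fun z hz => habs z (Finset.mem_mk.mp hz)
  have hQr : (0 : ℝ) ≤ (Q : ℝ) := Nat.cast_nonneg Q
  have hzconj : ∀ z ∈ S, z * starRingEnd ℂ z = (Q : ℂ) := by
    intro z hz
    rw [Complex.mul_conj', hSabs z hz]
    have : (Real.sqrt (Q : ℝ)) ^ 2 = (Q : ℝ) := Real.sq_sqrt hQr
    exact_mod_cast this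
  set a : ℕ → ℂ := fun j => f (P.coeff j) with ha
  have hPceval : ∀ w : ℂ, Pc.eval w = ∑ j ∈ Finset.range (m + 1), a j * w ^ j := by
    intro w
    rw [eval_eq_sum_range, hdeg]
    apply Finset.sum_congr rfl
    intro j _
    rw [hPc, coeff_map]
  set R : ℂ[X] := ∑ i ∈ Finset.range (m + 1), C (a (m - i) * (Q : ℂ) ^ (m - i)) * X ^ i with hR
  have hRcoeff : ∀ k, R.coeff k = if k ≤ m then a (m - k) * (Q : ℂ) ^ (m - k) else 0 := by
    intro k
    rw [hR, finset_sum_coeff]
    simp only [coeff_C_mul_X_pow]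
    rw [Finset.sum_ite_eq]
    simp only [Finset.mem_range, Nat.lt_succ_iff]
  have hReval : ∀ z ∈ S, R.eval z = 0 := by
    intro z hz
    set w := starRingEnd ℂ z with hw
    have hzw : z * w = (Q : ℂ) := hzconj z hz
    have hw0 : Pc.eval w = 0 := hconj_root z ((hSmem z).mp hz)
    rw [hR, eval_finset_sum]
    simp only [eval_mul, eval_C, eval_pow, eval_X]
    rw [← Finset.sum_flip]
    have : ∀ j ∈ Finset.range (m + 1),
        a (m - (m - j)) * (Q : ℂ) ^ (m - (m - j)) * z ^ (m - j) = z ^ m * (a j * w ^ j) := by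
      intro j hj
      have hj' : j ≤ m := Nat.lt_succ_iff.mp (Finset.mem_range.mp hj)
      rw [Nat.sub_sub_self hj', ← hzw, mul_pow]
      have : z ^ m = z ^ j * z ^ (m - j) := by rw [← pow_add]; congr 1; omega
      rw [this]; ring
    rw [Finset.sum_congr rfl this, ← Finset.mul_sum, ← hPceval w, hw0, mul_zero]
  set D : ℂ[X] := R - C (a 0) * Pc with hD
  have hDeval : ∀ z ∈ S, D.eval z = 0 := by
    intro z hz
    rw [hD, eval_sub, hReval z hz, eval_mul, (hSmem z).mp hz, mul_zero, sub_zero]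
  have hDcoeff : ∀ k, m ≤ k → D.coeff k = 0 := by
    intro k hk
    rw [hD, coeff_sub, coeff_C_mul, hRcoeff]
    rcases hk.eq_or_lt with rfl | hlt
    · rw [if_pos le_rfl, Nat.sub_self, pow_zero, mul_one]
      have : Pc.coeff m = 1 := by rw [← hdeg]; exact hPcmon.coeff_natDegree
      rw [this, mul_one, sub_self]
    · rw [if_neg (by omega), coeff_eq_zero_of_natDegree_lt (by rw [hdeg]; exact hlt), mul_zero,
        sub_zero]
  have hD0 : D = 0 := by
    by_contra hne
    apply hne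
    apply eq_zero_of_natDegree_lt_card_of_eval_eq_zero' D S hDeval
    rw [hScard]
    have : D.degree < (m : WithBot ℕ) := (degree_lt_iff_coeff_zero D m).mpr hDcoeff
    exact (natDegree_lt_iff_degree_lt hne).mpr this
  have hfe : ∀ k ≤ m, a (m - k) * (Q : ℂ) ^ (m - k) = a 0 * a k := by
    intro k hk
    have h1 : D.coeff k = 0 := by rw [hD0, coeff_zero]
    rw [hD, coeff_sub, coeff_C_mul, hRcoeff, if_pos hk, hPc, coeff_map, sub_eq_zero] at h1
    exact h1
  intro k hk
  have h1 := hfe k hk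
  have h6 : ((P.coeff (m - k) * (Q : ℤ) ^ (m - k) : ℤ) : ℂ) = ((P.coeff 0 * P.coeff k : ℤ) : ℂ) := by
    push_cast
    exact h1
  exact_mod_cast h6

end FE

section Gor

open RingTheory.Sequence

theorem gorenstein_of_presentation {B : Type u} [CommRing B]
    (ψ : MvPolynomial (Fin 2) ℤ →+* B) (hψ : Function.Surjective ψ)
    (g h : MvPolynomial (Fin 2) ℤ)
    (hker : RingHom.ker ψ = Ideal.span {g, h})
    (hreg : IsWeaklyRegular (MvPolynomial (Fin 2) ℤ) [g, h]) :
    LocCoh.IsGorensteinRing B := by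
  haveI : IsRegularRing (ULift.{u} ℤ) :=
    IsRegularRing.of_ringEquiv (ULift.ringEquiv (R := ℤ)).symm
  haveI : IsNoetherianRing (ULift.{u} ℤ) :=
    isNoetherianRing_of_ringEquiv ℤ (ULift.ringEquiv (R := ℤ)).symm
  have hZ : LocCoh.IsGorensteinRing (ULift.{u} ℤ) := Groth.Agent.GorFlat9.isGorRing_of_isRegularRing _
  letI algB : Algebra (ULift.{u} ℤ) B := ULift.algebra' ℤ B
  let E : MvPolynomial (Fin 2) ℤ ≃+* MvPolynomial (Fin 2) (ULift.{u} ℤ) :=
    MvPolynomial.mapEquiv (Fin 2) (ULift.ringEquiv (R := ℤ)).symm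
  let f' : MvPolynomial (Fin 2) (ULift.{u} ℤ) →ₐ[ULift.{u} ℤ] B :=
    MvPolynomial.aeval (fun i => ψ (MvPolynomial.X i))
  have hcomp : (f'.toRingHom).comp E.toRingHom = ψ := by
    apply MvPolynomial.ringHom_ext
    · intro n
      have h1 : E (MvPolynomial.C n) = MvPolynomial.C (ULift.up n) := by
        simp only [E, MvPolynomial.mapEquiv_apply, MvPolynomial.map_C]
        rfl
      have h2 : f' (MvPolynomial.C (ULift.up n)) = algebraMap (ULift.{u} ℤ) B (ULift.up n) :=
        MvPolynomial.aeval_C _ _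
      have h3 : algebraMap (ULift.{u} ℤ) B (ULift.up n) = (n : B) := by
        show algebraMap ℤ B n = (n : B)
        exact eq_intCast _ n
      have h4 : ψ (MvPolynomial.C n) = (n : B) := by
        rw [eq_intCast (MvPolynomial.C : ℤ →+* MvPolynomial (Fin 2) ℤ) n, map_intCast]
      show f' (E (MvPolynomial.C n)) = ψ (MvPolynomial.C n)
      rw [h1, h2, h3, h4]
    · intro i
      have h1 : E (MvPolynomial.X i) = MvPolynomial.X i := by
        simp only [E, MvPolynomial.mapEquiv_apply, MvPolynomial.map_X]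
      show f' (E (MvPolynomial.X i)) = ψ (MvPolynomial.X i)
      rw [h1]
      exact MvPolynomial.aeval_X _ i
  have hfE : ∀ x, f' (E x) = ψ x := fun x => RingHom.congr_fun hcomp x
  have hsurj' : Function.Surjective f' := by
    intro b
    obtain ⟨x, rfl⟩ := hψ b
    exact ⟨E x, hfE x⟩
  have hker' : RingHom.ker f'.toRingHom = Ideal.span {E g, E h} := by
    have h1 : (RingHom.ker f'.toRingHom).comap E.toRingHom = RingHom.ker ψ := by
      rw [RingHom.comap_ker, hcomp]
    have h2 := Ideal.map_comap_of_surjective E.toRingHom E.surjective (RingHom.ker f'.toRingHom)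
    rw [h1, hker, Ideal.map_span, Set.image_pair] at h2
    exact h2.symm
  have hreg' : IsWeaklyRegular (MvPolynomial (Fin 2) (ULift.{u} ℤ)) [E g, E h] := by
    refine (AddEquiv.isWeaklyRegular_congr (e := E.toAddEquiv) ?_).1 hreg
    refine List.Forall₂.cons (fun x => ?_) (List.Forall₂.cons (fun x => ?_) List.Forall₂.nil)
    · exact map_mul E g x
    · exact map_mul E h x
  have hK : LCI.IsKoszulRegularSeq _ [E g, E h] := (Groth.Agent.Lib.KoszulTopH7.koszulRegular _ hreg').1
  have hKI : LCI.IsKoszulRegularIdeal (RingHom.ker f'.toRingHom) := by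
    intro 𝔭 _
    refine ⟨1, (Ideal.ne_top_iff_one _).1 𝔭.2.ne_top,
      [E g, E h].map (algebraMap _ (Localization.Away (1 : MvPolynomial (Fin 2) (ULift.{u} ℤ)))),
      Groth.Agent.Lib.KRegIdeal.kreg_map_of_isLocalization (Submonoid.powers 1) _ hK, ?_⟩
    rw [hker', Ideal.map_span]
    congr 1
    ext x
    simp only [Set.image_pair, Set.mem_insert_iff, Set.mem_singleton_iff, List.map_cons,
      List.map_nil, List.mem_cons, List.not_mem_nil, or_false, Set.mem_setOf_eq]
  have hft : Algebra.FiniteType (ULift.{u} ℤ) B := Algebra.FiniteType.of_surjective f' hsurj'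
  exact Groth.Agent.GorLCI9.isGorRing_of_isLCI _ _ hZ ⟨hft, 2, f', hsurj', hKI⟩

end Gor

section Main

open LaurentPolynomial Groth.Agent.Lib.WeilNumH1

theorem main17985 (p e : ℕ) [Fact p.Prime] (he : 0 < e)
    (ι : Type) [Fintype ι] (K : ι → Type u) [∀ i, Field (K i)] [∀ i, CharZero (K i)]
    (π : ∀ i, K i)
    (hint : ∀ i, IsIntegral ℤ (π i))
    (hweil : ∀ i, ∀ z ∈ (minpoly ℤ (π i)).aroots ℂ, ‖z‖ = Real.sqrt ((p : ℝ) ^ e))
    (hinj : ∀ i j, minpoly ℤ (π i) = minpoly ℤ (π j) → i = j)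
    [Nonempty ι] (D : ℕ) (hD : ∑ i, (minpoly ℤ (π i)).natDegree = 2 * D) :
    Module.Free ℤ (MvPolynomial.aeval ![fun i => π i, fun i => ((p : K i) ^ e) / π i] :
        MvPolynomial (Fin 2) ℤ →ₐ[ℤ] ((i : ι) → K i)).range ∧
      Module.finrank ℤ (MvPolynomial.aeval ![fun i => π i, fun i => ((p : K i) ^ e) / π i] :
        MvPolynomial (Fin 2) ℤ →ₐ[ℤ] ((i : ι) → K i)).range = 2 * D ∧
      ringKrullDim (MvPolynomial.aeval ![fun i => π i, fun i => ((p : K i) ^ e) / π i] :
        MvPolynomial (Fin 2) ℤ →ₐ[ℤ] ((i : ι) → K i)).range = 1 ∧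
      LocCoh.IsGorensteinRing (MvPolynomial.aeval ![fun i => π i, fun i => ((p : K i) ^ e) / π i] :
        MvPolynomial (Fin 2) ℤ →ₐ[ℤ] ((i : ι) → K i)).range := by
  classical
  obtain ⟨q, hqdef⟩ : ∃ q : ℤ, q = (p : ℤ) ^ e := ⟨_, rfl⟩
  have hp : p ≠ 0 := (Fact.out : p.Prime).ne_zero
  have hq : q ≠ 0 := by rw [hqdef]; exact pow_ne_zero _ (by exact_mod_cast hp)
  obtain ⟨Pw, hPw⟩ : ∃ Pw, Pw = ∏ i, minpoly ℤ (π i) := ⟨_, rfl⟩
  have hmon : Pw.Monic := by
    rw [hPw]; exact Polynomial.monic_prod_of_monic _ _ (fun i _ => minpoly.monic (hint i))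
  have hdeg : Pw.natDegree = 2 * D := by
    rw [hPw, Polynomial.natDegree_prod_of_monic _ _ (fun i _ => minpoly.monic (hint i))]
    exact hD
  obtain ⟨φ, hφ⟩ : ∃ φ : MvPolynomial (Fin 2) ℤ →ₐ[ℤ] ((i : ι) → K i),
      φ = MvPolynomial.aeval ![fun i => π i, fun i => ((p : K i) ^ e) / π i] := ⟨_, rfl⟩
  rw [← hφ]
  obtain ⟨i₀⟩ := (inferInstance : Nonempty ι)
  have hDpos : 1 ≤ D := by
    have h1 : 0 < (minpoly ℤ (π i₀)).natDegree := minpoly.natDegree_pos (hint i₀)
    have h2 : (minpoly ℤ (π i₀)).natDegree ≤ ∑ i, (minpoly ℤ (π i)).natDegree :=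
      Finset.single_le_sum (f := fun i => (minpoly ℤ (π i)).natDegree)
        (fun i _ => Nat.zero_le _) (Finset.mem_univ i₀)
    omega
  -- separability
  have hirrQ : ∀ i, Irreducible ((minpoly ℤ (π i)).map (algebraMap ℤ ℚ)) := fun i =>
    (Polynomial.Monic.irreducible_iff_irreducible_map_fraction_map
      (minpoly.monic (hint i))).mp (minpoly.irreducible (hint i))
  have hsepQ : (Pw.map (algebraMap ℤ ℚ)).Separable := by
    rw [hPw, Polynomial.map_prod]
    apply Polynomial.separable_prod'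
    · intro i _ j _ hij
      refine (Irreducible.coprime_iff_not_dvd (hirrQ i)).2 fun hdvd => hij ?_
      have hassoc := (hirrQ i).associated_of_dvd (hirrQ j) hdvd
      have heq := Polynomial.eq_of_monic_of_associated ((minpoly.monic (hint i)).map _)
        ((minpoly.monic (hint j)).map _) hassoc
      exact hinj i j (Polynomial.map_injective _ (RingHom.injective_int (algebraMap ℤ ℚ)) heq)
    · intro i _
      exact (hirrQ i).separable
  have hsepC : (Pw.map (Int.castRingHom ℂ)).Separable := by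
    have h1 := hsepQ.map (f := algebraMap ℚ ℂ)
    rw [Polynomial.map_map] at h1
    have h2 : (algebraMap ℚ ℂ).comp (algebraMap ℤ ℚ) = Int.castRingHom ℂ := RingHom.ext_int _ _
    rw [h2] at h1
    exact h1
  have hnodup := Polynomial.nodup_roots hsepC
  have hQcast : ((p ^ e : ℕ) : ℝ) = (p : ℝ) ^ e := by push_cast; rfl
  have habs : ∀ z ∈ (Pw.map (Int.castRingHom ℂ)).roots,
      ‖z‖ = Real.sqrt ((p ^ e : ℕ) : ℝ) := by
    intro z hz
    rw [hQcast]
    have hz0 : (Pw.map (Int.castRingHom ℂ)).eval z = 0 :=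
      (Polynomial.mem_roots (hmon.map _).ne_zero).1 hz
    rw [hPw, Polynomial.map_prod, Polynomial.eval_prod] at hz0
    obtain ⟨i, -, hi⟩ := Finset.prod_eq_zero_iff.1 hz0
    apply hweil i z
    rw [Polynomial.mem_aroots]
    refine ⟨(minpoly.monic (hint i)).ne_zero, ?_⟩
    rw [Polynomial.aeval_def, Polynomial.eval₂_eq_eval_map, algebraMap_int_eq]
    exact hi
  have hfe0 := fe Pw hmon (p ^ e) hnodup habs
  have hqcast : ((p ^ e : ℕ) : ℤ) = q := by rw [hqdef]; push_cast; rfl
  have hfe : ∀ k ≤ 2 * D, Pw.coeff (2 * D - k) * q ^ (2 * D - k) = Pw.coeff 0 * Pw.coeff k := by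
    intro k hk
    have h1 := hfe0 k (by rw [hdeg]; exact hk)
    rwa [hdeg, hqcast] at h1
  have hlead : Pw.coeff (2 * D) = 1 := by rw [← hdeg]; exact hmon.coeff_natDegree
  have ha0sq : Pw.coeff 0 ^ 2 = (q ^ D) ^ 2 := by
    have h1 := hfe 0 (Nat.zero_le _)
    rw [Nat.sub_zero, hlead, one_mul] at h1
    rw [pow_two (Pw.coeff 0), ← h1, ← pow_mul, mul_comm D 2]
  obtain ⟨ε, hε, ha0⟩ : ∃ ε : ℤ, (ε = 1 ∨ ε = -1) ∧ Pw.coeff 0 = ε * q ^ D := by
    rcases eq_or_eq_neg_of_sq_eq_sq _ _ ha0sq with h1 | h1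
    · exact ⟨1, Or.inl rfl, by rw [h1, one_mul]⟩
    · exact ⟨-1, Or.inr rfl, by rw [h1, neg_one_mul]⟩
  have hsym : ∀ j ≤ D, Pw.coeff j = ε * q ^ (D - j) * Pw.coeff (2 * D - j) := by
    intro j hj
    have h1 := hfe (2 * D - j) (Nat.sub_le _ _)
    have h2 : 2 * D - (2 * D - j) = j := by omega
    rw [h2, ha0] at h1
    have h3 : q ^ D = q ^ (D - j) * q ^ j := by rw [← pow_add]; congr 1; omega
    rw [h3] at h1
    apply mul_right_cancel₀ (pow_ne_zero j hq)
    rw [h1]; ring
  -- the polynomials `A`, `B`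
  obtain ⟨A, hAdef⟩ : ∃ A : Polynomial ℤ,
      A = ∑ i ∈ Finset.range (D + 1), Polynomial.monomial i (Pw.coeff (D + i)) := ⟨_, rfl⟩
  obtain ⟨B, hBdef⟩ : ∃ B : Polynomial ℤ,
      B = ∑ n ∈ Finset.range D, Polynomial.monomial n (ε * Pw.coeff (D + n + 1)) := ⟨_, rfl⟩
  have hAcoeff : ∀ i, A.coeff i = if i < D + 1 then Pw.coeff (D + i) else 0 := by
    intro i
    rw [hAdef, Polynomial.finset_sum_coeff]
    simp only [Polynomial.coeff_monomial]
    rw [Finset.sum_ite_eq' (Finset.range (D + 1)) i (fun j => Pw.coeff (D + j))]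
    simp only [Finset.mem_range]
  have hBcoeff : ∀ n, B.coeff n = if n < D then ε * Pw.coeff (D + n + 1) else 0 := by
    intro n
    rw [hBdef, Polynomial.finset_sum_coeff]
    simp only [Polynomial.coeff_monomial]
    rw [Finset.sum_ite_eq' (Finset.range D) n (fun j => ε * Pw.coeff (D + j + 1))]
    simp only [Finset.mem_range]
  have hAdegle : A.natDegree ≤ D := by
    rw [Polynomial.natDegree_le_iff_coeff_eq_zero]
    intro N hN
    rw [hAcoeff, if_neg (by omega)]
  have hAD : A.coeff D = 1 := by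
    rw [hAcoeff, if_pos (by omega)]
    have h1 : D + D = 2 * D := by ring
    rw [h1, hlead]
  have hAmon : A.Monic := Polynomial.monic_of_natDegree_le_of_coeff_eq_one D hAdegle hAD
  have hAdeg : A.natDegree = D := by
    apply le_antisymm hAdegle
    apply Polynomial.le_natDegree_of_ne_zero
    rw [hAD]; exact one_ne_zero
  have hB : ∀ j, D ≤ j → B.coeff j = 0 := fun j hj => by rw [hBcoeff, if_neg (by omega)]
  have hBε : B.coeff (D - 1) = 1 ∨ B.coeff (D - 1) = -1 := by
    rw [hBcoeff, if_pos (by omega)]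
    have h1 : D + (D - 1) + 1 = 2 * D := by omega
    rw [h1, hlead, mul_one]
    exact hε
  have htdeg : (tau q B).natDegree ≤ D := by
    rw [Polynomial.natDegree_le_iff_coeff_eq_zero]
    intro N hN
    obtain ⟨n, rfl⟩ : ∃ n, N = n + 1 := ⟨N - 1, by omega⟩
    rw [tau_coeff_succ, hB n (by omega), zero_mul, mul_zero]
  have hident : Polynomial.X ^ D * A + Polynomial.reflect D (tau q B) = Pw := by
    ext j
    rw [Polynomial.coeff_add, Polynomial.coeff_X_pow_mul', Polynomial.coeff_reflect]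
    rcases lt_trichotomy j D with hj | hj | hj
    · rw [if_neg (by omega), zero_add, Polynomial.revAt_le hj.le]
      obtain ⟨n, hn⟩ : ∃ n, D - j = n + 1 := ⟨D - j - 1, by omega⟩
      rw [hn, tau_coeff_succ, hBcoeff, if_pos (by omega), hsym j hj.le]
      have h1 : D + n + 1 = 2 * D - j := by omega
      have h2 : q ^ (D - j) = q * q ^ n := by rw [hn, pow_succ]; ring
      rw [h1, h2]; ring
    · rw [hj, if_pos le_rfl, Nat.sub_self, Polynomial.revAt_le le_rfl, Nat.sub_self,
        tau_coeff_zero, add_zero, hAcoeff, if_pos (by omega), add_zero]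
    · rw [if_pos hj.le, Polynomial.revAt_eq_self_of_lt hj]
      obtain ⟨n, rfl⟩ : ∃ n, j = n + 1 := ⟨j - 1, by omega⟩
      rw [tau_coeff_succ, hB n (by omega), zero_mul, mul_zero, add_zero, hAcoeff]
      split_ifs with h1
      · congr 1; omega
      · rw [Polynomial.coeff_eq_zero_of_natDegree_lt (by rw [hdeg]; omega)]
  have hh : F ^ D * nf A B - Polynomial.aeval F Pw ∈ Ideal.span {g0 q} := by
    rw [← ker_lam q hq, RingHom.mem_ker]
    show lam q (F ^ D * nf A B - Polynomial.aeval F Pw) = 0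
    rw [map_sub, map_mul, map_pow, lam_F, lam_nf, lam_aeval_F, T_pow, mul_one, mul_add,
      T_mul_invert_toLaurent D (tau q B) htdeg, ← Polynomial.toLaurent_X_pow, ← map_mul,
      ← map_add, hident, sub_self]
  have hmain := main17984 p e he ι K π hint hweil hinj D hD (nf A B) (by
    have hh' := hh
    rw [hPw, hqdef] at hh'
    exact hh')
  rw [← hφ] at hmain
  have hg0 : (MvPolynomial.X 0 * MvPolynomial.X 1 - MvPolynomial.C ((p : ℤ) ^ e) :
      MvPolynomial (Fin 2) ℤ) = g0 q := by rw [hqdef]; rfl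
  rw [hg0] at hmain
  obtain ⟨hker, hreg⟩ := hmain
  -- facts on `φ`
  have hφF : φ F = fun i => π i := by rw [hφ]; simp [F]
  have hφaeval : ∀ (R : Polynomial ℤ) (i : ι),
      φ (Polynomial.aeval F R) i = Polynomial.aeval (π i) R := by
    intro R i
    rw [← Polynomial.aeval_algHom_apply, hφF]
    exact (Polynomial.aeval_algHom_apply (Pi.evalAlgHom ℤ K i) (fun i => π i) R).symm
  have hdiv : ∀ R : Polynomial ℤ,
      (φ : MvPolynomial (Fin 2) ℤ →+* ((i : ι) → K i)) (Polynomial.aeval F R) = 0 → Pw ∣ R := by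
    intro R hR
    rw [hPw]
    apply prod_dvd_of_forall_dvd (fun i => minpoly ℤ (π i)) R Finset.univ
    · intro i _; exact minpoly.prime_of_isIntegrallyClosed (hint i)
    · intro i _; exact minpoly.monic (hint i)
    · intro i _ j _ hij; exact hinj i j hij
    · intro i _
      apply minpoly.isIntegrallyClosed_dvd (hint i)
      have h1 : φ (Polynomial.aeval F R) i = 0 := congrFun hR i
      rw [hφaeval] at h1
      exact h1
  have hφg0 : (φ : MvPolynomial (Fin 2) ℤ →+* ((i : ι) → K i)) (g0 q) = 0 := by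
    have h1 : g0 q ∈ RingHom.ker φ := by rw [hker]; exact Ideal.subset_span (by simp)
    exact h1
  -- the basis
  let Ψ₀ : (Polynomial ℤ × Polynomial ℤ) →ₗ[ℤ] P :=
    (Polynomial.aeval F).toLinearMap.comp (LinearMap.fst ℤ _ _) +
      (LinearMap.mulLeft ℤ V).comp ((Polynomial.aeval V).toLinearMap.comp (LinearMap.snd ℤ _ _))
  let Ψ : (Polynomial.degreeLT ℤ D × Polynomial.degreeLT ℤ D) →ₗ[ℤ] φ.range :=
    φ.rangeRestrict.toLinearMap.comp (Ψ₀.comp
      ((Polynomial.degreeLT ℤ D).subtype.prodMap (Polynomial.degreeLT ℤ D).subtype))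
  have hΨ : ∀ x, (Ψ x : (i : ι) → K i) = φ (nf x.1.1 x.2.1) := fun x => rfl
  have hΨinj : Function.Injective Ψ := by
    rw [← LinearMap.ker_eq_bot, LinearMap.ker_eq_bot']
    intro x hx
    have h1 : (φ : MvPolynomial (Fin 2) ℤ →+* ((i : ι) → K i)) (nf x.1.1 x.2.1) = 0 := by
      have h0 := congrArg Subtype.val hx
      rw [hΨ] at h0
      exact h0
    have h2 := claimB (φ : MvPolynomial (Fin 2) ℤ →+* ((i : ι) → K i)) q hq D hDpos Pw hdeg
      hφg0 hdiv x.1.1 x.2.1 (Polynomial.mem_degreeLT.1 x.1.2) (Polynomial.mem_degreeLT.1 x.2.2) h1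
    have h3 : lam q (nf x.1.1 x.2.1) = 0 := by
      have h4 : nf x.1.1 x.2.1 ∈ RingHom.ker (lam q : P →+* ℤ[T;T⁻¹]) := by
        rw [ker_lam q hq]; exact h2
      exact h4
    rw [lam_nf] at h3
    obtain ⟨hA0, hB0⟩ := lemL x.1.1 (tau q x.2.1) h3 (tau_coeff_zero q x.2.1)
    have hB0' := tau_eq_zero q hq x.2.1 hB0
    exact Prod.ext (Subtype.ext hA0) (Subtype.ext hB0')
  have hΨsurj : Function.Surjective Ψ := by
    intro y
    obtain ⟨x, rfl⟩ := φ.rangeRestrict_surjective y
    obtain ⟨A', B', hA', hB', hxI⟩ := (mem_W_iff _ _ _).mp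
      (claimA q D hDpos (nf A B) A B (by rw [sub_self]; exact zero_mem _) hAmon hAdeg hB hBε x)
    refine ⟨(⟨A', Polynomial.mem_degreeLT.2 hA'⟩, ⟨B', Polynomial.mem_degreeLT.2 hB'⟩), ?_⟩
    apply Subtype.ext
    rw [hΨ]
    show φ (nf A' B') = φ x
    have h1 : x - nf A' B' ∈ RingHom.ker φ := by rw [hker]; exact hxI
    have h2 : φ (x - nf A' B') = 0 := h1
    rw [map_sub, sub_eq_zero] at h2
    exact h2.symm
  let Eq := LinearEquiv.ofBijective Ψ ⟨hΨinj, hΨsurj⟩
  haveI : Module.Free ℤ (Polynomial.degreeLT ℤ D) :=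
    Module.Free.of_equiv (Polynomial.degreeLTEquiv ℤ D).symm
  haveI : Module.Finite ℤ (Polynomial.degreeLT ℤ D) :=
    Module.Finite.equiv (Polynomial.degreeLTEquiv ℤ D).symm
  have hfr : Module.finrank ℤ (Polynomial.degreeLT ℤ D) = D := by
    rw [(Polynomial.degreeLTEquiv ℤ D).finrank_eq, Module.finrank_fin_fun]
  have hfree : Module.Free ℤ φ.range := Module.Free.of_equiv Eq
  have hfin : Module.Finite ℤ φ.range := Module.Finite.equiv Eq
  have hrank : Module.finrank ℤ φ.range = 2 * D := by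
    rw [← Eq.finrank_eq, Module.finrank_prod, hfr]; ring
  have hdim : ringKrullDim φ.range = 1 := by
    haveI : Algebra.IsIntegral ℤ φ.range := Algebra.IsIntegral.of_finite ℤ φ.range
    have hinjZ : Function.Injective (algebraMap ℤ φ.range) := by
      intro a b hab
      have h1 : ((algebraMap ℤ φ.range a : φ.range) : (i : ι) → K i) i₀ =
          ((algebraMap ℤ φ.range b : φ.range) : (i : ι) → K i) i₀ := by rw [hab]
      simp at h1
      exact h1
    rw [Groth.Agent.IntegralHeight.ringKrullDim_eq_of_isIntegral_of_injective ℤ φ.range hinjZ]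
    exact IsPrincipalIdealRing.ringKrullDim_eq_one ℤ Int.not_isField
  refine ⟨hfree, hrank, hdim, ?_⟩
  have hkerR : RingHom.ker (φ.rangeRestrict : MvPolynomial (Fin 2) ℤ →+* φ.range) =
      Ideal.span {g0 q, nf A B} := by
    rw [← hker]
    ext x
    rw [RingHom.mem_ker, RingHom.mem_ker]
    constructor
    · intro hx
      have := congrArg Subtype.val hx
      exact this
    · intro hx
      exact Subtype.ext hx
  exact gorenstein_of_presentation (φ.rangeRestrict : MvPolynomial (Fin 2) ℤ →+* φ.range)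
    φ.rangeRestrict_surjective (g0 q) (nf A B) hkerR hreg

end Main

end Groth.Agent.Lib.WeilGor
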