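import Mathlib
import Groth.Agent.Lib.WeilNum_helper1

/-! Modules over minimal central orders of Weil numbers (helper1). APPEND-ONLY once landed. -/

set_option autoImplicit false
universe u

namespace Groth.Agent.Lib.WeilMod

open Groth.Agent.Lib.WeilNumH1

/-- clearing `V`: every element times a power of `F` is a polynomial in `F` modulo `FV - q`. -/
theorem exists_clear (q : ℤ) (x : P) :
    ∃ (N : ℕ) (R : Polynomial ℤ), F ^ N * x - Polynomial.aeval F R ∈ Ideal.span {g0 q} := by
  induction x using MvPolynomial.induction_on with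
  | C c =>
    refine ⟨0, Polynomial.C c, ?_⟩
    rw [pow_zero, one_mul, aeval_C', sub_self]
    exact Ideal.zero_mem _
  | add x y hx hy =>
    obtain ⟨N1, R1, h1⟩ := hx
    obtain ⟨N2, R2, h2⟩ := hy
    refine ⟨N1 + N2, Polynomial.X ^ N2 * R1 + Polynomial.X ^ N1 * R2, ?_⟩
    have : F ^ (N1 + N2) * (x + y) -
        Polynomial.aeval F (Polynomial.X ^ N2 * R1 + Polynomial.X ^ N1 * R2) =
        F ^ N2 * (F ^ N1 * x - Polynomial.aeval F R1) +
          F ^ N1 * (F ^ N2 * y - Polynomial.aeval F R2) := by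
      simp only [map_add, map_mul, map_pow, Polynomial.aeval_X]; ring
    rw [this]
    exact Ideal.add_mem _ (Ideal.mul_mem_left _ _ h1) (Ideal.mul_mem_left _ _ h2)
  | mul_X x i hx =>
    obtain ⟨N, R, h⟩ := hx
    have hi : i = 0 ∨ i = 1 := by fin_cases i <;> simp
    rcases hi with rfl | rfl
    · refine ⟨N, R * Polynomial.X, ?_⟩
      have : F ^ N * (x * MvPolynomial.X 0) - Polynomial.aeval F (R * Polynomial.X) =
          F * (F ^ N * x - Polynomial.aeval F R) := by
        simp only [map_mul, Polynomial.aeval_X]; ring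
      rw [this]; exact Ideal.mul_mem_left _ _ h
    · refine ⟨N + 1, Polynomial.C q * R, ?_⟩
      have : F ^ (N + 1) * (x * MvPolynomial.X 1) - Polynomial.aeval F (Polynomial.C q * R) =
          (F * V) * (F ^ N * x - Polynomial.aeval F R) + Polynomial.aeval F R * g0 q := by
        simp only [map_mul, aeval_C', g0]; ring
      rw [this]
      exact Ideal.add_mem _ (Ideal.mul_mem_left _ _ h)
        (Ideal.mul_mem_left _ _ (Ideal.subset_span rfl))

open scoped IsMulCommutative in
theorem exists_hom_of_commute {A : Type*} [Ring A] (a b : A) (hab : a * b = b * a) :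
    ∃ ρ : MvPolynomial (Fin 2) ℤ →+* A, ρ (MvPolynomial.X 0) = a ∧ ρ (MvPolynomial.X 1) = b := by
  classical
  have hcomm : ∀ x ∈ ({a, b} : Set A), ∀ y ∈ ({a, b} : Set A), x * y = y * x := by
    intro x hx y hy
    simp only [Set.mem_insert_iff, Set.mem_singleton_iff] at hx hy
    rcases hx with hx | hx <;> rcases hy with hy | hy <;> rw [hx, hy]
    · exact hab
    · exact hab.symm
  haveI := Algebra.isMulCommutative_adjoin ℤ hcomm
  let a' : Algebra.adjoin ℤ ({a, b} : Set A) := ⟨a, Algebra.subset_adjoin (by simp)⟩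
  let b' : Algebra.adjoin ℤ ({a, b} : Set A) := ⟨b, Algebra.subset_adjoin (by simp)⟩
  let ρ' : MvPolynomial (Fin 2) ℤ →ₐ[ℤ] Algebra.adjoin ℤ ({a, b} : Set A) :=
    MvPolynomial.aeval ![a', b']
  refine ⟨(Algebra.adjoin ℤ ({a, b} : Set A)).val.toRingHom.comp ρ'.toRingHom, ?_, ?_⟩
  · show ((ρ' (MvPolynomial.X 0) : Algebra.adjoin ℤ ({a, b} : Set A)) : A) = a
    simp [ρ', a']
  · show ((ρ' (MvPolynomial.X 1) : Algebra.adjoin ℤ ({a, b} : Set A)) : A) = b
    simp [ρ', b']

theorem main18003 (p e : ℕ) [Fact p.Prime]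
    (ι : Type) [Fintype ι] (K : ι → Type u) [∀ i, Field (K i)] [∀ i, CharZero (K i)] (π : ∀ i, K i)
    (hint : ∀ i, IsIntegral ℤ (π i))
    (hweil : ∀ i, ∀ z ∈ (minpoly ℤ (π i)).aroots ℂ, ‖z‖ = Real.sqrt ((p : ℝ) ^ e))
    (hinj : ∀ i j, minpoly ℤ (π i) = minpoly ℤ (π j) → i = j)
    (φ : MvPolynomial (Fin 2) ℤ →ₐ[ℤ] ((i : ι) → K i))
    (hφF : φ F = fun i => π i) (hφV : φ V = fun i => ((p : K i) ^ e) / π i)
    (T : Type) [AddCommGroup T] [Module.Finite ℤ T] [Module.Free ℤ T] (FT : T →ₗ[ℤ] T) :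
    (∃ _ : Module φ.range T,
        ∀ t : T, (⟨φ (MvPolynomial.X 0), AlgHom.mem_range_self _ _⟩ : φ.range) • t = FT t) ↔
      (Polynomial.aeval FT (∏ i, minpoly ℤ (π i)) = 0 ∧
        ∃ VT : T →ₗ[ℤ] T, FT ∘ₗ VT = ((p : ℤ) ^ e) • LinearMap.id) := by
  classical
  obtain ⟨q, hqdef⟩ : ∃ q : ℤ, q = (p : ℤ) ^ e := ⟨_, rfl⟩
  have hp : p ≠ 0 := (Fact.out : p.Prime).ne_zero
  have hq : q ≠ 0 := by rw [hqdef]; exact pow_ne_zero _ (by exact_mod_cast hp)
  obtain ⟨Pw, hPw⟩ : ∃ Pw, Pw = ∏ i, minpoly ℤ (π i) := ⟨_, rfl⟩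
  rw [← hPw, ← hqdef]
  have hpos : 0 < Real.sqrt ((p : ℝ) ^ e) :=
    Real.sqrt_pos.2 (pow_pos (by exact_mod_cast Nat.pos_of_ne_zero hp) e)
  have hc : ∀ i, (minpoly ℤ (π i)).coeff 0 ≠ 0 := by
    intro i h2
    have h1 := abs_coeff_zero_minpoly (π i) (hint i) _ (hweil i)
    have h4 := pow_pos hpos (minpoly ℤ (π i)).natDegree
    rw [← h1, h2] at h4
    simp at h4
  have hπ0 : ∀ i, π i ≠ 0 := by
    intro i h0
    obtain ⟨m, hm⟩ : ∃ m, m = minpoly ℤ (π i) := ⟨_, rfl⟩
    have h3 : Polynomial.aeval (π i) m = 0 := hm ▸ minpoly.aeval ℤ (π i)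
    rw [h0, Polynomial.aeval_def, Polynomial.eval₂_at_zero, eq_intCast, Int.cast_eq_zero] at h3
    exact hc i (hm ▸ h3)
  have hPw0c : Pw.coeff 0 ≠ 0 := by
    rw [hPw, Polynomial.coeff_zero_eq_eval_zero, Polynomial.eval_prod]
    apply Finset.prod_ne_zero_iff.2
    intro i _
    rw [← Polynomial.coeff_zero_eq_eval_zero]
    exact hc i
  have hφaeval : ∀ (R : Polynomial ℤ) (i : ι),
      φ (Polynomial.aeval F R) i = Polynomial.aeval (π i) R := by
    intro R i
    rw [← Polynomial.aeval_algHom_apply, hφF]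
    exact (Polynomial.aeval_algHom_apply (Pi.evalAlgHom ℤ K i) (fun i => π i) R).symm
  have hdiv : ∀ R : Polynomial ℤ, φ (Polynomial.aeval F R) = 0 → Pw ∣ R := by
    intro R hR
    rw [hPw]
    apply prod_dvd_of_forall_dvd (fun i => minpoly ℤ (π i)) R Finset.univ
    · intro i _; exact minpoly.prime_of_isIntegrallyClosed (hint i)
    · intro i _; exact minpoly.monic (hint i)
    · intro i _ j _ hij; exact hinj i j hij
    · intro i _
      apply minpoly.isIntegrallyClosed_dvd (hint i)
      have h1 : φ (Polynomial.aeval F R) i = 0 := congrFun hR i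
      rw [hφaeval] at h1
      exact h1
  have hφPw : φ (Polynomial.aeval F Pw) = 0 := by
    funext i
    rw [hφaeval, hPw, map_prod]
    exact Finset.prod_eq_zero (Finset.mem_univ i) (minpoly.aeval ℤ (π i))
  have hφg0 : φ (g0 q) = 0 := by
    show φ (F * V - MvPolynomial.C q) = 0
    have hφC : φ (MvPolynomial.C q) = algebraMap ℤ ((i : ι) → K i) q := φ.commutes q
    rw [map_sub, map_mul, hφF, hφV, hφC]
    funext i
    have h1 : π i * ((p : K i) ^ e / π i) = (p : K i) ^ e := by
      field_simp [hπ0 i]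
    have h2 : (algebraMap ℤ ((i : ι) → K i) q) i = (q : K i) := by simp
    simp only [Pi.sub_apply, Pi.mul_apply, Pi.zero_apply, h2]
    rw [h1, hqdef]
    push_cast
    ring
  have hφspan : ∀ y ∈ Ideal.span {g0 q}, φ y = 0 := by
    intro y hy
    obtain ⟨c, rfl⟩ := Ideal.mem_span_singleton'.1 hy
    rw [map_mul, hφg0, mul_zero]
  constructor
  · rintro ⟨inst, hF⟩
    let act : φ.range →+* Module.End ℤ T := Module.toModuleEnd ℤ (S := φ.range) T
    let g : MvPolynomial (Fin 2) ℤ →+* Module.End ℤ T :=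
      act.comp (φ.rangeRestrict : MvPolynomial (Fin 2) ℤ →+* φ.range)
    have hgF : g F = FT := by
      apply LinearMap.ext; intro t
      exact hF t
    have hgker : ∀ x, φ x = 0 → g x = 0 := by
      intro x hx
      have h1 : (φ.rangeRestrict x : φ.range) = 0 := Subtype.ext hx
      show act (φ.rangeRestrict x) = 0
      rw [h1, map_zero]
    refine ⟨?_, g V, ?_⟩
    · rw [← hgF]
      have h1 : Polynomial.aeval (g F) Pw = g (Polynomial.aeval F Pw) :=
        Polynomial.aeval_algHom_apply g.toIntAlgHom F Pw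
      rw [h1]
      exact hgker _ hφPw
    · rw [← hgF]
      have h1 : g F * g V = g (MvPolynomial.C q) := by
        rw [← map_mul]
        have h2 : g (F * V) - g (MvPolynomial.C q) = 0 := by
          rw [← map_sub]; exact hgker _ hφg0
        exact sub_eq_zero.1 h2
      have h2 : g (MvPolynomial.C q) = q • (1 : Module.End ℤ T) := by
        rw [eq_intCast (MvPolynomial.C : ℤ →+* MvPolynomial (Fin 2) ℤ) q, map_intCast, zsmul_one]
      exact h1.trans h2
  · rintro ⟨hPwFT, VT, hFV⟩
    have hFTinj : Function.Injective FT := by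
      rw [← LinearMap.ker_eq_bot, LinearMap.ker_eq_bot']
      intro t ht
      have h1 : Polynomial.aeval FT Pw t = Pw.coeff 0 • t := by
        calc Polynomial.aeval FT Pw t
            = Polynomial.aeval FT (Polynomial.divX Pw * Polynomial.X +
                Polynomial.C (Pw.coeff 0)) t := by rw [Polynomial.divX_mul_X_add]
          _ = Pw.coeff 0 • t := by
            rw [map_add, map_mul, Polynomial.aeval_X, Polynomial.aeval_C]
            simp [ht]
      rw [hPwFT, LinearMap.zero_apply] at h1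
      rcases smul_eq_zero.1 h1.symm with h | h
      · exact absurd h hPw0c
      · exact h
    have hFV' : ∀ t, FT (VT t) = q • t := fun t => by
      have := LinearMap.congr_fun hFV t
      simpa using this
    have hVF : ∀ t, VT (FT t) = q • t := by
      intro t
      apply hFTinj
      exact (hFV' (FT t)).trans (map_zsmul FT q t).symm
    have hcomm : FT * VT = VT * FT := by
      apply LinearMap.ext; intro t
      rw [Module.End.mul_apply, Module.End.mul_apply, hFV', hVF]
    obtain ⟨ρ, hρF, hρV⟩ := exists_hom_of_commute FT VT hcomm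
    have hρg0 : ρ (g0 q) = 0 := by
      show ρ (F * V - MvPolynomial.C q) = 0
      rw [map_sub, map_mul, hρF, hρV, eq_intCast (MvPolynomial.C : ℤ →+* MvPolynomial (Fin 2) ℤ) q,
        map_intCast, sub_eq_zero]
      apply LinearMap.ext; intro t
      rw [Module.End.mul_apply, hFV', Module.End.intCast_apply]
    have hρspan : ∀ y ∈ Ideal.span {g0 q}, ρ y = 0 := by
      intro y hy
      obtain ⟨c, rfl⟩ := Ideal.mem_span_singleton'.1 hy
      rw [map_mul, hρg0, mul_zero]
    have hpowinj : ∀ N : ℕ, Function.Injective (FT ^ N) := by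
      intro N
      rw [Module.End.coe_pow]
      exact hFTinj.iterate N
    have hkey : RingHom.ker (φ.rangeRestrict : MvPolynomial (Fin 2) ℤ →+* φ.range) ≤
        RingHom.ker ρ := by
      intro x hx
      have hφx : φ x = 0 := by
        have := congrArg Subtype.val (RingHom.mem_ker.1 hx)
        exact this
      obtain ⟨N, R, hNR⟩ := exists_clear q x
      have h1 : φ (Polynomial.aeval F R) = 0 := by
        have := hφspan _ hNR
        rw [map_sub, map_mul, hφx, mul_zero, zero_sub, neg_eq_zero] at this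
        exact this
      have hdvd : Pw ∣ R := hdiv R h1
      have h2 : ρ (Polynomial.aeval F R) = Polynomial.aeval FT R := by
        rw [← hρF]
        exact (Polynomial.aeval_algHom_apply ρ.toIntAlgHom F R).symm
      have h3 : Polynomial.aeval FT R = 0 := by
        obtain ⟨U, rfl⟩ := hdvd
        rw [map_mul, hPwFT, zero_mul]
      have h4 : FT ^ N * ρ x = 0 := by
        have := hρspan _ hNR
        rw [map_sub, map_mul, map_pow, hρF, h2, h3, sub_zero] at this
        exact this
      rw [RingHom.mem_ker]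
      apply LinearMap.ext; intro t
      have h5 : (FT ^ N) (ρ x t) = (FT ^ N) 0 := by
        have := LinearMap.congr_fun h4 t
        rw [Module.End.mul_apply, LinearMap.zero_apply] at this
        rw [this, map_zero]
      exact hpowinj N h5
    let f : φ.range →+* Module.End ℤ T :=
      RingHom.liftOfSurjective (φ.rangeRestrict : MvPolynomial (Fin 2) ℤ →+* φ.range)
        φ.rangeRestrict_surjective ⟨ρ, hkey⟩
    have h1 : f ((φ.rangeRestrict : MvPolynomial (Fin 2) ℤ →+* φ.range) F) = ρ F :=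
      RingHom.liftOfSurjective_comp_apply _ _ ⟨ρ, hkey⟩ F
    refine ⟨Module.compHom T f, ?_⟩
    intro t
    show f ⟨φ (MvPolynomial.X 0), _⟩ t = FT t
    rw [← hρF, ← h1]
    rfl

end Groth.Agent.Lib.WeilMod
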