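import Mathlib

/-!
# Functional equation of the minimal polynomial of a nonreal Weil number (S17983)
-/

universe u

namespace Groth.Agent.Lib.WeilPoly

open Polynomial

/-- Core statement over `ℂ`: a monic integer polynomial whose complex roots are simple, nonreal and
of absolute value `√Q`. -/
theorem core (P : ℤ[X]) (hmon : P.Monic) (Q : ℕ) (hQ : 0 < Q)
    (hnodup : (P.map (Int.castRingHom ℂ)).roots.Nodup)
    (habs : ∀ z ∈ (P.map (Int.castRingHom ℂ)).roots, ‖z‖ = Real.sqrt (Q : ℝ))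
    (hnr : ∀ z ∈ (P.map (Int.castRingHom ℂ)).roots, z.im ≠ 0) :
    Even P.natDegree ∧
      ∀ r ≤ P.natDegree / 2,
        P.coeff (P.natDegree / 2 - r) = (Q : ℤ) ^ r * P.coeff (P.natDegree / 2 + r) := by
  classical
  set f : ℤ →+* ℂ := Int.castRingHom ℂ with hf
  set Pc : ℂ[X] := P.map f with hPc
  have hPcmon : Pc.Monic := hmon.map f
  have hPc0 : Pc ≠ 0 := hPcmon.ne_zero
  have hsplit : Pc.Splits := IsAlgClosed.splits Pc
  set s := Pc.roots with hs
  set m := P.natDegree with hm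
  have hdeg : Pc.natDegree = m := hmon.natDegree_map f
  have hcard : s.card = m := by rw [← hdeg]; exact (hsplit.natDegree_eq_card_roots).symm
  let S : Finset ℂ := ⟨s, hnodup⟩
  have hSmem : ∀ z, z ∈ S ↔ Pc.eval z = 0 := by
    intro z
    rw [Finset.mem_mk, hs, mem_roots hPc0, IsRoot]
  have hScard : S.card = m := hcard
  -- reality
  have hconj_root : ∀ z, Pc.eval z = 0 → Pc.eval (starRingEnd ℂ z) = 0 := by
    intro z hz
    rw [hPc, eval_map] at hz ⊢
    have h1 := hom_eval₂ P f (starRingEnd ℂ) z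
    have h2 : (starRingEnd ℂ).comp f = f := RingHom.ext_int _ _
    rw [h2, hz, map_zero] at h1
    exact h1.symm
  have hSabs : ∀ z ∈ S, ‖z‖ = Real.sqrt (Q : ℝ) := fun z hz => habs z (Finset.mem_mk.mp hz)
  have hSnr : ∀ z ∈ S, z.im ≠ 0 := fun z hz => hnr z (Finset.mem_mk.mp hz)
  have hQr : (0 : ℝ) ≤ (Q : ℝ) := Nat.cast_nonneg Q
  have hzconj : ∀ z ∈ S, z * starRingEnd ℂ z = (Q : ℂ) := by
    intro z hz
    rw [Complex.mul_conj', hSabs z hz]
    have : (Real.sqrt (Q : ℝ)) ^ 2 = (Q : ℝ) := Real.sq_sqrt hQr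
    exact_mod_cast this
  have hgmem : ∀ (a : ℂ) (ha : a ∈ S), starRingEnd ℂ a ∈ S := fun a ha =>
    (hSmem _).mpr (hconj_root a ((hSmem a).mp ha))
  have hgne : ∀ (a : ℂ) (ha : a ∈ S), starRingEnd ℂ a ≠ a := fun a ha h =>
    hSnr a ha (Complex.conj_eq_iff_im.mp h)
  -- evenness
  have heven : Even m := by
    have h1 : ∑ _z ∈ S, (1 : ZMod 2) = 0 :=
      Finset.sum_involution (fun a _ => starRingEnd ℂ a) (fun a ha => by decide)
        (fun a ha _ => hgne a ha) hgmem (fun a ha => Complex.conj_conj a)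
    rw [Finset.sum_const, nsmul_eq_mul, mul_one, hScard] at h1
    exact ZMod.natCast_eq_zero_iff_even.mp h1
  obtain ⟨d, hd⟩ := heven
  have hd2 : m / 2 = d := by omega
  -- product of roots
  set c : ℂ := ((Real.sqrt (Q : ℝ) : ℝ) : ℂ) with hc
  have hc2 : c * c = (Q : ℂ) := by
    have : Real.sqrt (Q : ℝ) * Real.sqrt (Q : ℝ) = (Q : ℝ) := Real.mul_self_sqrt hQr
    rw [hc]; exact_mod_cast this
  have hQc : (Q : ℂ) ≠ 0 := by exact_mod_cast hQ.ne'
  have hc0 : c ≠ 0 := by
    intro h; rw [h, mul_zero] at hc2; exact hQc hc2.symm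
  have hprod1 : ∏ z ∈ S, z / c = 1 :=
    Finset.prod_involution (fun a _ => starRingEnd ℂ a)
      (fun a ha => by
        rw [div_mul_div_comm, hzconj a ha, hc2, div_self hQc])
      (fun a ha _ => hgne a ha) hgmem (fun a ha => Complex.conj_conj a)
  have hprod : ∏ z ∈ S, z = (Q : ℂ) ^ d := by
    rw [Finset.prod_div_distrib, Finset.prod_const, hScard, div_eq_one_iff_eq (pow_ne_zero _ hc0)]
      at hprod1
    rw [hprod1, hd, ← two_mul, pow_mul, pow_two, hc2]
  have hsprod : s.prod = (Q : ℂ) ^ d := by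
    rw [← hprod, Finset.prod_eq_multiset_prod]
    simp [S]
  -- constant coefficient
  have ha0 : (f (P.coeff 0) : ℂ) = (Q : ℂ) ^ d := by
    have h1 := hsplit.coeff_zero_eq_prod_roots_of_monic hPcmon
    rw [hdeg, ← hs, hsprod, hPc, coeff_map] at h1
    rw [h1, hd, ← two_mul, pow_mul]
    simp
  -- the reflected polynomial
  set a : ℕ → ℂ := fun j => f (P.coeff j) with ha
  have hPceval : ∀ w : ℂ, Pc.eval w = ∑ j ∈ Finset.range (m + 1), a j * w ^ j := by
    intro w
    rw [eval_eq_sum_range, hdeg]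
    apply Finset.sum_congr rfl
    intro j _
    rw [hPc, coeff_map]
  set R : ℂ[X] := ∑ i ∈ Finset.range (m + 1), C (a (m - i) * (Q : ℂ) ^ (m - i)) * X ^ i with hR
  have hRcoeff : ∀ k, R.coeff k = if k ≤ m then a (m - k) * (Q : ℂ) ^ (m - k) else 0 := by
    intro k
    rw [hR, finset_sum_coeff]
    simp only [coeff_C_mul_X_pow]
    rw [Finset.sum_ite_eq]
    simp only [Finset.mem_range, Nat.lt_succ_iff]
  have hReval : ∀ z ∈ S, R.eval z = 0 := by
    intro z hz
    set w := starRingEnd ℂ z with hw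
    have hzw : z * w = (Q : ℂ) := hzconj z hz
    have hw0 : Pc.eval w = 0 := hconj_root z ((hSmem z).mp hz)
    rw [hR, eval_finset_sum]
    simp only [eval_mul, eval_C, eval_pow, eval_X]
    rw [← Finset.sum_flip]
    have : ∀ j ∈ Finset.range (m + 1),
        a (m - (m - j)) * (Q : ℂ) ^ (m - (m - j)) * z ^ (m - j) = z ^ m * (a j * w ^ j) := by
      intro j hj
      have hj' : j ≤ m := Nat.lt_succ_iff.mp (Finset.mem_range.mp hj)
      rw [Nat.sub_sub_self hj', ← hzw, mul_pow]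
      have : z ^ m = z ^ j * z ^ (m - j) := by rw [← pow_add]; congr 1; omega
      rw [this]; ring
    rw [Finset.sum_congr rfl this, ← Finset.mul_sum, ← hPceval w, hw0, mul_zero]
  set D : ℂ[X] := R - C (a 0) * Pc with hD
  have hDeval : ∀ z ∈ S, D.eval z = 0 := by
    intro z hz
    rw [hD, eval_sub, hReval z hz, eval_mul, (hSmem z).mp hz, mul_zero, sub_zero]
  have hDcoeff : ∀ k, m ≤ k → D.coeff k = 0 := by
    intro k hk
    rw [hD, coeff_sub, coeff_C_mul, hRcoeff]
    rcases hk.eq_or_lt with rfl | hlt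
    · rw [if_pos le_rfl, Nat.sub_self, pow_zero, mul_one]
      have : Pc.coeff m = 1 := by rw [← hdeg]; exact hPcmon.coeff_natDegree
      rw [this, mul_one, sub_self]
    · rw [if_neg (by omega), coeff_eq_zero_of_natDegree_lt (by rw [hdeg]; exact hlt), mul_zero,
        sub_zero]
  have hD0 : D = 0 := by
    by_contra hne
    apply hne
    apply eq_zero_of_natDegree_lt_card_of_eval_eq_zero' D S hDeval
    rw [hScard]
    have : D.degree < (m : WithBot ℕ) := (degree_lt_iff_coeff_zero D m).mpr hDcoeff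
    exact (natDegree_lt_iff_degree_lt hne).mpr this
  have hfe : ∀ k ≤ m, a (m - k) * (Q : ℂ) ^ (m - k) = a 0 * a k := by
    intro k hk
    have h1 : D.coeff k = 0 := by rw [hD0, coeff_zero]
    rw [hD, coeff_sub, coeff_C_mul, hRcoeff, if_pos hk, hPc, coeff_map, sub_eq_zero] at h1
    exact h1
  refine ⟨⟨d, hd⟩, ?_⟩
  intro r hr
  rw [hd2] at hr ⊢
  have h1 := hfe (d + r) (by omega)
  have h2 : m - (d + r) = d - r := by omega
  rw [h2] at h1
  have h3 : a 0 = (Q : ℂ) ^ d := ha0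
  rw [h3] at h1
  have h4 : (Q : ℂ) ^ d = (Q : ℂ) ^ (d - r) * (Q : ℂ) ^ r := by
    rw [← pow_add]; congr 1; omega
  rw [h4] at h1
  have h5 : a (d - r) = (Q : ℂ) ^ r * a (d + r) := by
    have hne : (Q : ℂ) ^ (d - r) ≠ 0 := pow_ne_zero _ hQc
    apply mul_left_cancel₀ hne
    rw [mul_comm, h1]; ring
  have h6 : ((P.coeff (d - r) : ℤ) : ℂ) = (((Q : ℤ) ^ r * P.coeff (d + r) : ℤ) : ℂ) := by
    push_cast
    exact h5
  exact_mod_cast h6

theorem main (p e : ℕ) [Fact p.Prime] (he : 0 < e)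
    (K : Type u) [Field K] [CharZero K] (π : K) (hπ : IsIntegral ℤ π)
    (hweil : ∀ z ∈ (minpoly ℤ π).aroots ℂ, ‖z‖ = Real.sqrt ((p : ℝ) ^ e))
    (hnr : ∀ z ∈ (minpoly ℤ π).aroots ℂ, z.im ≠ 0) :
    Even (minpoly ℤ π).natDegree ∧
      ∀ r ≤ (minpoly ℤ π).natDegree / 2,
        (minpoly ℤ π).coeff ((minpoly ℤ π).natDegree / 2 - r) =
          (p : ℤ) ^ (e * r) * (minpoly ℤ π).coeff ((minpoly ℤ π).natDegree / 2 + r) := by
  have hmon : (minpoly ℤ π).Monic := minpoly.monic hπ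
  have hirr : Irreducible (minpoly ℤ π) := minpoly.irreducible hπ
  have hirrQ : Irreducible ((minpoly ℤ π).map (algebraMap ℤ ℚ)) :=
    (Monic.irreducible_iff_irreducible_map_fraction_map hmon).mp hirr
  have hsep : ((minpoly ℤ π).map (algebraMap ℤ ℚ)).Separable := hirrQ.separable
  have hsepC : ((minpoly ℤ π).map (Int.castRingHom ℂ)).Separable := by
    have h1 := hsep.map (f := algebraMap ℚ ℂ)
    rw [Polynomial.map_map] at h1
    have h2 : (algebraMap ℚ ℂ).comp (algebraMap ℤ ℚ) = Int.castRingHom ℂ := RingHom.ext_int _ _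
    rw [h2] at h1
    exact h1
  have hnodup := nodup_roots hsepC
  have hQpos : 0 < p ^ e := pow_pos (Fact.out : p.Prime).pos e
  have hres := core (minpoly ℤ π) hmon (p ^ e) hQpos hnodup
    (fun z hz => by
      have := hweil z hz
      rw [this]; push_cast; rfl)
    (fun z hz => hnr z hz)
  refine ⟨hres.1, fun r hr => ?_⟩
  rw [hres.2 r hr]
  push_cast
  rw [pow_mul]

end Groth.Agent.Lib.WeilPoly
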