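import Mathlib
import Groth.Agent.Lib.WeilPoly_helper1

/-!
# Ordinary Weil numbers and the middle coefficient (S17987)
-/

universe u

namespace Groth.Agent.Lib.WeilOrd

open Polynomial

section Alg

lemma lemmaA {R κ : Type*} [CommRing R] [CommRing κ] [IsDomain κ] (ρ : R →+* κ) (t : Multiset R)
    (q : R → Prop) [DecidablePred q]
    (h0 : ∀ z ∈ t, ¬ q z → ρ z = 0) (h1 : ∀ z ∈ t, q z → ρ z ≠ 0) :
    (∀ j < Multiset.card (t.filter (fun z => ¬ q z)),
      (((t.map (fun z => X - C z)).prod).map ρ).coeff j = 0) ∧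
    (((t.map (fun z => X - C z)).prod).map ρ).coeff
      (Multiset.card (t.filter (fun z => ¬ q z))) ≠ 0 := by
  set k := Multiset.card (t.filter (fun z => ¬ q z)) with hk
  have hF : ((t.map (fun z => X - C z)).prod).map ρ
      = ((t.filter q).map (fun z => X - C (ρ z))).prod * X ^ k := by
    rw [Polynomial.map_multiset_prod, Multiset.map_map]
    nth_rewrite 1 [← Multiset.filter_add_not q t]
    rw [Multiset.map_add, Multiset.prod_add]
    congr 1
    · congr 1
      apply Multiset.map_congr rfl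
      intro z _
      simp
    · have : (t.filter (fun z => ¬ q z)).map (Polynomial.map ρ ∘ fun z => X - C z)
          = (t.filter (fun z => ¬ q z)).map (fun _ => (X : κ[X])) := by
        apply Multiset.map_congr rfl
        intro z hz
        rw [Multiset.mem_filter] at hz
        simp [h0 z hz.1 hz.2]
      rw [this, Multiset.map_const', Multiset.prod_replicate]
  have hU : (((t.filter q).map (fun z => X - C (ρ z))).prod).coeff 0 ≠ 0 := by
    rw [Polynomial.coeff_zero_multiset_prod, Multiset.map_map]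
    apply Multiset.prod_ne_zero
    rw [Multiset.mem_map]
    rintro ⟨z, hz, hz0⟩
    rw [Multiset.mem_filter] at hz
    simp at hz0
    exact h1 z hz.1 hz.2 hz0
  constructor
  · intro j hj
    rw [hF, coeff_mul_X_pow', if_neg (by omega)]
  · rw [hF, coeff_mul_X_pow', if_pos le_rfl, Nat.sub_self]; exact hU

end Alg

variable (p : ℕ) [Fact p.Prime]

lemma norm_intCast_le_one (a : ℤ) : ‖(a : PadicAlgCl p)‖ ≤ 1 := by
  have h : algebraMap ℚ_[p] (PadicAlgCl p) (a : ℚ_[p]) = (a : PadicAlgCl p) :=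
    map_intCast (algebraMap ℚ_[p] (PadicAlgCl p)) a
  have h2 := PadicAlgCl.norm_extends p (a : ℚ_[p])
  rw [h] at h2
  rw [h2]; exact Padic.norm_int_le_one a

lemma norm_intCast_lt_one_iff (a : ℤ) : ‖(a : PadicAlgCl p)‖ < 1 ↔ (p : ℤ) ∣ a := by
  have h : algebraMap ℚ_[p] (PadicAlgCl p) (a : ℚ_[p]) = (a : PadicAlgCl p) :=
    map_intCast (algebraMap ℚ_[p] (PadicAlgCl p)) a
  have h2 := PadicAlgCl.norm_extends p (a : ℚ_[p])
  rw [h] at h2
  rw [h2]; exact Padic.norm_intCast_lt_one_iff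

lemma norm_root_le_one (P : ℤ[X]) (hmon : P.Monic) (z : PadicAlgCl p)
    (hz : (P.map (Int.castRingHom (PadicAlgCl p))).eval z = 0) : ‖z‖ ≤ 1 := by
  by_contra h
  push_neg at h
  obtain ⟨n, hn⟩ : ∃ n, n = P.natDegree := ⟨_, rfl⟩
  have hn0 : n ≠ 0 := by
    intro h0
    have h1 : P = 1 := hmon.natDegree_eq_zero.mp (by rw [← hn, h0])
    rw [h1] at hz; simp at hz
  rw [eval_map, eval₂_eq_sum_range, ← hn, Finset.sum_range_succ] at hz
  have hlead : P.coeff n = 1 := by rw [hn]; exact hmon.coeff_natDegree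
  rw [hlead, map_one, one_mul] at hz
  have hzn : z ^ n
      = - ∑ i ∈ Finset.range n, (Int.castRingHom (PadicAlgCl p)) (P.coeff i) * z ^ i := by
    rw [eq_neg_iff_add_eq_zero, add_comm]; exact hz
  have hbound : ‖∑ i ∈ Finset.range n, (Int.castRingHom (PadicAlgCl p)) (P.coeff i) * z ^ i‖
      ≤ ‖z‖ ^ (n - 1) := by
    apply IsUltrametricDist.norm_sum_le_of_forall_le_of_nonneg (pow_nonneg (norm_nonneg _) _)
    intro i hi
    have hi' : i ≤ n - 1 := by have := Finset.mem_range.mp hi; omega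
    rw [norm_mul, norm_pow, eq_intCast]
    calc ‖((P.coeff i : ℤ) : PadicAlgCl p)‖ * ‖z‖ ^ i ≤ 1 * ‖z‖ ^ (n - 1) :=
          mul_le_mul (norm_intCast_le_one p _) (pow_le_pow_right₀ h.le hi')
            (pow_nonneg (norm_nonneg _) _) zero_le_one
      _ = ‖z‖ ^ (n - 1) := one_mul _
  have h1 : ‖z‖ ^ n ≤ ‖z‖ ^ (n - 1) := by
    rw [← norm_pow, hzn, norm_neg]; exact hbound
  have h2 : ‖z‖ ^ (n - 1) < ‖z‖ ^ n := pow_lt_pow_right₀ h (by omega)
  exact absurd h1 (not_le.mpr h2)

/-- closed unit ball -/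
def O : Subring (PadicAlgCl p) where
  carrier := {x | ‖x‖ ≤ 1}
  mul_mem' := by
    intro a b ha hb
    simp only [Set.mem_setOf_eq] at *
    rw [norm_mul]; exact mul_le_one₀ ha (norm_nonneg _) hb
  one_mem' := by simp
  add_mem' := by
    intro a b ha hb
    simp only [Set.mem_setOf_eq] at *
    exact (IsUltrametricDist.norm_add_le_max a b).trans (max_le ha hb)
  zero_mem' := by simp
  neg_mem' := by
    intro a ha
    simp only [Set.mem_setOf_eq] at *
    rwa [norm_neg]

lemma mem_O {x : PadicAlgCl p} : x ∈ O p ↔ ‖x‖ ≤ 1 := Iff.rfl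

/-- open unit ball as an ideal of the closed unit ball -/
def mI : Ideal (O p) where
  carrier := {x | ‖(x : PadicAlgCl p)‖ < 1}
  add_mem' := by
    intro a b ha hb
    simp only [Set.mem_setOf_eq] at *
    rw [Subring.coe_add]
    exact (IsUltrametricDist.norm_add_le_max _ _).trans_lt (max_lt ha hb)
  zero_mem' := by simp
  smul_mem' := by
    intro c x hx
    simp only [Set.mem_setOf_eq, smul_eq_mul, Subring.coe_mul, norm_mul] at *
    calc ‖(c : PadicAlgCl p)‖ * ‖(x : PadicAlgCl p)‖ ≤ 1 * ‖(x : PadicAlgCl p)‖ :=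
          mul_le_mul_of_nonneg_right c.2 (norm_nonneg _)
      _ < 1 := by rw [one_mul]; exact hx

lemma mem_mI {x : O p} : x ∈ mI p ↔ ‖(x : PadicAlgCl p)‖ < 1 := Iff.rfl

instance : (mI p).IsPrime := by
  refine ⟨?_, ?_⟩
  · rw [Ideal.ne_top_iff_one, mem_mI]; simp
  · intro x y hxy
    rw [mem_mI] at *
    by_contra h
    rw [not_or] at h
    have hx : ‖(x : PadicAlgCl p)‖ = 1 := le_antisymm x.2 (not_lt.mp h.1)
    have hy : ‖(y : PadicAlgCl p)‖ = 1 := le_antisymm y.2 (not_lt.mp h.2)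
    rw [Subring.coe_mul, norm_mul, hx, hy, mul_one] at hxy
    exact lt_irrefl _ hxy

theorem count (P : ℤ[X]) (hmon : P.Monic) [inst : DecidablePred fun z : PadicAlgCl p => ‖z‖ = 1] :
    ∃ k, k + Multiset.card ((P.aroots (PadicAlgCl p)).filter (fun z => ‖z‖ = 1)) = P.natDegree ∧
      (∀ j < k, (p : ℤ) ∣ P.coeff j) ∧ ¬ (p : ℤ) ∣ P.coeff k := by
  have hfΩ : algebraMap ℤ (PadicAlgCl p) = Int.castRingHom (PadicAlgCl p) := RingHom.ext_int _ _
  obtain ⟨Pc, hPc⟩ : ∃ Pc, Pc = P.map (Int.castRingHom (PadicAlgCl p)) := ⟨_, rfl⟩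
  have hPcmon : Pc.Monic := by rw [hPc]; exact hmon.map _
  have hsplit : Pc.Splits := IsAlgClosed.splits Pc
  obtain ⟨s, hs⟩ : ∃ s, s = Pc.roots := ⟨_, rfl⟩
  have hs_aroots : P.aroots (PadicAlgCl p) = s := by rw [aroots_def, hfΩ, hs, hPc]
  have hcard : Multiset.card s = P.natDegree := by
    rw [hs, ← hsplit.natDegree_eq_card_roots, hPc, hmon.natDegree_map]
  have hsO : ∀ z ∈ s, z ∈ O p := fun z hz =>
    norm_root_le_one p P hmon z (by
      rw [hs, mem_roots hPcmon.ne_zero, IsRoot, hPc] at hz; exact hz)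
  obtain ⟨sO, hsOdef⟩ : ∃ sO : Multiset (O p), sO = s.pmap (fun z hz => ⟨z, hz⟩) hsO := ⟨_, rfl⟩
  have hsOval : sO.map (fun z : O p => z.1) = s := by
    rw [hsOdef, Multiset.map_pmap]
    exact (Multiset.pmap_eq_map _ (fun a => a) s hsO).trans (Multiset.map_id' s)
  have hPO : P.map (Int.castRingHom (O p)) = (sO.map (fun z => X - C z)).prod := by
    apply Polynomial.map_injective (O p).subtype Subtype.val_injective
    rw [Polynomial.map_map, Polynomial.map_multiset_prod, Multiset.map_map]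
    have h1 : (O p).subtype.comp (Int.castRingHom (O p)) = Int.castRingHom (PadicAlgCl p) :=
      RingHom.ext_int _ _
    rw [h1, ← hPc, hsplit.eq_prod_roots_of_monic hPcmon, ← hs, ← hsOval, Multiset.map_map]
    congr 1
    apply Multiset.map_congr rfl
    intro z _
    simp
  -- apply lemmaA
  let q : O p → Prop := fun z => ‖(z : PadicAlgCl p)‖ = 1
  haveI : DecidablePred q := fun z => inst (z : PadicAlgCl p)
  have hA := lemmaA (Ideal.Quotient.mk (mI p)) sO q
    (fun z _ hq => by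
      rw [Ideal.Quotient.eq_zero_iff_mem, mem_mI]
      exact lt_of_le_of_ne z.2 hq)
    (fun z _ hq h0 => by
      rw [Ideal.Quotient.eq_zero_iff_mem, mem_mI] at h0
      have : ‖(z : PadicAlgCl p)‖ = 1 := hq
      rw [this] at h0; exact lt_irrefl _ h0)
  rw [← hPO, Polynomial.map_map] at hA
  have hcoeff : ∀ j, ((P.map ((Ideal.Quotient.mk (mI p)).comp (Int.castRingHom (O p)))).coeff j = 0)
      ↔ (p : ℤ) ∣ P.coeff j := by
    intro j
    rw [coeff_map, RingHom.comp_apply, Ideal.Quotient.eq_zero_iff_mem, mem_mI, eq_intCast,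
      Subring.coe_intCast]
    exact norm_intCast_lt_one_iff p _
  refine ⟨Multiset.card (sO.filter (fun z => ¬ q z)), ?_, ?_, ?_⟩
  · rw [hs_aroots, ← hcard]
    have h1 : Multiset.card (s.filter (fun z => ‖z‖ = 1)) = Multiset.card (sO.filter q) := by
      rw [← hsOval, Multiset.filter_map, Multiset.card_map]
      congr!
    rw [h1, ← hsOval, Multiset.card_map, add_comm, ← Multiset.card_add, Multiset.filter_add_not]
  · intro j hj
    exact (hcoeff j).mp (hA.1 j hj)
  · intro h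
    exact hA.2 ((hcoeff _).mpr h)

theorem main (p e : ℕ) [Fact p.Prime] (he : 0 < e)
    (ι : Type) [Fintype ι] (K : ι → Type u) [∀ i, Field (K i)] [∀ i, CharZero (K i)] (π : ∀ i, K i)
    (hint : ∀ i, IsIntegral ℤ (π i))
    (hweil : ∀ i, ∀ z ∈ (minpoly ℤ (π i)).aroots ℂ, ‖z‖ = Real.sqrt ((p : ℝ) ^ e))
    (hnr : ∀ i, ∀ z ∈ (minpoly ℤ (π i)).aroots ℂ, z.im ≠ 0) :
    (∀ i, 2 * Multiset.card (((minpoly ℤ (π i)).aroots (PadicAlgCl p)).filter (fun z => ‖z‖ = 1)) = (minpoly ℤ (π i)).natDegree) ↔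
      ¬ ((p : ℤ) ∣ ∏ i, (minpoly ℤ (π i)).coeff ((minpoly ℤ (π i)).natDegree / 2)) := by
  have hp : Prime (p : ℤ) := Nat.prime_iff_prime_int.mp Fact.out
  rw [hp.dvd_finset_prod_iff]
  push_neg
  have key : ∀ i, (2 * Multiset.card (((minpoly ℤ (π i)).aroots (PadicAlgCl p)).filter
      (fun z => ‖z‖ = 1)) = (minpoly ℤ (π i)).natDegree) ↔
      ¬ (p : ℤ) ∣ (minpoly ℤ (π i)).coeff ((minpoly ℤ (π i)).natDegree / 2) := by
    intro i
    obtain ⟨⟨d, hd⟩, hrel⟩ := Groth.Agent.Lib.WeilPoly.main p e he (K i) (π i) (hint i)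
      (hweil i) (hnr i)
    obtain ⟨k, hk, hlow, hkk⟩ := count p (minpoly ℤ (π i)) (minpoly.monic (hint i))
    have hd2 : (minpoly ℤ (π i)).natDegree / 2 = d := by omega
    rw [hd2] at hrel ⊢
    have hlowd : ∀ j < d, (p : ℤ) ∣ (minpoly ℤ (π i)).coeff j := by
      intro j hj
      have h1 := hrel (d - j) (by omega)
      have h2 : d - (d - j) = j := by omega
      rw [h2] at h1
      rw [h1]
      apply Dvd.dvd.mul_right
      apply dvd_pow_self
      have : 0 < e * (d - j) := Nat.mul_pos he (by omega)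
      omega
    constructor
    · intro h
      have : k = d := by omega
      rw [← this]; exact hkk
    · intro h
      have h1 : k ≤ d := by
        by_contra hlt
        push_neg at hlt
        exact h (hlow d hlt)
      have h2 : d ≤ k := by
        by_contra hlt
        push_neg at hlt
        exact hkk (hlowd k hlt)
      omega
  constructor
  · intro h i _
    exact (key i).mp (h i)
  · intro h i
    exact (key i).mpr (h i (Finset.mem_univ i))

end Groth.Agent.Lib.WeilOrd
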