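import Mathlib
import Groth.Prelude
import Groth.Agent.Lib.WeilMon_helper7

/-!
# Base change of global sections of a quasi-compact scheme along a free extension, and the scheme of
morphisms from a quasi-compact scheme with finite free global sections to an affine scheme (helper7)
-/

set_option autoImplicit false
set_option linter.style.haveILetI false
set_option linter.unusedVariables false
universe u
open CategoryTheory CategoryTheory.Limits AlgebraicGeometry Opposite TensorProduct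

namespace Groth.Agent.Lib.WeilQCH7

section Sections

variable {X Y S T : Scheme.{u}} {f : T ⟶ S} {g : Y ⟶ X} {iX : X ⟶ S} {iY : Y ⟶ T}
  (H : IsPullback g iY iX f)
  {US : S.Opens} {UT : T.Opens}
  {UX : X.Opens} (hUST : UT ≤ f ⁻¹ᵁ US) (hUSX : UX ≤ iX ⁻¹ᵁ US)
  {UY : Y.Opens} (hUY : UY = g ⁻¹ᵁ UX ⊓ iY ⁻¹ᵁ UT)

/-- The canonical map from the tensor product, with its formula on pure tensors. -/
lemma exists_theta :
    letI := (f.appLE US UT hUST).hom.toAlgebra
    letI := (iX.appLE US UX hUSX).hom.toAlgebra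
    ∃ θ : Γ(T, UT) ⊗[Γ(S, US)] Γ(X, UX) →+* Γ(Y, UY),
      (∀ a s, θ (a ⊗ₜ s) = (iY.appLE UT UY (hUY.le.trans inf_le_right)).hom a *
        (g.appLE UX UY (hUY.le.trans inf_le_left)).hom s) ∧
      (Function.Injective θ ↔ Mono (pushoutSection H hUST hUSX hUY)) ∧
      (Function.Bijective θ ↔ IsIso (pushoutSection H hUST hUSX hUY)) := by
  letI algT := (f.appLE US UT hUST).hom.toAlgebra
  letI algX := (iX.appLE US UX hUSX).hom.toAlgebra
  let hP := (CommRingCat.isPushout_tensorProduct Γ(S, US) Γ(T, UT) Γ(X, UX)).flip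
  let e : CommRingCat.of (Γ(T, UT) ⊗[Γ(S, US)] Γ(X, UX)) ≅
      pushout (iX.appLE US UX hUSX) (f.appLE US UT hUST) := hP.isoPushout
  let Θ : CommRingCat.of (Γ(T, UT) ⊗[Γ(S, US)] Γ(X, UX)) ⟶ Γ(Y, UY) :=
    e.hom ≫ pushoutSection H hUST hUSX hUY
  have hinr : CommRingCat.ofHom (Algebra.TensorProduct.includeLeftRingHom :
      Γ(T, UT) →+* Γ(T, UT) ⊗[Γ(S, US)] Γ(X, UX)) ≫ Θ =
      iY.appLE UT UY (hUY.le.trans inf_le_right) := by
    show _ ≫ e.hom ≫ _ = _
    rw [← Category.assoc]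
    have h1 := hP.inr_isoPushout_hom
    rw [h1]
    exact pushout.inr_desc _ _ _
  have hinl : CommRingCat.ofHom ((Algebra.TensorProduct.includeRight :
      Γ(X, UX) →ₐ[Γ(S, US)] Γ(T, UT) ⊗[Γ(S, US)] Γ(X, UX)).toRingHom) ≫ Θ =
      g.appLE UX UY (hUY.le.trans inf_le_left) := by
    show _ ≫ e.hom ≫ _ = _
    rw [← Category.assoc]
    have h1 := hP.inl_isoPushout_hom
    rw [h1]
    exact pushout.inl_desc _ _ _
  refine ⟨Θ.hom, ?_, ?_, ?_⟩
  · intro a s
    have h1 : Θ.hom (a ⊗ₜ 1) = (iY.appLE UT UY (hUY.le.trans inf_le_right)).hom a :=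
      congrArg (fun k => k.hom a) hinr
    have h2 : Θ.hom (1 ⊗ₜ s) = (g.appLE UX UY (hUY.le.trans inf_le_left)).hom s :=
      congrArg (fun k => k.hom s) hinl
    have h3 : (a ⊗ₜ[Γ(S, US)] s : Γ(T, UT) ⊗[Γ(S, US)] Γ(X, UX)) = (a ⊗ₜ 1) * (1 ⊗ₜ s) := by
      simp
    rw [h3, map_mul, h1, h2]
  · rw [← mono_comp_iff_of_isIso e.hom (pushoutSection H hUST hUSX hUY)]
    exact (ConcreteCategory.mono_iff_injective_of_preservesPullback Θ).symm
  · rw [← isIso_comp_left_iff e.hom (pushoutSection H hUST hUSX hUY)]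
    exact (ConcreteCategory.isIso_iff_bijective Θ).symm

/-- Injectivity of the base change map on sections over an arbitrary open, when the ring we tensor
with is free. -/
theorem mono_pushoutSection_of_free (hUS : IsAffineOpen US) (hUT : IsAffineOpen UT)
    (hfree : @Module.Free Γ(S, US) Γ(T, UT) _ _ (f.appLE US UT hUST).hom.toAlgebra.toModule) :
    Mono (pushoutSection H hUST hUSX hUY) := by
  classical
  letI algT := (f.appLE US UT hUST).hom.toAlgebra
  letI algX := (iX.appLE US UX hUSX).hom.toAlgebra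
  haveI : Module.Free Γ(S, US) Γ(T, UT) := hfree
  let b := Module.Free.chooseBasis Γ(S, US) Γ(T, UT)
  obtain ⟨θ, hθ, hθinj, -⟩ := exists_theta H hUST hUSX hUY
  rw [← hθinj, injective_iff_map_eq_zero]
  intro t ht
  obtain ⟨c, rfl⟩ := TensorProduct.eq_repr_basis_left b t
  suffices hc : c = 0 by rw [hc]; simp
  ext j
  rw [Finsupp.zero_apply]
  refine X.IsSheaf.section_ext fun x hx => ?_
  obtain ⟨V, hVaff, hxV, hVle⟩ := exists_isAffineOpen_mem_and_subset (x := x) (U := UX) hx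
  have hVle' : V ≤ UX := hVle
  refine ⟨V, hVle', hxV, ?_⟩
  have hVS : V ≤ iX ⁻¹ᵁ US := hVle'.trans hUSX
  letI algV : Algebra Γ(S, US) Γ(X, V) := (iX.appLE US V hVS).hom.toAlgebra
  obtain ⟨θV, hθV, -, hθVbij⟩ := exists_theta H hUST hVS (UY := g ⁻¹ᵁ V ⊓ iY ⁻¹ᵁ UT) rfl
  have hiso : IsIso (pushoutSection H hUST hVS (UY := g ⁻¹ᵁ V ⊓ iY ⁻¹ᵁ UT) rfl) :=
    isIso_pushoutSection_of_isAffineOpen H hUST hVS rfl hUS hUT hVaff
  have hθVinj : Function.Injective θV := (hθVbij.mpr hiso).1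
  have hle' : g ⁻¹ᵁ V ⊓ iY ⁻¹ᵁ UT ≤ UY := by
    rw [hUY]
    exact inf_le_inf (g.preimage_mono hVle') le_rfl
  let resX : Γ(X, UX) →+* Γ(X, V) := (X.presheaf.map (homOfLE hVle').op).hom
  let resY : Γ(Y, UY) →+* Γ(Y, g ⁻¹ᵁ V ⊓ iY ⁻¹ᵁ UT) := (Y.presheaf.map (homOfLE hle').op).hom
  have hresT : ∀ a, resY ((iY.appLE UT UY (hUY.le.trans inf_le_right)).hom a) =
      (iY.appLE UT (g ⁻¹ᵁ V ⊓ iY ⁻¹ᵁ UT) inf_le_right).hom a := fun a =>
    congrArg (fun k => k.hom a)
      (Scheme.Hom.appLE_map iY (hUY.le.trans inf_le_right) (homOfLE hle').op)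
  have hresX : ∀ s, resY ((g.appLE UX UY (hUY.le.trans inf_le_left)).hom s) =
      (g.appLE V (g ⁻¹ᵁ V ⊓ iY ⁻¹ᵁ UT) inf_le_left).hom (resX s) := fun s => by
    have h1 := congrArg (fun k => k.hom s)
      (Scheme.Hom.appLE_map g (hUY.le.trans inf_le_left) (homOfLE hle').op)
    have h2 := congrArg (fun k => k.hom s)
      (Scheme.Hom.map_appLE g (U := V) (V := g ⁻¹ᵁ V ⊓ iY ⁻¹ᵁ UT) inf_le_left (homOfLE hVle').op)
    exact h1.trans h2.symm
  have h1 : resY (θ (c.sum fun j n => b j ⊗ₜ[Γ(S, US)] n)) =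
      θV ((c.mapRange resX (map_zero _)).sum fun j n => b j ⊗ₜ[Γ(S, US)] n) := by
    simp only [map_finsuppSum]
    rw [Finsupp.sum_mapRange_index (fun j => by rw [TensorProduct.tmul_zero, map_zero])]
    refine Finsupp.sum_congr fun j _ => ?_
    rw [hθ, hθV, map_mul, hresT, hresX]
  rw [ht, map_zero] at h1
  have h2 : (c.mapRange resX (map_zero _)).sum (fun j n => b j ⊗ₜ[Γ(S, US)] n) = 0 :=
    hθVinj (h1.symm.trans (map_zero θV).symm)
  have h3 := TensorProduct.sum_tmul_basis_left_eq_zero b _ h2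
  have h4 : resX (c j) = 0 := by
    have := congrArg (fun d => d j) h3
    simpa using this
  show resX (c j) = resX 0
  rw [h4, map_zero]

theorem isIso_pushoutSection_of_isCompact_of_free (hUS : IsAffineOpen US) (hUT : IsAffineOpen UT)
    (hUX : IsCompact (X := X) UX)
    (hfree : @Module.Free Γ(S, US) Γ(T, UT) _ _ (f.appLE US UT hUST).hom.toAlgebra.toModule) :
    IsIso (pushoutSection H hUST hUSX hUY) := by
  obtain ⟨I, hI, e⟩ := isCompact_iff_finite_and_eq_biUnion_affineOpens.mp hUX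
  have := hI.to_subtype
  have hflat : (f.appLE US UT hUST).hom.Flat := by
    letI := (f.appLE US UT hUST).hom.toAlgebra
    haveI : Module.Free Γ(S, US) Γ(T, UT) := hfree
    exact (inferInstance : Module.Flat Γ(S, US) Γ(T, UT))
  exact isIso_pushoutSection_of_iSup_eq H hUST hUSX hUY (fun i : I ↦ i)
    (by rwa [iSup_subtype, eq_comm])
    (fun i ↦ isIso_pushoutSection_of_isAffineOpen _ _ _ _ hUS hUT i.1.2)
    (fun i j ↦ mono_pushoutSection_of_free _ _ _ _ hUS hUT hfree) hflat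

end Sections

end Groth.Agent.Lib.WeilQCH7
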