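import Mathlib
import Groth.Prelude
import Groth.Agent.Lib.WeilQC_helper7

/-!
# The scheme of morphisms from a quasi-compact scheme with finite free global sections to an affine
scheme, over a field (helper7)
-/

set_option autoImplicit false
set_option linter.style.haveILetI false
set_option linter.unusedVariables false
universe u
open CategoryTheory CategoryTheory.Limits AlgebraicGeometry Opposite TensorProduct
  MonoidalCategory CartesianMonoidalCategory

namespace Groth.Agent.Lib.WeilQCH7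

open Groth.Agent.Lib.MorSOpenH4 Groth.Agent.Lib.WeilSchH7 Groth.Agent.Lib.WeilGlueH7
open Groth.Agent.Lib.WeilAlgH7 Groth.Agent.Lib.WeilFPH7 Groth.Agent.Lib.WeilMonH7

attribute [local instance] algOver

variable {S : Scheme.{u}}

lemma appLE_top_top {A B : Scheme.{u}} (φ : A ⟶ B) (e : (⊤ : A.Opens) ≤ φ ⁻¹ᵁ ⊤) :
    φ.appLE ⊤ ⊤ e = φ.appTop := by
  simp [Scheme.Hom.appLE]

/-- `θ` is bijective as soon as the square of global sections is a pushout. -/
theorem θ_bijective_of_isPushout (ZO T : Over S)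
    (H1 : IsPushout (CommRingCat.ofHom (algebraMap Γ(S, ⊤) Γ(T.left, ⊤)))
      (CommRingCat.ofHom (algebraMap Γ(S, ⊤) Γ(ZO.left, ⊤)))
      (pullback.fst T.hom ZO.hom).appTop (pullback.snd T.hom ZO.hom).appTop) :
    Function.Bijective (θ ZO T) := by
  let e := (CommRingCat.isPushout_tensorProduct Γ(S, ⊤) Γ(T.left, ⊤) Γ(ZO.left, ⊤)).isoIsPushout
    _ _ H1
  have hl : CommRingCat.ofHom (S := Γ(T.left, ⊤) ⊗[Γ(S, ⊤)] Γ(ZO.left, ⊤))
      Algebra.TensorProduct.includeLeftRingHom ≫ e.hom = (pullback.fst T.hom ZO.hom).appTop :=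
    IsPushout.inl_isoIsPushout_hom _ _ _ _
  have hr : CommRingCat.ofHom (S := Γ(T.left, ⊤) ⊗[Γ(S, ⊤)] Γ(ZO.left, ⊤))
      Algebra.TensorProduct.includeRight.toRingHom ≫ e.hom = (pullback.snd T.hom ZO.hom).appTop :=
    IsPushout.inr_isoIsPushout_hom _ _ _ _
  have he : ∀ x, θ ZO T x = e.hom.hom x := by
    intro x
    induction x using TensorProduct.induction_on with
    | zero => simp
    | tmul a b =>
      have h1 : e.hom.hom (a ⊗ₜ 1) = (pullback.fst T.hom ZO.hom).appTop.hom a :=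
        congrArg (fun k => k.hom a) hl
      have h2 : e.hom.hom (1 ⊗ₜ b) = (pullback.snd T.hom ZO.hom).appTop.hom b :=
        congrArg (fun k => k.hom b) hr
      have h3 : (a ⊗ₜ[Γ(S, ⊤)] b : Γ(T.left, ⊤) ⊗[Γ(S, ⊤)] Γ(ZO.left, ⊤)) =
          (a ⊗ₜ 1) * (1 ⊗ₜ b) := by simp
      rw [θ_tmul, h3, map_mul, h1, h2]
      rfl
    | add x y hx hy => rw [map_add, map_add, hx, hy]
  have hb : Function.Bijective e.hom.hom := ConcreteCategory.bijective_of_isIso e.hom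
  have hfun : ⇑(θ ZO T) = ⇑e.hom.hom := funext he
  rw [hfun]
  exact hb

/-- Base change of global sections of a quasi-compact scheme along a free extension. -/
theorem θ_bijective_of_free [IsAffine S] (ZO : Over S) [CompactSpace ZO.left] (T : Over S)
    (hT : IsAffine T.left) (hfree : Module.Free Γ(S, ⊤) Γ(T.left, ⊤)) :
    Function.Bijective (θ ZO T) := by
  haveI := hT
  have H : IsPullback (pullback.snd T.hom ZO.hom) (pullback.fst T.hom ZO.hom) ZO.hom T.hom :=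
    (IsPullback.of_hasPullback T.hom ZO.hom).flip
  have hUST : (⊤ : T.left.Opens) ≤ T.hom ⁻¹ᵁ ⊤ := le_top
  have hUSX : (⊤ : ZO.left.Opens) ≤ ZO.hom ⁻¹ᵁ ⊤ := le_top
  have hUY : (⊤ : (pullback T.hom ZO.hom : Scheme.{u}).Opens) =
      (pullback.snd T.hom ZO.hom) ⁻¹ᵁ ⊤ ⊓ (pullback.fst T.hom ZO.hom) ⁻¹ᵁ ⊤ := by
    simp
  have hfree' : @Module.Free Γ(S, ⊤) Γ(T.left, ⊤) _ _
      (T.hom.appLE ⊤ ⊤ hUST).hom.toAlgebra.toModule := by
    rw [appLE_top_top]; exact hfree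
  have hc : IsCompact (X := ZO.left) ((⊤ : ZO.left.Opens) : Set ZO.left) := by
    show IsCompact (Set.univ : Set ZO.left)
    exact isCompact_univ
  have hiso := isIso_pushoutSection_of_isCompact_of_free H hUST hUSX hUY (isAffineOpen_top S)
    (isAffineOpen_top T.left) hc hfree'
  have hpo := (isIso_pushoutSection_iff H hUST hUSX hUY).mp hiso
  rw [appLE_top_top, appLE_top_top, appLE_top_top, appLE_top_top] at hpo
  exact θ_bijective_of_isPushout ZO T hpo.flip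

/-! ## Representability from bijectivity of `θ` on affines -/

section Rep

variable (ZO XO W : Over S)
  (univ : Γ(XO.left, ⊤) →ₐ[Γ(S, ⊤)] Γ(W.left, ⊤) ⊗[Γ(S, ⊤)] Γ(ZO.left, ⊤))
  (hbij : ∀ (A : Type u) [CommRing A] [Algebra Γ(S, ⊤) A],
    Function.Bijective (fun ρ : Γ(W.left, ⊤) →ₐ[Γ(S, ⊤)] A =>
      (Algebra.TensorProduct.map ρ (AlgHom.id Γ(S, ⊤) Γ(ZO.left, ⊤))).comp univ))
  (hθ : ∀ T : Over S, IsAffine T.left → Function.Bijective (θ ZO T))

include hbij hθ in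
theorem bij_affine' [IsAffine S] (hX : IsAffine XO.left)
    (hW : IsAffine W.left) (ξ : PX ZO.hom W ⟶ XO) (hξ : appTopAlg ξ = (θ ZO W).comp univ)
    (T : Over S) (hT : IsAffine T.left) :
    Function.Bijective (fun φ : T ⟶ W => PXmap ZO.hom φ ≫ ξ) := by
  have hθT := hθ T hT
  constructor
  · intro φ φ' h
    have h' : appTopAlg (PXmap ZO.hom φ ≫ ξ) = appTopAlg (PXmap ZO.hom φ' ≫ ξ) :=
      congrArg appTopAlg h
    rw [key ZO XO W univ ξ hξ, key ZO XO W univ ξ hξ] at h'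
    have h'' : (Algebra.TensorProduct.map (appTopAlg φ)
        (AlgHom.id Γ(S, ⊤) Γ(ZO.left, ⊤))).comp univ =
        (Algebra.TensorProduct.map (appTopAlg φ') (AlgHom.id Γ(S, ⊤) Γ(ZO.left, ⊤))).comp univ := by
      apply AlgHom.ext
      intro c
      apply hθT.1
      exact AlgHom.congr_fun h' c
    exact over_hom_ext hW ((hbij Γ(T.left, ⊤)).1 h'')
  · intro a
    let θe := AlgEquiv.ofBijective (θ ZO T) hθT
    let ψ : Γ(XO.left, ⊤) →ₐ[Γ(S, ⊤)] Γ(T.left, ⊤) ⊗[Γ(S, ⊤)] Γ(ZO.left, ⊤) :=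
      (θe.symm : _ →ₐ[Γ(S, ⊤)] _).comp (appTopAlg a)
    obtain ⟨ρ, hρ⟩ := (hbij Γ(T.left, ⊤)).2 ψ
    obtain ⟨φ, hφ⟩ := exists_over_hom (T' := T) (T := W) hW ρ
    refine ⟨φ, over_hom_ext hX ?_⟩
    show appTopAlg (PXmap ZO.hom φ ≫ ξ) = appTopAlg a
    rw [key ZO XO W univ ξ hξ, hφ]
    have hρ' : (Algebra.TensorProduct.map ρ (AlgHom.id Γ(S, ⊤) Γ(ZO.left, ⊤))).comp univ = ψ := hρ
    rw [hρ']
    apply AlgHom.ext
    intro c
    show θ ZO T (θe.symm (appTopAlg a c)) = appTopAlg a c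
    exact θe.apply_symm_apply _

include hbij hθ in
theorem representable' [IsAffine S] (hX : IsAffine XO.left)
    (hW : IsAffine W.left) : Nonempty ((FF ZO XO).RepresentableBy W) := by
  obtain ⟨ξ, hξ⟩ := exists_over_hom (T' := PX ZO.hom W) (T := XO) hX ((θ ZO W).comp univ)
  have haff := bij_affine' ZO XO W univ hbij hθ hX hW ξ hξ
  have hb : ∀ T : Over S, Function.Bijective (fun φ : T ⟶ W => PXmap ZO.hom φ ≫ ξ) :=
    fun T => ⟨inj_general ξ haff T, surj_general ξ haff T⟩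
  exact ⟨{ homEquiv := fun {T} => Equiv.ofBijective _ (hb T)
           homEquiv_comp := fun {T T'} φ ψ => by
             show PXmap ZO.hom (φ ≫ ψ) ≫ ξ = PXmap ZO.hom φ ≫ (PXmap ZO.hom ψ ≫ ξ)
             rw [PXmap_comp, Category.assoc] }⟩

end Rep

theorem representable_of_weilAlg' [IsAffine S] (ZO XO : Over S)
    (hX : IsAffine XO.left) (WA : Type u) [CommRing WA] [Algebra Γ(S, ⊤) WA]
    (univ : Γ(XO.left, ⊤) →ₐ[Γ(S, ⊤)] WA ⊗[Γ(S, ⊤)] Γ(ZO.left, ⊤))
    (hbij : ∀ (A : Type u) [CommRing A] [Algebra Γ(S, ⊤) A],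
      Function.Bijective (fun ρ : WA →ₐ[Γ(S, ⊤)] A =>
        (Algebra.TensorProduct.map ρ (AlgHom.id Γ(S, ⊤) Γ(ZO.left, ⊤))).comp univ))
    (hθ : ∀ T : Over S, IsAffine T.left → Function.Bijective (θ ZO T)) :
    Nonempty ((FF ZO XO).RepresentableBy
      (Over.mk (Spec.map (CommRingCat.ofHom (algebraMap Γ(S, ⊤) WA)) ≫ S.isoSpec.inv))) := by
  let α : Γ(S, ⊤) ⟶ CommRingCat.of WA := CommRingCat.ofHom (algebraMap Γ(S, ⊤) WA)
  let W : Over S := Over.mk (Spec.map α ≫ S.isoSpec.inv)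
  have hW : IsAffine W.left := (inferInstance : IsAffine (Spec (CommRingCat.of WA)))
  have hWtop : W.hom.appTop = α ≫ (Scheme.ΓSpecIso (CommRingCat.of WA)).inv := by
    show (Spec.map α ≫ S.isoSpec.inv).appTop = _
    rw [Scheme.Hom.comp_appTop, isoSpec_inv_appTop, ← Scheme.ΓSpecIso_inv_naturality]
  let e₀ : WA ≃+* Γ(W.left, ⊤) :=
    (Scheme.ΓSpecIso (CommRingCat.of WA)).symm.commRingCatIsoToRingEquiv
  have he₀ : ∀ r, e₀ (algebraMap Γ(S, ⊤) WA r) = algebraMap Γ(S, ⊤) Γ(W.left, ⊤) r := by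
    intro r
    show _ = W.hom.appTop.hom r
    rw [hWtop]
    rfl
  let e : WA ≃ₐ[Γ(S, ⊤)] Γ(W.left, ⊤) := AlgEquiv.ofRingEquiv (f := e₀) he₀
  let univ' : Γ(XO.left, ⊤) →ₐ[Γ(S, ⊤)] Γ(W.left, ⊤) ⊗[Γ(S, ⊤)] Γ(ZO.left, ⊤) :=
    (Algebra.TensorProduct.map e.toAlgHom (AlgHom.id Γ(S, ⊤) Γ(ZO.left, ⊤))).comp univ
  have hcomp : ∀ (A : Type u) [CommRing A] [Algebra Γ(S, ⊤) A]
      (ρ' : Γ(W.left, ⊤) →ₐ[Γ(S, ⊤)] A),
      (Algebra.TensorProduct.map ρ' (AlgHom.id Γ(S, ⊤) Γ(ZO.left, ⊤))).comp univ' =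
        (Algebra.TensorProduct.map (ρ'.comp e.toAlgHom)
          (AlgHom.id Γ(S, ⊤) Γ(ZO.left, ⊤))).comp univ := by
    intro A _ _ ρ'
    apply AlgHom.ext
    intro c
    exact WeilAlgH7.map_map Γ(S, ⊤) Γ(ZO.left, ⊤) e.toAlgHom ρ' (univ c)
  have hbij' : ∀ (A : Type u) [CommRing A] [Algebra Γ(S, ⊤) A],
      Function.Bijective (fun ρ' : Γ(W.left, ⊤) →ₐ[Γ(S, ⊤)] A =>
        (Algebra.TensorProduct.map ρ' (AlgHom.id Γ(S, ⊤) Γ(ZO.left, ⊤))).comp univ') := by
    intro A _ _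
    constructor
    · intro ρ₁ ρ₂ h
      have h' : (Algebra.TensorProduct.map (ρ₁.comp e.toAlgHom)
          (AlgHom.id Γ(S, ⊤) Γ(ZO.left, ⊤))).comp univ =
          (Algebra.TensorProduct.map (ρ₂.comp e.toAlgHom)
            (AlgHom.id Γ(S, ⊤) Γ(ZO.left, ⊤))).comp univ := by
        rw [← hcomp A ρ₁, ← hcomp A ρ₂]
        exact h
      have h2 : ρ₁.comp e.toAlgHom = ρ₂.comp e.toAlgHom := (hbij A).1 h'
      apply AlgHom.ext
      intro x
      have h3 := AlgHom.congr_fun h2 (e.symm x)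
      simpa using h3
    · intro ψ
      obtain ⟨ρ, hρ⟩ := (hbij A).2 ψ
      refine ⟨ρ.comp e.symm.toAlgHom, ?_⟩
      show (Algebra.TensorProduct.map (ρ.comp e.symm.toAlgHom)
        (AlgHom.id Γ(S, ⊤) Γ(ZO.left, ⊤))).comp univ' = ψ
      rw [hcomp A]
      have h4 : (ρ.comp e.symm.toAlgHom).comp e.toAlgHom = ρ := by
        apply AlgHom.ext
        intro x
        simp
      rw [h4]
      exact hρ
  exact representable' ZO XO W univ' hbij' hθ hX hW

/-! ## The case of a base field -/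

lemma free_finite_of_field (k : Type u) [Field k] (T : Over (Spec (CommRingCat.of k))) :
    Module.Free Γ(Spec (CommRingCat.of k), ⊤) Γ(T.left, ⊤) ∧
    ((T.hom.appTop.hom.comp (Scheme.ΓSpecIso (CommRingCat.of k)).inv.hom).Finite →
      Module.Finite Γ(Spec (CommRingCat.of k), ⊤) Γ(T.left, ⊤)) := by
  let e₁ : k ≃+* Γ(Spec (CommRingCat.of k), ⊤) :=
    (Scheme.ΓSpecIso (CommRingCat.of k)).symm.commRingCatIsoToRingEquiv
  let φ : k →+* Γ(T.left, ⊤) :=
    T.hom.appTop.hom.comp (Scheme.ΓSpecIso (CommRingCat.of k)).inv.hom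
  obtain ⟨h1, h2⟩ := transport_free_finite φ T.hom.appTop.hom e₁ (RingEquiv.refl _)
    (fun r => rfl)
  refine ⟨h1 ?_, fun hfin => h2 hfin⟩
  letI := φ.toAlgebra
  exact Module.Free.of_divisionRing k _

theorem main14546 (k : Type u) [Field k] (X : Over (Spec (CommRingCat.of k)))
    [CompactSpace ↥X.left]
    (hfin : (X.hom.appTop.hom.comp (Scheme.ΓSpecIso (CommRingCat.of k)).inv.hom).Finite)
    (Z : Over (Spec (CommRingCat.of k))) [IsAffine Z.left] :
    ∃ (M : Over (Spec (CommRingCat.of k))) (_ : IsAffine M.left) (ev : X ⊗ M ⟶ Z),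
      (∀ (S : Over (Spec (CommRingCat.of k))) (f : X ⊗ S ⟶ Z),
        ∃! g : S ⟶ M, (X ◁ g) ≫ ev = f) ∧
      (LocallyOfFiniteType Z.hom → LocallyOfFiniteType M.hom) := by
  classical
  have hfreeT : ∀ T : Over (Spec (CommRingCat.of k)),
      Module.Free Γ(Spec (CommRingCat.of k), ⊤) Γ(T.left, ⊤) :=
    fun T => (free_finite_of_field k T).1
  haveI hXfree : Module.Free Γ(Spec (CommRingCat.of k), ⊤) Γ(X.left, ⊤) := hfreeT X
  haveI hXfin : Module.Finite Γ(Spec (CommRingCat.of k), ⊤) Γ(X.left, ⊤) :=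
    (free_finite_of_field k X).2 hfin
  have hθ : ∀ T : Over (Spec (CommRingCat.of k)), IsAffine T.left →
      Function.Bijective (θ X T) := fun T hT => θ_bijective_of_free X T hT (hfreeT T)
  have hZaff : IsAffine Z.left := inferInstance
  by_cases hZft : LocallyOfFiniteType Z.hom
  · haveI hft : Algebra.FiniteType Γ(Spec (CommRingCat.of k), ⊤) Γ(Z.left, ⊤) :=
      (HasRingHomProperty.iff_of_isAffine (P := @LocallyOfFiniteType)).mp hZft
    obtain ⟨WA, iR, iA, univ, hWft, hbij⟩ :=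
      exists_weilAlg_ft Γ(Spec (CommRingCat.of k), ⊤) Γ(X.left, ⊤) Γ(Z.left, ⊤)
    let α : Γ(Spec (CommRingCat.of k), ⊤) ⟶ CommRingCat.of WA :=
      CommRingCat.ofHom (algebraMap Γ(Spec (CommRingCat.of k), ⊤) WA)
    have hα : LocallyOfFiniteType (Spec.map α) := by
      rw [HasRingHomProperty.Spec_iff (P := @LocallyOfFiniteType)]
      exact RingHom.finiteType_algebraMap.mpr hWft
    obtain ⟨e⟩ := representable_of_weilAlg' X Z hZaff WA univ hbij hθ
    obtain ⟨ev, hev⟩ := universal_of_representable X Z _ e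
    exact ⟨_, (inferInstance : IsAffine (Spec (CommRingCat.of WA))), ev, hev,
      fun _ => (inferInstance :
        LocallyOfFiniteType (Spec.map α ≫ (Spec (CommRingCat.of k)).isoSpec.inv))⟩
  · obtain ⟨WA, iR, iA, univ, hbij⟩ :=
      exists_weilAlg Γ(Spec (CommRingCat.of k), ⊤) Γ(X.left, ⊤) Γ(Z.left, ⊤)
    obtain ⟨e⟩ := representable_of_weilAlg' X Z hZaff WA univ hbij hθ
    obtain ⟨ev, hev⟩ := universal_of_representable X Z _ e
    exact ⟨_, (inferInstance : IsAffine (Spec (CommRingCat.of WA))), ev, hev,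
      fun h => absurd h hZft⟩

end Groth.Agent.Lib.WeilQCH7
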