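import Mathlib

namespace Groth.Agent.Lib.WeilQuad

open Polynomial

theorem key_ineq {F : Type*} [Field F] [LinearOrder F] [IsStrictOrderedRing F]
    (p r : ℕ) (hp : 2 ≤ p) (hr : 2 < r) : ((p : F)) ^ 2 < 4 * (p : F) ^ r := by
  have hp1 : (1 : F) ≤ (p : F) := by exact_mod_cast (by omega : 1 ≤ p)
  have hp0 : (0 : F) < (p : F) := lt_of_lt_of_le zero_lt_one hp1
  have h1 : (p : F) ^ 2 ≤ (p : F) ^ r := pow_le_pow_right₀ hp1 (by omega)
  have h2 : (0 : F) < (p : F) ^ r := pow_pos hp0 r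
  linarith

theorem no_root {F : Type*} [Field F] [LinearOrder F] [IsStrictOrderedRing F]
    (p r : ℕ) (hp : 2 ≤ p) (hr : 2 < r) (x : F) :
    x ^ 2 - (p : F) * x + (p : F) ^ r ≠ 0 := by
  intro h
  have hk := key_ineq (F := F) p r hp hr
  nlinarith [sq_nonneg (2 * x - (p : F))]

theorem part1 (p r : ℕ) (hp : 2 ≤ p) (hr : 2 < r) :
    Irreducible (X ^ 2 - C (p : ℚ) * X + C ((p : ℚ) ^ r) : ℚ[X]) := by
  have hdeg : (X ^ 2 - C (p : ℚ) * X + C ((p : ℚ) ^ r) : ℚ[X]).natDegree = 2 := by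
    compute_degree!
  rw [Polynomial.irreducible_iff_roots_eq_zero_of_degree_le_three (by omega) (by omega)]
  refine Multiset.eq_zero_of_forall_notMem fun x hx => ?_
  rw [mem_roots'] at hx
  have h := hx.2
  rw [IsRoot.def] at h
  simp only [eval_add, eval_sub, eval_mul, eval_pow, eval_X, eval_C] at h
  exact no_root p r hp hr x h

theorem part2 (p r : ℕ) (hp : 2 ≤ p) (hr : 2 < r) (z : ℂ)
    (h : z ^ 2 - (p : ℂ) * z + (p : ℂ) ^ r = 0) : ‖z‖ = Real.sqrt ((p : ℝ) ^ r) := by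
  have hpow : ((p : ℂ)) ^ r = (((p : ℝ) ^ r : ℝ) : ℂ) := by simp
  rw [hpow] at h
  have hre := congrArg Complex.re h
  have him := congrArg Complex.im h
  simp only [Complex.add_re, Complex.sub_re, Complex.mul_re, Complex.add_im, Complex.sub_im,
    Complex.mul_im, pow_two, Complex.natCast_re, Complex.natCast_im, Complex.ofReal_re,
    Complex.ofReal_im, Complex.zero_re, Complex.zero_im] at hre him
  have hmain : z.re * z.re + z.im * z.im = (p : ℝ) ^ r := by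
    by_cases hi : z.im = 0
    · exfalso
      refine no_root (F := ℝ) p r hp hr z.re ?_
      linear_combination hre + z.im * hi
    · have hx : 2 * z.re - (p : ℝ) = 0 := by
        have h3 : z.im * (2 * z.re - (p : ℝ)) = 0 := by linear_combination him
        rcases mul_eq_zero.mp h3 with h0 | h0
        · exact absurd h0 hi
        · exact h0
      linear_combination (-1) * hre + z.re * hx
  rw [← Real.sqrt_sq (norm_nonneg z), Complex.sq_norm, Complex.normSq_apply, hmain]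

noncomputable def Fq {p : ℕ} [Fact p.Prime] (c : ℤ_[p]) : ℤ_[p][X] := X ^ 2 - X + C c

theorem Fq_aeval {p : ℕ} [Fact p.Prime] (c y : ℤ_[p]) : aeval y (Fq c) = y ^ 2 - y + c := by
  simp [Fq, Polynomial.coe_aeval_eq_eval]

theorem Fq_der {p : ℕ} [Fact p.Prime] (c : ℤ_[p]) :
    aeval (1 : ℤ_[p]) (derivative (Fq c)) = 1 := by
  norm_num [Fq, Polynomial.coe_aeval_eq_eval]

theorem part3 (p r : ℕ) [hpf : Fact p.Prime] (hr : 2 < r) :
    ∃ a b : ℚ_[p], a ≠ b ∧ a ^ 2 - (p : ℚ_[p]) * a + (p : ℚ_[p]) ^ r = 0 ∧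
      b ^ 2 - (p : ℚ_[p]) * b + (p : ℚ_[p]) ^ r = 0 ∧ a.valuation = 1 ∧
      b.valuation = (r : ℤ) - 1 := by
  have hnorm : ‖aeval (1 : ℤ_[p]) (Fq ((p : ℤ_[p]) ^ (r - 2)))‖ <
      ‖aeval (1 : ℤ_[p]) (derivative (Fq ((p : ℤ_[p]) ^ (r - 2))))‖ ^ 2 := by
    rw [Fq_aeval, Fq_der]
    simp only [one_pow, sub_self, zero_add, norm_one]
    rw [PadicInt.norm_lt_one_iff_dvd]
    exact dvd_pow_self _ (by omega)
  obtain ⟨y, hy0, hy1, -, -⟩ := hensels_lemma hnorm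
  rw [Fq_der, norm_one] at hy1
  rw [Fq_aeval] at hy0
  have hynorm : ‖y‖ = 1 := by
    have h1 : ‖(1 : ℤ_[p])‖ ≠ ‖y - 1‖ := by rw [norm_one]; exact ne_of_gt hy1
    have h2 := PadicInt.norm_add_eq_max_of_ne h1
    have e : (1 : ℤ_[p]) + (y - 1) = y := by ring
    rw [e, norm_one, max_eq_left hy1.le] at h2
    exact h2
  have hyQ : (y : ℚ_[p]) ^ 2 - (y : ℚ_[p]) + (p : ℚ_[p]) ^ (r - 2) = 0 := by
    have h5 : ((y ^ 2 - y + (p : ℤ_[p]) ^ (r - 2) : ℤ_[p]) : ℚ_[p]) = 0 := by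
      rw [hy0]; exact PadicInt.coe_zero
    push_cast at h5
    exact h5
  have hyqn : ‖(y : ℚ_[p])‖ = 1 := hynorm
  have hyne : (y : ℚ_[p]) ≠ 0 := norm_ne_zero_iff.mp (by rw [hyqn]; exact one_ne_zero)
  have hv0 : (y : ℚ_[p]).valuation = 0 := by
    have h1 : 0 ≤ (y : ℚ_[p]).valuation :=
      (Padic.norm_le_one_iff_val_nonneg _).mp (le_of_eq hyqn)
    have h2 : 0 ≤ ((y : ℚ_[p])⁻¹).valuation :=
      (Padic.norm_le_one_iff_val_nonneg _).mp (by rw [norm_inv, hyqn, inv_one])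
    rw [Padic.valuation_inv] at h2
    omega
  have hpne : (p : ℚ_[p]) ≠ 0 := by exact_mod_cast hpf.out.ne_zero
  have hprod : (y : ℚ_[p]) * (1 - (y : ℚ_[p])) = (p : ℚ_[p]) ^ (r - 2) := by
    linear_combination (-1) * hyQ
  have hpowne : (p : ℚ_[p]) ^ (r - 2) ≠ 0 := pow_ne_zero _ hpne
  have h1y : (1 - (y : ℚ_[p])) ≠ 0 := by
    intro h0
    rw [h0, mul_zero] at hprod
    exact hpowne hprod.symm
  have hv1 : (1 - (y : ℚ_[p])).valuation = (r : ℤ) - 2 := by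
    have h3 := congrArg Padic.valuation hprod
    rw [Padic.valuation_mul hyne h1y, hv0, Padic.valuation_pow, Padic.valuation_p] at h3
    omega
  have hpow : (p : ℚ_[p]) ^ r = (p : ℚ_[p]) ^ 2 * (p : ℚ_[p]) ^ (r - 2) := by
    rw [← pow_add]; congr 1; omega
  have hva : ((p : ℚ_[p]) * (y : ℚ_[p])).valuation = 1 := by
    rw [Padic.valuation_mul hpne hyne, Padic.valuation_p, hv0]; norm_num
  have hvb : ((p : ℚ_[p]) * (1 - (y : ℚ_[p]))).valuation = (r : ℤ) - 1 := by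
    rw [Padic.valuation_mul hpne h1y, Padic.valuation_p, hv1]; ring
  refine ⟨(p : ℚ_[p]) * (y : ℚ_[p]), (p : ℚ_[p]) * (1 - (y : ℚ_[p])), ?_, ?_, ?_, hva, hvb⟩
  · intro hab
    have h4 := congrArg Padic.valuation hab
    rw [hva, hvb] at h4
    omega
  · linear_combination (p : ℚ_[p]) ^ 2 * hyQ + hpow
  · linear_combination (p : ℚ_[p]) ^ 2 * hyQ + hpow

theorem main (p r : ℕ) [hpf : Fact p.Prime] (hr : 2 < r) :
    Irreducible (X ^ 2 - C (p : ℚ) * X + C ((p : ℚ) ^ r) : ℚ[X]) ∧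
      (∀ π : ℂ, π ^ 2 - (p : ℂ) * π + (p : ℂ) ^ r = 0 → ‖π‖ = Real.sqrt ((p : ℝ) ^ r)) ∧
      ∃ a b : ℚ_[p], a ≠ b ∧ a ^ 2 - (p : ℚ_[p]) * a + (p : ℚ_[p]) ^ r = 0 ∧
        b ^ 2 - (p : ℚ_[p]) * b + (p : ℚ_[p]) ^ r = 0 ∧ a.valuation = 1 ∧
        b.valuation = (r : ℤ) - 1 :=
  ⟨part1 p r hpf.out.two_le hr, fun z h => part2 p r hpf.out.two_le hr z h, part3 p r hr⟩

end Groth.Agent.Lib.WeilQuad
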