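import Mathlib
import Groth.Agent.Lib.WellInt2_helper8

set_option autoImplicit false

universe u

open CategoryTheory CategoryTheory.Limits AlgebraicGeometry TopologicalSpace Topology

namespace Groth.Agent.Lib.WellIntH8

open Groth.Agent.Lib.RegMeetH8 Groth.Agent.Lib.ConstrNF

theorem isPurelyInseparable_of_comp {F E K : Type*} [Field F] [Field E] [Field K]
    (φ₁ : F →+* E) (φ₂ : E →+* K) (h : (φ₂.comp φ₁).IsPurelyInseparable) :
    φ₁.IsPurelyInseparable := by
  algebraize [φ₁, φ₂, φ₂.comp φ₁]
  exact IsPurelyInseparable.tower_bot F E K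

/-- If every point of `Y'' ×_S Y''` lying over the off-diagonal part of `X ×_S X` is excluded,
then `Y'' → S` is universally injective. -/
theorem surjective_diagonal_of_forall {X S Y'' : Scheme.{u}} (f : X ⟶ S) (j : Y'' ⟶ X) [Mono j]
    (h : ∀ p : ↥(pullback f f), pullback.fst f f p ∈ Set.range j → pullback.snd f f p ∈ Set.range j →
      p ∈ Set.range (pullback.diagonal f)) :
    Surjective (pullback.diagonal (j ≫ f)) := by
  set g := j ≫ f with hg
  let m : pullback g g ⟶ pullback f f :=
    pullback.map g g f f j j (𝟙 S) (by simp [hg]) (by simp [hg])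
  have hm1 : m ≫ pullback.fst f f = pullback.fst g g ≫ j := pullback.lift_fst _ _ _
  have hm2 : m ≫ pullback.snd f f = pullback.snd g g ≫ j := pullback.lift_snd _ _ _
  haveI : Mono m := by
    constructor
    intro T a b hab
    apply pullback.hom_ext
    · rw [← cancel_mono j, Category.assoc, Category.assoc, ← hm1, ← Category.assoc,
        ← Category.assoc, hab]
    · rw [← cancel_mono j, Category.assoc, Category.assoc, ← hm2, ← Category.assoc,
        ← Category.assoc, hab]
  have hΔ : pullback.diagonal g ≫ m = j ≫ pullback.diagonal f := by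
    apply pullback.hom_ext
    · rw [Category.assoc, hm1, ← Category.assoc, pullback.diagonal_fst, Category.assoc,
        pullback.diagonal_fst]
      simp
    · rw [Category.assoc, hm2, ← Category.assoc, pullback.diagonal_snd, Category.assoc,
        pullback.diagonal_snd]
      simp
  constructor
  intro t
  have h1 : pullback.fst f f (m t) = j (pullback.fst g g t) := by
    rw [← Scheme.Hom.comp_apply, hm1]; rfl
  have h2 : pullback.snd f f (m t) = j (pullback.snd g g t) := by
    rw [← Scheme.Hom.comp_apply, hm2]; rfl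
  obtain ⟨x, hx⟩ := h (m t) (h1 ▸ ⟨_, rfl⟩) (h2 ▸ ⟨_, rfl⟩)
  have e1 : pullback.fst f f (pullback.diagonal f x) = x := by
    rw [← Scheme.Hom.comp_apply, pullback.diagonal_fst]
    rfl
  have e2 : pullback.snd f f (pullback.diagonal f x) = x := by
    rw [← Scheme.Hom.comp_apply, pullback.diagonal_snd]
    rfl
  have hx1 : x = j (pullback.fst g g t) := by rw [← h1, ← hx, e1]
  have hx2 : x = j (pullback.snd g g t) := by rw [← h2, ← hx, e2]
  refine ⟨pullback.fst g g t, ?_⟩
  apply m.injective
  rw [← Scheme.Hom.comp_apply, hΔ, Scheme.Hom.comp_apply, ← hx1, hx]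


theorem main14483 (k : Type u) [Field k] (X S : Scheme.{u})
    (q : S ⟶ Spec (CommRingCat.of k)) (f : X ⟶ S)
    [LocallyOfFiniteType q] [CompactSpace S] [LocallyOfFiniteType f] [CompactSpace X]
    [IsSeparated f]
    (Y : Set X) (hYc : IsClosed Y) (hYi : IsIrreducible Y)
    (hWI : topologicalKrullDim (offDiag f Y Y) + topologicalKrullDim S ≤
      topologicalKrullDim Y + topologicalKrullDim Y)
    (hYS : topologicalKrullDim Y < topologicalKrullDim S) :
    ∃ V : Set X, IsOpen V ∧ (V ∩ Y).Nonempty ∧ Set.InjOn f.base (V ∩ Y) ∧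
      ∀ x ∈ V ∩ Y, (f.residueFieldMap x).hom.IsPurelyInseparable := by
  haveI : IsLocallyNoetherian S := LocallyOfFiniteType.isLocallyNoetherian q
  haveI : IsLocallyNoetherian X := LocallyOfFiniteType.isLocallyNoetherian f
  haveI : IsNoetherian X := {}
  haveI : CompactSpace ↥(pullback f f) :=
    QuasiCompact.compactSpace_of_compactSpace (pullback.fst f f)
  obtain ⟨η, hη⟩ := QuasiSober.sober hYi hYc
  have hηcl : closure ({η} : Set X) = Y := hη
  have hηY : η ∈ Y := hηcl ▸ subset_closure rfl
  obtain ⟨E', jE, hjE, hjEr⟩ := offDiag_immersion f Y Y hYc hYc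
  have hElc : IsLocallyClosed (offDiag f Y Y) := hjEr ▸ jE.isLocallyClosed_range
  set A : Set X := (pullback.fst f f) '' (offDiag f Y Y) with hA
  have hAY : A ⊆ Y := by
    rintro _ ⟨p, hp, rfl⟩
    exact hp.1
  have hηA : η ∉ closure A := by
    intro hmem
    have hFin : FinLC A := finLC_image (pullback.fst f f) (offDiag f Y Y) hElc
    have := mem_of_finLC A hFin η (hηcl ▸ hAY) hmem
    obtain ⟨p, hp, hpη⟩ := this
    have hle := key_le k q f Y Y hYc hYc η hηcl hWI p hp hpη
    exact absurd hle (not_le.mpr hYS)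
  obtain ⟨Y'', j, hj, hjr⟩ := exists_immersion_of_inter Y (closure A)ᶜ hYc isClosed_closure.isOpen_compl
  haveI : Mono j := inferInstance
  have hsurj : Surjective (pullback.diagonal (j ≫ f)) := by
    apply surjective_diagonal_of_forall f j
    intro p hp1 hp2
    by_contra hpΔ
    rw [hjr] at hp1 hp2
    have : pullback.fst f f p ∈ A := ⟨p, ⟨hp1.1, hp2.1, hpΔ⟩, rfl⟩
    exact hp1.2 (subset_closure this)
  have h3 := ((tfae_universallyInjective (j ≫ f)).out 3 2).mp hsurj
  refine ⟨(closure A)ᶜ, isClosed_closure.isOpen_compl, ⟨η, hηA, hηY⟩, ?_, ?_⟩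
  · intro x₁ hx₁ x₂ hx₂ hfx
    have h1 : x₁ ∈ Set.range j := by rw [hjr]; exact ⟨hx₁.2, hx₁.1⟩
    have h2 : x₂ ∈ Set.range j := by rw [hjr]; exact ⟨hx₂.2, hx₂.1⟩
    obtain ⟨y₁, rfl⟩ := h1
    obtain ⟨y₂, rfl⟩ := h2
    have : (j ≫ f) y₁ = (j ≫ f) y₂ := hfx
    rw [h3.1 this]
  · intro x hx
    have h1 : x ∈ Set.range j := by rw [hjr]; exact ⟨hx.2, hx.1⟩
    obtain ⟨y, rfl⟩ := h1
    have h4 := h3.2 y
    rw [Scheme.residueFieldMap_comp] at h4
    exact isPurelyInseparable_of_comp (f.residueFieldMap (j y)).hom (j.residueFieldMap y).hom h4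

end Groth.Agent.Lib.WellIntH8
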