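import Mathlib

set_option autoImplicit false

universe v u

open CategoryTheory CategoryTheory.Limits

namespace Groth.Agent.Lib.WellIntH8

section
variable {C : Type u} [Category.{v} C] [HasPullbacks C] {X S S' : C} (f : X ⟶ S) (g : S' ⟶ S)

/-- the comparison map `X' ×_{S'} X' → X ×_S X` for `X' = X ×_S S'`. -/
noncomputable def diagMap :
    pullback (pullback.snd f g) (pullback.snd f g) ⟶ pullback f f :=
  pullback.map (pullback.snd f g) (pullback.snd f g) f f (pullback.fst f g) (pullback.fst f g) g
    pullback.condition.symm pullback.condition.symm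

@[reassoc (attr := simp)]
theorem diagMap_fst : diagMap f g ≫ pullback.fst f f =
    pullback.fst (pullback.snd f g) (pullback.snd f g) ≫ pullback.fst f g :=
  pullback.lift_fst _ _ _

@[reassoc (attr := simp)]
theorem diagMap_snd : diagMap f g ≫ pullback.snd f f =
    pullback.snd (pullback.snd f g) (pullback.snd f g) ≫ pullback.fst f g :=
  pullback.lift_snd _ _ _

theorem isPullback_diagonal :
    IsPullback (pullback.diagonal (pullback.snd f g)) (pullback.fst f g) (diagMap f g)
      (pullback.diagonal f) := by
  refine ⟨⟨?_⟩, ⟨PullbackCone.IsLimit.mk _ ?_ ?_ ?_ ?_⟩⟩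
  · apply pullback.hom_ext <;> simp
  · intro c
    exact c.fst ≫ pullback.fst _ _
  · intro c
    have h1 : c.fst ≫ pullback.fst _ _ ≫ pullback.fst f g = c.snd := by
      have := c.condition =≫ pullback.fst f f
      simpa using this
    have h2 : c.fst ≫ pullback.snd _ _ ≫ pullback.fst f g = c.snd := by
      have := c.condition =≫ pullback.snd f f
      simpa using this
    have h3 : c.fst ≫ pullback.fst (pullback.snd f g) (pullback.snd f g) =
        c.fst ≫ pullback.snd (pullback.snd f g) (pullback.snd f g) := by
      apply pullback.hom_ext
      · rw [Category.assoc, Category.assoc, h1, h2]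
      · rw [Category.assoc, Category.assoc, pullback.condition]
    apply pullback.hom_ext
    · simp
    · simp [h3]
  · intro c
    have := c.condition =≫ pullback.fst f f
    simpa using this
  · intro c m hfst hsnd
    rw [← hfst]
    simp

theorem isPullback_diagMap :
    IsPullback (diagMap f g)
      (pullback.fst (pullback.snd f g) (pullback.snd f g) ≫ pullback.snd f g)
      (pullback.fst f f ≫ f) g := by
  refine ⟨⟨?_⟩, ⟨PullbackCone.IsLimit.mk _ ?_ ?_ ?_ ?_⟩⟩
  · simp [pullback.condition]
  · intro c
    refine pullback.lift (pullback.lift (c.fst ≫ pullback.fst f f) c.snd ?_)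
      (pullback.lift (c.fst ≫ pullback.snd f f) c.snd ?_) ?_
    · rw [Category.assoc, c.condition]
    · rw [Category.assoc, ← pullback.condition, c.condition]
    · rw [pullback.lift_snd, pullback.lift_snd]
  · intro c
    apply pullback.hom_ext
    · rw [Category.assoc, diagMap_fst, pullback.lift_fst_assoc, pullback.lift_fst]
    · rw [Category.assoc, diagMap_snd, pullback.lift_snd_assoc, pullback.lift_fst]
  · intro c
    rw [pullback.lift_fst_assoc, pullback.lift_snd]
  · intro c m hfst hsnd
    apply pullback.hom_ext
    · apply pullback.hom_ext
      · rw [pullback.lift_fst, pullback.lift_fst, ← hfst, Category.assoc, Category.assoc,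
          diagMap_fst]
      · rw [pullback.lift_fst, pullback.lift_snd, ← hsnd, Category.assoc]
    · apply pullback.hom_ext
      · rw [pullback.lift_snd, pullback.lift_fst, ← hfst, Category.assoc, Category.assoc,
          diagMap_snd]
      · rw [pullback.lift_snd, pullback.lift_snd, ← hsnd, Category.assoc]
        exact congrArg (m ≫ ·)
          (pullback.condition (f := pullback.snd f g) (g := pullback.snd f g)).symm

end

end Groth.Agent.Lib.WellIntH8
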