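import Mathlib
import Groth.Agent.Lib.WellInt4_helper8
import Groth.Agent.Lib.WellInt5_helper8

set_option autoImplicit false

universe u

open CategoryTheory CategoryTheory.Limits AlgebraicGeometry TopologicalSpace Topology

namespace Groth.Agent.Lib.WellIntH8

open Groth.Agent.Lib.RegMeetH8

theorem offDiag_baseChange {X S S' : Scheme.{u}} (f : X ⟶ S) (g : S' ⟶ S) (Y Z : Set X) :
    offDiag (pullback.snd f g) ((pullback.fst f g) ⁻¹' Y) ((pullback.fst f g) ⁻¹' Z) =
      (diagMap f g) ⁻¹' (offDiag f Y Z) := by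
  ext p'
  have h1 : pullback.fst f f (diagMap f g p') =
      pullback.fst f g (pullback.fst (pullback.snd f g) (pullback.snd f g) p') := by
    rw [← Scheme.Hom.comp_apply, diagMap_fst]; rfl
  have h2 : pullback.snd f f (diagMap f g p') =
      pullback.fst f g (pullback.snd (pullback.snd f g) (pullback.snd f g) p') := by
    rw [← Scheme.Hom.comp_apply, diagMap_snd]; rfl
  have h3 : p' ∈ Set.range (pullback.diagonal (pullback.snd f g)) ↔
      diagMap f g p' ∈ Set.range (pullback.diagonal f) := by
    constructor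
    · rintro ⟨x', rfl⟩
      refine ⟨pullback.fst f g x', ?_⟩
      rw [← Scheme.Hom.comp_apply, ← (isPullback_diagonal f g).w]
      rfl
    · rintro ⟨x, hx⟩
      obtain ⟨x', hx', -⟩ := Scheme.exists_preimage_of_isPullback (isPullback_diagonal f g) p' x
        hx.symm
      exact ⟨x', hx'⟩
  simp only [Set.mem_ofPred_eq, Set.mem_preimage, h1, h2, h3]

theorem wb_add_le_add_iff_right (a b : WithBot ℕ∞) (n : ℕ) :
    a + (n : WithBot ℕ∞) ≤ b + (n : WithBot ℕ∞) ↔ a ≤ b := by
  constructor
  · intro h
    rw [add_comm a, add_comm b] at h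
    exact wb_le_of_add_le_add_left n a b h
  · intro h
    exact add_le_add h le_rfl

theorem main14485 (k : Type u) [Field k] (X S S' : Scheme.{u})
    (q : S ⟶ Spec (CommRingCat.of k)) (f : X ⟶ S) (g : S' ⟶ S)
    [LocallyOfFiniteType q] [LocallyOfFiniteType f] [IsSeparated f]
    [LocallyOfFiniteType g]
    (d : ℕ) (hd : ∀ s : S, topologicalKrullDim (g.fiber s) = d)
    (Y Z : Set X) (hYc : IsClosed Y) (hZc : IsClosed Z) :
    (topologicalKrullDim (offDiag f Y Z) + topologicalKrullDim S ≤
        topologicalKrullDim Y + topologicalKrullDim Z) ↔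
      (topologicalKrullDim (offDiag (pullback.snd f g) ((pullback.fst f g) ⁻¹' Y)
          ((pullback.fst f g) ⁻¹' Z)) + topologicalKrullDim S' ≤
        topologicalKrullDim ((pullback.fst f g) ⁻¹' Y) +
          topologicalKrullDim ((pullback.fst f g) ⁻¹' Z)) := by
  have hS' := topDim_eq_add_of_fibers k q g d hd
  have hfst : ∀ x : X, topologicalKrullDim ↥((pullback.fst f g).fiber x) = d := by
    intro x
    rw [topDim_fiber_of_isPullback (IsPullback.of_hasPullback f g).flip x, hd]
  have hY' := topDim_preimage_eq k (f ≫ q) (pullback.fst f g) d hfst Y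
    (exists_immersion_of_isClosed Y hYc)
  have hZ' := topDim_preimage_eq k (f ≫ q) (pullback.fst f g) d hfst Z
    (exists_immersion_of_isClosed Z hZc)
  have hsq := isPullback_diagMap f g
  haveI : LocallyOfFiniteType (diagMap f g) :=
    MorphismProperty.of_isPullback hsq.flip inferInstance
  have hu : ∀ p : ↥(pullback f f), topologicalKrullDim ↥((diagMap f g).fiber p) = d := by
    intro p
    rw [topDim_fiber_of_isPullback hsq.flip p, hd]
  have hE' := topDim_preimage_eq k (pullback.fst f f ≫ f ≫ q) (diagMap f g) d hu (offDiag f Y Z)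
    (offDiag_immersion f Y Z hYc hZc)
  rw [offDiag_baseChange f g Y Z, hE', hS', hY', hZ']
  have e1 : ∀ a b : WithBot ℕ∞, a + (d : WithBot ℕ∞) + (b + (d : WithBot ℕ∞)) =
      a + b + ((d + d : ℕ) : WithBot ℕ∞) := by
    intro a b
    push_cast
    abel
  rw [e1, e1, wb_add_le_add_iff_right]

end Groth.Agent.Lib.WellIntH8
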