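import Mathlib

/-!
# Paths of simple roots in the Weyl group (S2957)

Words in simple reflections, the deletion lemma, the rank-two descent and the chain decomposition
of a Weyl group element mapping a simple root to a simple root.
-/

namespace Groth.Agent.Lib.WeylPathH1

open RootPairing Set Function

variable {ι R M N : Type*} [CommRing R] [CharZero R] [IsDomain R] [AddCommGroup M] [Module R M]
    [AddCommGroup N] [Module R N] {P : RootPairing ι R M N}

local notation "σ" => RootPairing.Equiv.reflection P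

theorem sr_mul_self (i : ι) : σ i * σ i = 1 := by
  have h : (σ i)⁻¹ * σ i = 1 := inv_mul_cancel _
  rwa [RootPairing.Equiv.reflection_inv] at h

theorem sr_smul (i j : ι) : (σ i) • j = P.reflectionPerm i j := rfl

theorem sr_conj (i j : ι) : σ (P.reflectionPerm j i) = σ j * σ i * σ j := by
  apply RootPairing.Equiv.weightHom_injective P
  rw [map_mul, map_mul]
  simp only [RootPairing.Equiv.weightHom_apply, RootPairing.Equiv.reflection_weightEquiv]
  exact P.reflection_reflectionPerm

theorem sr_neg (i : ι) : σ (P.reflectionPerm i i) = σ i := by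
  rw [sr_conj, sr_mul_self, one_mul]

theorem root_smul (g : P.Aut) (i : ι) : P.root (g • i) = g • P.root i :=
  RootPairing.Equiv.root_indexEquiv_eq_smul P i g

theorem smul_neg_idx (g : P.Aut) (i : ι) :
    g • (P.reflectionPerm i i) = P.reflectionPerm (g • i) (g • i) := by
  apply P.root.injective
  rw [root_smul, root_reflectionPerm, root_reflectionPerm, reflection_apply_self,
    reflection_apply_self, smul_neg, root_smul]

theorem isPos_neg_iff (b : P.Base) (i : ι) : b.IsPos (P.reflectionPerm i i) ↔ ¬ b.IsPos i :=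
  RootPairing.Base.IsPos.neg_iff_not b i

theorem closure_le_weyl (α γ : ι) :
    Subgroup.closure {σ α, σ γ} ≤ P.weylGroup := by
  rw [Subgroup.closure_le]
  rintro x (rfl | rfl)
  · exact P.reflection_mem_weylGroup α
  · exact P.reflection_mem_weylGroup γ

/-- Product of simple reflections along a word. -/
noncomputable def prodS (P : RootPairing ι R M N) (L : List ι) : P.Aut :=
  (L.map (RootPairing.Equiv.reflection P)).prod

theorem prodS_nil : prodS P [] = 1 := rfl

theorem prodS_cons (i : ι) (L : List ι) : prodS P (i :: L) = σ i * prodS P L := by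
  simp [prodS]

theorem prodS_append (L L' : List ι) : prodS P (L ++ L') = prodS P L * prodS P L' := by
  simp [prodS]

theorem prodS_singleton (i : ι) : prodS P [i] = σ i := by
  simp [prodS]

theorem prodS_concat (L : List ι) (γ : ι) : prodS P (L.concat γ) = prodS P L * σ γ := by
  rw [List.concat_eq_append, prodS_append, prodS_singleton]

theorem conj_word (L : List ι) (γ : ι) :
    prodS P L * σ γ = σ (prodS P L • γ) * prodS P L := by
  induction L with
  | nil => simp [prodS_nil]
  | cons i L ih =>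
    rw [prodS_cons, mul_smul, sr_smul, sr_conj, mul_assoc (σ i) (prodS P L) (σ γ), ih]
    simp only [mul_assoc]
    rw [← mul_assoc (σ i) (σ i) (prodS P L), sr_mul_self, one_mul]

/-- `v` stabilizes the lattice `ℤ α + ℤ γ`. -/
theorem lattice_stable (α γ : ι) [P.IsCrystallographic] (v : P.Aut)
    (hv : v ∈ Subgroup.closure {σ α, σ γ}) :
    ∀ a c : ℤ, ∃ a' c' : ℤ,
      v • (a • P.root α + c • P.root γ) = a' • P.root α + c' • P.root γ := by
  have gen : ∀ x : P.Aut, x ∈ ({σ α, σ γ} : Set P.Aut) → ∀ a c : ℤ, ∃ a' c' : ℤ,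
      x • (a • P.root α + c • P.root γ) = a' • P.root α + c' • P.root γ := by
    rintro x (rfl | rfl) a c
    · refine ⟨-a - c * P.pairingIn ℤ γ α, c, ?_⟩
      rw [RootPairing.Equiv.reflection_smul, map_add, map_zsmul, map_zsmul,
        P.reflection_apply_self, P.reflection_apply_root' ℤ]
      module
    · refine ⟨a, -c - a * P.pairingIn ℤ α γ, ?_⟩
      rw [RootPairing.Equiv.reflection_smul, map_add, map_zsmul, map_zsmul,
        P.reflection_apply_self, P.reflection_apply_root' ℤ]
      module
  induction hv using Subgroup.closure_induction'' with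
  | mem x hx => exact gen x hx
  | inv_mem x hx =>
    have : x⁻¹ = x := by
      rcases hx with rfl | rfl <;> exact RootPairing.Equiv.reflection_inv P _
    rw [this]; exact gen x hx
  | one => intro a c; exact ⟨a, c, one_smul _ _⟩
  | mul x y hx hy ihx ihy =>
    intro a c
    obtain ⟨a1, c1, h1⟩ := ihy a c
    obtain ⟨a2, c2, h2⟩ := ihx a1 c1
    exact ⟨a2, c2, by rw [mul_smul, h1, h2]⟩

section Base

variable [Finite ι] [P.IsCrystallographic] [P.IsReduced] (b : P.Base)

/-- Deletion lemma. -/
theorem deletion (L : List ι) (hL : ∀ i ∈ L, i ∈ b.support) (γ : ι) (hγ : γ ∈ b.support)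
    (hneg : ¬ b.IsPos (prodS P L • γ)) :
    ∃ L' : List ι, (∀ i ∈ L', i ∈ b.support) ∧ L'.length + 1 = L.length ∧
      prodS P L' * σ γ = prodS P L := by
  induction L with
  | nil =>
    exact absurd (by rw [prodS_nil, one_smul]; exact RootPairing.Base.isPos_of_mem_support hγ) hneg
  | cons i L₁ ih =>
    have hi : i ∈ b.support := hL i List.mem_cons_self
    have hL₁ : ∀ j ∈ L₁, j ∈ b.support := fun j hj => hL j (List.mem_cons_of_mem _ hj)
    by_cases h1 : b.IsPos (prodS P L₁ • γ)
    · have hki : prodS P L₁ • γ = i := by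
        by_contra hne
        apply hneg
        rw [prodS_cons, mul_smul]
        exact h1.reflectionPerm hi hne
      refine ⟨L₁, hL₁, by simp, ?_⟩
      rw [prodS_cons, ← hki]
      exact conj_word L₁ γ
    · obtain ⟨L', hL', hlen, hprod⟩ := ih hL₁ h1
      refine ⟨i :: L', ?_, by simp [hlen], ?_⟩
      · intro j hj
        rcases List.mem_cons.mp hj with rfl | hj
        exacts [hi, hL' j hj]
      · rw [prodS_cons, prodS_cons, mul_assoc, hprod]

/-- A word mapping all simple roots to positive roots is trivial. -/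
theorem eq_one_of_pos : ∀ (n : ℕ) (L : List ι), L.length = n → (∀ i ∈ L, i ∈ b.support) →
    (∀ γ ∈ b.support, b.IsPos (prodS P L • γ)) → prodS P L = 1 := by
  intro n
  induction n using Nat.strong_induction_on with
  | _ n ih =>
    intro L hlen hL hpos
    rcases List.eq_nil_or_concat L with rfl | ⟨L₀, γ, rfl⟩
    · rfl
    · have hγ : γ ∈ b.support := hL γ (by simp)
      have hL₀ : ∀ i ∈ L₀, i ∈ b.support := fun i hi => hL i (by simp [hi])
      have hw : prodS P (L₀.concat γ) = prodS P L₀ * σ γ := prodS_concat L₀ γ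
      have hneg : ¬ b.IsPos (prodS P L₀ • γ) := by
        have h1 := hpos γ hγ
        rw [hw, mul_smul, sr_smul, smul_neg_idx, isPos_neg_iff] at h1
        exact h1
      obtain ⟨L', hL', hlen', hprod⟩ := deletion b L₀ hL₀ γ hγ hneg
      have hLw : prodS P L' = prodS P (L₀.concat γ) := by
        rw [hw, ← hprod, mul_assoc, sr_mul_self, mul_one]
      rw [← hLw]
      refine ih L'.length ?_ L' rfl hL' ?_
      · simp at hlen; omega
      · intro δ hδ; rw [hLw]; exact hpos δ hδ

theorem exists_word_refl (i : ι) :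
    ∃ L : List ι, (∀ j ∈ L, j ∈ b.support) ∧ prodS P L = σ i := by
  refine RootPairing.Base.induction_reflect (b := b) i
    (p := fun i => ∃ L : List ι, (∀ j ∈ L, j ∈ b.support) ∧ prodS P L = σ i) ?_ ?_ ?_
  · rintro i ⟨L, hL, h⟩
    exact ⟨L, hL, by rw [h, sr_neg]⟩
  · intro i hi
    exact ⟨[i], by simpa using hi, prodS_singleton i⟩
  · rintro i j ⟨L, hL, h⟩ hj
    refine ⟨j :: (L ++ [j]), ?_, ?_⟩
    · intro k hk
      simp only [List.mem_cons, List.mem_append, List.not_mem_nil, or_false] at hk
      rcases hk with rfl | hk | rfl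
      exacts [hj, hL k hk, hj]
    · rw [prodS_cons, prodS_append, prodS_singleton, h, sr_conj, mul_assoc]

theorem exists_word (w : P.Aut) (hw : w ∈ P.weylGroup) :
    ∃ L : List ι, (∀ j ∈ L, j ∈ b.support) ∧ prodS P L = w := by
  induction hw using RootPairing.weylGroup.induction with
  | mem i => exact exists_word_refl b i
  | one => exact ⟨[], by simp, rfl⟩
  | mul x y hx hy ihx ihy =>
    obtain ⟨L1, h1, e1⟩ := ihx
    obtain ⟨L2, h2, e2⟩ := ihy
    refine ⟨L1 ++ L2, ?_, by rw [prodS_append, e1, e2]⟩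
    intro j hj
    rcases List.mem_append.mp hj with h | h
    exacts [h1 j h, h2 j h]

/-- Rank-two descent. -/
theorem descent (α γ : ι) (hα : α ∈ b.support) (hγ : γ ∈ b.support) :
    ∀ (n : ℕ) (L : List ι), L.length = n → (∀ i ∈ L, i ∈ b.support) →
    ∃ (L' : List ι) (v : P.Aut), (∀ i ∈ L', i ∈ b.support) ∧
      v ∈ Subgroup.closure {σ α, σ γ} ∧ prodS P L = prodS P L' * v ∧
      b.IsPos (prodS P L' • α) ∧ b.IsPos (prodS P L' • γ) ∧ L'.length ≤ L.length ∧
      ((¬ b.IsPos (prodS P L • α) ∨ ¬ b.IsPos (prodS P L • γ)) → L'.length < L.length) := by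
  intro n
  induction n using Nat.strong_induction_on with
  | _ n ih =>
    intro L hlen hL
    by_cases hpos : b.IsPos (prodS P L • α) ∧ b.IsPos (prodS P L • γ)
    · exact ⟨L, 1, hL, one_mem _, by rw [mul_one], hpos.1, hpos.2, le_refl _,
        fun h => by tauto⟩
    · obtain ⟨δ, hδmem, hδ, hδneg⟩ : ∃ δ, δ ∈ b.support ∧
          σ δ ∈ Subgroup.closure {σ α, σ γ} ∧ ¬ b.IsPos (prodS P L • δ) := by
        by_cases h1 : b.IsPos (prodS P L • α)
        · exact ⟨γ, hγ, Subgroup.subset_closure (by simp), fun h2 => hpos ⟨h1, h2⟩⟩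
        · exact ⟨α, hα, Subgroup.subset_closure (by simp), h1⟩
      obtain ⟨L₁, hL₁, hlen₁, hprod₁⟩ := deletion b L hL δ hδmem hδneg
      obtain ⟨L', v₁, hL', hv₁, hprod', hpα, hpγ, hle, -⟩ :=
        ih L₁.length (by omega) L₁ rfl hL₁
      refine ⟨L', v₁ * σ δ, hL', mul_mem hv₁ hδ, ?_, hpα, hpγ, by omega, fun _ => by omega⟩
      rw [← hprod₁, hprod', mul_assoc]

omit [Finite ι] [P.IsCrystallographic] [P.IsReduced] [IsDomain R] in
theorem sign_lemma (α γ : ι) (hα : α ∈ b.support) (hγ : γ ∈ b.support) (hne : α ≠ γ) (δ : ι)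
    (a c : ℤ) (h : P.root δ = a • P.root α + c • P.root γ) :
    (0 ≤ a ∧ 0 ≤ c) ∨ (a ≤ 0 ∧ c ≤ 0) := by
  classical
  let f : ι → ℤ := fun j => if j = α then a else if j = γ then c else 0
  have hfα : f α = a := if_pos rfl
  have hfγ : f γ = c := by
    show (if γ = α then a else if γ = γ then c else 0) = c
    rw [if_neg (Ne.symm hne), if_pos rfl]
  have hsum : ∑ j ∈ b.support, f j • P.root j = a • P.root α + c • P.root γ := by
    have hterm : ∀ j ∈ b.support, f j • P.root j =
        (if j = α then a • P.root α else 0) + (if j = γ then c • P.root γ else 0) := by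
      intro j _
      by_cases h1 : j = α
      · rw [h1, hfα, if_pos rfl, if_neg hne, add_zero]
      · by_cases h2 : j = γ
        · rw [h2, hfγ, if_neg (Ne.symm hne), if_pos rfl, zero_add]
        · simp only [f]
          rw [if_neg h1, if_neg h2, if_neg h1, if_neg h2, zero_smul, add_zero]
    rw [Finset.sum_congr rfl hterm, Finset.sum_add_distrib]
    simp [hα, hγ]
  have hsupp : f.support ⊆ b.support := by
    intro j hj
    by_cases h1 : j = α
    · rw [h1]; exact hα
    · by_cases h2 : j = γ
      · rw [h2]; exact hγ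
      · exact absurd (by simp only [f]; rw [if_neg h1, if_neg h2]) (Function.mem_support.mp hj)
  have hmain := b.pos_or_neg_of_sum_smul_root_mem f
    (by rw [hsum, ← h]; exact Set.mem_range_self δ) hsupp
  rcases hmain with h1 | h1
  · left
    exact ⟨by rw [← hfα]; exact h1.le α, by rw [← hfγ]; exact h1.le γ⟩
  · right
    exact ⟨by rw [← hfα]; exact h1.le α, by rw [← hfγ]; exact h1.le γ⟩

omit [Finite ι] [P.IsCrystallographic] [P.IsReduced] [IsDomain R] in
theorem height_comb {i j k : ι} {a c : ℤ} (hk : P.root k = a • P.root i + c • P.root j) :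
    b.height k = a * b.height i + c * b.height j := by
  obtain ⟨f, -, -, hf⟩ := b.exists_root_eq_sum_int i
  obtain ⟨g, -, -, hg⟩ := b.exists_root_eq_sum_int j
  have hfg : P.root k = ∑ l ∈ b.support, (a • f + c • g) l • P.root l := by
    simp_rw [Pi.add_apply, Pi.smul_apply, add_smul, smul_assoc, Finset.sum_add_distrib,
      ← Finset.smul_sum, ← hf, ← hg, hk]
  simp_rw [RootPairing.Base.height_eq_sum hf, RootPairing.Base.height_eq_sum hg,
    RootPairing.Base.height_eq_sum hfg, Pi.add_apply, Pi.smul_apply,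
    Finset.sum_add_distrib, Finset.mul_sum, smul_eq_mul]

theorem smul_mem_pair (α γ β : ι) (hα : α ∈ b.support) (hγ : γ ∈ b.support)
    (hβ : β ∈ b.support) (hne : α ≠ γ) (v w' : P.Aut)
    (hv : v ∈ Subgroup.closure {σ α, σ γ})
    (hpα : b.IsPos (w' • α)) (hpγ : b.IsPos (w' • γ)) (hβ' : w' • (v • α) = β) :
    v • α = α ∨ v • α = γ := by
  obtain ⟨a, c, hac⟩ := lattice_stable α γ v hv 1 0
  have h1 : P.root (v • α) = a • P.root α + c • P.root γ := by
    rw [root_smul, ← hac, one_smul, zero_smul, add_zero]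
  have hsign := sign_lemma b α γ hα hγ hne (v • α) a c h1
  have h2 : P.root β = a • P.root (w' • α) + c • P.root (w' • γ) := by
    rw [← hβ', root_smul, h1, smul_add, root_smul, root_smul, smul_comm w' a, smul_comm w' c]
  have h3 := height_comb b h2
  rw [RootPairing.Base.height_one_of_mem_support hβ] at h3
  have h4 : 0 < b.height (w' • α) := hpα
  have h5 : 0 < b.height (w' • γ) := hpγ
  have hcases : (a = 1 ∧ c = 0) ∨ (a = 0 ∧ c = 1) := by
    obtain ⟨X, hX⟩ : ∃ X, X = a * b.height (w' • α) := ⟨_, rfl⟩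
    obtain ⟨Y, hY⟩ : ∃ Y, Y = c * b.height (w' • γ) := ⟨_, rfl⟩
    rw [← hX, ← hY] at h3
    rcases hsign with ⟨ha, hc⟩ | ⟨ha, hc⟩
    · have hX1 : a ≤ X := by rw [hX]; nlinarith
      have hY1 : c ≤ Y := by rw [hY]; nlinarith
      have hX0 : a = 0 → X = 0 := fun h => by rw [hX, h, zero_mul]
      have hY0 : c = 0 → Y = 0 := fun h => by rw [hY, h, zero_mul]
      rcases (by omega : a = 0 ∨ 1 ≤ a) with ha0 | ha1
      · have := hX0 ha0
        right; exact ⟨ha0, by nlinarith⟩
      · rcases (by omega : c = 0 ∨ 1 ≤ c) with hc0 | hc1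
        · have := hY0 hc0
          left; exact ⟨by nlinarith, hc0⟩
        · exfalso; omega
    · exfalso
      have hX1 : X ≤ 0 := by rw [hX]; nlinarith
      have hY1 : Y ≤ 0 := by rw [hY]; nlinarith
      omega
  rcases hcases with ⟨rfl, rfl⟩ | ⟨rfl, rfl⟩
  · left; apply P.root.injective; rw [h1, one_smul, zero_smul, add_zero]
  · right; apply P.root.injective; rw [h1, one_smul, zero_smul, zero_add]

/-- The chain predicate of S2957. -/
def Chain (b : P.Base) (w : P.Aut) (α β : ι) : Prop :=
  ∃ (m : ℕ) (a : Fin (m + 1) → ι) (ws : Fin m → P.Aut),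
      (∀ i, a i ∈ b.support) ∧ a 0 = α ∧ a (Fin.last m) = β ∧
      (∀ i, ws i ∈ P.weylGroup) ∧
      w = (List.ofFn fun i : Fin m => ws (Fin.rev i)).prod ∧
      (∀ i : Fin m, ws i • a (Fin.castSucc i) = a (Fin.succ i)) ∧
      ∀ i : Fin m, ∃ γ ∈ b.support,
        ws i ∈ Subgroup.closure {σ (a (Fin.castSucc i)), σ γ} ∧
        (a (Fin.castSucc i) ≠ a (Fin.succ i) → γ = a (Fin.succ i))

theorem chain_one (α : ι) (hα : α ∈ b.support) : Chain b (1 : P.Aut) α α := by
  refine ⟨0, fun _ => α, fun i => i.elim0, fun _ => hα, rfl, rfl, fun i => i.elim0, ?_,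
    fun i => i.elim0, fun i => i.elim0⟩
  simp

theorem chain_cons (α γ β : ι) (hα : α ∈ b.support) (hγ : γ ∈ b.support) (v w' : P.Aut)
    (hv : v ∈ Subgroup.closure {σ α, σ γ}) (hδ : α ≠ v • α → γ = v • α)
    (hc : Chain b w' (v • α) β) : Chain b (w' * v) α β := by
  obtain ⟨m, a, ws, ha, ha0, hal, hws, hw, hstep, hγs⟩ := hc
  refine ⟨m + 1, Fin.cons α a, Fin.cons v ws, ?_, ?_, ?_, ?_, ?_, ?_, ?_⟩
  · intro i
    refine Fin.cases ?_ (fun j => ?_) i
    · rw [Fin.cons_zero]; exact hα
    · rw [Fin.cons_succ]; exact ha j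
  · rw [Fin.cons_zero]
  · rw [← Fin.succ_last, Fin.cons_succ]; exact hal
  · intro i
    refine Fin.cases ?_ (fun j => ?_) i
    · rw [Fin.cons_zero]; exact closure_le_weyl α γ hv
    · rw [Fin.cons_succ]; exact hws j
  · rw [hw, List.ofFn_succ', List.concat_eq_append, List.prod_append, List.prod_singleton]
    simp only [Fin.rev_castSucc, Fin.rev_last, Fin.cons_succ, Fin.cons_zero]
  · intro i
    refine Fin.cases ?_ (fun j => ?_) i
    · rw [Fin.cons_zero, Fin.castSucc_zero, Fin.cons_zero, Fin.cons_succ, ha0]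
    · rw [Fin.cons_succ, ← Fin.succ_castSucc, Fin.cons_succ, Fin.cons_succ]; exact hstep j
  · intro i
    refine Fin.cases ?_ (fun j => ?_) i
    · refine ⟨γ, hγ, ?_, ?_⟩
      · rw [Fin.cons_zero, Fin.castSucc_zero, Fin.cons_zero]; exact hv
      · rw [Fin.castSucc_zero, Fin.cons_zero, Fin.cons_succ, ha0]; exact hδ
    · obtain ⟨γ', hγ', h1, h2⟩ := hγs j
      refine ⟨γ', hγ', ?_, ?_⟩
      · rw [Fin.cons_succ, ← Fin.succ_castSucc, Fin.cons_succ]; exact h1
      · rw [← Fin.succ_castSucc, Fin.cons_succ, Fin.cons_succ]; exact h2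

theorem main_aux : ∀ (n : ℕ) (L : List ι), L.length = n → (∀ i ∈ L, i ∈ b.support) →
    ∀ α β, α ∈ b.support → β ∈ b.support → prodS P L • α = β →
      Chain b (prodS P L) α β := by
  intro n
  induction n using Nat.strong_induction_on with
  | _ n ih =>
    intro L hlen hL α β hα hβ hwα
    by_cases hall : ∀ γ ∈ b.support, b.IsPos (prodS P L • γ)
    · have h1 := eq_one_of_pos b L.length L rfl hL hall
      rw [h1] at hwα ⊢
      rw [one_smul] at hwα
      rw [← hwα]
      exact chain_one b α hα
    · push Not at hall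
      obtain ⟨γ, hγ, hγneg⟩ := hall
      have hne : α ≠ γ := by
        rintro rfl
        apply hγneg
        rw [hwα]
        exact RootPairing.Base.isPos_of_mem_support hβ
      obtain ⟨L', v, hL', hv, hprod, hpα, hpγ, -, hlt⟩ :=
        descent b α γ hα hγ L.length L rfl hL
      have hlt' := hlt (Or.inr hγneg)
      have hβ' : prodS P L' • (v • α) = β := by
        rw [← mul_smul, ← hprod]; exact hwα
      have hmem := smul_mem_pair b α γ β hα hγ hβ hne v (prodS P L') hv hpα hpγ hβ'
      have hδmem : v • α ∈ b.support := by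
        rcases hmem with h | h <;> rw [h] <;> assumption
      have hc := ih L'.length (by omega) L' rfl hL' (v • α) β hδmem hβ hβ'
      rw [hprod]
      refine chain_cons b α γ β hα hγ v (prodS P L') hv ?_ hc
      intro h
      rcases hmem with h' | h'
      · exact absurd h'.symm h
      · exact h'.symm

theorem main2957 (α β : ι) (hα : α ∈ b.support) (hβ : β ∈ b.support) (w : P.Aut)
    (hw : w ∈ P.weylGroup) (hwα : w • α = β) :
    ∃ (m : ℕ) (a : Fin (m + 1) → ι) (ws : Fin m → P.Aut),
      (∀ i, a i ∈ b.support) ∧ a 0 = α ∧ a (Fin.last m) = β ∧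
      (∀ i, ws i ∈ P.weylGroup) ∧
      w = (List.ofFn fun i : Fin m => ws (Fin.rev i)).prod ∧
      (∀ i : Fin m, ws i • a (Fin.castSucc i) = a (Fin.succ i)) ∧
      ∀ i : Fin m, ∃ γ ∈ b.support,
        ws i ∈ Subgroup.closure {Equiv.reflection P (a (Fin.castSucc i)), Equiv.reflection P γ} ∧
        (a (Fin.castSucc i) ≠ a (Fin.succ i) → γ = a (Fin.succ i)) := by
  obtain ⟨L, hL, rfl⟩ := exists_word b w hw
  exact main_aux b L.length L rfl hL α β hα hβ hwα

end Base

end Groth.Agent.Lib.WeylPathH1
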