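import Mathlib

/-!
# A functor preserving pullbacks preserves nonempty finite wide pullbacks

Via `Over.post F`, which then preserves binary products and the terminal object of the slice,
hence finite products, which are the wide pullbacks of the base category.
-/

set_option autoImplicit false
universe w v₁ v₂ u₁ u₂
open CategoryTheory Limits

namespace Groth.Agent.Lib.WidePB

variable {A : Type u₁} [Category.{v₁} A] {B : Type u₂} [Category.{v₂} B]

/-- the comparison `wideCospan ⋙ F ≅ wideCospan` -/
def wideCospanCompIso (F : A ⥤ B) {ι : Type w} (Z : A) (X : ι → A) (f : ∀ j, X j ⟶ Z) :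
    WidePullbackShape.wideCospan Z X f ⋙ F ≅
      WidePullbackShape.wideCospan (F.obj Z) (fun j => F.obj (X j)) (fun j => F.map (f j)) :=
  NatIso.ofComponents (fun j => eqToIso (by cases j <;> rfl)) (by
    intro j j' g
    obtain - | j := g
    · have h : (WidePullbackShape.Hom.id j : j ⟶ j) = 𝟙 j := rfl
      rw [h, CategoryTheory.Functor.map_id, CategoryTheory.Functor.map_id, Category.id_comp, Category.comp_id]
    · show F.map (f j) ≫ 𝟙 _ = 𝟙 _ ≫ F.map (f j)
      rw [Category.comp_id, Category.id_comp])

instance overPost_preservesTerminal (F : A ⥤ B) (Z : A) :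
    PreservesLimitsOfShape (Discrete PEmpty.{1}) (Over.post F (X := Z)) := by
  haveI : PreservesLimit (Functor.empty.{0} (Over Z)) (Over.post F (X := Z)) := by
    apply preservesLimit_of_preserves_limit_cone (Over.mkIdTerminal (X := Z))
    refine (isLimitMapConeEmptyConeEquiv _ _).symm ?_
    exact IsTerminal.ofIso (Over.mkIdTerminal (X := F.obj Z))
      (Over.isoMk (Iso.refl _) (by
        show 𝟙 _ ≫ F.map (𝟙 Z) = 𝟙 _
        rw [CategoryTheory.Functor.map_id, Category.id_comp]))
  exact preservesLimitsOfShape_pempty_of_preservesTerminal _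

instance overPost_preservesFiniteProducts (F : A ⥤ B) [PreservesLimitsOfShape WalkingCospan F]
    (Z : A) [HasFiniteProducts (Over Z)] :
    PreservesFiniteProducts (Over.post F (X := Z)) := by
  haveI : PreservesLimitsOfShape (WidePullbackShape WalkingPair) F :=
    inferInstanceAs (PreservesLimitsOfShape WalkingCospan F)
  haveI : PreservesLimitsOfShape (Discrete WalkingPair) (Over.post F (X := Z)) := inferInstance
  exact PreservesFiniteProducts.of_preserves_binary_and_terminal _

open Over.ConstructProducts in
/-- a functor preserving pullbacks preserves the wide pullback of a finite nonempty family -/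
theorem preservesLimit_wideCospan (F : A ⥤ B) [PreservesLimitsOfShape WalkingCospan F]
    [∀ Z : A, HasFiniteProducts (Over Z)] {ι : Type} [Finite ι]
    (Z : A) (X : ι → A) (f : ∀ j, X j ⟶ Z) :
    PreservesLimit (WidePullbackShape.wideCospan Z X f) F := by
  let G : Discrete ι ⥤ Over Z := Discrete.functor (fun j => Over.mk (f j))
  haveI : HasLimit G := inferInstance
  let c' : Cone G := limit.cone G
  have hc' : IsLimit c' := limit.isLimit G
  let c : Cone (widePullbackDiagramOfDiagramOver Z G) := (conesEquiv Z G).inverse.obj c'
  have hc : IsLimit c := IsLimit.ofConeEquiv (conesEquiv Z G)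
    (hc'.ofIsoLimit ((conesEquiv Z G).counitIso.app c').symm)
  haveI : PreservesLimit G (Over.post F (X := Z)) := inferInstance
  have hc'' : IsLimit ((Over.post F (X := Z)).mapCone c') := isLimitOfPreserves _ hc'
  let G' : Discrete ι ⥤ Over (F.obj Z) := G ⋙ Over.post F
  let d : Cone (widePullbackDiagramOfDiagramOver (F.obj Z) G') :=
    (conesEquiv (F.obj Z) G').inverse.obj ((Over.post F (X := Z)).mapCone c')
  have hd : IsLimit d := IsLimit.ofConeEquiv (conesEquiv (F.obj Z) G')
    (hc''.ofIsoLimit ((conesEquiv (F.obj Z) G').counitIso.app _).symm)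
  apply preservesLimit_of_preserves_limit_cone hc
  refine (IsLimit.postcomposeHomEquiv (wideCospanCompIso F Z X f) _).1 ?_
  refine hd.ofIsoLimit (Cone.ext (Iso.refl _) ?_)
  rintro (_ | j)
  · exact (Category.comp_id (F.map c'.pt.hom)).symm.trans
      (Category.id_comp (F.map c'.pt.hom ≫ 𝟙 _)).symm
  · exact (Category.comp_id (F.map (c'.π.app ⟨j⟩).left)).symm.trans
      (Category.id_comp (F.map (c'.π.app ⟨j⟩).left ≫ 𝟙 _)).symm

/-- a functor preserving pullbacks preserves finite wide pullbacks -/
theorem preservesLimitsOfShape_widePullbackShape (F : A ⥤ B)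
    [PreservesLimitsOfShape WalkingCospan F]
    [∀ Z : A, HasFiniteProducts (Over Z)] (ι : Type) [Finite ι] :
    PreservesLimitsOfShape (WidePullbackShape ι) F where
  preservesLimit {K} := by
    haveI := preservesLimit_wideCospan F (K.obj none) (fun j => K.obj (some j))
      (fun j => K.map (WidePullbackShape.Hom.term j))
    exact preservesLimit_of_iso_diagram F (WidePullbackShape.diagramIsoWideCospan K).symm

end Groth.Agent.Lib.WidePB
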