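import Mathlib
import Groth.Agent.Lib.LubinTate_helper1

set_option autoImplicit false
set_option maxHeartbeats 1000000

universe u

open MvPolynomial

namespace Groth.Agent.Lib.WittAddNilH1

open Groth.Agent.Lib.LubinTateH1

section LD
variable {σ : Type*}

/-- all monomials of degree `< j` have zero coefficient. -/
def LD (j : ℕ) (g : MvPolynomial σ ℤ) : Prop :=
  ∀ m : σ →₀ ℕ, m.degree < j → coeff m g = 0

lemma ld_iff (j : ℕ) (g : MvPolynomial σ ℤ) : LD j g ↔ Van j (g : MvPowerSeries σ ℤ) := by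
  unfold LD Van
  simp only [MvPolynomial.coeff_coe]

lemma ld_zero (g : MvPolynomial σ ℤ) : LD 0 g := fun m hm => absurd hm (Nat.not_lt_zero _)

lemma LD.add {j : ℕ} {g g' : MvPolynomial σ ℤ} (h1 : LD j g) (h2 : LD j g') : LD j (g + g') :=
  fun m hm => by rw [coeff_add, h1 m hm, h2 m hm, add_zero]

lemma LD.sub {j : ℕ} {g g' : MvPolynomial σ ℤ} (h1 : LD j g) (h2 : LD j g') : LD j (g - g') :=
  fun m hm => by rw [coeff_sub, h1 m hm, h2 m hm, sub_zero]

lemma LD.mul {a b : ℕ} {g g' : MvPolynomial σ ℤ} (h1 : LD a g) (h2 : LD b g') :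
    LD (a + b) (g * g') := by
  rw [ld_iff] at *
  rw [MvPolynomial.coe_mul]
  exact h1.mul h2

lemma LD.mul_left {a : ℕ} {g : MvPolynomial σ ℤ} (g' : MvPolynomial σ ℤ) (h : LD a g) :
    LD a (g' * g) := by
  have := (ld_zero g').mul h
  rwa [zero_add] at this

lemma LD.mono {a b : ℕ} {g : MvPolynomial σ ℤ} (h : LD a g) (hba : b ≤ a) : LD b g :=
  fun m hm => h m (lt_of_lt_of_le hm hba)

lemma ld_of_constantCoeff {g : MvPolynomial σ ℤ} (h : constantCoeff g = 0) : LD 1 g := by
  intro m hm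
  have : m = 0 := (Finsupp.degree_eq_zero_iff m).1 (by omega)
  subst this
  rw [← constantCoeff_eq]; exact h

lemma ld_X (i : σ) : LD 1 (X i : MvPolynomial σ ℤ) :=
  ld_of_constantCoeff (by simp)

lemma LD.pow {g : MvPolynomial σ ℤ} (h : LD 1 g) (k : ℕ) : LD k (g ^ k) := by
  induction k with
  | zero => exact ld_zero _
  | succ k ih => rw [pow_succ]; exact ih.mul h

lemma LD.sum {ι : Type*} {j : ℕ} (s : Finset ι) (F : ι → MvPolynomial σ ℤ)
    (h : ∀ i ∈ s, LD j (F i)) : LD j (∑ i ∈ s, F i) := fun m hm => by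
  rw [coeff_sum]; exact Finset.sum_eq_zero fun i hi => h i hi m hm

lemma ld_of_C_mul {j : ℕ} {g : MvPolynomial σ ℤ} (c : ℤ) (hc : c ≠ 0) (h : LD j (C c * g)) :
    LD j g := fun m hm => by
  have := h m hm
  rw [coeff_C_mul] at this
  exact (mul_eq_zero.mp this).resolve_left hc

end LD

section Eval
variable {S : Type*} [CommRing S] {σ : Type*}

lemma exists_dvd_all (hS : ∀ x y : S, x ∣ y ∨ y ∣ x) (x : σ → S) (s : Finset σ)
    (hs : s.Nonempty) : ∃ i₀ ∈ s, ∀ i ∈ s, x i₀ ∣ x i := by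
  classical
  induction hs using Finset.Nonempty.cons_induction with
  | singleton a =>
    exact ⟨a, Finset.mem_singleton_self a, fun i hi => by
      rw [Finset.mem_singleton] at hi; rw [hi]⟩
  | cons a s ha hs ih =>
    obtain ⟨i₀, hi₀, h⟩ := ih
    rcases hS (x a) (x i₀) with hd | hd
    · refine ⟨a, Finset.mem_cons_self a s, fun i hi => ?_⟩
      rcases Finset.mem_cons.mp hi with rfl | hi
      · exact dvd_refl _
      · exact hd.trans (h i hi)
    · refine ⟨i₀, Finset.mem_cons.mpr (Or.inr hi₀), fun i hi => ?_⟩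
      rcases Finset.mem_cons.mp hi with rfl | hi
      · exact hd
      · exact h i hi

lemma prod_eq_zero_of_degree (hS : ∀ x y : S, x ∣ y ∨ y ∣ x) (p : ℕ) (hp : 0 < p) (x : σ → S)
    (hx : ∀ i, x i ^ p = 0) (d : σ →₀ ℕ) (hd : p ≤ d.degree) :
    ∏ i ∈ d.support, x i ^ d i = 0 := by
  have hne : d.support.Nonempty := by
    rw [Finset.nonempty_iff_ne_empty]
    intro h
    rw [Finsupp.degree_apply, h, Finset.sum_empty] at hd
    omega
  obtain ⟨i₀, -, h⟩ := exists_dvd_all hS x d.support hne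
  have h1 : ∏ i ∈ d.support, x i₀ ^ d i ∣ ∏ i ∈ d.support, x i ^ d i :=
    Finset.prod_dvd_prod_of_dvd _ _ fun i hi => pow_dvd_pow_of_dvd (h i hi) _
  rw [Finset.prod_pow_eq_pow_sum, ← Finsupp.degree_apply] at h1
  have h2 : x i₀ ^ d.degree = 0 := by
    rw [← Nat.sub_add_cancel hd, pow_add, hx, mul_zero]
  rw [h2] at h1
  exact zero_dvd_iff.mp h1

lemma aeval_eq_zero_of_ld (hS : ∀ x y : S, x ∣ y ∨ y ∣ x) (p : ℕ) (hp : 0 < p)
    (g : MvPolynomial σ ℤ) (hg : LD p g) (x : σ → S) (hx : ∀ i, x i ^ p = 0) :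
    aeval x g = 0 := by
  rw [aeval_def, eval₂_eq]
  refine Finset.sum_eq_zero fun d hd => ?_
  have hdeg : p ≤ d.degree := by
    by_contra h
    exact (mem_support_iff.mp hd) (hg d (not_le.mp h))
  rw [prod_eq_zero_of_degree hS p hp x hx d hdeg, mul_zero]

end Eval

section Witt
variable (p : ℕ) [hp : Fact p.Prime]

lemma wittAdd_ld (n : ℕ) :
    LD p (wittStructureInt p (X 0 + X 1 : MvPolynomial (Fin 2) ℤ) n - X (0, n) - X (1, n)) := by
  have key := wittStructureInt_prop p (X 0 + X 1 : MvPolynomial (Fin 2) ℤ) n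
  rw [wittPolynomial_eq_sum_C_mul_X_pow] at key
  simp only [map_sum, map_add, map_mul, map_pow, bind₁_X_right, rename_X, bind₁_C_right,
    rename_C] at key
  rw [Finset.sum_range_succ, Finset.sum_range_succ, Finset.sum_range_succ, Nat.sub_self,
    pow_zero, pow_one, pow_one, pow_one] at key
  have e : C ((p : ℤ) ^ n) *
      (wittStructureInt p (X 0 + X 1 : MvPolynomial (Fin 2) ℤ) n - X (0, n) - X (1, n))
      = ∑ i ∈ Finset.range n, C ((p : ℤ) ^ i) * (X (0, i) ^ p ^ (n - i) + X (1, i) ^ p ^ (n - i)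
          - wittStructureInt p (X 0 + X 1 : MvPolynomial (Fin 2) ℤ) i ^ p ^ (n - i)) := by
    simp only [mul_sub, mul_add, Finset.sum_sub_distrib, Finset.sum_add_distrib, map_pow]
    linear_combination key
  refine ld_of_C_mul ((p : ℤ) ^ n) (pow_ne_zero _ (by exact_mod_cast hp.1.ne_zero)) ?_
  rw [e]
  refine LD.sum _ _ fun i hi => LD.mul_left _ ?_
  have hi' : i < n := Finset.mem_range.mp hi
  have hpow : p ≤ p ^ (n - i) := Nat.le_self_pow (by omega) p
  refine LD.sub (LD.add ?_ ?_) ?_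
  · exact (LD.pow (ld_X _) _).mono hpow
  · exact (LD.pow (ld_X _) _).mono hpow
  · exact (LD.pow (ld_of_constantCoeff (WittVector.constantCoeff_wittAdd p i)) _).mono hpow

theorem main13160 (R : Type u) [CommRing R] [IsDomain R]
    [IsDiscreteValuationRing R] (lam : R) (hlam : lam ∣ (p : R))
    (a b : WittVector p (R ⧸ Ideal.span {lam})) (ha : WittVector.frobenius a = 0)
    (hb : WittVector.frobenius b = 0) (n : ℕ) : (a + b).coeff n = a.coeff n + b.coeff n := by
  by_cases hsub : Subsingleton (R ⧸ Ideal.span {lam})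
  · exact Subsingleton.elim _ _
  have hnt : Nontrivial (R ⧸ Ideal.span {lam}) := not_subsingleton_iff_nontrivial.mp hsub
  have hp0 : ((p : ℕ) : R ⧸ Ideal.span {lam}) = 0 := by
    have : ((p : ℕ) : R ⧸ Ideal.span {lam}) = Ideal.Quotient.mk _ ((p : ℕ) : R) := by
      rw [map_natCast]
    rw [this, Ideal.Quotient.eq_zero_iff_mem, Ideal.mem_span_singleton]
    exact hlam
  have : CharP (R ⧸ Ideal.span {lam}) p := by
    have h1 : ringChar (R ⧸ Ideal.span {lam}) ∣ p := ringChar.dvd hp0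
    rcases (Nat.dvd_prime hp.1).mp h1 with h | h
    · exact absurd h (CharP.ringChar_ne_one)
    · rw [← h]; exact ringChar.charP _
  have ha' : ∀ i, a.coeff i ^ p = 0 := fun i => by
    rw [← WittVector.coeff_frobenius_charP, ha, WittVector.zero_coeff]
  have hb' : ∀ i, b.coeff i ^ p = 0 := fun i => by
    rw [← WittVector.coeff_frobenius_charP, hb, WittVector.zero_coeff]
  have chain : ∀ x y : R ⧸ Ideal.span {lam}, x ∣ y ∨ y ∣ x := by
    intro x y
    obtain ⟨x', rfl⟩ := Ideal.Quotient.mk_surjective x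
    obtain ⟨y', rfl⟩ := Ideal.Quotient.mk_surjective y
    rcases ValuationRing.dvd_total x' y' with h | h
    · exact Or.inl (map_dvd _ h)
    · exact Or.inr (map_dvd _ h)
  rw [WittVector.add_coeff]
  unfold WittVector.peval
  have hg := wittAdd_ld p n
  have e : WittVector.wittAdd p n = X (0, n) + X (1, n) +
      (wittStructureInt p (X 0 + X 1 : MvPolynomial (Fin 2) ℤ) n - X (0, n) - X (1, n)) := by
    unfold WittVector.wittAdd; ring
  have hx : ∀ i : Fin 2 × ℕ, Function.uncurry ![a.coeff, b.coeff] i ^ p = 0 := by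
    rintro ⟨j, i⟩
    fin_cases j
    · exact ha' i
    · exact hb' i
  rw [e, map_add, map_add, aeval_X, aeval_X,
    aeval_eq_zero_of_ld chain p hp.1.pos _ hg _ hx, add_zero]
  rfl

end Witt

end Groth.Agent.Lib.WittAddNilH1
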