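import Mathlib

set_option autoImplicit false
set_option maxHeartbeats 1000000

namespace Groth.Agent.Lib.WittCycH1

open WittVector Function

section basic

variable {p : ℕ} [hp : Fact p.Prime] {R : Type*} [CommRing R]

/-- iterated Verschiebung as an additive hom -/
noncomputable def VN (N : ℕ) : WittVector p R →+ WittVector p R where
  toFun := (⇑(verschiebung : WittVector p R →+ WittVector p R))^[N]
  map_zero' := iterate_map_zero _ _
  map_add' := iterate_map_add _ _

lemma VN_apply (N : ℕ) (x : WittVector p R) :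
    VN N x = (⇑(verschiebung : WittVector p R →+ WittVector p R))^[N] x := rfl

lemma VN_succ (N : ℕ) (x : WittVector p R) : VN (N + 1) x = VN N (verschiebung x) := by
  rw [VN_apply, VN_apply, iterate_succ_apply]

lemma VN_succ' (N : ℕ) (x : WittVector p R) : VN (N + 1) x = verschiebung (VN N x) := by
  rw [VN_apply, VN_apply, iterate_succ_apply']

lemma VN_zero (x : WittVector p R) : VN 0 x = x := rfl

lemma map_VN {S : Type*} [CommRing S] (f : R →+* S) (N : ℕ) (x : WittVector p R) :
    WittVector.map f (VN N x) = VN N (WittVector.map f x) := by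
  induction N with
  | zero => rfl
  | succ N ih => rw [VN_succ', VN_succ', map_verschiebung, ih]

/-- agreement of the first `N` coefficients -/
def Agree (N : ℕ) (x y : WittVector p R) : Prop := ∀ k < N, x.coeff k = y.coeff k

lemma agree_iff_truncate (N : ℕ) (x y : WittVector p R) :
    Agree N x y ↔ truncate N x = truncate N y := by
  constructor
  · intro h
    refine TruncatedWittVector.ext fun i => ?_
    rw [coeff_truncate, coeff_truncate]
    exact h i i.2
  · intro h k hk
    have := congrArg (TruncatedWittVector.coeff ⟨k, hk⟩) h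
    rwa [coeff_truncate, coeff_truncate] at this

lemma Agree.refl (N : ℕ) (x : WittVector p R) : Agree N x x := fun _ _ => rfl

lemma Agree.symm {N : ℕ} {x y : WittVector p R} (h : Agree N x y) : Agree N y x :=
  fun k hk => (h k hk).symm

lemma Agree.trans {N : ℕ} {x y z : WittVector p R} (h : Agree N x y) (h' : Agree N y z) :
    Agree N x z := fun k hk => (h k hk).trans (h' k hk)

lemma Agree.add {N : ℕ} {x y x' y' : WittVector p R} (h : Agree N x y) (h' : Agree N x' y') :
    Agree N (x + x') (y + y') := by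
  rw [agree_iff_truncate] at *
  rw [map_add, map_add, h, h']

lemma Agree.mul {N : ℕ} {x y x' y' : WittVector p R} (h : Agree N x y) (h' : Agree N x' y') :
    Agree N (x * x') (y * y') := by
  rw [agree_iff_truncate] at *
  rw [map_mul, map_mul, h, h']

lemma Agree.sum {N : ℕ} {ι : Type*} (s : Finset ι) (f g : ι → WittVector p R)
    (h : ∀ i ∈ s, Agree N (f i) (g i)) : Agree N (∑ i ∈ s, f i) (∑ i ∈ s, g i) := by
  rw [agree_iff_truncate, map_sum, map_sum]
  exact Finset.sum_congr rfl fun i hi => (agree_iff_truncate _ _ _).mp (h i hi)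

lemma Agree.map {S : Type*} [CommRing S] (g : R →+* S) {N : ℕ} {x y : WittVector p R}
    (h : Agree N x y) : Agree N (WittVector.map g x) (WittVector.map g y) := by
  intro k hk
  rw [map_coeff, map_coeff, h k hk]

lemma eq_of_agree {x y : WittVector p R} (h : ∀ N, Agree N x y) : x = y :=
  WittVector.ext fun n => h (n + 1) n (Nat.lt_succ_self n)

lemma agree_VN_zero (N : ℕ) (w : WittVector p R) : Agree N (VN N w) 0 := fun k hk => by
  rw [VN_apply, iterate_verschiebung_coeff_eq_zero _ hk, zero_coeff]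

lemma agree_mul_VN_zero (N : ℕ) (u w : WittVector p R) : Agree N (u * VN N w) 0 := by
  rw [mul_comm, VN_apply, iterate_verschiebung_mul_left]
  exact agree_VN_zero N _

lemma coeff_VN_teich (i : ℕ) (c : R) (k : ℕ) :
    (VN i (teichmuller p c)).coeff k = if k = i then c else 0 := by
  rw [VN_apply]
  rcases lt_or_ge k i with h | h
  · rw [iterate_verschiebung_coeff_eq_zero _ h, if_neg (ne_of_lt h)]
  · obtain ⟨j, rfl⟩ := Nat.exists_eq_add_of_le' h
    rw [iterate_verschiebung_coeff]
    rcases Nat.eq_zero_or_pos j with rfl | hj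
    · simp [teichmuller_coeff_zero]
    · rw [teichmuller_coeff_pos p c j hj, if_neg (by omega)]

lemma agree_expansion (N : ℕ) (x : WittVector p R) :
    Agree N x (∑ i ∈ Finset.range N, VN i (teichmuller p (x.coeff i))) := by
  intro k hk
  rw [sum_coeff_eq_coeff_sum]
  · rw [Finset.sum_eq_single k]
    · rw [coeff_VN_teich, if_pos rfl]
    · intro i _ hik
      rw [coeff_VN_teich, if_neg (Ne.symm hik)]
    · intro h; exact absurd (Finset.mem_range.mpr hk) h
  · intro n
    refine (Set.subsingleton_coe _).mpr ?_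
    rintro a ⟨_, ha⟩ b ⟨_, hb⟩
    rw [coeff_VN_teich] at ha hb
    have h1 : n = a := by
      by_contra h; exact ha (if_neg h)
    have h2 : n = b := by
      by_contra h; exact hb (if_neg h)
    rw [← h1, ← h2]

lemma iterate_frobenius_teichmuller [CharP R p] (i : ℕ) (b : R) :
    (⇑(frobenius : WittVector p R →+* WittVector p R))^[i] (teichmuller p b) =
      teichmuller p (b ^ p ^ i) := by
  ext k
  rw [iterate_frobenius_coeff]
  rcases Nat.eq_zero_or_pos k with rfl | hk
  · rw [teichmuller_coeff_zero, teichmuller_coeff_zero]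
  · rw [teichmuller_coeff_pos p _ k hk, teichmuller_coeff_pos p _ k hk, zero_pow]
    exact pow_ne_zero _ hp.out.ne_zero

lemma teich_mul_VN [CharP R p] (i : ℕ) (g h c z : R) (hz : g ^ p ^ i * h = c * z ^ p ^ i) :
    teichmuller p g * VN i (teichmuller p h) = VN i (teichmuller p c) * teichmuller p z := by
  rw [mul_comm, VN_apply, VN_apply, iterate_verschiebung_mul_left, iterate_verschiebung_mul_left,
    iterate_frobenius_teichmuller, iterate_frobenius_teichmuller, ← map_mul, ← map_mul,
    mul_comm h, hz]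

end basic

section numbers

/-- exponent bookkeeping -/
def rr (e i : ℕ) : ℕ := e * (i / e + 1) - i

lemma rr_le (e i : ℕ) (he : 0 < e) : rr e i ≤ e := by
  have h1 := Nat.div_add_mod i e
  have h2 := Nat.mod_lt i he
  unfold rr
  rw [Nat.mul_add, Nat.mul_one]
  omega

lemma rr_add (e i : ℕ) (he : 0 < e) : rr e i + i = e * (i / e + 1) := by
  have h1 := Nat.div_add_mod i e
  have h2 := Nat.mod_lt i he
  unfold rr
  rw [Nat.mul_add, Nat.mul_one]
  omega

lemma exists_pow_eq {p : ℕ} [hp : Fact p.Prime] (ℓ : ℕ) (hℓ : 0 < ℓ) (hpℓ : ¬ p ∣ ℓ) (m : ℕ) :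
    ∃ v, (p ^ ℓ.totient) ^ m = 1 + ℓ * v := by
  have hcop : Nat.Coprime p ℓ := (Nat.Prime.coprime_iff_not_dvd hp.out).mpr hpℓ
  have h1 : (p ^ ℓ.totient) ^ m ≡ 1 [MOD ℓ] := by
    have := (Nat.ModEq.pow_totient hcop).pow m
    simpa using this
  have hpos : 1 ≤ (p ^ ℓ.totient) ^ m := Nat.one_le_pow _ _ (pow_pos hp.out.pos _)
  obtain ⟨v, hv⟩ := (Nat.modEq_iff_dvd' hpos).mp h1.symm
  exact ⟨v, by omega⟩

end numbers

section main

variable {p : ℕ} [hp : Fact p.Prime] {A B : Type*} [CommRing A] [CommRing B]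
  [IsDomain A] [IsDomain B] [Algebra A B] [CharP A p] [CharP B p]

theorem lemmaT (ℓ : ℕ) (hℓ : 0 < ℓ) (hpℓ : ¬ p ∣ ℓ)
    (y : Finset B) (hspan : Submodule.span A (y : Set B) = ⊤)
    (αA : B → A) (hα : ∀ b ∈ y, algebraMap A B (αA b) = b ^ ℓ) (η : WittVector p B) :
    ∃ x : B → ℕ → WittVector p A,
      teichmuller p (algebraMap A B ((∏ b ∈ y, αA b) ^ (p ^ ℓ.totient))) * η =
        ∑ b ∈ y, ∑ r ∈ Finset.range (ℓ.totient + 1),
          WittVector.map (algebraMap A B) (x b r) * teichmuller p (b ^ p ^ r) := by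
  classical
  set f := algebraMap A B with hf
  set e := ℓ.totient with he
  have he0 : 0 < e := Nat.totient_pos.mpr hℓ
  set P : A := ∏ b ∈ y, αA b with hP
  have hv : ∀ m, ∃ v, (p ^ e) ^ m = 1 + ℓ * v := fun m => exists_pow_eq (p := p) ℓ hℓ hpℓ m
  choose v hv using hv
  -- coefficient functions
  have hcf : ∀ t : B, ∃ g : B → A, ∑ b ∈ y, f (g b) * b = t := by
    intro t
    have ht : t ∈ Submodule.span A (y : Set B) := by rw [hspan]; exact Submodule.mem_top
    obtain ⟨g, -, hg⟩ := Submodule.mem_span_finset.mp ht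
    refine ⟨g, ?_⟩
    rw [← hg]
    exact Finset.sum_congr rfl fun b _ => (Algebra.smul_def _ _).symm
  choose cf hcf using hcf
  obtain ⟨G, hG⟩ : ∃ G : WittVector p B → WittVector p B,
      ∀ η', G η' = ∑ b ∈ y, teichmuller p (f (cf (η'.coeff 0) b) * b) := ⟨_, fun _ => rfl⟩
  have hG0 : ∀ η', (G η').coeff 0 = η'.coeff 0 := by
    intro η'
    have h1 : (G η').coeff 0 = WittVector.constantCoeff (G η') := rfl
    rw [h1, hG, map_sum]
    simp only [WittVector.constantCoeff_apply, teichmuller_coeff_zero]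
    exact hcf _
  obtain ⟨rem, hrem'⟩ : ∃ rem : WittVector p B → WittVector p B,
      ∀ η', rem η' = (η' - G η').shift 1 := ⟨_, fun _ => rfl⟩
  have hrem : ∀ η', η' = G η' + verschiebung (rem η') := by
    intro η'
    have h0 : ∀ i < 1, (η' - G η').coeff i = 0 := by
      intro i hi
      obtain rfl : i = 0 := by omega
      have h1 : (η' - G η').coeff 0 = WittVector.constantCoeff (η' - G η') := rfl
      rw [h1, map_sub]
      show η'.coeff 0 - (G η').coeff 0 = 0
      rw [hG0, sub_self]
    have h2 := eq_iterate_verschiebung h0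
    rw [iterate_one] at h2
    rw [hrem', ← h2]
    abel
  obtain ⟨Rs, hRs0, hRs⟩ : ∃ Rs : ℕ → WittVector p B, Rs 0 = η ∧ ∀ i, Rs (i + 1) = rem (Rs i) :=
    ⟨fun i => rem^[i] η, rfl, fun i => iterate_succ_apply' rem i η⟩
  have hdec : ∀ N, η = ∑ i ∈ Finset.range N, VN i (G (Rs i)) + VN N (Rs N) := by
    intro N
    induction N with
    | zero => simp [VN_zero, hRs0]
    | succ N ih =>
      have h2 : VN N (G (Rs N)) + VN (N + 1) (Rs (N + 1)) = VN N (Rs N) := by
        rw [hRs, VN_succ, ← map_add, ← hrem]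
      rw [Finset.sum_range_succ, add_assoc, h2]
      exact ih
  have hv_le : ∀ i, v (i / e + 1) ≤ p ^ e * p ^ i := by
    intro i
    have h1 := hv (i / e + 1)
    have h2 : (p ^ e) ^ (i / e + 1) = p ^ (rr e i + i) := by rw [← pow_mul, rr_add e i he0]
    have h3 : p ^ (rr e i + i) ≤ p ^ (e + i) :=
      Nat.pow_le_pow_right hp.out.pos (by have := rr_le e i he0; omega)
    have h4 : v (i / e + 1) ≤ ℓ * v (i / e + 1) := Nat.le_mul_of_pos_left _ hℓ
    rw [← pow_add]
    omega
  have hd : ∀ (i : ℕ) (b : B), b ∈ y →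
      ∃ d : A, (P ^ p ^ e) ^ p ^ i = αA b ^ v (i / e + 1) * d := by
    intro i b hb
    have h1 : αA b ∣ P := Finset.dvd_prod_of_mem αA hb
    have h2 : αA b ^ v (i / e + 1) ∣ P ^ (p ^ e * p ^ i) :=
      (pow_dvd_pow_of_dvd h1 _).trans (pow_dvd_pow P (hv_le i))
    rw [← pow_mul]
    exact h2
  choose! d hd using hd
  have hkey : ∀ (i : ℕ) (b : B), b ∈ y → ∀ c : A,
      teichmuller p (f (P ^ p ^ e)) * VN i (teichmuller p (f c * b)) =
        WittVector.map f (VN i (teichmuller p (d i b * c))) * teichmuller p (b ^ p ^ rr e i) := by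
    intro i b hb c
    rw [map_VN, map_teichmuller]
    apply teich_mul_VN
    have hz : (b ^ p ^ rr e i) ^ p ^ i = b * f (αA b) ^ v (i / e + 1) := by
      rw [← pow_mul, ← pow_add, rr_add e i he0, pow_mul, hv, pow_add, pow_one, pow_mul, hα b hb]
    rw [hz, ← map_pow, hd i b hb, map_mul, map_mul, map_pow]
    ring
  obtain ⟨x, hx⟩ : ∃ x : B → ℕ → WittVector p A, ∀ b r' i,
      (x b r').coeff i = if rr e i = r' then d i b * cf ((Rs i).coeff 0) b else 0 :=
    ⟨fun b r' => WittVector.mk p fun i =>
      if rr e i = r' then d i b * cf ((Rs i).coeff 0) b else 0, fun _ _ _ => rfl⟩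
  refine ⟨x, eq_of_agree fun N => ?_⟩
  have hη := hdec N
  have hL : Agree N (teichmuller p (f (P ^ p ^ e)) * η)
      (∑ i ∈ Finset.range N, ∑ b ∈ y,
        WittVector.map f (VN i (teichmuller p (d i b * cf ((Rs i).coeff 0) b))) *
          teichmuller p (b ^ p ^ rr e i)) := by
    have h1 : teichmuller p (f (P ^ p ^ e)) * η =
        (∑ i ∈ Finset.range N, ∑ b ∈ y,
          WittVector.map f (VN i (teichmuller p (d i b * cf ((Rs i).coeff 0) b))) *
            teichmuller p (b ^ p ^ rr e i)) +
          teichmuller p (f (P ^ p ^ e)) * VN N (Rs N) := by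
      conv_lhs => rw [hη]
      rw [mul_add, Finset.mul_sum]
      congr 1
      refine Finset.sum_congr rfl fun i _ => ?_
      rw [hG, map_sum, Finset.mul_sum]
      exact Finset.sum_congr rfl fun b hb => hkey i b hb _
    rw [h1]
    have := (Agree.refl N (∑ i ∈ Finset.range N, ∑ b ∈ y,
          WittVector.map f (VN i (teichmuller p (d i b * cf ((Rs i).coeff 0) b))) *
            teichmuller p (b ^ p ^ rr e i))).add
      (agree_mul_VN_zero N (teichmuller p (f (P ^ p ^ e))) (Rs N))
    rwa [add_zero] at this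
  have hR : Agree N
      (∑ b ∈ y, ∑ r' ∈ Finset.range (e + 1),
        WittVector.map f (x b r') * teichmuller p (b ^ p ^ r'))
      (∑ b ∈ y, ∑ r' ∈ Finset.range (e + 1),
        WittVector.map f (∑ i ∈ Finset.range N, VN i (teichmuller p ((x b r').coeff i))) *
          teichmuller p (b ^ p ^ r')) :=
    Agree.sum _ _ _ fun b _ => Agree.sum _ _ _ fun r' _ =>
      ((agree_expansion N (x b r')).map f).mul (Agree.refl N _)
  have hE : (∑ i ∈ Finset.range N, ∑ b ∈ y,
        WittVector.map f (VN i (teichmuller p (d i b * cf ((Rs i).coeff 0) b))) *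
          teichmuller p (b ^ p ^ rr e i)) =
      (∑ b ∈ y, ∑ r' ∈ Finset.range (e + 1),
        WittVector.map f (∑ i ∈ Finset.range N, VN i (teichmuller p ((x b r').coeff i))) *
          teichmuller p (b ^ p ^ r')) := by
    rw [Finset.sum_comm]
    refine Finset.sum_congr rfl fun b _ => ?_
    symm
    calc (∑ r' ∈ Finset.range (e + 1),
            WittVector.map f (∑ i ∈ Finset.range N, VN i (teichmuller p ((x b r').coeff i))) *
              teichmuller p (b ^ p ^ r'))
        = ∑ r' ∈ Finset.range (e + 1), ∑ i ∈ Finset.range N,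
            (if rr e i = r' then
              WittVector.map f (VN i (teichmuller p (d i b * cf ((Rs i).coeff 0) b))) *
                teichmuller p (b ^ p ^ r') else 0) := by
          refine Finset.sum_congr rfl fun r' _ => ?_
          rw [map_sum, Finset.sum_mul]
          refine Finset.sum_congr rfl fun i _ => ?_
          rw [hx]
          split_ifs with h
          · rfl
          · rw [teichmuller_zero, map_zero, map_zero, zero_mul]
      _ = _ := by
          rw [Finset.sum_comm]
          refine Finset.sum_congr rfl fun i _ => ?_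
          rw [Finset.sum_ite_eq,
            if_pos (Finset.mem_range.mpr (Nat.lt_succ_of_le (rr_le e i he0)))]
  rw [hE] at hL
  exact hL.trans hR.symm

universe u v

theorem main18587
    (p : ℕ) [Fact p.Prime] (ℓ n : ℕ) (hℓ : 0 < ℓ) (hpℓ : ¬ p ∣ ℓ) (hn : 0 < n)
    (A B : Type u) [CommRing A] [CommRing B] [IsDomain A] [IsDomain B] [Algebra A B]
    [CharP A p] [CharP B p] (hinj : Function.Injective (algebraMap A B))
    (y : Finset B) (hspan : Submodule.span A (y : Set B) = ⊤)
    (hpow : ∀ b ∈ y, b ^ ℓ ∈ Set.range (algebraMap A B))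
    (ζ : WittVector p B)
    (hζ : ∃ η : WittVector p B, (⇑(WittVector.verschiebung : WittVector p B →+ WittVector p B))^[n] η = ζ) :
    ∃ a : A, a ≠ 0 ∧ WittVector.teichmuller p (algebraMap A B a) * ζ ∈
      Ideal.span (Set.range (fun x : WittVector p A =>
        WittVector.map (algebraMap A B) ((⇑(WittVector.verschiebung : WittVector p A →+ WittVector p A))^[n] x))) := by
  classical
  have hp : Fact p.Prime := inferInstance
  obtain ⟨η, rfl⟩ := hζ
  set f := algebraMap A B with hf
  set e := ℓ.totient with he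
  have he0 : 0 < e := Nat.totient_pos.mpr hℓ
  obtain ⟨y', hy'⟩ : ∃ y' : Finset B, y' = y.filter (· ≠ 0) := ⟨_, rfl⟩
  have hspan' : Submodule.span A (y' : Set B) = ⊤ := by
    have : (y' : Set B) = (y : Set B) \ {0} := by
      ext x; simp [hy']
    rw [this, Submodule.span_sdiff_singleton_zero, hspan]
  have hy0 : ∀ b ∈ y', b ≠ 0 := fun b hb => by
    rw [hy'] at hb; exact (Finset.mem_filter.mp hb).2
  choose! αA hα using hpow
  have hα' : ∀ b ∈ y', f (αA b) = b ^ ℓ := fun b hb => by
    rw [hy'] at hb; exact hα b (Finset.mem_filter.mp hb).1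
  obtain ⟨P, hP⟩ : ∃ P : A, P = ∏ b ∈ y', αA b := ⟨_, rfl⟩
  have hP0 : P ≠ 0 := by
    rw [hP, Finset.prod_ne_zero_iff]
    intro b hb h0
    have := hα' b hb
    rw [h0, map_zero] at this
    exact hy0 b hb ((pow_eq_zero_iff hℓ.ne').mp this.symm)
  obtain ⟨v, hv⟩ : ∃ v, (p ^ e) ^ n = 1 + ℓ * v := exists_pow_eq (p := p) ℓ hℓ hpℓ n
  obtain ⟨K, hK⟩ : ∃ K : ℕ, K = p ^ e * v := ⟨_, rfl⟩
  obtain ⟨x, hx⟩ := lemmaT ℓ hℓ hpℓ y' hspan' αA hα' η
  rw [← hP, ← he, ← hf] at hx
  have ht : ∀ b ∈ y', ∀ r' ∈ Finset.range (e + 1),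
      ∃ t : A, P ^ K = αA b ^ (p ^ r' * v) * t := by
    intro b hb r' hr'
    have h1 : αA b ∣ P := by rw [hP]; exact Finset.dvd_prod_of_mem αA hb
    have h2 : p ^ r' * v ≤ K := by
      rw [hK]
      exact Nat.mul_le_mul_right _ (Nat.pow_le_pow_right hp.out.pos
        (by have := Finset.mem_range.mp hr'; omega))
    exact (pow_dvd_pow_of_dvd h1 _).trans (pow_dvd_pow P h2)
  choose! t ht using ht
  obtain ⟨gA, hgA⟩ : ∃ gA : A, gA = P ^ p ^ e * P ^ K := ⟨_, rfl⟩
  refine ⟨gA, by rw [hgA]; exact mul_ne_zero (pow_ne_zero _ hP0) (pow_ne_zero _ hP0), ?_⟩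
  have hmain : teichmuller p (f gA) * (⇑(verschiebung : WittVector p B →+ WittVector p B))^[n] η =
      ∑ b ∈ y', ∑ r' ∈ Finset.range (e + 1),
        WittVector.map f ((⇑(verschiebung : WittVector p A →+ WittVector p A))^[n]
          (teichmuller p (gA ^ (p ^ n - 1)) * x b r' * teichmuller p (t b r'))) *
          teichmuller p ((b ^ p ^ r') ^ p ^ ((e - 1) * n)) := by
    have hpow1 : gA ^ p ^ n = gA ^ (p ^ n - 1) * P ^ K * P ^ p ^ e := by
      have h1 : gA ^ p ^ n = gA ^ (p ^ n - 1) * gA := by
        rw [← pow_succ, Nat.sub_add_cancel (Nat.one_le_pow _ _ hp.out.pos)]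
      rw [h1, hgA]; ring
    have hT : teichmuller p ((f gA) ^ p ^ n) =
        teichmuller p (f (gA ^ (p ^ n - 1))) * teichmuller p (f (P ^ K)) *
          teichmuller p (f (P ^ p ^ e)) := by
      rw [← map_mul, ← map_mul, ← map_mul, ← map_mul, ← map_pow, hpow1]
    have hstep1 : teichmuller p (f gA) * (⇑(verschiebung : WittVector p B →+ WittVector p B))^[n] η =
        VN n (teichmuller p (f (gA ^ (p ^ n - 1))) * teichmuller p (f (P ^ K)) *
          (teichmuller p (f (P ^ p ^ e)) * η)) := by
      rw [mul_comm, VN_apply, iterate_verschiebung_mul_left, iterate_frobenius_teichmuller, hT]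
      congr 1
      ring
    have hstep2 : teichmuller p (f (gA ^ (p ^ n - 1))) * teichmuller p (f (P ^ K)) *
          (teichmuller p (f (P ^ p ^ e)) * η) =
        ∑ b ∈ y', ∑ r' ∈ Finset.range (e + 1),
          WittVector.map f (teichmuller p (gA ^ (p ^ n - 1)) * x b r' * teichmuller p (t b r')) *
            (⇑(frobenius : WittVector p B →+* WittVector p B))^[n]
              (teichmuller p ((b ^ p ^ r') ^ p ^ ((e - 1) * n))) := by
      rw [hx, Finset.mul_sum]
      refine Finset.sum_congr rfl fun b hb => ?_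
      rw [Finset.mul_sum]
      refine Finset.sum_congr rfl fun r' hr' => ?_
      rw [iterate_frobenius_teichmuller, map_mul, map_mul, map_teichmuller, map_teichmuller]
      have hw : f (P ^ K) * b ^ p ^ r' =
          f (t b r') * ((b ^ p ^ r') ^ p ^ ((e - 1) * n)) ^ p ^ n := by
        rw [ht b hb r' hr', map_mul, map_pow, hα' b hb]
        have he1 : (e - 1) * n + n = e * n := by
          have h1 : e = (e - 1) + 1 := by omega
          conv_rhs => rw [h1]
          ring
        have h5 : ((b ^ p ^ r') ^ p ^ ((e - 1) * n)) ^ p ^ n =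
            b ^ p ^ r' * (b ^ ℓ) ^ (p ^ r' * v) := by
          rw [← pow_mul (b ^ p ^ r'), ← pow_add, he1, pow_mul p, hv, pow_add, pow_one,
            ← pow_mul, ← pow_mul]
          congr 2; ring
        rw [h5]; ring
      calc teichmuller p (f (gA ^ (p ^ n - 1))) * teichmuller p (f (P ^ K)) *
            (WittVector.map f (x b r') * teichmuller p (b ^ p ^ r'))
          = teichmuller p (f (gA ^ (p ^ n - 1))) * WittVector.map f (x b r') *
              teichmuller p (f (P ^ K) * b ^ p ^ r') := by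
            rw [map_mul]; ring
        _ = _ := by rw [hw, map_mul]; ring
    rw [hstep1, hstep2, map_sum]
    refine Finset.sum_congr rfl fun b _ => ?_
    rw [map_sum]
    refine Finset.sum_congr rfl fun r' _ => ?_
    rw [VN_apply, ← iterate_verschiebung_mul_left, ← VN_apply, ← VN_apply, ← map_VN]
  rw [hmain]
  refine Ideal.sum_mem _ fun b _ => Ideal.sum_mem _ fun r' _ =>
    Ideal.mul_mem_right _ _ (Ideal.subset_span ⟨_, rfl⟩)

theorem main18588
    (p : ℕ) [Fact p.Prime] (ℓ n : ℕ) (hℓ : 0 < ℓ) (hpℓ : ¬ p ∣ ℓ) (hn : 0 < n)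
    (A B : Type u) [CommRing A] [CommRing B] [IsDomain A] [IsDomain B] [Algebra A B]
    [CharP A p] [CharP B p] (hinj : Function.Injective (algebraMap A B))
    (y : Finset B) (hspan : Submodule.span A (y : Set B) = ⊤)
    (hpow : ∀ b ∈ y, b ^ ℓ ∈ Set.range (algebraMap A B))
    (M : Type v) [AddCommGroup M] [Module (WittVector p A) M] [Module.Finite (WittVector p A) M]
    (hMn : ∀ (x : WittVector p A) (m : M),
      ((⇑(WittVector.verschiebung : WittVector p A →+ WittVector p A))^[n] x) • m = 0)
    (htf : ∀ a : A, a ≠ 0 → ∀ m : M, WittVector.teichmuller p a • m = 0 → m = 0)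
    (ψ : WittVector p B →+ M)
    (hψ : ∀ (x : WittVector p A) (w : WittVector p B),
      ψ (WittVector.map (algebraMap A B) x * w) = x • ψ w)
    (η : WittVector p B) :
    ψ ((⇑(WittVector.verschiebung : WittVector p B →+ WittVector p B))^[n] η) = 0 := by
  obtain ⟨a, ha, hmem⟩ := main18587 p ℓ n hℓ hpℓ hn A B hinj y hspan hpow _ ⟨η, rfl⟩
  have hI : ∀ w ∈ Ideal.span (Set.range (fun x : WittVector p A =>
      WittVector.map (algebraMap A B)
        ((⇑(WittVector.verschiebung : WittVector p A →+ WittVector p A))^[n] x))),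
      ∀ r : WittVector p B, ψ (r * w) = 0 := by
    intro w hw
    induction hw using Submodule.span_induction with
    | mem w hw =>
      obtain ⟨x, rfl⟩ := hw
      intro r
      rw [mul_comm, hψ, hMn]
    | zero => intro r; rw [mul_zero, map_zero]
    | add w w' _ _ h h' => intro r; rw [mul_add, map_add, h, h', add_zero]
    | smul c w _ h => intro r; rw [smul_eq_mul, ← mul_assoc]; exact h _
  have h1 := hI _ hmem 1
  rw [one_mul, ← map_teichmuller, hψ] at h1
  exact htf a ha _ h1

end main

end Groth.Agent.Lib.WittCycH1
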