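import Mathlib
import Groth.Prelude.Def_WittGrp

open scoped TensorProduct

universe u v

namespace Groth.Agent.Lib.WittEqualizer_lead

theorem main (p : ℕ) [Fact p.Prime] (n : ℕ)
    (R R' : Type u) [CommRing R] [CommRing R'] [Algebra R R'] [Module.FaithfullyFlat R R']
    [Algebra (TruncatedWittVector p n R) (TruncatedWittVector p n R')]
    (h₁ : algebraMap (TruncatedWittVector p n R) (TruncatedWittVector p n R') = WittGrp.truncMap p n (algebraMap R R'))
    [Algebra (TruncatedWittVector p n R) (TruncatedWittVector p n (TensorProduct R R' R'))]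
    (ψ₁ ψ₂ : TruncatedWittVector p n R' →ₐ[TruncatedWittVector p n R] TruncatedWittVector p n (TensorProduct R R' R'))
    (hψ₁ : (ψ₁ : TruncatedWittVector p n R' →+* TruncatedWittVector p n (TensorProduct R R' R')) =
      WittGrp.truncMap p n (Algebra.TensorProduct.includeLeftRingHom : R' →+* TensorProduct R R' R'))
    (hψ₂ : (ψ₂ : TruncatedWittVector p n R' →+* TruncatedWittVector p n (TensorProduct R R' R')) =
      WittGrp.truncMap p n ((Algebra.TensorProduct.includeRight : R' →ₐ[R] TensorProduct R R' R') : R' →+* TensorProduct R R' R'))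
    (M : Type v) [AddCommGroup M] [Module (TruncatedWittVector p n R) M] [Module.Flat (TruncatedWittVector p n R) M] :
    Function.Injective (fun m : M => m ⊗ₜ[TruncatedWittVector p n R] (1 : TruncatedWittVector p n R')) ∧
      ∀ x : M ⊗[TruncatedWittVector p n R] TruncatedWittVector p n R',
        LinearMap.lTensor M ψ₁.toLinearMap x = LinearMap.lTensor M ψ₂.toLinearMap x →
          x ∈ Set.range (fun m : M => m ⊗ₜ[TruncatedWittVector p n R] (1 : TruncatedWittVector p n R')) := by
  classical
  set f : TruncatedWittVector p n R →ₗ[TruncatedWittVector p n R] TruncatedWittVector p n R' :=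
    Algebra.linearMap _ _ with hf_def
  set g : TruncatedWittVector p n R' →ₗ[TruncatedWittVector p n R] TruncatedWittVector p n (TensorProduct R R' R') :=
    ψ₁.toLinearMap - ψ₂.toLinearMap with hg_def
  have hfx : ∀ x, f x = WittGrp.truncMap p n (algebraMap R R') x := fun x => by
    rw [hf_def, Algebra.linearMap_apply, h₁]
  have hψ₁x : ∀ y, ψ₁ y = WittGrp.truncMap p n (Algebra.TensorProduct.includeLeftRingHom : R' →+* TensorProduct R R' R') y :=
    fun y => RingHom.congr_fun hψ₁ y
  have hψ₂x : ∀ y, ψ₂ y = WittGrp.truncMap p n ((Algebra.TensorProduct.includeRight : R' →ₐ[R] TensorProduct R R' R') : R' →+* TensorProduct R R' R') y :=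
    fun y => RingHom.congr_fun hψ₂ y
  have hinj : Function.Injective f := by
    intro x y hxy
    rw [hfx, hfx] at hxy
    refine TruncatedWittVector.ext fun i => ?_
    have := congrArg (fun z => TruncatedWittVector.coeff i z) hxy
    simp only [WittGrp.coeff_truncMap] at this
    exact FaithfulSMul.algebraMap_injective R R' this
  have hex : Function.Exact f g := by
    intro y
    constructor
    · intro hy
      have hy' : ψ₁ y = ψ₂ y := by
        have : ψ₁ y - ψ₂ y = 0 := hy
        exact sub_eq_zero.mp this
      rw [hψ₁x, hψ₂x] at hy'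
      have hc : ∀ i, ∃ r : R, algebraMap R R' r = y.coeff i := by
        intro i
        have h := congrArg (fun z => TruncatedWittVector.coeff i z) hy'
        simp only [WittGrp.coeff_truncMap] at h
        have h0 : Algebra.TensorProduct.includeLeftSubRight R R' (y.coeff i) = 0 := by
          rw [Algebra.TensorProduct.includeLeftSubRight_apply]
          exact sub_eq_zero.mpr h
        obtain ⟨r, hr⟩ := (Algebra.IsEffective.of_faithfullyFlat R R' (y.coeff i)).mp h0
        exact ⟨r, hr⟩
      choose r hr using hc
      refine ⟨TruncatedWittVector.mk p r, ?_⟩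
      rw [hfx]
      refine TruncatedWittVector.ext fun i => ?_
      rw [WittGrp.coeff_truncMap, TruncatedWittVector.coeff_mk, hr]
    · rintro ⟨x, rfl⟩
      change ψ₁ (f x) - ψ₂ (f x) = 0
      rw [hf_def, Algebra.linearMap_apply, AlgHom.commutes, AlgHom.commutes, sub_self]
  have hinjM : Function.Injective (f.lTensor M) :=
    Module.Flat.lTensor_preserves_injective_linearMap f hinj
  have hexM : Function.Exact (f.lTensor M) (g.lTensor M) := Module.Flat.lTensor_exact M hex
  have hone : ∀ m : M, m ⊗ₜ[TruncatedWittVector p n R] (1 : TruncatedWittVector p n R') =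
      f.lTensor M (m ⊗ₜ[TruncatedWittVector p n R] (1 : TruncatedWittVector p n R)) := fun m => by
    rw [LinearMap.lTensor_tmul, hf_def, Algebra.linearMap_apply, map_one]
  refine ⟨?_, ?_⟩
  · intro m m' hmm
    have hmm' : m ⊗ₜ[TruncatedWittVector p n R] (1 : TruncatedWittVector p n R') =
        m' ⊗ₜ[TruncatedWittVector p n R] (1 : TruncatedWittVector p n R') := hmm
    rw [hone, hone] at hmm'
    have h2 := congrArg (TensorProduct.rid (TruncatedWittVector p n R) M) (hinjM hmm')
    simpa using h2
  · intro x hx
    have hgx : g.lTensor M x = 0 := by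
      rw [hg_def, LinearMap.lTensor_sub, LinearMap.sub_apply, hx, sub_self]
    obtain ⟨z, hz⟩ := (hexM x).mp hgx
    refine ⟨TensorProduct.rid (TruncatedWittVector p n R) M z, ?_⟩
    change (TensorProduct.rid _ M z) ⊗ₜ[TruncatedWittVector p n R] (1 : TruncatedWittVector p n R') = x
    rw [hone, ← TensorProduct.rid_symm_apply, LinearEquiv.symm_apply_apply, hz]

end Groth.Agent.Lib.WittEqualizer_lead
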