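import Mathlib
import Groth.Prelude.Def_W4c6katofiltaWFil

/-! Integrally closed domains and their localisations away from an element. -/

namespace Groth.Agent.Lib.WittFilUFD_helper4

theorem injective_away {A B : Type*} [CommRing A] [IsDomain A] [CommRing B] [Algebra A B]
    (π : A) (hπ : π ≠ 0) [IsLocalization.Away π B] : Function.Injective (algebraMap A B) :=
  IsLocalization.injective B (powers_le_nonZeroDivisors_of_noZeroDivisors hπ)

/-- In `B = A[1/π]` with `A` an integrally closed domain, an element with a power in `A` is in `A`. -/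
theorem mem_range_of_pow_mem {A B : Type*} [CommRing A] [IsDomain A] [IsIntegrallyClosed A]
    [CommRing B] [Algebra A B] (π : A) (hπ : π ≠ 0) [IsLocalization.Away π B] (y : B) (N : ℕ)
    (hN : N ≠ 0) (h : y ^ N ∈ (algebraMap A B).range) : y ∈ (algebraMap A B).range := by
  have hinj : Function.Injective (algebraMap A B) := injective_away π hπ
  obtain ⟨⟨a, ⟨_, k, rfl⟩⟩, hy⟩ := IsLocalization.surj (Submonoid.powers π) y
  obtain ⟨a', ha'⟩ := h
  simp only at hy
  have h1 : a ^ N = a' * (π ^ k) ^ N := by
    apply hinj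
    rw [map_pow, ← hy, map_mul, ha', mul_pow, map_pow, map_pow, map_pow]
  have h2 : π ^ k ∣ a := (IsIntegrallyClosed.pow_dvd_pow_iff hN).mp ⟨a', by rw [h1]; ring⟩
  obtain ⟨a'', rfl⟩ := h2
  refine ⟨a'', ?_⟩
  have hu : IsUnit (algebraMap A B (π ^ k)) :=
    IsLocalization.map_units B (⟨π ^ k, k, rfl⟩ : Submonoid.powers π)
  apply hu.mul_right_cancel
  rw [hy, map_mul, mul_comm]

end Groth.Agent.Lib.WittFilUFD_helper4
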