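import Mathlib
import Groth.Prelude.Def_W4c6katofiltaWFil

/-! Coefficients of a product with a Teichmüller representative, and its effect on the
filtered pieces `WittFil.fil`. -/

namespace Groth.Agent.Lib.WittTeich_helper4

open WittVector MvPolynomial

variable (p : ℕ) [hp : Fact p.Prime]

/-- the candidate product vector `(c^(p^n) x_n)_n` -/
def scaled {R : Type*} [CommRing R] (c : R) (x : WittVector p R) : WittVector p R :=
  WittVector.mk p fun n => c ^ p ^ n * x.coeff n

theorem scaled_coeff {R : Type*} [CommRing R] (c : R) (x : WittVector p R) (n : ℕ) :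
    (scaled p c x).coeff n = c ^ p ^ n * x.coeff n := rfl

theorem map_scaled {R S : Type*} [CommRing R] [CommRing S] (f : R →+* S) (c : R)
    (x : WittVector p R) :
    WittVector.map f (scaled p c x) = scaled p (f c) (WittVector.map f x) := by
  ext n
  rw [WittVector.map_coeff, scaled_coeff, scaled_coeff, WittVector.map_coeff, map_mul, map_pow]

theorem ghostComponent_scaled {R : Type*} [CommRing R] (c : R) (x : WittVector p R) (n : ℕ) :
    ghostComponent n (scaled p c x) = c ^ p ^ n * ghostComponent n x := by
  rw [ghostComponent_apply, ghostComponent_apply, aeval_wittPolynomial, aeval_wittPolynomial,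
    Finset.mul_sum]
  apply Finset.sum_congr rfl
  intro i hi
  have hi' : i ≤ n := Nat.lt_succ_iff.mp (Finset.mem_range.mp hi)
  rw [scaled_coeff, mul_pow, ← pow_mul, ← pow_add, Nat.add_sub_cancel' hi']
  ring

theorem teich_mul_aux₁ {σ : Type*} (c : MvPolynomial σ ℚ) (x : WittVector p (MvPolynomial σ ℚ)) :
    teichmuller p c * x = scaled p c x := by
  apply (ghostMap.bijective_of_invertible p (MvPolynomial σ ℚ)).1
  rw [map_mul]
  ext1 n
  simp only [Pi.mul_apply, ghostMap_apply, ghostComponent_teichmuller, ghostComponent_scaled]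

theorem teich_mul_aux₂ {σ : Type*} (c : MvPolynomial σ ℤ) (x : WittVector p (MvPolynomial σ ℤ)) :
    teichmuller p c * x = scaled p c x := by
  refine WittVector.map_injective (MvPolynomial.map (Int.castRingHom ℚ))
    (MvPolynomial.map_injective _ Int.cast_injective) ?_
  rw [map_mul, map_teichmuller, map_scaled, teich_mul_aux₁]

theorem teichmuller_mul_eq {R : Type*} [CommRing R] (c : R) (x : WittVector p R) :
    teichmuller p c * x = scaled p c x := by
  obtain ⟨c', rfl⟩ := counit_surjective R c
  obtain ⟨x', rfl⟩ := WittVector.map_surjective (counit R) (counit_surjective R) x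
  rw [← map_teichmuller, ← map_mul, ← map_scaled, teich_mul_aux₂]

theorem coeff_teichmuller_mul {R : Type*} [CommRing R] (c : R) (x : WittVector p R) (n : ℕ) :
    (teichmuller p c * x).coeff n = c ^ p ^ n * x.coeff n := by
  rw [teichmuller_mul_eq, scaled_coeff]

theorem coeff_truncate_teichmuller_mul {R : Type*} [CommRing R] (m : ℕ) (c : R)
    (x : WittVector p R) (j : Fin m) :
    TruncatedWittVector.coeff j (WittVector.truncate m (teichmuller p c) * WittVector.truncate m x) =
      c ^ p ^ (j : ℕ) * x.coeff j := by
  rw [← map_mul, WittVector.coeff_truncate, coeff_teichmuller_mul]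

/-- Multiplication by `[t]` moves `fil c` into `fil c'` when `t^(p^(m-1)) c' = c`. -/
theorem mem_fil_teich_mul {A B : Type*} [CommRing A] [CommRing B] [Algebra A B] (m : ℕ)
    (t c c' : B) (h : t ^ p ^ (m - 1) * c' = c) (a : TruncatedWittVector p m B)
    (ha : a ∈ WittFil.fil p m (A := A) c) :
    WittVector.truncate m (teichmuller p t) * a ∈ WittFil.fil p m (A := A) c' := by
  obtain ⟨x, rfl⟩ := WittVector.truncate_surjective p m B a
  intro j
  rw [coeff_truncate_teichmuller_mul]
  have hj := ha j
  rw [WittVector.coeff_truncate] at hj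
  have e : (t ^ p ^ (j : ℕ) * x.coeff j) ^ p ^ (m - 1 - (j : ℕ)) * c' =
      x.coeff j ^ p ^ (m - 1 - (j : ℕ)) * c := by
    rw [mul_pow, ← pow_mul, ← pow_add, ← h]
    have hjm : (j : ℕ) + (m - 1 - j) = m - 1 := by
      have := j.2
      omega
    rw [hjm]
    ring
  rw [e]
  exact hj

end Groth.Agent.Lib.WittTeich_helper4
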