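import Mathlib
import Groth.Prelude.Def_W4c6katofiltaWFil
import Groth.Agent.Lib.WittTeich_helper4
import Groth.Agent.Lib.WittFilUFD_helper4

/-! Characterisation of the filtered pieces through the subring of truncated Witt vectors with
coordinates in `A`. -/

namespace Groth.Agent.Lib.WittFilRing_helper4

open WittVector Groth.Agent.Lib.WittTeich_helper4 Groth.Agent.Lib.WittFilUFD_helper4

variable (p : ℕ) [hp : Fact p.Prime] (A B : Type*) [CommRing A] [CommRing B] [Algebra A B]

/-- image of `W(A)` in `W_m(B)` -/
noncomputable def Sm (m : ℕ) : Subring (TruncatedWittVector p m B) :=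
  ((WittVector.truncate m).comp (WittVector.map (algebraMap A B))).range

theorem mem_Sm_iff (m : ℕ) (w : TruncatedWittVector p m B) :
    w ∈ Sm p A B m ↔ ∀ j : Fin m, TruncatedWittVector.coeff j w ∈ (algebraMap A B).range := by
  constructor
  · rintro ⟨v, rfl⟩ j
    rw [RingHom.comp_apply, WittVector.coeff_truncate, WittVector.map_coeff]
    exact ⟨_, rfl⟩
  · intro h
    choose f hf using h
    refine ⟨WittVector.mk p (fun j => if hj : j < m then f ⟨j, hj⟩ else 0), ?_⟩
    ext j
    rw [RingHom.comp_apply, WittVector.coeff_truncate, WittVector.map_coeff, WittVector.coeff_mk]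
    simp only [j.2, dif_pos]
    exact hf j

variable {A B}

theorem truncate_mem_fil_iff [IsDomain A] [IsIntegrallyClosed A] [CharP B p] (π : A) (hπ : π ≠ 0)
    [IsLocalization.Away π B] (m : ℕ) (c : B) (x : WittVector p B) :
    WittVector.truncate m x ∈ WittFil.fil p m (A := A) c ↔
      WittVector.truncate m ((frobenius^[m - 1]) x * teichmuller p c) ∈ Sm p A B m := by
  rw [mem_Sm_iff]
  have hp' : p.Prime := hp.out
  have e : ∀ j : Fin m, c ^ p ^ (j : ℕ) * x.coeff j ^ p ^ (m - 1) =
      (x.coeff j ^ p ^ (m - 1 - (j : ℕ)) * c) ^ p ^ (j : ℕ) := by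
    intro j
    rw [mul_pow, ← pow_mul, ← pow_add]
    have hjm : (m - 1 - (j : ℕ)) + j = m - 1 := by
      have := j.2
      omega
    rw [hjm]
    ring
  constructor
  · intro h j
    have hj := h j
    rw [WittVector.coeff_truncate] at hj ⊢
    rw [mul_comm, coeff_teichmuller_mul, iterate_frobenius_coeff, e]
    exact Subring.pow_mem _ hj _
  · intro h j
    have hj := h j
    rw [WittVector.coeff_truncate] at hj ⊢
    rw [mul_comm, coeff_teichmuller_mul, iterate_frobenius_coeff, e] at hj
    exact mem_range_of_pow_mem π hπ _ _ (pow_ne_zero _ hp'.ne_zero) hj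

end Groth.Agent.Lib.WittFilRing_helper4
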