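import Mathlib
import Groth.Prelude.Def_W4c6katofiltaWFil
import Groth.Agent.Lib.WittFilUFD_helper4

/-! Laurent monomials in units coming from pairwise non-associated primes of an integrally closed
domain, and membership in `A` of elements of `A[1/π]`. -/

namespace Groth.Agent.Lib.WittFilUFD2_helper4

open WittFil Groth.Agent.Lib.WittFilUFD_helper4

section zmon
variable {B : Type*} [CommRing B] {r : ℕ} (u : Fin r → Bˣ)

theorem zmon_add (n n' : Fin r → ℤ) : zmon u (n + n') = zmon u n * zmon u n' := by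
  unfold zmon
  rw [← Units.val_mul, ← Finset.prod_mul_distrib]
  congr 1
  apply Finset.prod_congr rfl
  intro i _
  rw [Pi.add_apply, zpow_add]

theorem zmon_zero : zmon u (0 : Fin r → ℤ) = 1 := by
  simp [zmon]

theorem zmon_neg_mul (n : Fin r → ℤ) : zmon u (-n) * zmon u n = 1 := by
  rw [← zmon_add, neg_add_cancel, zmon_zero]

theorem zmon_mul_neg (n : Fin r → ℤ) : zmon u n * zmon u (-n) = 1 := by
  rw [mul_comm, zmon_neg_mul]

theorem zmon_natMul (N : ℕ) (n : Fin r → ℤ) :
    zmon u (fun i => (N : ℤ) * n i) = (zmon u n) ^ N := by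
  unfold zmon
  rw [← Units.val_pow_eq_pow_val, ← Finset.prod_pow]
  congr 1
  apply Finset.prod_congr rfl
  intro i _
  show u i ^ ((N : ℤ) * n i) = _
  rw [mul_comm, zpow_mul, zpow_natCast]

theorem zmon_natCast {A : Type*} [CommRing A] [Algebra A B] (x : Fin r → A)
    (hu : ∀ i, (u i : B) = algebraMap A B (x i)) (k : Fin r → ℕ) :
    zmon u (fun i => (k i : ℤ)) = algebraMap A B (∏ i, x i ^ k i) := by
  unfold zmon
  rw [Units.coe_prod, map_prod]
  apply Finset.prod_congr rfl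
  intro i _
  rw [zpow_natCast, Units.val_pow_eq_pow_val, hu, map_pow]

end zmon

theorem prod_dvd_of_forall_dvd {A : Type*} [CommRing A] [IsDomain A] {r : ℕ} (x : Fin r → A)
    (hx : ∀ i, Prime (x i)) (hxa : ∀ i j, Associated (x i) (x j) → i = j) (t : A)
    (h : ∀ i, x i ∣ t) : ∏ i, x i ∣ t := by
  classical
  suffices H : ∀ s : Finset (Fin r), ∏ i ∈ s, x i ∣ t from H Finset.univ
  intro s
  induction s using Finset.induction_on with
  | empty => simp
  | insert j s hj ih =>
    rw [Finset.prod_insert hj]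
    obtain ⟨t', ht'⟩ := ih
    have h1 : x j ∣ (∏ i ∈ s, x i) * t' := ht' ▸ h j
    rcases (hx j).dvd_or_dvd h1 with h2 | h2
    · exfalso
      obtain ⟨i, his, hi⟩ := (hx j).exists_mem_finset_dvd h2
      have hji := hxa j i ((hx j).associated_of_dvd (hx i) hi)
      exact hj (hji ▸ his)
    · obtain ⟨t'', rfl⟩ := h2
      exact ⟨t'', by rw [ht']; ring⟩

/-- Lemma W. -/
theorem mem_range_of_pow_mul {A B : Type*} [CommRing A] [IsDomain A] [IsIntegrallyClosed A]
    [CommRing B] [Algebra A B] {r : ℕ} (x : Fin r → A) (hx : ∀ i, Prime (x i))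
    (hxa : ∀ i j, Associated (x i) (x j) → i = j) [IsLocalization.Away (∏ i, x i) B]
    (N : ℕ) (hN : N ≠ 0) (k : Fin r → ℕ) (hk : ∀ i, k i < N) (z : B)
    (h : z ^ N * algebraMap A B (∏ i, x i ^ k i) ∈ (algebraMap A B).range) :
    z ∈ (algebraMap A B).range := by
  have hπ : (∏ i, x i) ≠ 0 := Finset.prod_ne_zero_iff.mpr (fun i _ => (hx i).ne_zero)
  obtain ⟨w, hw⟩ := h
  have hinj := injective_away (B := B) _ hπ
  have e1 : (∏ i, x i) ^ N = (∏ i, x i ^ k i) * ∏ i, x i ^ (N - k i) := by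
    rw [← Finset.prod_pow, ← Finset.prod_mul_distrib]
    apply Finset.prod_congr rfl
    intro i _
    rw [← pow_add]
    congr 1
    have := hk i
    omega
  have h1 : (z * algebraMap A B (∏ i, x i)) ^ N =
      algebraMap A B (w * ∏ i, x i ^ (N - k i)) := by
    rw [mul_pow, ← map_pow, e1, map_mul, ← mul_assoc, ← hw, map_mul]
  obtain ⟨t, ht⟩ := mem_range_of_pow_mem (∏ i, x i) hπ _ N hN ⟨_, h1.symm⟩
  have h2 : t ^ N = w * ∏ i, x i ^ (N - k i) := hinj (by rw [map_pow, ht, h1])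
  have h3 : ∀ i, x i ∣ t := fun i => (hx i).dvd_of_dvd_pow (h2 ▸ Dvd.dvd.mul_left
    (dvd_trans (dvd_pow_self _ (by have := hk i; omega))
      (Finset.dvd_prod_of_mem _ (Finset.mem_univ i))) w)
  obtain ⟨t', rfl⟩ := prod_dvd_of_forall_dvd x hx hxa t h3
  refine ⟨t', ?_⟩
  have hu : IsUnit (algebraMap A B (∏ i, x i)) :=
    IsLocalization.map_units B (⟨_, 1, pow_one _⟩ : Submonoid.powers (∏ i, x i))
  apply hu.mul_right_cancel
  rw [← ht, map_mul, mul_comm]

/-- If `y` times a product of positive powers of the primes lies in `A`... : an element of `A`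
whose power is divisible by every `x i` is divisible by `∏ x i`. -/
theorem prod_dvd_of_pow_eq {A : Type*} [CommRing A] [IsDomain A] {r : ℕ} (x : Fin r → A)
    (hx : ∀ i, Prime (x i)) (hxa : ∀ i j, Associated (x i) (x j) → i = j) (t w : A) (e : ℕ)
    (k : Fin r → ℕ) (hk : ∀ i, 0 < k i) (h : t ^ e = w * ∏ i, x i ^ k i) : ∏ i, x i ∣ t := by
  apply prod_dvd_of_forall_dvd x hx hxa
  intro i
  apply (hx i).dvd_of_dvd_pow (n := e)
  rw [h]
  exact Dvd.dvd.mul_left (dvd_trans (dvd_pow_self _ (hk i).ne')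
    (Finset.dvd_prod_of_mem _ (Finset.mem_univ i))) w

section single
variable {A B : Type*} [CommRing A] [IsDomain A] [UniqueFactorizationMonoid A] [CommRing B]
  [Algebra A B] (x : A) (hx : Prime x) [IsLocalization.Away x B] (u : Bˣ)
  (hu : (u : B) = algebraMap A B x)

include hu in
theorem coe_zpow_of_nonneg (j : ℤ) (hj : 0 ≤ j) :
    ((u ^ j : Bˣ) : B) = algebraMap A B (x ^ j.toNat) := by
  obtain ⟨k, rfl⟩ := Int.eq_ofNat_of_zero_le hj
  rw [zpow_natCast, Units.val_pow_eq_pow_val, hu, map_pow, Int.toNat_natCast]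

include hx hu in
/-- Lemma D. -/
theorem pow_mul_zpow_pred_mem (y : B) (N : ℕ) (hN : N ≠ 0) (n : ℤ) (hn : ¬ ((N : ℤ) ∣ n))
    (h : y ^ N * ((u ^ n : Bˣ) : B) ∈ (algebraMap A B).range) :
    y ^ N * ((u ^ (n - 1) : Bˣ) : B) ∈ (algebraMap A B).range := by
  have hinj := injective_away (B := B) x hx.ne_zero
  by_cases hy : y = 0
  · rw [hy, zero_pow hN, zero_mul]
    exact Subring.zero_mem _
  obtain ⟨⟨a, ⟨_, k, rfl⟩⟩, hya⟩ := IsLocalization.surj (Submonoid.powers x) y
  simp only at hya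
  have ha : a ≠ 0 := by
    rintro rfl
    rw [map_zero] at hya
    have hunit : IsUnit (algebraMap A B (x ^ k)) :=
      IsLocalization.map_units B (⟨x ^ k, k, rfl⟩ : Submonoid.powers x)
    exact hy (hunit.mul_left_eq_zero.mp hya)
  obtain ⟨μ, t, hxt, rfl⟩ := WfDvdMonoid.max_power_factor' ha hx.not_isUnit
  -- y = alg t * u^(μ - k)
  have hyt : y = algebraMap A B t * ((u ^ ((μ : ℤ) - k) : Bˣ) : B) := by
    have h1 : y * ((u ^ (k : ℤ) : Bˣ) : B) = algebraMap A B t * ((u ^ (μ : ℤ) : Bˣ) : B) := by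
      rw [zpow_natCast, zpow_natCast, Units.val_pow_eq_pow_val, Units.val_pow_eq_pow_val, hu,
        ← map_pow, ← map_pow, hya, map_mul, mul_comm]
    have h2 : y = y * ((u ^ (k : ℤ) : Bˣ) : B) * ((u ^ (-(k : ℤ)) : Bˣ) : B) := by
      rw [mul_assoc, ← Units.val_mul, ← zpow_add, add_neg_cancel, zpow_zero, Units.val_one,
        mul_one]
    rw [h2, h1, mul_assoc, ← Units.val_mul, ← zpow_add, sub_eq_add_neg]
  set e : ℤ := (μ : ℤ) - k with he
  have hpow : ∀ j : ℤ, y ^ N * ((u ^ j : Bˣ) : B) =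
      algebraMap A B (t ^ N) * ((u ^ (e * N + j) : Bˣ) : B) := by
    intro j
    rw [hyt, mul_pow, ← Units.val_pow_eq_pow_val, ← zpow_natCast (u ^ e) N, ← zpow_mul,
      mul_assoc, ← Units.val_mul, ← zpow_add, map_pow]
  have hge : 0 ≤ e * N + n := by
    by_contra hneg
    rw [not_le] at hneg
    obtain ⟨w, hw⟩ := h
    rw [hpow] at hw
    -- alg (t^N) = alg w * u^(-(eN+n))
    have h3 : algebraMap A B (t ^ N) =
        algebraMap A B (w * x ^ (-(e * N + n)).toNat) := by
      rw [map_mul, ← coe_zpow_of_nonneg x u hu _ (by omega), hw, mul_assoc, ← Units.val_mul,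
        ← zpow_add, add_neg_cancel, zpow_zero, Units.val_one, mul_one]
    have h4 := hinj h3
    have h5 : x ∣ t ^ N := by
      rw [h4]
      apply Dvd.dvd.mul_left
      apply dvd_pow_self
      intro h0
      have : (-(e * N + n)).toNat = 0 := h0
      omega
    exact hxt (hx.dvd_of_dvd_pow h5)
  have hne : e * N + n ≠ 0 := by
    intro h0
    apply hn
    exact ⟨-e, by linarith⟩
  rw [hpow, coe_zpow_of_nonneg x u hu (e * N + (n - 1)) (by omega), ← map_mul]
  exact ⟨_, rfl⟩

end single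

end Groth.Agent.Lib.WittFilUFD2_helper4
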