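import Mathlib
import Groth.Prelude.Def_W4c6katofiltaWFil
import Groth.Agent.Lib.WittTeich_helper4
import Groth.Agent.Lib.WittFilUFD_helper4
import Groth.Agent.Lib.WittFilRing_helper4
import Groth.Agent.S19267

/-! Graded pieces of Kato's filtration on truncated Witt vectors of `S((π))` (S19268). -/

set_option autoImplicit false
universe u

namespace Groth.Agent.Lib.WittGr_lead

open Groth.Agent.Lib.WittTeich_helper4 Groth.Agent.Lib.WittFilUFD_helper4
  Groth.Agent.Lib.WittFilRing_helper4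

theorem mem_fil_iff {A B : Type*} [CommRing A] [CommRing B] [Algebra A B] (p m : ℕ) (c : B)
    (x : TruncatedWittVector p m B) :
    x ∈ WittFil.fil p m (A := A) c ↔ ∀ j : Fin m,
      (TruncatedWittVector.coeff j x) ^ (p ^ (m - 1 - (j : ℕ))) * c ∈ (algebraMap A B).range :=
  Iff.rfl

section abstract

theorem coe_zpow_nonneg {A B : Type*} [CommRing A] [CommRing B] [Algebra A B] (π : A) (u : Bˣ)
    (hu : (u : B) = algebraMap A B π) (w : ℤ) (hw : 0 ≤ w) :
    ((u ^ w : Bˣ) : B) = algebraMap A B (π ^ w.toNat) := by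
  obtain ⟨k, rfl⟩ := Int.eq_ofNat_of_zero_le hw
  rw [zpow_natCast, Units.val_pow_eq_pow_val, hu, map_pow]
  simp

theorem not_mem_of_neg {A B : Type*} [CommRing A] [IsDomain A] [CommRing B] [Algebra A B] (π : A)
    (hπ0 : π ≠ 0) [IsLocalization.Away π B] (u : Bˣ) (hu : (u : B) = algebraMap A B π)
    (a' : A) (hna : ¬ π ∣ a') (w : ℤ) (hw : w < 0) :
    algebraMap A B a' * ((u ^ w : Bˣ) : B) ∉ (algebraMap A B).range := by
  rintro ⟨b, hb⟩
  obtain ⟨k, rfl⟩ : ∃ k : ℕ, w = -((k : ℤ) + 1) := ⟨(-w - 1).toNat, by omega⟩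
  apply hna
  have hinj := injective_away (B := B) π hπ0
  have h1 : algebraMap A B (b * π ^ (k + 1)) = algebraMap A B a' := by
    rw [map_mul, map_pow, hb, ← hu, mul_assoc, ← Units.val_pow_eq_pow_val, ← Units.val_mul,
      ← zpow_natCast u (k + 1), ← zpow_add]
    have : (-((k : ℤ) + 1) + ((k + 1 : ℕ) : ℤ)) = 0 := by push_cast; ring
    rw [this, zpow_zero, Units.val_one, mul_one]
  have h2 := hinj h1
  rw [← h2]
  exact dvd_mul_of_dvd_right (dvd_pow_self π (Nat.succ_ne_zero k)) b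

theorem decomp {A B : Type*} [CommRing A] [IsDomain A] [CommRing B] [Algebra A B] (π : A)
    [IsLocalization.Away π B] (u : Bˣ) (hu : (u : B) = algebraMap A B π)
    (hfin : ∀ a : A, a ≠ 0 → ∃ (l : ℕ) (a' : A), ¬ π ∣ a' ∧ a = π ^ l * a')
    (y : B) (hy : y ≠ 0) :
    ∃ (a' : A) (v : ℤ), ¬ π ∣ a' ∧ y = algebraMap A B a' * ((u ^ v : Bˣ) : B) := by
  obtain ⟨k, a, hka⟩ := IsLocalization.Away.surj π y
  have ha : a ≠ 0 := by
    rintro rfl
    rw [map_zero, ← hu, ← Units.val_pow_eq_pow_val] at hka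
    exact hy ((Units.mul_left_eq_zero _).mp hka)
  obtain ⟨l, a', hna, rfl⟩ := hfin a ha
  refine ⟨a', (l : ℤ) - k, hna, ?_⟩
  rw [zpow_sub, zpow_natCast, zpow_natCast, Units.val_mul, Units.val_pow_eq_pow_val, hu]
  rw [map_mul, map_pow] at hka
  calc y = y * ((u ^ k : Bˣ) : B) * (((u ^ k)⁻¹ : Bˣ) : B) :=
        (Units.mul_inv_cancel_right _ _).symm
    _ = (algebraMap A B π ^ l * algebraMap A B a') * (((u ^ k)⁻¹ : Bˣ) : B) := by
        rw [Units.val_pow_eq_pow_val, hu, hka]
    _ = _ := by ring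

theorem key {A B : Type*} [CommRing A] [IsDomain A] [CommRing B] [Algebra A B] (π : A)
    (hπ : Prime π) [IsLocalization.Away π B] (u : Bˣ) (hu : (u : B) = algebraMap A B π)
    (y : B) (a' : A) (v : ℤ) (hna : ¬ π ∣ a') (hy : y = algebraMap A B a' * ((u ^ v : Bˣ) : B))
    (N : ℕ) (e : ℤ) :
    y ^ N * ((u ^ e : Bˣ) : B) ∈ (algebraMap A B).range ↔ 0 ≤ (N : ℤ) * v + e := by
  subst hy
  have h1 : (algebraMap A B a' * ((u ^ v : Bˣ) : B)) ^ N * ((u ^ e : Bˣ) : B) =
      algebraMap A B (a' ^ N) * ((u ^ ((N : ℤ) * v + e) : Bˣ) : B) := by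
    rw [mul_pow, map_pow, zpow_add, Units.val_mul, mul_comm (N : ℤ) v, zpow_mul, zpow_natCast,
      Units.val_pow_eq_pow_val, mul_assoc]
  rw [h1]
  constructor
  · intro h
    by_contra hneg
    exact not_mem_of_neg π hπ.ne_zero u hu (a' ^ N) (fun hd => hna (hπ.dvd_of_dvd_pow hd)) _
      (not_le.mp hneg) h
  · intro h
    rw [coe_zpow_nonneg π u hu _ h, ← map_mul]
    exact ⟨_, rfl⟩

theorem root_closed {A B : Type*} [CommRing A] [IsDomain A] [CommRing B] [Algebra A B] (π : A)
    (hπ : Prime π) [IsLocalization.Away π B] (u : Bˣ) (hu : (u : B) = algebraMap A B π)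
    (hfin : ∀ a : A, a ≠ 0 → ∃ (l : ℕ) (a' : A), ¬ π ∣ a' ∧ a = π ^ l * a')
    (y : B) (N : ℕ) (hN : N ≠ 0) (h : y ^ N ∈ (algebraMap A B).range) :
    y ∈ (algebraMap A B).range := by
  by_cases hy : y = 0
  · exact ⟨0, by rw [hy, map_zero]⟩
  obtain ⟨a', v, hna, hyv⟩ := decomp π u hu hfin y hy
  have h0 := (key π hπ u hu y a' v hna hyv N 0).mp (by simpa using h)
  have hv : 0 ≤ v := by
    by_contra hv
    have hNpos : (0 : ℤ) < N := by exact_mod_cast Nat.pos_of_ne_zero hN
    nlinarith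
  have := (key π hπ u hu y a' v hna hyv 1 0).mpr (by simpa using hv)
  simpa using this

theorem pred_mem {A B : Type*} [CommRing A] [IsDomain A] [CommRing B] [Algebra A B] (π : A)
    (hπ : Prime π) [IsLocalization.Away π B] (u : Bˣ) (hu : (u : B) = algebraMap A B π)
    (hfin : ∀ a : A, a ≠ 0 → ∃ (l : ℕ) (a' : A), ¬ π ∣ a' ∧ a = π ^ l * a')
    (y : B) (N : ℕ) (hN : N ≠ 0) (n : ℤ) (hn : ¬ (N : ℤ) ∣ n)
    (h : y ^ N * ((u ^ (-n) : Bˣ) : B) ∈ (algebraMap A B).range) :
    y ^ N * ((u ^ (-n - 1) : Bˣ) : B) ∈ (algebraMap A B).range := by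
  by_cases hy : y = 0
  · exact ⟨0, by rw [hy, zero_pow hN, zero_mul, map_zero]⟩
  obtain ⟨a', v, hna, hyv⟩ := decomp π u hu hfin y hy
  have h0 := (key π hπ u hu y a' v hna hyv N (-n)).mp h
  refine (key π hπ u hu y a' v hna hyv N (-n - 1)).mpr ?_
  have hne : (N : ℤ) * v ≠ n := fun h => hn ⟨v, h.symm⟩
  omega

end abstract

section powerSeries

theorem hfin_powerSeries {S : Type*} [CommRing S] (a : PowerSeries S) (ha : a ≠ 0) :
    ∃ (l : ℕ) (a' : PowerSeries S), ¬ (PowerSeries.X : PowerSeries S) ∣ a' ∧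
      a = PowerSeries.X ^ l * a' := by
  classical
  have hex : ∃ n, PowerSeries.coeff n a ≠ 0 := by
    by_contra h
    push_neg at h
    exact ha (PowerSeries.ext (fun n => by rw [h n, map_zero]))
  have hl : PowerSeries.coeff (Nat.find hex) a ≠ 0 := Nat.find_spec hex
  have hlt : ∀ m, m < Nat.find hex → PowerSeries.coeff m a = 0 := fun m hm => by
    by_contra hne
    exact Nat.find_min hex hm hne
  obtain ⟨a', ha'⟩ := PowerSeries.X_pow_dvd_iff.mpr hlt
  refine ⟨Nat.find hex, a', ?_, ha'⟩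
  have h3 := PowerSeries.coeff_X_pow_mul a' (Nat.find hex) 0
  rw [zero_add, ← ha'] at h3
  rw [PowerSeries.X_dvd_iff, ← PowerSeries.coeff_zero_eq_constantCoeff_apply, ← h3]
  exact hl

theorem cc_algebraMap {S : Type*} [CommRing S] (r : S) :
    PowerSeries.constantCoeff (algebraMap S (PowerSeries S) r) = r := by
  simp

end powerSeries

section coeffs

variable (p : ℕ) [hp : Fact p.Prime]

theorem vst_coeff_lo {S B : Type*} [CommRing S] [CommRing B] [Algebra S B] (m s : ℕ) (v : B)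
    (c : WittVector p S) (j : Fin m) (hj : (j : ℕ) < s) :
    TruncatedWittVector.coeff j (WittFil.vShiftTeich p m s v c) = 0 := by
  unfold WittFil.vShiftTeich
  rw [WittVector.coeff_truncate, WittVector.iterate_verschiebung_coeff_eq_zero _ hj]

theorem vst_coeff_hi {S B : Type*} [CommRing S] [CommRing B] [Algebra S B] (m s : ℕ) (v : B)
    (c : WittVector p S) (j : Fin m) (k : ℕ) (hj : (j : ℕ) = k + s) :
    TruncatedWittVector.coeff j (WittFil.vShiftTeich p m s v c) =
      algebraMap S B (c.coeff k) * v ^ p ^ k := by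
  unfold WittFil.vShiftTeich
  rw [WittVector.coeff_truncate, hj, WittVector.iterate_verschiebung_coeff,
    mul_comm (WittVector.map (algebraMap S B) c) (WittVector.teichmuller p v),
    coeff_teichmuller_mul, WittVector.map_coeff, mul_comm]

theorem pow_calc {B : Type*} [CommRing B] (u : Bˣ) (p m s j k : ℕ) (hjk : j = k + s) (hjm : j < m)
    (i d E : ℤ) (r : B) (hE : E = -((p : ℤ) ^ (m - 1 - s) * i) + d) :
    (r * ((u ^ i : Bˣ) : B) ^ p ^ k) ^ p ^ (m - 1 - j) * ((u ^ E : Bˣ) : B) =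
      r ^ p ^ (m - 1 - j) * ((u ^ d : Bˣ) : B) := by
  subst hE
  have hexp : p ^ k * p ^ (m - 1 - j) = p ^ (m - 1 - s) := by
    rw [← pow_add]; congr 1; omega
  rw [mul_pow, ← pow_mul, hexp, mul_assoc]
  congr 1
  rw [← Units.val_pow_eq_pow_val, ← Units.val_mul, ← zpow_natCast, ← zpow_mul, ← zpow_add]
  have : i * ((p ^ (m - 1 - s) : ℕ) : ℤ) + (-((p : ℤ) ^ (m - 1 - s) * i) + d) = d := by
    push_cast; ring
  rw [this]

theorem coeff_lo_add {R : Type*} [CommRing R] (s : ℕ) (f : ℕ → R) (x : WittVector p R) (n : ℕ) :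
    (WittVector.mk p (fun j => if j < s then f j else 0) +
      (WittVector.verschiebung^[s]) x).coeff n = if n < s then f n else x.coeff (n - s) := by
  have hd : ∀ n', (WittVector.mk p (fun j => if j < s then f j else 0)).coeff n' = 0 ∨
      ((WittVector.verschiebung^[s]) x).coeff n' = 0 := by
    intro n'
    by_cases hn : n' < s
    · right; exact WittVector.iterate_verschiebung_coeff_eq_zero _ hn
    · left; rw [WittVector.coeff_mk, if_neg hn]
  rw [WittVector.coeff_add_of_disjoint n _ _ hd]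
  by_cases hn : n < s
  · rw [WittVector.iterate_verschiebung_coeff_eq_zero _ hn, add_zero, WittVector.coeff_mk,
      if_pos hn, if_pos hn]
  · obtain ⟨k, rfl⟩ : ∃ k, n = k + s := ⟨n - s, by omega⟩
    rw [WittVector.iterate_verschiebung_coeff, WittVector.coeff_mk, if_neg hn, if_neg hn, zero_add,
      Nat.add_sub_cancel]

end coeffs

section main

variable (p : ℕ) [hp : Fact p.Prime] {S B : Type u} [CommRing S] [IsDomain S] [CommRing B]
  [Algebra (PowerSeries S) B] [Algebra S B] [IsScalarTower S (PowerSeries S) B]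
  [IsLocalization.Away (PowerSeries.X : PowerSeries S) B]

include hp in
theorem part1 (u : Bˣ) (m s : ℕ) (i : ℤ) (c : WittVector p S) :
    WittFil.vShiftTeich p m s ((u ^ i : Bˣ) : B) c ∈
      WittFil.fil p m (A := PowerSeries S) ((u ^ (-((p : ℤ) ^ (m - 1 - s) * i)) : Bˣ) : B) := by
  rw [mem_fil_iff]
  intro j
  by_cases hj : (j : ℕ) < s
  · rw [vst_coeff_lo p m s _ c j hj, zero_pow (pow_ne_zero _ hp.out.ne_zero), zero_mul]
    exact ⟨0, map_zero _⟩
  · obtain ⟨k, hk⟩ : ∃ k, (j : ℕ) = k + s := ⟨j - s, by omega⟩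
    rw [vst_coeff_hi p m s _ c j k hk,
      pow_calc u p m s (j : ℕ) k hk j.2 i 0 (-((p : ℤ) ^ (m - 1 - s) * i))
        (algebraMap S B (c.coeff k)) (by ring),
      zpow_zero, Units.val_one, mul_one, ← map_pow,
      IsScalarTower.algebraMap_apply S (PowerSeries S) B]
    exact ⟨_, rfl⟩

include hp in
theorem part2 (u : Bˣ) (hu : (u : B) = algebraMap (PowerSeries S) B PowerSeries.X) (m s : ℕ)
    (i : ℤ) (c : WittVector p S) :
    WittFil.vShiftTeich p m s ((u ^ i : Bˣ) : B) c ∈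
        WittFil.fil p m (A := PowerSeries S)
          ((u ^ (-((p : ℤ) ^ (m - 1 - s) * i) - 1) : Bˣ) : B) ↔
      WittVector.truncate (m - s) c = 0 := by
  have hinj : Function.Injective (algebraMap (PowerSeries S) B) :=
    injective_away (B := B) (PowerSeries.X : PowerSeries S) PowerSeries.X_prime.ne_zero
  constructor
  · intro h
    apply TruncatedWittVector.ext
    intro k
    rw [WittVector.coeff_truncate, TruncatedWittVector.coeff_zero]
    have hjm : (k : ℕ) + s < m := by have := k.2; omega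
    have hj := h ⟨k + s, hjm⟩
    rw [vst_coeff_hi p m s _ c ⟨k + s, hjm⟩ k rfl,
      pow_calc u p m s ((k : ℕ) + s) k rfl hjm i (-1) (-((p : ℤ) ^ (m - 1 - s) * i) - 1)
        (algebraMap S B (c.coeff k)) (by ring)] at hj
    obtain ⟨b, hb⟩ := hj
    have h3 : algebraMap (PowerSeries S) B (b * PowerSeries.X) =
        algebraMap (PowerSeries S) B (algebraMap S (PowerSeries S)
          ((c.coeff k) ^ p ^ (m - 1 - ((k : ℕ) + s)))) := by
      rw [map_mul, hb, ← hu, mul_assoc, ← Units.val_mul, zpow_neg_one, inv_mul_cancel,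
        Units.val_one, mul_one, ← IsScalarTower.algebraMap_apply, map_pow]
    have h4 := congrArg PowerSeries.constantCoeff (hinj h3)
    rw [map_mul, PowerSeries.constantCoeff_X, mul_zero, cc_algebraMap] at h4
    exact (pow_eq_zero_iff (pow_ne_zero _ hp.out.ne_zero)).mp h4.symm
  · intro h
    have hc : ∀ k (hk : k < m - s), c.coeff k = 0 := fun k hk => by
      have := congrArg (TruncatedWittVector.coeff ⟨k, hk⟩) h
      rwa [WittVector.coeff_truncate, TruncatedWittVector.coeff_zero] at this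
    rw [mem_fil_iff]
    intro j
    have hz : TruncatedWittVector.coeff j (WittFil.vShiftTeich p m s ((u ^ i : Bˣ) : B) c) = 0 := by
      by_cases hj : (j : ℕ) < s
      · exact vst_coeff_lo p m s _ c j hj
      · obtain ⟨k, hk⟩ : ∃ k, (j : ℕ) = k + s := ⟨j - s, by omega⟩
        rw [vst_coeff_hi p m s _ c j k hk, hc k (by have := j.2; omega), map_zero, zero_mul]
    rw [hz, zero_pow (pow_ne_zero _ hp.out.ne_zero), zero_mul]
    exact ⟨0, map_zero _⟩

include hp in
theorem lemmaA (u : Bˣ) (hu : (u : B) = algebraMap (PowerSeries S) B PowerSeries.X) (M : ℕ)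
    (i : ℤ) (y : TruncatedWittVector p M B)
    (hy : y ∈ WittFil.fil p M (A := PowerSeries S) ((u ^ (-((p : ℤ) ^ (M - 1) * i)) : Bˣ) : B)) :
    ∃ c : WittVector p S,
      y - WittVector.truncate M (WittVector.map (algebraMap S B) c *
          WittVector.teichmuller p ((u ^ i : Bˣ) : B)) ∈
        WittFil.fil p M (A := PowerSeries S) ((u ^ (-((p : ℤ) ^ (M - 1) * i) - 1) : Bˣ) : B) := by
  have e1 : -((p : ℤ) ^ (M - 1) * i) = 0 - (p : ℤ) ^ (M - 1) * i := by ring
  have e2 : -((p : ℤ) ^ (M - 1) * i) - 1 = (-1) - (p : ℤ) ^ (M - 1) * i := by ring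
  rw [e1, Groth.Agent.S19267.result p M u 0 i] at hy
  obtain ⟨y0, hy0, rfl⟩ := hy
  rw [e2, Groth.Agent.S19267.result p M u (-1) i]
  have hy0' : y0 ∈ Sm p (PowerSeries S) B M := by
    rw [mem_Sm_iff]
    intro j
    have := hy0 j
    rw [zpow_zero, Units.val_one, mul_one] at this
    exact root_closed (PowerSeries.X : PowerSeries S) PowerSeries.X_prime u hu hfin_powerSeries _ _
      (pow_ne_zero _ hp.out.ne_zero) this
  obtain ⟨a, ha⟩ := hy0'
  set c : WittVector p S := WittVector.map PowerSeries.constantCoeff a with hc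
  refine ⟨c, ?_⟩
  set w : WittVector p (PowerSeries S) :=
    a - WittVector.map (algebraMap S (PowerSeries S)) c with hw
  refine ⟨WittVector.truncate M (WittVector.map (algebraMap (PowerSeries S) B) w), ?_, ?_⟩
  · rw [mem_fil_iff]
    intro j
    rw [WittVector.coeff_truncate, WittVector.map_coeff]
    have hcc : PowerSeries.constantCoeff (w.coeff j) = 0 := by
      have h0 : WittVector.map PowerSeries.constantCoeff w = 0 := by
        rw [hw, map_sub, sub_eq_zero, hc]
        ext n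
        simp only [WittVector.map_coeff]
        rw [cc_algebraMap]
      have h2 := congrArg (fun z => z.coeff j) h0
      simpa [WittVector.map_coeff] using h2
    obtain ⟨t, ht⟩ := PowerSeries.X_dvd_iff.mpr hcc
    rw [ht, map_mul, ← hu]
    obtain ⟨N, hN⟩ : ∃ N, p ^ (M - 1 - (j : ℕ)) = N + 1 :=
      ⟨p ^ (M - 1 - (j : ℕ)) - 1, by
        have := Nat.pos_of_ne_zero (pow_ne_zero (M - 1 - (j : ℕ)) hp.out.ne_zero); omega⟩
    rw [hN]
    refine ⟨PowerSeries.X ^ N * t ^ (N + 1), ?_⟩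
    rw [map_mul, map_pow, map_pow, ← hu, zpow_neg_one]
    calc (u : B) ^ N * algebraMap (PowerSeries S) B t ^ (N + 1)
        = (u : B) ^ N * algebraMap (PowerSeries S) B t ^ (N + 1) * ((u : B) * ((u⁻¹ : Bˣ) : B)) := by
          rw [Units.mul_inv, mul_one]
      _ = ((u : B) * algebraMap (PowerSeries S) B t) ^ (N + 1) * ((u⁻¹ : Bˣ) : B) := by ring
  · have hmm : WittVector.map (algebraMap (PowerSeries S) B)
        (WittVector.map (algebraMap S (PowerSeries S)) c) = WittVector.map (algebraMap S B) c := by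
      ext n
      simp only [WittVector.map_coeff]
      exact (IsScalarTower.algebraMap_apply S (PowerSeries S) B _).symm
    beta_reduce
    rw [hw, map_sub, map_sub, hmm, map_mul, ← ha, RingHom.comp_apply]
    ring

include hp in
theorem part3 (u : Bˣ) (hu : (u : B) = algebraMap (PowerSeries S) B PowerSeries.X) (m s : ℕ)
    (hs : s < m) (i : ℤ) (hsi : s = 0 ∨ ¬ ((p : ℤ) ∣ i)) (y : TruncatedWittVector p m B)
    (hy : y ∈ WittFil.fil p m (A := PowerSeries S)
      ((u ^ (-((p : ℤ) ^ (m - 1 - s) * i)) : Bˣ) : B)) :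
    ∃ c : WittVector p S,
      y - WittFil.vShiftTeich p m s ((u ^ i : Bˣ) : B) c ∈
        WittFil.fil p m (A := PowerSeries S)
          ((u ^ (-((p : ℤ) ^ (m - 1 - s) * i) - 1) : Bˣ) : B) := by
  obtain ⟨yt, rfl⟩ := WittVector.truncate_surjective p m B y
  set y' : WittVector p B := WittVector.mk p (fun k => yt.coeff (k + s)) with hy'def
  have hdec : yt = WittVector.mk p (fun j => if j < s then yt.coeff j else 0) +
      (WittVector.verschiebung^[s]) y' := by
    ext n
    rw [coeff_lo_add]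
    by_cases hn : n < s
    · rw [if_pos hn]
    · rw [if_neg hn, hy'def, WittVector.coeff_mk, Nat.sub_add_cancel (not_lt.mp hn)]
  have hy' : WittVector.truncate (m - s) y' ∈ WittFil.fil p (m - s) (A := PowerSeries S)
      ((u ^ (-((p : ℤ) ^ (m - s - 1) * i)) : Bˣ) : B) := by
    rw [mem_fil_iff]
    intro k
    have hkm : (k : ℕ) + s < m := by have := k.2; omega
    have h0 := hy ⟨k + s, hkm⟩
    rw [WittVector.coeff_truncate] at h0 ⊢
    rw [hy'def, WittVector.coeff_mk]
    have e1 : m - 1 - s = m - s - 1 := by omega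
    have e2 : m - s - 1 - (k : ℕ) = m - 1 - ((k : ℕ) + s) := by omega
    rw [e2, ← e1]
    exact h0
  obtain ⟨c, hc⟩ := lemmaA p u hu (m - s) i _ hy'
  refine ⟨c, ?_⟩
  set z : WittVector p B := WittVector.map (algebraMap S B) c *
    WittVector.teichmuller p ((u ^ i : Bˣ) : B) with hz
  have hΦ : WittFil.vShiftTeich p m s ((u ^ i : Bˣ) : B) c =
      WittVector.truncate m ((WittVector.verschiebung^[s]) z) := rfl
  have hdiff : yt - (WittVector.verschiebung^[s]) z =
      WittVector.mk p (fun j => if j < s then yt.coeff j else 0) +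
        (WittVector.verschiebung^[s]) (y' - z) := by
    rw [iterate_map_sub, ← add_sub_assoc, ← hdec]
  rw [hΦ, ← map_sub, hdiff, mem_fil_iff]
  intro j
  rw [WittVector.coeff_truncate, coeff_lo_add]
  by_cases hj : (j : ℕ) < s
  · rw [if_pos hj]
    have h0 := hy j
    rw [WittVector.coeff_truncate] at h0
    have hp0 : (p : ℤ) ≠ 0 := by exact_mod_cast hp.out.ne_zero
    have hndvd : ¬ (((p ^ (m - 1 - (j : ℕ)) : ℕ) : ℤ) ∣ (p : ℤ) ^ (m - 1 - s) * i) := by
      intro hd
      have hs0 : s ≠ 0 := by omega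
      have hpi : ¬ (p : ℤ) ∣ i := hsi.resolve_left hs0
      apply hpi
      have e : m - 1 - (j : ℕ) = (m - 1 - s) + ((s - (j : ℕ) - 1) + 1) := by
        have := j.2; omega
      rw [e] at hd
      push_cast at hd
      rw [pow_add, pow_succ] at hd
      have h2 := (mul_dvd_mul_iff_left (pow_ne_zero _ hp0)).mp hd
      exact dvd_trans (dvd_mul_left _ _) h2
    exact pred_mem (PowerSeries.X : PowerSeries S) PowerSeries.X_prime u hu hfin_powerSeries _ _
      (pow_ne_zero _ hp.out.ne_zero) _ hndvd h0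
  · rw [if_neg hj]
    have hkm : (j : ℕ) - s < m - s := by have := j.2; omega
    have h1 : (y' - z).coeff ((j : ℕ) - s) ^ p ^ (m - s - 1 - ((j : ℕ) - s)) *
        ((u ^ (-((p : ℤ) ^ (m - s - 1) * i) - 1) : Bˣ) : B) ∈
          (algebraMap (PowerSeries S) B).range := by
      have h2 := hc ⟨(j : ℕ) - s, hkm⟩
      rwa [← map_sub, WittVector.coeff_truncate] at h2
    have e1 : m - s - 1 = m - 1 - s := by omega
    have e2 : m - 1 - s - ((j : ℕ) - s) = m - 1 - (j : ℕ) := by omega
    rw [e1, e2] at h1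
    exact h1

include hp in
theorem main [CharP S p] (u : Bˣ) (hu : (u : B) = algebraMap (PowerSeries S) B PowerSeries.X)
    (m s : ℕ) (hs : s < m) (i : ℤ) (hsi : s = 0 ∨ ¬ ((p : ℤ) ∣ i)) :
    (∀ c : WittVector p S,
        WittFil.vShiftTeich p m s ((u ^ i : Bˣ) : B) c ∈
          WittFil.fil p m (A := PowerSeries S) ((u ^ (-((p : ℤ) ^ (m - 1 - s) * i)) : Bˣ) : B)) ∧
      (∀ c : WittVector p S,
        WittFil.vShiftTeich p m s ((u ^ i : Bˣ) : B) c ∈
            WittFil.fil p m (A := PowerSeries S) ((u ^ (-((p : ℤ) ^ (m - 1 - s) * i) - 1) : Bˣ) : B) ↔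
          WittVector.truncate (m - s) c = 0) ∧
      (∀ y ∈ WittFil.fil p m (A := PowerSeries S) ((u ^ (-((p : ℤ) ^ (m - 1 - s) * i)) : Bˣ) : B),
        ∃ c : WittVector p S,
          y - WittFil.vShiftTeich p m s ((u ^ i : Bˣ) : B) c ∈
            WittFil.fil p m (A := PowerSeries S)
              ((u ^ (-((p : ℤ) ^ (m - 1 - s) * i) - 1) : Bˣ) : B)) :=
  ⟨fun c => part1 p u m s i c, fun c => part2 p u hu m s i c,
    fun y hy => part3 p u hu m s hs i hsi y hy⟩

end main

end Groth.Agent.Lib.WittGr_lead
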