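import Groth.Agent.Lib.QLin_helper1

/-!
# Fixed bases of lattices over Witt vectors under bijective Frobenius-semilinear maps (helper1)
-/

set_option autoImplicit false

namespace Groth.Agent.Lib.WittLangH1

universe u v

theorem lang_complete {W : Type*} [CommRing W] (pw : W) {ι : Type*}
    (hcomp : ∀ f : ℕ → W, (∀ m t, pw ^ m ∣ f (m + t) - f m) → ∃ L, ∀ m, pw ^ m ∣ L - f m)
    (hhaus : ∀ x : W, (∀ m, pw ^ m ∣ x) → x = 0)
    (G : (ι → W) →+ (ι → W)) (hGp : ∀ x : ι → W, G (fun i => pw * x i) = fun i => pw * G x i)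
    (hmod : ∀ d : ι → W, ∃ y d' : ι → W, ∀ i, d i - G y i = pw * d' i) :
    Function.Surjective G := by
  intro d
  choose Y D hYD using hmod
  have hGpm : ∀ (m : ℕ) (x : ι → W), G (fun i => pw ^ m * x i) = fun i => pw ^ m * G x i := by
    intro m
    induction m with
    | zero => intro x; simp
    | succ m ih =>
      intro x
      have h1 : (fun i => pw ^ (m + 1) * x i) = fun i => pw * (pw ^ m * x i) := by
        funext i; ring
      rw [h1, hGp, ih]
      funext i; ring
  obtain ⟨ds, hds0, hdss⟩ : ∃ ds : ℕ → (ι → W), ds 0 = d ∧ ∀ m, ds (m + 1) = D (ds m) :=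
    ⟨fun m => Nat.rec d (fun _ x => D x) m, rfl, fun _ => rfl⟩
  obtain ⟨zs, hzs0, hzss⟩ : ∃ zs : ℕ → (ι → W), zs 0 = 0 ∧
      ∀ m, zs (m + 1) = zs m + fun i => pw ^ m * Y (ds m) i :=
    ⟨fun m => Nat.rec 0 (fun m z => z + fun i => pw ^ m * Y (ds m) i) m, rfl, fun _ => rfl⟩
  have hGz : ∀ m i, G (zs m) i = d i - pw ^ m * ds m i := by
    intro m
    induction m with
    | zero => intro i; rw [hzs0, map_zero, hds0]; simp
    | succ m ih =>
      intro i
      rw [hzss, map_add, Pi.add_apply, ih, hGpm, hdss]
      have h1 := hYD (ds m) i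
      linear_combination (-(pw ^ m)) * h1
  have hC : ∀ i m t, pw ^ m ∣ zs (m + t) i - zs m i := by
    intro i m t
    induction t with
    | zero => simp
    | succ t ih =>
      have h1 : zs (m + (t + 1)) i - zs m i =
          (zs (m + t) i - zs m i) + pw ^ (m + t) * Y (ds (m + t)) i := by
        rw [← add_assoc, hzss, Pi.add_apply]; ring
      rw [h1]
      exact dvd_add ih (dvd_mul_of_dvd_left (pow_dvd_pow pw (Nat.le_add_right m t)) _)
  choose z hz using fun i => hcomp (fun m => zs m i) (hC i)
  refine ⟨z, ?_⟩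
  funext i
  rw [← sub_eq_zero]
  apply hhaus
  intro m
  have hz' : ∀ j, ∃ c, z j - zs m j = pw ^ m * c := fun j => hz j m
  choose u hu using hz'
  have hzeq : z = zs m + fun j => pw ^ m * u j := by
    funext j; rw [Pi.add_apply, ← hu j]; ring
  rw [hzeq, map_add, Pi.add_apply, hGz, hGpm]
  exact ⟨G u i - ds m i, by ring⟩

section witt

variable {p : ℕ} [hp : Fact p.Prime] {k : Type u} [CommRing k] [CharP k p] [PerfectRing k p]

theorem W_comp (f : ℕ → WittVector p k)
    (hf : ∀ m t, (p : WittVector p k) ^ m ∣ f (m + t) - f m) :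
    ∃ L, ∀ m, (p : WittVector p k) ^ m ∣ L - f m := by
  obtain ⟨L, hL⟩ := IsPrecomplete.prec
    (inferInstance : IsPrecomplete (Ideal.span {(p : WittVector p k)}) (WittVector p k)) (f := f)
    (by
      intro m n hmn
      obtain ⟨t, rfl⟩ := Nat.exists_eq_add_of_le hmn
      rw [SModEq.sub_mem, smul_eq_mul, Ideal.mul_top, Ideal.span_singleton_pow,
        Ideal.mem_span_singleton, ← dvd_neg, neg_sub]
      exact hf m t)
  refine ⟨L, fun m => ?_⟩
  have h1 := hL m
  rw [SModEq.sub_mem, smul_eq_mul, Ideal.mul_top, Ideal.span_singleton_pow,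
    Ideal.mem_span_singleton, ← dvd_neg, neg_sub] at h1
  exact h1

theorem W_haus (x : WittVector p k) (hx : ∀ m, (p : WittVector p k) ^ m ∣ x) : x = 0 := by
  ext n
  have h1 : x ∈ Ideal.span {((p : WittVector p k)) ^ (n + 1)} :=
    Ideal.mem_span_singleton.2 (hx (n + 1))
  rw [WittVector.mem_span_p_pow_iff_le_coeff_eq_zero] at h1
  rw [h1 n (Nat.lt_succ_self n), WittVector.zero_coeff]

theorem p_dvd_iff (x : WittVector p k) : (p : WittVector p k) ∣ x ↔ x.coeff 0 = 0 := by
  rw [← Ideal.mem_span_singleton, WittVector.mem_span_p_iff_coeff_zero_eq_zero]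

theorem coeff_zero_iter_frob (ν : ℕ) (x : WittVector p k) :
    ((⇑(WittVector.frobenius : WittVector p k →+* WittVector p k))^[ν] x).coeff 0 =
      (x.coeff 0) ^ (p ^ ν) := by
  induction ν with
  | zero => simp
  | succ ν ih =>
    rw [Function.iterate_succ_apply', WittVector.coeff_frobenius_charP, ih, ← pow_mul, ← pow_succ]

end witt

theorem main16854 (k : Type u) [Field k] [IsAlgClosed k]
    (p : ℕ) [Fact p.Prime] [CharP k p] (ν : ℕ) (hν : 1 ≤ ν)
    (M : Type v) [AddCommGroup M] [Module (WittVector p k) M]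
    [Module.Finite (WittVector p k) M] [Module.Free (WittVector p k) M]
    (F : M →+ M)
    (hF : ∀ (a : WittVector p k) (m : M), F (a • m) = ((⇑(WittVector.frobenius : WittVector p k →+* WittVector p k))^[ν] a) • F m)
    (hbij : Function.Bijective F) :
    ∃ (ι : Type v) (b : Module.Basis ι (WittVector p k) M), ∀ i, F (b i) = b i := by
  classical
  haveI : ExpChar k p := ExpChar.prime Fact.out
  haveI : PerfectRing k p := PerfectField.toPerfectRing p
  have hr : 0 < ν := hν
  obtain ⟨n, hn⟩ : ∃ n, n = Module.finrank (WittVector p k) M := ⟨_, rfl⟩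
  let β : Module.Basis (Fin n) (WittVector p k) M :=
    (Module.finBasis (WittVector p k) M).reindex (finCongr hn.symm)
  let s : WittVector p k →+* WittVector p k := WittVector.frobenius ^ ν
  have hs : ∀ a, s a =
      (⇑(WittVector.frobenius : WittVector p k →+* WittVector p k))^[ν] a := fun a => by
    show (WittVector.frobenius ^ ν : WittVector p k →+* WittVector p k) a = _
    rw [RingHom.coe_pow]
  have hsp : s (p : WittVector p k) = p := map_natCast s p
  have hs0 : ∀ a, (s a).coeff 0 = (a.coeff 0) ^ (p ^ ν) := fun a => by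
    rw [hs, coeff_zero_iter_frob]
  let A : Fin n → Fin n → WittVector p k := fun i j => β.repr (F (β j)) i
  have hFβ : ∀ j, F (β j) = ∑ i, A i j • β i := fun j => (β.sum_repr (F (β j))).symm
  let Φ : (Fin n → WittVector p k) →+ (Fin n → WittVector p k) :=
    { toFun := fun x i => ∑ j, A i j * s (x j)
      map_zero' := by funext i; simp
      map_add' := fun x y => by funext i; simp [mul_add, Finset.sum_add_distrib] }
  have hΦ : ∀ x i, Φ x i = ∑ j, A i j * s (x j) := fun _ _ => rfl
  let toM : (Fin n → WittVector p k) → M := fun x => ∑ j, x j • β j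
  have htoM : ∀ x, toM x = ∑ j, x j • β j := fun _ => rfl
  have hFΦ : ∀ x, F (toM x) = toM (Φ x) := by
    intro x
    rw [htoM, htoM, map_sum]
    have h1 : ∀ j, F (x j • β j) = ∑ i, (A i j * s (x j)) • β i := by
      intro j
      rw [hF, ← hs, hFβ, Finset.smul_sum]
      refine Finset.sum_congr rfl (fun i _ => ?_)
      rw [smul_smul, mul_comm]
    simp only [h1]
    rw [Finset.sum_comm]
    refine Finset.sum_congr rfl (fun i _ => ?_)
    rw [hΦ, Finset.sum_smul]
  have hΦp : ∀ x : Fin n → WittVector p k,
      Φ (fun i => (p : WittVector p k) * x i) = fun i => (p : WittVector p k) * Φ x i := by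
    intro x
    funext i
    rw [hΦ, hΦ, Finset.mul_sum]
    refine Finset.sum_congr rfl (fun j _ => ?_)
    rw [map_mul, hsp]; ring
  let Ab : Fin n → Fin n → k := fun i j => (A i j).coeff 0
  let φb : (Fin n → k) →+ (Fin n → k) :=
    { toFun := fun c i => ∑ j, Ab i j * (c j) ^ (p ^ ν)
      map_zero' := by
        funext i
        simp [zero_pow (pow_pos (Fact.out : p.Prime).pos ν).ne']
      map_add' := fun c d => by
        funext i
        simp only [Pi.add_apply, add_pow_char_pow, mul_add, Finset.sum_add_distrib] }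
  have hφb : ∀ c i, φb c i = ∑ j, Ab i j * (c j) ^ (p ^ ν) := fun _ _ => rfl
  have hφbq : ∀ (a : k) (c : Fin n → k), φb (a • c) = a ^ (p ^ ν) • φb c := by
    intro a c
    funext i
    rw [Pi.smul_apply, hφb, hφb, smul_eq_mul, Finset.mul_sum]
    refine Finset.sum_congr rfl (fun j _ => ?_)
    rw [Pi.smul_apply, smul_eq_mul, mul_pow]; ring
  have hred : ∀ (x : Fin n → WittVector p k) i,
      (Φ x i).coeff 0 = φb (fun j => (x j).coeff 0) i := by
    intro x i
    rw [hΦ, hφb, ← WittVector.constantCoeff_apply, map_sum]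
    refine Finset.sum_congr rfl (fun j _ => ?_)
    rw [map_mul, WittVector.constantCoeff_apply, WittVector.constantCoeff_apply, hs0]
  have hss : Submodule.span k (Set.range φb) = ⊤ := by
    rw [eq_top_iff, ← (Pi.basisFun k (Fin n)).span_eq]
    apply Submodule.span_mono
    rintro _ ⟨i0, rfl⟩
    obtain ⟨m, hm⟩ := hbij.2 (β i0)
    obtain ⟨x, hx⟩ : ∃ x : Fin n → WittVector p k, ∀ j, x j = β.repr m j := ⟨_, fun _ => rfl⟩
    have hmx : toM x = m := by
      rw [htoM]; simp only [hx]; exact β.sum_repr m
    have h1 : toM (Φ x) = β i0 := by rw [← hFΦ, hmx, hm]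
    have h2 : ∀ i, Φ x i = β.repr (β i0) i := by
      intro i
      rw [← h1, htoM, β.repr_sum_self]
    refine ⟨fun j => (x j).coeff 0, ?_⟩
    funext i
    rw [← hred, h2, Pi.basisFun_apply, Module.Basis.repr_self]
    by_cases h : i = i0
    · subst h; simp
    · simp [Finsupp.single_apply, Pi.single_apply, h, Ne.symm h]
  obtain ⟨cb0, hcb0⟩ :=
    Groth.Agent.Lib.QLinH1.exists_fixed_basis k p ν hr (Fin n → k) φb hφbq hss
  let cb : Module.Basis (Fin n) k (Fin n → k) :=
    cb0.reindex (finCongr (Module.finrank_fin_fun k))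
  have hcb : ∀ l, φb (cb l) = cb l := by
    intro l
    rw [Module.Basis.reindex_apply]; exact hcb0 _
  have hlang : Function.Surjective (AddMonoidHom.id (Fin n → WittVector p k) - Φ) := by
    apply lang_complete (p : WittVector p k) W_comp W_haus
    · intro x
      funext i
      simp only [AddMonoidHom.sub_apply, AddMonoidHom.id_apply, Pi.sub_apply, hΦp]
      ring
    · intro d
      obtain ⟨c, hc⟩ := Groth.Agent.Lib.QLinH1.main3213 k p ν hr (Fin n → k) φb hφbq
        (fun i => (d i).coeff 0)
      have hc' : ∀ i, c i - φb c i = (d i).coeff 0 := fun i => congrFun hc i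
      obtain ⟨y, hy⟩ : ∃ y : Fin n → WittVector p k, ∀ i, y i = WittVector.teichmuller p (c i) :=
        ⟨_, fun _ => rfl⟩
      have hy0 : (fun j => (y j).coeff 0) = c := by
        funext j; rw [hy]; exact WittVector.teichmuller_coeff_zero p (c j)
      have hdvd : ∀ i, ∃ e, d i - (AddMonoidHom.id (Fin n → WittVector p k) - Φ) y i =
          (p : WittVector p k) * e := by
        intro i
        have h0 : (p : WittVector p k) ∣
            d i - (AddMonoidHom.id (Fin n → WittVector p k) - Φ) y i := by
          rw [p_dvd_iff]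
          simp only [AddMonoidHom.sub_apply, AddMonoidHom.id_apply, Pi.sub_apply]
          have h1 : (d i - (y i - Φ y i)).coeff 0 =
              (d i).coeff 0 - ((y i).coeff 0 - (Φ y i).coeff 0) := by
            simp only [← WittVector.constantCoeff_apply, map_sub]
          rw [h1, hred, hy0, hy, WittVector.teichmuller_coeff_zero, ← hc' i]
          ring
        exact h0
      choose d' hd' using hdvd
      exact ⟨y, d', hd'⟩
  have hlift : ∀ c : Fin n → k, φb c = c →
      ∃ x : Fin n → WittVector p k, Φ x = x ∧ ∀ i, (x i).coeff 0 = c i := by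
    intro c hc
    obtain ⟨x0, hx0⟩ : ∃ x0 : Fin n → WittVector p k,
        ∀ i, x0 i = WittVector.teichmuller p (c i) := ⟨_, fun _ => rfl⟩
    have hx00 : (fun j => (x0 j).coeff 0) = c := by
      funext j; rw [hx0]; exact WittVector.teichmuller_coeff_zero p (c j)
    have hdvd : ∀ i, ∃ e, Φ x0 i - x0 i = (p : WittVector p k) * e := by
      intro i
      have h0 : (p : WittVector p k) ∣ Φ x0 i - x0 i := by
        rw [p_dvd_iff]
        have h1 : (Φ x0 i - x0 i).coeff 0 = (Φ x0 i).coeff 0 - (x0 i).coeff 0 := by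
          simp only [← WittVector.constantCoeff_apply, map_sub]
        rw [h1, hred, hx00, hc, hx0, WittVector.teichmuller_coeff_zero, sub_self]
      exact h0
    choose e he using hdvd
    obtain ⟨y, hy⟩ := hlang e
    have hy' : ∀ i, y i - Φ y i = e i := fun i => congrFun hy i
    refine ⟨fun i => x0 i + (p : WittVector p k) * y i, ?_, ?_⟩
    · funext i
      have h1 : (fun i => x0 i + (p : WittVector p k) * y i) =
          x0 + fun i => (p : WittVector p k) * y i := rfl
      rw [h1, map_add, Pi.add_apply, hΦp]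
      show Φ x0 i + (p : WittVector p k) * Φ y i = x0 i + (p : WittVector p k) * y i
      linear_combination (he i) - (p : WittVector p k) * (hy' i)
    · intro i
      have h1 : (x0 i + (p : WittVector p k) * y i).coeff 0 =
          (x0 i).coeff 0 + ((p : ℕ) : k) * (y i).coeff 0 := by
        simp only [← WittVector.constantCoeff_apply, map_add, map_mul, map_natCast]
      rw [h1, CharP.cast_eq_zero, zero_mul, add_zero, hx0, WittVector.teichmuller_coeff_zero]
  choose xl hxl1 hxl2 using fun l => hlift (cb l) (hcb l)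
  let f : M →ₗ[WittVector p k] M := β.constr (WittVector p k) (fun l => toM (xl l))
  have hfβ : ∀ l, f (β l) = toM (xl l) := fun l => β.constr_basis _ _ l
  have hdet : IsUnit (LinearMap.toMatrix β β f).det := by
    apply WittVector.isUnit_of_coeff_zero_ne_zero
    rw [← WittVector.constantCoeff_apply, RingHom.map_det]
    have hmat : (WittVector.constantCoeff : WittVector p k →+* k).mapMatrix
        (LinearMap.toMatrix β β f) = (Pi.basisFun k (Fin n)).toMatrix cb := by
      ext i l
      rw [RingHom.mapMatrix_apply, Matrix.map_apply, LinearMap.toMatrix_apply, hfβ, htoM,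
        β.repr_sum_self, WittVector.constantCoeff_apply, hxl2, Module.Basis.toMatrix_apply,
        Pi.basisFun_repr]
    rw [hmat, ← Module.Basis.det_apply]
    exact (Module.Basis.isUnit_det _ _).ne_zero
  refine ⟨ULift.{v} (Fin n), (β.map (LinearEquiv.ofIsUnitDet hdet)).reindex Equiv.ulift.symm,
    fun i => ?_⟩
  rw [Module.Basis.reindex_apply, Module.Basis.map_apply]
  show F (f (β _)) = f (β _)
  rw [hfβ, hFΦ, hxl1]

end Groth.Agent.Lib.WittLangH1
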