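import Mathlib

/-!
# Roots of unity in `W(k)` with residue `1` are trivial for odd `p` (S16356)
-/

universe u

namespace Groth.Agent.Lib.WittRootUnity

open WittVector Finset

variable (p : ℕ) [hp : Fact p.Prime] (k : Type u) [Field k] [CharP k p] [PerfectRing k p]

lemma coeff_zero_sum_pow (x : WittVector p k) (h0 : x.coeff 0 = 1) (n : ℕ) :
    (∑ i ∈ range n, x ^ i).coeff 0 = (n : k) := by
  have h1 : ∀ y : WittVector p k, y.coeff 0 = WittVector.constantCoeff y := fun y => rfl
  rw [h1, map_sum]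
  have h2 : ∀ i ∈ range n, WittVector.constantCoeff (x ^ i) = 1 := by
    intro i _
    rw [map_pow, ← h1, h0, one_pow]
  rw [sum_congr rfl h2]
  simp

lemma eq_one_of_not_dvd (x : WittVector p k) (h0 : x.coeff 0 = 1) (n : ℕ) (hn : ¬ p ∣ n)
    (hx : x ^ n = 1) : x = 1 := by
  have hu : IsUnit (∑ i ∈ range n, x ^ i) := by
    apply isUnit_of_coeff_zero_ne_zero
    rw [coeff_zero_sum_pow p k x h0]
    rwa [Ne, CharP.cast_eq_zero_iff k p]
  have h1 := mul_geom_sum x n
  rw [hx, sub_self] at h1
  have h2 := hu.mul_left_eq_zero.mp h1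
  exact sub_eq_zero.mp h2

lemma pow_eq (u : WittVector p k) (i : ℕ) : ∃ w : WittVector p k,
    (1 + (p : WittVector p k) * u) ^ i
      = 1 + (i : WittVector p k) * ((p : WittVector p k) * u) + (p : WittVector p k) ^ 2 * w := by
  induction i with
  | zero => exact ⟨0, by simp⟩
  | succ i ih =>
    obtain ⟨w, hw⟩ := ih
    refine ⟨(i : WittVector p k) * u ^ 2 + w + (p : WittVector p k) * u * w, ?_⟩
    rw [pow_succ, hw]
    push_cast
    ring

lemma eq_one_of_pow_p (hp2 : p ≠ 2) (x : WittVector p k) (h0 : x.coeff 0 = 1)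
    (hx : x ^ p = 1) : x = 1 := by
  have h1 : x - 1 ∈ Ideal.span {(p : WittVector p k)} := by
    rw [mem_span_p_iff_coeff_zero_eq_zero]
    show WittVector.constantCoeff (x - 1) = 0
    rw [map_sub, map_one]
    show x.coeff 0 - 1 = 0
    rw [h0, sub_self]
  obtain ⟨u, hu⟩ := Ideal.mem_span_singleton'.mp h1
  have hx1 : x = 1 + (p : WittVector p k) * u := by
    rw [mul_comm, hu]; ring
  choose w hw using pow_eq p k u
  have hodd : Odd p := hp.out.eq_two_or_odd'.resolve_left hp2
  have hsum : ∑ i ∈ range p, i = p * ((p - 1) / 2) := by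
    obtain ⟨t, ht⟩ := hodd
    have h2 := Finset.sum_range_id_mul_two p
    have h3 : (p - 1) / 2 = t := by omega
    rw [h3]
    have h4 : p - 1 = 2 * t := by omega
    rw [h4] at h2
    have h5 : (∑ i ∈ range p, i) * 2 = (p * t) * 2 := by rw [h2]; ring
    exact Nat.eq_of_mul_eq_mul_right (by norm_num) h5
  have hS : ∑ i ∈ range p, x ^ i = (p : WittVector p k) *
      (1 + (p : WittVector p k) * (u * (((p - 1) / 2 : ℕ) : WittVector p k) + ∑ i ∈ range p, w i)) := by
    rw [hx1]
    simp only [hw]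
    rw [sum_add_distrib, sum_add_distrib, sum_const, card_range, ← sum_mul, ← mul_sum,
      ← Nat.cast_sum, hsum]
    push_cast
    rw [nsmul_eq_mul]
    ring
  have hunit : IsUnit (1 + (p : WittVector p k) *
      (u * (((p - 1) / 2 : ℕ) : WittVector p k) + ∑ i ∈ range p, w i)) := by
    apply isUnit_of_coeff_zero_ne_zero
    show WittVector.constantCoeff (1 + (p : WittVector p k) *
      (u * (((p - 1) / 2 : ℕ) : WittVector p k) + ∑ i ∈ range p, w i)) ≠ 0
    rw [map_add, map_one, map_mul, map_natCast, CharP.cast_eq_zero, zero_mul, add_zero]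
    exact one_ne_zero
  have h2 := mul_geom_sum x p
  rw [hx, sub_self, hS, ← mul_assoc] at h2
  have h3 := hunit.mul_left_eq_zero.mp h2
  exact sub_eq_zero.mp (WittVector.eq_zero_of_p_mul_eq_zero _ h3)

theorem main (p : ℕ) [Fact p.Prime] (hp : p ≠ 2)
    (k : Type u) [Field k] [CharP k p] [PerfectRing k p]
    (x : WittVector p k) (n : ℕ) (hn : 0 < n) (hx : x ^ n = 1) (h0 : x.coeff 0 = 1) : x = 1 := by
  induction n using Nat.strong_induction_on generalizing x with
  | _ n ih =>
    by_cases hd : p ∣ n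
    · obtain ⟨n', rfl⟩ := hd
      have hn' : 0 < n' := Nat.pos_of_mul_pos_left hn
      have hlt : n' < p * n' := by
        have := (Fact.out : p.Prime).two_le
        nlinarith
      have hxp : (x ^ p) ^ n' = 1 := by rw [← pow_mul]; exact hx
      have h0p : (x ^ p).coeff 0 = 1 := by
        show WittVector.constantCoeff (x ^ p) = 1
        rw [map_pow]
        show (x.coeff 0) ^ p = 1
        rw [h0, one_pow]
      have h1 := ih n' hlt (x ^ p) hn' hxp h0p
      exact eq_one_of_pow_p p k hp x h0 h1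
    · exact eq_one_of_not_dvd p k x h0 n hd hx

end Groth.Agent.Lib.WittRootUnity
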