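import Mathlib
import Groth.Agent.Lib.WittGhostDvd_helper1

/-!
# Solving `p^u x = a` in truncated Witt vectors by passing to the limit (S14861, S14862)
-/

universe u

namespace Groth.Agent.Lib.WittSolve

open WittVector

variable (p : ℕ) [Fact p.Prime] (S : Type u) [CommRing S]

/-- Witt vectors whose first `m` components lie in `p^k S`. -/
noncomputable def JJ (m k : ℕ) : Ideal (WittVector p S) :=
  RingHom.ker ((WittVector.truncate (p := p) m).comp
    (WittVector.map (Ideal.Quotient.mk (Ideal.span {(p : S) ^ k}))))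

lemma mem_JJ (m k : ℕ) (x : WittVector p S) :
    x ∈ JJ p S m k ↔ ∀ i < m, (p : S) ^ k ∣ x.coeff i := by
  unfold JJ
  rw [RingHom.mem_ker, RingHom.comp_apply, ← RingHom.mem_ker, WittVector.mem_ker_truncate]
  simp only [WittVector.map_coeff, Ideal.Quotient.eq_zero_iff_mem, Ideal.mem_span_singleton]

lemma coeff_sub_of_sub_mem (m k : ℕ) (x y : WittVector p S) (h : x - y ∈ JJ p S m k)
    (i : ℕ) (hi : i < m) : (p : S) ^ k ∣ x.coeff i - y.coeff i := by
  unfold JJ at h
  rw [RingHom.mem_ker, map_sub, sub_eq_zero] at h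
  have h1 := congrArg (fun t => TruncatedWittVector.coeff ⟨i, hi⟩ t) h
  simp only [RingHom.comp_apply, WittVector.coeff_truncate, WittVector.map_coeff] at h1
  rw [← Ideal.mem_span_singleton, ← Ideal.Quotient.eq]
  exact h1

lemma sub_mem_of_coeff_sub (m k : ℕ) (x y : WittVector p S)
    (h : ∀ i < m, (p : S) ^ k ∣ x.coeff i - y.coeff i) : x - y ∈ JJ p S m k := by
  unfold JJ
  rw [RingHom.mem_ker, map_sub, sub_eq_zero]
  apply TruncatedWittVector.ext
  intro i
  simp only [RingHom.comp_apply, WittVector.coeff_truncate, WittVector.map_coeff]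
  rw [Ideal.Quotient.eq, Ideal.mem_span_singleton]
  exact h i i.2

lemma JJ_mono (m : ℕ) {k l : ℕ} (hkl : k ≤ l) : JJ p S m l ≤ JJ p S m k := by
  intro x hx
  rw [mem_JJ] at hx ⊢
  intro i hi
  exact (pow_dvd_pow _ hkl).trans (hx i hi)

lemma ker_truncate_le (m k : ℕ) :
    RingHom.ker (WittVector.truncate (p := p) (R := S) m) ≤ JJ p S m k := by
  intro x hx
  rw [WittVector.mem_ker_truncate] at hx
  rw [mem_JJ]
  intro i hi
  rw [hx i hi]
  exact dvd_zero _

lemma ker_map_le (m k : ℕ) :
    RingHom.ker (WittVector.map (p := p) (Ideal.Quotient.mk (Ideal.span {(p : S) ^ k})))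
      ≤ JJ p S m k := by
  intro x hx
  rw [RingHom.mem_ker] at hx
  rw [mem_JJ]
  intro i _
  have h1 := congrArg (fun t => WittVector.coeff t i) hx
  simp only [WittVector.map_coeff, WittVector.zero_coeff] at h1
  rw [Ideal.Quotient.eq_zero_iff_mem, Ideal.mem_span_singleton] at h1
  exact h1

variable {S}

lemma cancel (hS : ∀ y : S, (p : S) * y = 0 → y = 0) (M k u : ℕ) (hk : 1 ≤ k)
    (y : WittVector p S) (h : (p : WittVector p S) ^ u * y ∈ JJ p S (M + 1) (k + u)) :
    y ∈ JJ p S (M + 1) k := by
  rw [mem_JJ] at h ⊢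
  have h1 : ∀ i ≤ M, (p : S) ^ (k + u) ∣ ((p : WittVector p S) ^ u * y).coeff i :=
    fun i hi => h i (Nat.lt_succ_of_le hi)
  rw [Groth.Agent.Lib.WittGhostDvd.main p S hS _ M (k + u) (by omega)] at h1
  have h2 : ∀ n ≤ M, (p : S) ^ (n + k) ∣ WittVector.ghostComponent n y := by
    intro n hn
    obtain ⟨c, hc⟩ := h1 n hn
    rw [map_mul, map_pow, map_natCast] at hc
    refine ⟨c, ?_⟩
    have h3 : (p : S) ^ u * (WittVector.ghostComponent n y - (p : S) ^ (n + k) * c) = 0 := by
      rw [mul_sub, hc]; ring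
    exact sub_eq_zero.mp (Groth.Agent.Lib.WittGhostDvd.pow_cancel p S hS u _ h3)
  rw [← Groth.Agent.Lib.WittGhostDvd.main p S hS _ M k hk] at h2
  intro i hi
  exact h2 i (Nat.lt_succ_iff.mp hi)

lemma cancel_trunc (hS : ∀ y : S, (p : S) * y = 0 → y = 0)
    [IsAdicComplete (Ideal.span {(p : S)}) S] (r u : ℕ) (y : WittVector p S)
    (h : (p : WittVector p S) ^ u * y ∈ RingHom.ker (WittVector.truncate (p := p) (R := S) r)) :
    y ∈ RingHom.ker (WittVector.truncate (p := p) (R := S) r) := by
  rcases Nat.eq_zero_or_pos r with rfl | hr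
  · rw [WittVector.mem_ker_truncate]; intro i hi; exact absurd hi (Nat.not_lt_zero _)
  obtain ⟨M, rfl⟩ : ∃ M, r = M + 1 := ⟨r - 1, by omega⟩
  rw [WittVector.mem_ker_truncate] at h ⊢
  have h1 : ∀ k, 1 ≤ k → y ∈ JJ p S (M + 1) k := by
    intro k hk
    apply cancel p hS M k u hk
    rw [mem_JJ]; intro i hi; rw [h i hi]; exact dvd_zero _
  intro i hi
  apply IsHausdorff.haus (inferInstance : IsHausdorff (Ideal.span {(p : S)}) S)
  intro k
  rw [SModEq.zero, smul_eq_mul, Ideal.mul_top, Ideal.span_singleton_pow,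
    Ideal.mem_span_singleton]
  rcases Nat.eq_zero_or_pos k with rfl | hk
  · simp
  · exact (mem_JJ p S (M + 1) k y).mp (h1 k hk) i hi

theorem main (p : ℕ) [Fact p.Prime] (R : Type u) [CommRing R]
    (hR : ∀ y : R, (p : R) * y = 0 → y = 0) [IsAdicComplete (Ideal.span {(p : R)}) R]
    (a : WittVector p R) (m u : ℕ)
    (h : ∀ s : ℕ, ∃ z : WittVector p R, ∀ i < m,
      ((p : WittVector p R) ^ u * z - a).coeff i ∈ Ideal.span {(p : R) ^ s}) :
    ∃ x : WittVector p R, ∀ i < m, ((p : WittVector p R) ^ u * x - a).coeff i = 0 := by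
  rcases Nat.eq_zero_or_pos m with rfl | hm
  · exact ⟨0, fun i hi => absurd hi (Nat.not_lt_zero _)⟩
  obtain ⟨M, rfl⟩ : ∃ M, m = M + 1 := ⟨m - 1, by omega⟩
  choose z hz using h
  have hz' : ∀ s, (p : WittVector p R) ^ u * z s - a ∈ JJ p R (M + 1) s := by
    intro s; rw [mem_JJ]; intro i hi; exact Ideal.mem_span_singleton.mp (hz s i hi)
  have hcauchy : ∀ k l, k ≤ l → z (k + u) - z (l + u) ∈ JJ p R (M + 1) k := by
    intro k l hkl
    rcases Nat.eq_zero_or_pos k with rfl | hk
    · rw [mem_JJ]; intro i _; simp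
    apply cancel p hR M k u hk
    have h1 := hz' (k + u)
    have h2 : (p : WittVector p R) ^ u * z (l + u) - a ∈ JJ p R (M + 1) (k + u) :=
      JJ_mono p R (M + 1) (by omega) (hz' (l + u))
    have h3 := Ideal.sub_mem _ h1 h2
    convert h3 using 1
    ring
  have hlim : ∀ i : ℕ, i < M + 1 → ∃ L : R, ∀ k, (p : R) ^ k ∣ L - (z (k + u)).coeff i := by
    intro i hi
    have hpre := IsPrecomplete.prec (inferInstance : IsPrecomplete (Ideal.span {(p : R)}) R)
      (f := fun k => (z (k + u)).coeff i) (by
        intro k l hkl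
        rw [SModEq.sub_mem, smul_eq_mul, Ideal.mul_top, Ideal.span_singleton_pow,
          Ideal.mem_span_singleton]
        exact coeff_sub_of_sub_mem p R (M + 1) k _ _ (hcauchy k l hkl) i hi)
    obtain ⟨L, hL⟩ := hpre
    refine ⟨L, fun k => ?_⟩
    have h1 := hL k
    rw [SModEq.sub_mem, smul_eq_mul, Ideal.mul_top, Ideal.span_singleton_pow,
      Ideal.mem_span_singleton] at h1
    exact (dvd_sub_comm).mp h1
  choose L hL using hlim
  let x : WittVector p R := WittVector.mk p (fun i => if hi : i < M + 1 then L i hi else 0)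
  have hx : ∀ k, x - z (k + u) ∈ JJ p R (M + 1) k := by
    intro k
    apply sub_mem_of_coeff_sub
    intro i hi
    have : x.coeff i = L i hi := by
      show (WittVector.mk p _).coeff i = _
      rw [WittVector.coeff_mk]
      simp [hi]
    rw [this]
    exact hL i hi k
  have hfin : ∀ k, (p : WittVector p R) ^ u * x - a ∈ JJ p R (M + 1) k := by
    intro k
    have e : (p : WittVector p R) ^ u * x - a
        = (p : WittVector p R) ^ u * (x - z (k + u)) + ((p : WittVector p R) ^ u * z (k + u) - a) := by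
      ring
    rw [e]
    exact Ideal.add_mem _ (Ideal.mul_mem_left _ _ (hx k))
      (JJ_mono p R (M + 1) (by omega) (hz' (k + u)))
  refine ⟨x, fun i hi => ?_⟩
  apply IsHausdorff.haus (inferInstance : IsHausdorff (Ideal.span {(p : R)}) R)
  intro k
  rw [SModEq.zero, smul_eq_mul, Ideal.mul_top, Ideal.span_singleton_pow,
    Ideal.mem_span_singleton]
  exact (mem_JJ p R (M + 1) k _).mp (hfin k) i hi

theorem main2 (p : ℕ) [Fact p.Prime] (S : Type u) [CommRing S]
    (hS : ∀ y : S, (p : S) * y = 0 → y = 0) [IsAdicComplete (Ideal.span {(p : S)}) S] (u : ℕ) :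
    (⨅ r : ℕ, ⨅ s : ℕ,
        Ideal.span {(p : WittVector p S) ^ u} ⊔
          RingHom.ker (WittVector.truncate (p := p) (R := S) r) ⊔
          RingHom.ker (WittVector.map (p := p)
            (Ideal.Quotient.mk (Ideal.span {(p : S) ^ s})))) =
      Ideal.span {(p : WittVector p S) ^ u} := by
  apply le_antisymm
  · intro a ha
    rw [Submodule.mem_iInf] at ha
    have h1 : ∀ r s, ∃ z : WittVector p S, (p : WittVector p S) ^ u * z - a ∈ JJ p S r s := by
      intro r s
      have h2 := ha r
      rw [Submodule.mem_iInf] at h2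
      have h3 := h2 s
      rw [sup_assoc] at h3
      obtain ⟨b, hb, c, hc, rfl⟩ := Submodule.mem_sup.mp h3
      obtain ⟨z, rfl⟩ := Ideal.mem_span_singleton'.mp hb
      refine ⟨z, ?_⟩
      have e : (p : WittVector p S) ^ u * z - (z * (p : WittVector p S) ^ u + c) = -c := by ring
      rw [e]
      apply neg_mem
      exact (sup_le (ker_truncate_le p S r s) (ker_map_le p S r s)) hc
    have h4 : ∀ r, ∃ x : WittVector p S, ∀ i < r,
        ((p : WittVector p S) ^ u * x - a).coeff i = 0 := fun r =>
      main p S hS a r u (fun s => by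
        obtain ⟨z, hz⟩ := h1 r s
        exact ⟨z, fun i hi => Ideal.mem_span_singleton.mpr ((mem_JJ p S r s _).mp hz i hi)⟩)
    choose x hx using h4
    have h5 : ∀ r r', r ≤ r' → ∀ i < r, (x r).coeff i = (x r').coeff i := by
      intro r r' hrr'
      have m1 : (p : WittVector p S) ^ u * x r - a
          ∈ RingHom.ker (WittVector.truncate (p := p) (R := S) r) :=
        (WittVector.mem_ker_truncate _ _).mpr (hx r)
      have m2 : (p : WittVector p S) ^ u * x r' - a
          ∈ RingHom.ker (WittVector.truncate (p := p) (R := S) r) :=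
        (WittVector.mem_ker_truncate _ _).mpr (fun i hi => hx r' i (lt_of_lt_of_le hi hrr'))
      have h6 : (p : WittVector p S) ^ u * (x r - x r')
          ∈ RingHom.ker (WittVector.truncate (p := p) (R := S) r) := by
        have e : (p : WittVector p S) ^ u * (x r - x r')
            = ((p : WittVector p S) ^ u * x r - a) - ((p : WittVector p S) ^ u * x r' - a) := by
          ring
        rw [e]
        exact Ideal.sub_mem _ m1 m2
      have h7 := cancel_trunc p hS r u _ h6
      rw [RingHom.mem_ker, map_sub, sub_eq_zero] at h7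
      intro i hi
      have h8 := congrArg (fun t => TruncatedWittVector.coeff ⟨i, hi⟩ t) h7
      simpa [WittVector.coeff_truncate] using h8
    let X : WittVector p S := WittVector.mk p (fun i => (x (i + 1)).coeff i)
    have h8 : ∀ r, ∀ i < r, X.coeff i = (x r).coeff i := by
      intro r i hi
      show (WittVector.mk p _).coeff i = _
      rw [WittVector.coeff_mk]
      exact h5 (i + 1) r hi i (Nat.lt_succ_self i)
    have h9 : (p : WittVector p S) ^ u * X = a := by
      rw [← sub_eq_zero]
      apply WittVector.ext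
      intro i
      have m1 : X - x (i + 1) ∈ RingHom.ker (WittVector.truncate (p := p) (R := S) (i + 1)) := by
        rw [RingHom.mem_ker, map_sub, sub_eq_zero]
        apply TruncatedWittVector.ext
        intro j
        rw [WittVector.coeff_truncate, WittVector.coeff_truncate]
        exact h8 (i + 1) j j.2
      have m2 : (p : WittVector p S) ^ u * X - a
          ∈ RingHom.ker (WittVector.truncate (p := p) (R := S) (i + 1)) := by
        have e : (p : WittVector p S) ^ u * X - a
            = (p : WittVector p S) ^ u * (X - x (i + 1))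
              + ((p : WittVector p S) ^ u * x (i + 1) - a) := by ring
        rw [e]
        exact Ideal.add_mem _ (Ideal.mul_mem_left _ _ m1)
          ((WittVector.mem_ker_truncate _ _).mpr (hx (i + 1)))
      rw [WittVector.zero_coeff]
      exact (WittVector.mem_ker_truncate _ _).mp m2 i (Nat.lt_succ_self i)
    rw [← h9]
    exact Ideal.mem_span_singleton'.mpr ⟨X, mul_comm _ _⟩
  · refine le_iInf fun r => le_iInf fun s => ?_
    rw [sup_assoc]
    exact le_sup_left

end Groth.Agent.Lib.WittSolve
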