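import Mathlib

/-! # Bounded word length from surjectivity of words (helper4)

SGA3 VI_B 7: if every point of a quasi-compact group scheme `H` lies under some word in
`f : X ⟶ H`, then the word length is bounded (Chevalley + compactness of the constructible
topology on affine pieces). -/

set_option autoImplicit false
set_option linter.unusedVariables false
set_option linter.unusedTactic false
set_option linter.unreachableTactic false
set_option linter.unusedSectionVars false
set_option linter.style.haveILetI false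
set_option linter.deprecated false
set_option maxHeartbeats 1600000

universe u

open CategoryTheory CategoryTheory.Limits MonoidalCategory CartesianMonoidalCategory MonObj GrpObj
  AlgebraicGeometry Topology

namespace Groth.Agent.Lib.WordBoundH4

/-- Constructible subsets of a compact space are clopen in the constructible topology. -/
theorem isOpen_constr_of_isConstructible {Y : Type*} [TopologicalSpace Y] [CompactSpace Y]
    {s : Set Y} (hs : IsConstructible s) :
    IsOpen[constructibleTopology Y] s ∧ IsOpen[constructibleTopology Y] sᶜ := by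
  induction hs using IsConstructible.empty_union_induction with
  | open_retrocompact U hUopen hUcomp =>
    exact ⟨hUcomp.isCompact.isOpen_constructibleTopology_of_isOpen hUopen,
      IsCompact.isOpen_constructibleTopology_of_isClosed
        (by rw [compl_compl]; exact hUcomp.isCompact) hUopen.isClosed_compl⟩
  | union s hs t ht hs' ht' =>
    refine ⟨@IsOpen.union Y s t (constructibleTopology Y) hs'.1 ht'.1, ?_⟩
    rw [Set.compl_union]
    exact @IsOpen.inter Y (constructibleTopology Y) sᶜ tᶜ hs'.2 ht'.2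
  | compl s hs hs' =>
    refine ⟨hs'.2, ?_⟩
    rw [compl_compl]
    exact hs'.1

/-- Cancellation for local finite presentation. -/
theorem lfp_of_comp {X Y Z : Scheme.{u}} (f : X ⟶ Y) (g : Y ⟶ Z)
    [LocallyOfFinitePresentation (f ≫ g)] [LocallyOfFiniteType g] :
    LocallyOfFinitePresentation f := by
  rw [HasRingHomProperty.iff_exists_appLE (P := @LocallyOfFinitePresentation)
    (RingHom.finitePresentation_stableUnderComposition.stableUnderCompositionWithLocalizationAway
      RingHom.finitePresentation_holdsForLocalizationAway).left]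
  intro x
  obtain ⟨W, hW, hw, -⟩ := TopologicalSpace.Opens.isBasis_iff_nbhd.mp Z.isBasis_affineOpens
    (TopologicalSpace.Opens.mem_top (g (f x)))
  obtain ⟨V, hV, hv, eV⟩ := TopologicalSpace.Opens.isBasis_iff_nbhd.mp Y.isBasis_affineOpens
    (show f x ∈ g ⁻¹ᵁ W from hw)
  obtain ⟨U, hU, hu, eU⟩ := TopologicalSpace.Opens.isBasis_iff_nbhd.mp X.isBasis_affineOpens
    (show x ∈ f ⁻¹ᵁ V from hv)
  replace hW : IsAffineOpen W := hW
  replace hV : IsAffineOpen V := hV
  replace hU : IsAffineOpen U := hU
  refine ⟨⟨V, hV⟩, ⟨U, hU⟩, hu, eU, ?_⟩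
  have h1 : (g.appLE W V eV ≫ f.appLE V U eU).hom.FinitePresentation := by
    rw [Scheme.Hom.appLE_comp_appLE]
    exact HasRingHomProperty.appLE (P := @LocallyOfFinitePresentation) (f ≫ g) inferInstance
      ⟨W, hW⟩ ⟨U, hU⟩ _
  have h2 : (g.appLE W V eV).hom.FiniteType :=
    HasRingHomProperty.appLE (P := @LocallyOfFiniteType) g inferInstance ⟨W, hW⟩ ⟨V, hV⟩ eV
  exact RingHom.FinitePresentation.of_comp_finiteType _ h1 h2

variable {S : Scheme.{u}}

/-- Finite powers of an object, locally of finite presentation. -/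
theorem exists_pow_lfp (X : Over S) [LocallyOfFinitePresentation X.hom] (n : ℕ) :
    ∃ (P : Over S) (pr : Fin n → (P ⟶ X)), LocallyOfFinitePresentation P.hom ∧
      ∀ (T : Over S) (x : Fin n → (T ⟶ X)), ∃ t : T ⟶ P, ∀ j, t ≫ pr j = x j := by
  induction n with
  | zero =>
    refine ⟨𝟙_ _, Fin.elim0, ?_, fun T x => ⟨toUnit T, fun j => j.elim0⟩⟩
    show LocallyOfFinitePresentation (𝟙 S)
    infer_instance
  | succ n ih =>
    obtain ⟨P, pr, hP, hu⟩ := ih
    haveI := hP
    refine ⟨X ⊗ P, (Fin.cons (fst X P) (fun j => snd X P ≫ pr j) : Fin (n + 1) → (X ⊗ P ⟶ X)),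
      ?_, fun T x => ?_⟩
    · show LocallyOfFinitePresentation (pullback.fst X.hom P.hom ≫ X.hom)
      infer_instance
    · obtain ⟨t, ht⟩ := hu T (fun j => x j.succ)
      refine ⟨lift (x 0) t, fun j => ?_⟩
      refine Fin.cases ?_ (fun i => ?_) j
      · rw [Fin.cons_zero, lift_fst]
      · rw [Fin.cons_succ, lift_snd_assoc, ht]

theorem comp_list_prod {C : Type*} [Category C] [CartesianMonoidalCategory C] {T P G : C}
    [GrpObj G] (t : T ⟶ P) (l : List (P ⟶ G)) :
    t ≫ l.prod = (l.map (fun a => t ≫ a)).prod := by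
  induction l with
  | nil => simp [MonObj.comp_one]
  | cons a l ih => rw [List.prod_cons, MonObj.comp_mul, ih, List.map_cons, List.prod_cons]

theorem comp_word {C : Type*} [Category C] [CartesianMonoidalCategory C] {T P X G : C}
    [GrpObj G] (f : X ⟶ G) (t : T ⟶ P) {n : ℕ} (pr : Fin n → (P ⟶ X)) (ε : Fin n → Bool) :
    t ≫ (List.ofFn fun j : Fin n => if ε j then pr j ≫ f else (pr j ≫ f)⁻¹).prod =
      (List.ofFn fun j : Fin n => if ε j then (t ≫ pr j) ≫ f else ((t ≫ pr j) ≫ f)⁻¹).prod := by
  rw [comp_list_prod, List.map_ofFn]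
  congr 2
  funext j
  simp only [Function.comp]
  split_ifs
  · rw [Category.assoc]
  · rw [GrpObj.comp_inv, Category.assoc]

/-- A point lies under a word of length `n` in `f`. -/
def UnderS {X H : Over S} [GrpObj H] (f : X ⟶ H) (n : ℕ) (h : H.left) : Prop :=
  ∃ (T : Over S) (p : T.left) (x : Fin n → (T ⟶ X)) (ε : Fin n → Bool),
    ((List.ofFn fun j : Fin n => if ε j then x j ≫ f else (x j ≫ f)⁻¹).prod : T ⟶ H).left.base p = h

set_option maxHeartbeats 6400000 in
/-- Bounded word length over an affine chart. -/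
theorem exists_bound_affine {X H : Over S} [GrpObj H] [LocallyOfFinitePresentation X.hom]
    [LocallyOfFinitePresentation H.hom] (f : X ⟶ H)
    (hsurj : ∀ h : H.left, ∃ n : ℕ, UnderS f n h)
    (V : Scheme.{u}) [IsAffine V] (jv : V ⟶ H.left) :
    ∃ N : ℕ, ∀ v : V, ∃ m, m ≤ N ∧ UnderS f m (jv.base v) := by
  obtain ⟨U, hU⟩ : ∃ U : ℕ → Set V,
      U = fun n => {v : V | ∃ m, m ≤ n ∧ UnderS f m (jv.base v)} := ⟨_, rfl⟩
  have hmono : ∀ a b, a ≤ b → U a ⊆ U b := by
    intro a b hab v hv
    rw [hU] at hv ⊢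
    obtain ⟨m, hm, hu⟩ := hv
    exact ⟨m, hm.trans hab, hu⟩
  have hopen : ∀ n, IsOpen[constructibleTopology V] (U n) := by
    intro n
    rw [@isOpen_iff_forall_mem_open V (constructibleTopology V) (U n)]
    intro v hv
    have hv' : ∃ m, m ≤ n ∧ UnderS f m (jv.base v) := by
      rw [hU] at hv; exact hv
    obtain ⟨m, hm, T, p, x, ε, hw⟩ := hv'
    obtain ⟨P, pr, hP, huniv⟩ := exists_pow_lfp X m
    obtain ⟨t, ht⟩ := huniv T x
    obtain ⟨W, hW⟩ : ∃ W : P ⟶ H,
        W = (List.ofFn fun j : Fin m => if ε j then pr j ≫ f else (pr j ≫ f)⁻¹).prod := ⟨_, rfl⟩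
    have htW : t ≫ W =
        (List.ofFn fun j : Fin m => if ε j then x j ≫ f else (x j ≫ f)⁻¹).prod := by
      rw [hW, comp_word]
      simp only [ht]
    have hq : W.left.base (t.left.base p) = jv.base v := by
      have h1 : (t ≫ W).left.base p = jv.base v := by
        rw [htW]; exact hw
      exact h1
    haveI := hP
    haveI hcomp : LocallyOfFinitePresentation (W.left ≫ H.hom) := by
      rw [Over.w W]; exact hP
    haveI hWl : LocallyOfFinitePresentation W.left := lfp_of_comp W.left H.hom
    obtain ⟨z, hz1, hz2⟩ := Scheme.Pullback.exists_preimage_pullback (f := W.left) (g := jv)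
      (t.left.base p) v hq
    obtain ⟨A₀, hA₀, hzA₀, -⟩ := TopologicalSpace.Opens.isBasis_iff_nbhd.mp
      (pullback W.left jv).isBasis_affineOpens (TopologicalSpace.Opens.mem_top z)
    obtain ⟨A, hAA⟩ : ∃ A : (pullback W.left jv).Opens, A = A₀ := ⟨A₀, rfl⟩
    have hA : IsAffineOpen A := by rw [hAA]; exact hA₀
    have hzA : z ∈ A := by rw [hAA]; exact hzA₀
    haveI hAaff : IsAffine (A : Scheme.{u}) := hA
    obtain ⟨φ, hφ⟩ : ∃ φ : (A : Scheme.{u}) ⟶ V, φ = A.ι ≫ pullback.snd W.left jv := ⟨_, rfl⟩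
    haveI : LocallyOfFinitePresentation φ := by
      rw [hφ]; infer_instance
    haveI : QuasiCompact φ := inferInstance
    have hCc : IsConstructible (Set.range φ.base) := by
      rw [← Set.image_univ]
      exact φ.isConstructible_image IsConstructible.univ
    refine ⟨Set.range φ.base, ?_, (isOpen_constr_of_isConstructible hCc).1, ?_⟩
    · rintro _ ⟨a, rfl⟩
      rw [hU]
      refine ⟨m, hm, P, (pullback.fst W.left jv).base (A.ι.base a), pr, ε, ?_⟩
      have hc : (pullback.fst W.left jv ≫ W.left).base (A.ι.base a) =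
          (pullback.snd W.left jv ≫ jv).base (A.ι.base a) := by
        rw [pullback.condition]
      rw [hφ, ← hW]
      exact hc
    · have hzr : z ∈ Set.range A.ι.base := by
        rw [Scheme.Opens.range_ι]; exact hzA
      obtain ⟨a, ha⟩ := hzr
      refine ⟨a, ?_⟩
      rw [hφ]
      show (pullback.snd W.left jv).base (A.ι.base a) = v
      rw [ha]
      exact hz2
  have hcov : ∀ v : V, ∃ n, v ∈ U n := by
    intro v
    obtain ⟨n, hn⟩ := hsurj (jv.base v)
    exact ⟨n, by rw [hU]; exact ⟨n, le_rfl, hn⟩⟩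
  haveI : CompactSpace (WithConstructibleTopology V) := inferInstance
  obtain ⟨N, hN⟩ := (isCompact_univ (X := WithConstructibleTopology V)).elim_directed_cover
    (fun n => WithTopology.ofTopology ⁻¹' U n)
    (fun n => (WithTopology.isOpen_iff _).mpr (hopen n))
    (fun w _ => by
      obtain ⟨n, hn⟩ := hcov (WithTopology.ofTopology w)
      exact Set.mem_iUnion.mpr ⟨n, hn⟩)
    (fun a b => ⟨max a b, Set.preimage_mono (hmono a _ (le_max_left a b)),
      Set.preimage_mono (hmono b _ (le_max_right a b))⟩)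
  refine ⟨N, fun v => ?_⟩
  have hv : v ∈ U N := hN (Set.mem_univ (WithTopology.toTopology _ v))
  rw [hU] at hv
  exact hv

set_option maxHeartbeats 6400000 in
theorem main6076 (S : Scheme.{u}) (X H : Over S) [GrpObj H]
    [Flat X.hom] [LocallyOfFinitePresentation X.hom] [LocallyOfFinitePresentation H.hom]
    (hred : ∀ s : S, IsReduced (H.hom.fiber s)) [CompactSpace H.left] (f : X ⟶ H)
    (hsurj : ∀ h : H.left, ∃ (n : ℕ) (T : Over S) (p : T.left) (x : Fin n → (T ⟶ X)) (ε : Fin n → Bool),
      ((List.ofFn fun j : Fin n => if ε j then x j ≫ f else (x j ≫ f)⁻¹).prod : T ⟶ H).left.base p = h) :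
    ∃ n : ℕ, ∀ h : H.left, ∃ (m : ℕ) (_ : m ≤ n) (T : Over S) (p : T.left) (x : Fin m → (T ⟶ X)) (ε : Fin m → Bool),
      ((List.ofFn fun j : Fin m => if ε j then x j ≫ f else (x j ≫ f)⁻¹).prod : T ⟶ H).left.base p = h := by
  have hsurj' : ∀ h : H.left, ∃ n : ℕ, UnderS f n h := hsurj
  have hex := fun h : H.left => exists_bound_affine f hsurj'
    (H.left.affineCover.X (H.left.affineCover.idx h)) (H.left.affineCover.f (H.left.affineCover.idx h))
  choose Nf hNf using hex
  obtain ⟨tF, htF⟩ := CompactSpace.elim_nhds_subcover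
    (fun h : H.left => Set.range (H.left.affineCover.f (H.left.affineCover.idx h)))
    (fun h => (IsOpenImmersion.isOpen_range (H.left.affineCover.f (H.left.affineCover.idx h))).mem_nhds
      (H.left.affineCover.covers h))
  refine ⟨tF.sup Nf, fun h' => ?_⟩
  have hmem : h' ∈ ⋃ x ∈ tF, Set.range (H.left.affineCover.f (H.left.affineCover.idx x)) := by
    rw [htF]; trivial
  obtain ⟨h₀, hh₀, v, rfl⟩ := Set.mem_iUnion₂.mp hmem
  obtain ⟨m, hm, hu⟩ := hNf h₀ v
  obtain ⟨T, p, x, ε, hw⟩ := hu
  exact ⟨m, hm.trans (Finset.le_sup hh₀), T, p, x, ε, hw⟩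

end Groth.Agent.Lib.WordBoundH4
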