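import Mathlib
import Groth.Prelude.Def_Red
import Groth.Agent.Lib.BorelQC_helper4
import Groth.Agent.Lib.FinIdx_helper4
import Groth.Agent.Lib.WordBound_helper4

/-! # Subgroups generated by connected families: points under words (helper4)

SGA3 VI_B 7: for `X` of finite type, geometrically reduced and geometrically connected over a
field `k` and `f : X ⟶ G` through the unit, the underlying set of the smallest closed subgroup
scheme through which `f` factors is the set of points lying under words of one fixed length in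
`f`. The proof passes to algebraically closed extensions (one for each point), where the result
follows from Borel's closedness argument applied to the product family attached to the
irreducible components (`BorelQCH4.core_closed`), and then bounds the word length by compactness
in the constructible topology (`WordBoundH4.exists_bound_affine`). -/

set_option autoImplicit false
set_option linter.unusedVariables false
set_option linter.unusedTactic false
set_option linter.unreachableTactic false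
set_option linter.unusedSectionVars false
set_option linter.style.haveILetI false
set_option linter.deprecated false
set_option maxHeartbeats 1600000

universe u

open CategoryTheory CategoryTheory.Limits MonoidalCategory CartesianMonoidalCategory MonObj GrpObj
  AlgebraicGeometry TensorProduct Topology

namespace Groth.Agent.Lib.WordConnH4

open Groth.Agent.Lib Groth.Agent.Lib.GenSubgrpH4 Groth.Agent.Lib.CommClosedH4
  Groth.Agent.Lib.FinIdxH4 Groth.Agent.Lib.BorelQCH4 Groth.Agent.Lib.GenBCH4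

/-- A morphism into a subgroup which composes to a homomorphism is a homomorphism. -/
theorem isMonHom_of_comp_mono {C : Type*} [Category C] [CartesianMonoidalCategory C] {A B G : C}
    [GrpObj A] [GrpObj B] [GrpObj G] (j : A ⟶ B) (m : B ⟶ G) (i : A ⟶ G) [IsMonHom m]
    [IsMonHom i] [Mono m] (h : j ≫ m = i) : IsMonHom j := by
  refine ⟨?_, ?_⟩
  · rw [← cancel_mono m, Category.assoc, h, IsMonHom.one_hom i, IsMonHom.one_hom m]
  · rw [← cancel_mono m, Category.assoc, h, Category.assoc, IsMonHom.mul_hom m,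
      tensorHom_comp_tensorHom_assoc, h]
    exact IsMonHom.mul_hom i

variable {k : Type u} [Field k]

local notation "𝟙ₖ" => 𝟙_ (Over (Spec (CommRingCat.of k)))

/-- Elements of the subgroup generated by the `a ≫ f` are signed words. -/
theorem mem_closure_wd {G X T : Over (Spec (CommRingCat.of k))} [GrpObj G] (f : X ⟶ G)
    (g : T ⟶ G) (hg : g ∈ Subgroup.closure (Set.range fun a : T ⟶ X => a ≫ f)) :
    ∃ (n : ℕ) (x : Fin n → (T ⟶ X)) (ε : Fin n → Bool), wd f x ε = g := by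
  refine Subgroup.closure_induction_left
    (p := fun g _ => ∃ (n : ℕ) (x : Fin n → (T ⟶ X)) (ε : Fin n → Bool), wd f x ε = g)
    ?_ ?_ ?_ hg
  · exact ⟨0, Fin.elim0, Fin.elim0, wd_zero f _ _⟩
  · rintro _ ⟨a, rfl⟩ y hy ⟨n, x, ε, rfl⟩
    refine ⟨n + 1, (Fin.cons a x : Fin (n + 1) → (T ⟶ X)),
      (Fin.cons true ε : Fin (n + 1) → Bool), ?_⟩
    rw [wd_succ]
    simp only [Fin.cons_zero, Fin.cons_succ, if_true]
  · rintro _ ⟨a, rfl⟩ y hy ⟨n, x, ε, rfl⟩
    refine ⟨n + 1, (Fin.cons a x : Fin (n + 1) → (T ⟶ X)),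
      (Fin.cons false ε : Fin (n + 1) → Bool), ?_⟩
    rw [wd_succ]
    simp only [Fin.cons_zero, Fin.cons_succ, Bool.false_eq_true, if_false]

/-- A scheme over `k` with a point of `X` over it which `f` maps to the unit section. -/
theorem exists_unit_point {G X : Over (Spec (CommRingCat.of k))} [GrpObj G] (f : X ⟶ G)
    (he : ∃ x : X.left, f.left.base x ∈ Set.range (η[G] : 𝟙ₖ ⟶ G).left.base) :
    ∃ (T₀ : Over (Spec (CommRingCat.of k))) (ξ : T₀ ⟶ X), ξ ≫ f = 1 ∧ Nonempty ↥T₀.left := by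
  obtain ⟨x₀, t, ht⟩ := he
  obtain ⟨z, -, -⟩ := Scheme.Pullback.exists_preimage_pullback (f := f.left)
    (g := (η[G] : 𝟙ₖ ⟶ G).left) x₀ t ht.symm
  have h1 : (η[G] : 𝟙ₖ ⟶ G).left ≫ G.hom = 𝟙 _ := Over.w (η[G] : 𝟙ₖ ⟶ G)
  have hsnd : pullback.snd f.left (η[G] : 𝟙ₖ ⟶ G).left =
      pullback.fst f.left (η[G] : 𝟙ₖ ⟶ G).left ≫ X.hom := by
    calc pullback.snd f.left (η[G] : 𝟙ₖ ⟶ G).left
        = pullback.snd f.left (η[G] : 𝟙ₖ ⟶ G).left ≫ (η[G] : 𝟙ₖ ⟶ G).left ≫ G.hom := by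
          rw [h1, Category.comp_id]
      _ = pullback.fst f.left (η[G] : 𝟙ₖ ⟶ G).left ≫ f.left ≫ G.hom := by
          rw [← Category.assoc, ← pullback.condition, Category.assoc]
      _ = pullback.fst f.left (η[G] : 𝟙ₖ ⟶ G).left ≫ X.hom := by rw [Over.w f]
  refine ⟨Over.mk (pullback.fst f.left (η[G] : 𝟙ₖ ⟶ G).left ≫ X.hom),
    Over.homMk (pullback.fst f.left (η[G] : 𝟙ₖ ⟶ G).left) rfl, ?_, ⟨z⟩⟩
  ext1
  show pullback.fst f.left (η[G] : 𝟙ₖ ⟶ G).left ≫ f.left =
    (pullback.fst f.left (η[G] : 𝟙ₖ ⟶ G).left ≫ X.hom) ≫ (η[G] : 𝟙ₖ ⟶ G).left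
  rw [← hsnd, pullback.condition]

/-- Padding of words by a letter which is mapped to the unit. -/
theorem under_succ' {G X : Over (Spec (CommRingCat.of k))} [GrpObj G] (f : X ⟶ G)
    (T₀ : Over (Spec (CommRingCat.of k))) (ξ : T₀ ⟶ X) (hξ : ξ ≫ f = 1)
    (hne : Nonempty ↥T₀.left) {n : ℕ} {g : G.left} (h : Under f n g) : Under f (n + 1) g := by
  haveI hsub : Subsingleton ↥(Spec (CommRingCat.of k)) :=
    (inferInstance : Subsingleton (PrimeSpectrum k))
  obtain ⟨T, p, x, ε, hw⟩ := h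
  obtain ⟨q⟩ := hne
  obtain ⟨p', hp'1, -⟩ := Scheme.Pullback.exists_preimage_pullback (f := T.hom) (g := T₀.hom)
    p q (@Subsingleton.elim _ hsub _ _)
  refine ⟨T ⊗ T₀, p', (Fin.cons (snd T T₀ ≫ ξ) (fun j => fst T T₀ ≫ x j) :
    Fin (n + 1) → (T ⊗ T₀ ⟶ X)), (Fin.cons true ε : Fin (n + 1) → Bool), ?_⟩
  have e : wd f (Fin.cons (snd T T₀ ≫ ξ) (fun j => fst T T₀ ≫ x j) :
      Fin (n + 1) → (T ⊗ T₀ ⟶ X)) (Fin.cons true ε : Fin (n + 1) → Bool) =
      fst T T₀ ≫ wd f x ε := by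
    rw [wd_succ]
    simp only [Fin.cons_zero, Fin.cons_succ, if_true]
    rw [Category.assoc, hξ, MonObj.comp_one, _root_.one_mul, comp_wd]
  show (wd f (Fin.cons (snd T T₀ ≫ ξ) (fun j => fst T T₀ ≫ x j) :
      Fin (n + 1) → (T ⊗ T₀ ⟶ X)) (Fin.cons true ε : Fin (n + 1) → Bool)).left.base p' = g
  rw [e]
  show (wd f x ε).left.base ((fst T T₀).left.base p') = g
  have h2 : (fst T T₀).left.base p' = p := hp'1
  rw [h2]
  exact hw

theorem under_mono' {G X : Over (Spec (CommRingCat.of k))} [GrpObj G] (f : X ⟶ G)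
    (T₀ : Over (Spec (CommRingCat.of k))) (ξ : T₀ ⟶ X) (hξ : ξ ≫ f = 1)
    (hne : Nonempty ↥T₀.left) {n m : ℕ} {g : G.left} (h : Under f n g) (hnm : n ≤ m) :
    Under f m g := by
  induction m, hnm using Nat.le_induction with
  | base => exact h
  | succ m _ ih => exact under_succ' f T₀ ξ hξ hne ih

/-! ### Points of the base change to an extension field -/

section Up

variable {Ω : Type u} [Field Ω] (σ : Spec (CommRingCat.of Ω) ⟶ Spec (CommRingCat.of k))

/-- The `Ω`-point of `Y_Ω` attached to a `k`-morphism `Spec Ω ⟶ Y`. -/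
noncomputable def up {Y : Over (Spec (CommRingCat.of k))} (a : Over.mk σ ⟶ Y) :
    𝟙_ (Over (Spec (CommRingCat.of Ω))) ⟶ Red.bc σ Y :=
  (sec σ (Over.mk σ) (𝟙 _) (Category.id_comp σ) :
    𝟙_ (Over (Spec (CommRingCat.of Ω))) ⟶ (Over.pullback σ).obj (Over.mk σ)) ≫
      (Over.pullback σ).map a

theorem up_comp {Y Y' : Over (Spec (CommRingCat.of k))} (a : Over.mk σ ⟶ Y) (h : Y ⟶ Y') :
    up σ (a ≫ h) = up σ a ≫ (Over.pullback σ).map h := by
  unfold up
  rw [Functor.map_comp, Category.assoc]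

theorem up_mul {G : Over (Spec (CommRingCat.of k))} [GrpObj G] (g h : Over.mk σ ⟶ G) :
    up σ (g * h) = up σ g * up σ h := by
  unfold up
  have e1 : (Over.pullback σ).map (g * h) = (Over.pullback σ).map g * (Over.pullback σ).map h :=
    Functor.map_mul (Over.pullback σ) g h
  rw [e1, MonObj.comp_mul]

theorem up_inv {G : Over (Spec (CommRingCat.of k))} [GrpObj G] (g : Over.mk σ ⟶ G) :
    up σ g⁻¹ = (up σ g)⁻¹ := by
  unfold up
  have e2 : (Over.pullback σ).map g⁻¹ = ((Over.pullback σ).map g)⁻¹ :=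
    Functor.map_inv' (Over.pullback σ) g
  rw [e2, GrpObj.comp_inv]

theorem up_one {G : Over (Spec (CommRingCat.of k))} [GrpObj G] :
    up σ (1 : Over.mk σ ⟶ G) = 1 := by
  unfold up
  have e : (Over.pullback σ).map (1 : Over.mk σ ⟶ G) = 1 := Functor.map_one (Over.pullback σ)
  rw [e, MonObj.comp_one]

theorem up_left_fst {Y : Over (Spec (CommRingCat.of k))} (a : Over.mk σ ⟶ Y) :
    (up σ a).left ≫ pullback.fst Y.hom σ = a.left := by
  have h := sec_map_left σ (𝟙 _) (Category.id_comp σ) a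
  show (sec σ (Over.mk σ) (𝟙 _) (Category.id_comp σ) ≫ (Over.pullback σ).map a).left ≫
    pullback.fst Y.hom σ = a.left
  rw [h, pullback.lift_fst]

theorem up_surj {Y : Over (Spec (CommRingCat.of k))}
    (t : 𝟙_ (Over (Spec (CommRingCat.of Ω))) ⟶ Red.bc σ Y) :
    ∃ a : Over.mk σ ⟶ Y, up σ a = t := by
  have h1 : t.left ≫ pullback.snd Y.hom σ = 𝟙 _ := Over.w t
  have hw : (t.left ≫ pullback.fst Y.hom σ) ≫ Y.hom = σ := by
    rw [Category.assoc, pullback.condition, ← Category.assoc, h1, Category.id_comp]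
  obtain ⟨a, ha⟩ : ∃ a : Over.mk σ ⟶ Y, a.left = t.left ≫ pullback.fst Y.hom σ :=
    ⟨Over.homMk (t.left ≫ pullback.fst Y.hom σ) hw, rfl⟩
  refine ⟨a, ?_⟩
  ext1
  have h := sec_map_left σ (𝟙 _) (Category.id_comp σ) a
  show (sec σ (Over.mk σ) (𝟙 _) (Category.id_comp σ) ≫ (Over.pullback σ).map a).left = t.left
  rw [h]
  apply pullback.hom_ext
  · rw [pullback.lift_fst, ha]
  · rw [pullback.lift_snd, h1]
    rfl

/-- Elements of the subgroup of `G_Ω(Ω)` generated by `f_Ω(X_Ω(Ω))` come from the subgroup of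
`G(Ω)` generated by `f(X(Ω))`. -/
theorem mem_closure_up {G X : Over (Spec (CommRingCat.of k))} [GrpObj G] (f : X ⟶ G)
    (z : 𝟙_ (Over (Spec (CommRingCat.of Ω))) ⟶ Red.bc σ G)
    (hz : z ∈ Subgroup.closure (Set.range
      fun x : 𝟙_ (Over (Spec (CommRingCat.of Ω))) ⟶ Red.bc σ X =>
        x ≫ (Over.pullback σ).map f)) :
    ∃ g : Over.mk σ ⟶ G,
      g ∈ Subgroup.closure (Set.range fun a : Over.mk σ ⟶ X => a ≫ f) ∧ up σ g = z := by
  refine Subgroup.closure_induction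
    (p := fun z _ => ∃ g : Over.mk σ ⟶ G,
      g ∈ Subgroup.closure (Set.range fun a : Over.mk σ ⟶ X => a ≫ f) ∧ up σ g = z)
    ?_ ?_ ?_ ?_ hz
  · rintro _ ⟨x, rfl⟩
    obtain ⟨a, rfl⟩ := up_surj σ x
    exact ⟨a ≫ f, Subgroup.subset_closure ⟨a, rfl⟩, up_comp σ a f⟩
  · exact ⟨1, Subgroup.one_mem _, up_one σ⟩
  · rintro z₁ z₂ _ _ ⟨g₁, hg₁, rfl⟩ ⟨g₂, hg₂, rfl⟩
    exact ⟨g₁ * g₂, Subgroup.mul_mem _ hg₁ hg₂, up_mul σ g₁ g₂⟩
  · rintro z₁ _ ⟨g₁, hg₁, rfl⟩
    exact ⟨g₁⁻¹, Subgroup.inv_mem _ hg₁, up_inv σ g₁⟩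

set_option maxHeartbeats 6400000 in
/-- The unit lies in the image after base change. -/
theorem he_bc {G X : Over (Spec (CommRingCat.of k))} [GrpObj G] (f : X ⟶ G)
    (he : ∃ x : X.left, f.left.base x ∈ Set.range (η[G] : 𝟙ₖ ⟶ G).left.base) :
    ∃ x' : (Red.bc σ X).left, ((Over.pullback σ).map f).left.base x' ∈
      Set.range (η[Red.bc σ G] :
        𝟙_ (Over (Spec (CommRingCat.of Ω))) ⟶ Red.bc σ G).left.base := by
  haveI hsubk : Subsingleton ↥(Spec (CommRingCat.of k)) :=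
    (inferInstance : Subsingleton (PrimeSpectrum k))
  haveI hsubΩ : Subsingleton ↥(Spec (CommRingCat.of Ω)) :=
    (inferInstance : Subsingleton (PrimeSpectrum Ω))
  obtain ⟨x, t, ht⟩ := he
  obtain ⟨ω⟩ : Nonempty ↥(Spec (CommRingCat.of Ω)) :=
    (inferInstance : Nonempty (PrimeSpectrum Ω))
  obtain ⟨x', hx'1, hx'2⟩ := Scheme.Pullback.exists_preimage_pullback (f := X.hom) (g := σ)
    x ω (@Subsingleton.elim _ hsubk _ _)
  refine ⟨x', ?_⟩
  obtain ⟨E, hE⟩ : ∃ E : (Over.pullback σ).obj 𝟙ₖ ⟶ Red.bc σ G,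
      E = (Over.pullback σ).map (η[G] : 𝟙ₖ ⟶ G) := ⟨_, rfl⟩
  have e₁ : (𝟙ₖ).hom ≫ 𝟙 _ = (η[G] : 𝟙ₖ ⟶ G).left ≫ G.hom := by
    rw [Category.comp_id, Over.w]
  have e₂ : σ ≫ 𝟙 _ = 𝟙 _ ≫ σ := by rw [Category.comp_id, Category.id_comp]
  have hEl : E.left = pullback.map (𝟙ₖ).hom σ G.hom σ (η[G] : 𝟙ₖ ⟶ G).left (𝟙 _) (𝟙 _)
      e₁ e₂ := by
    rw [hE]
    apply pullback.hom_ext
    · rw [pullback.lift_fst]
      exact pullback.lift_fst _ _ _
    · rw [pullback.lift_snd, Category.comp_id]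
      exact pullback.lift_snd _ _ _
  have hrE : Set.range E.left.base =
      (pullback.fst G.hom σ).base ⁻¹' Set.range (η[G] : 𝟙ₖ ⟶ G).left.base ∩
        (pullback.snd G.hom σ).base ⁻¹' Set.range
          (𝟙 (Spec (CommRingCat.of Ω)) :
            Spec (CommRingCat.of Ω) ⟶ Spec (CommRingCat.of Ω)).base := by
    rw [hEl]
    exact Scheme.Pullback.range_map (f := (𝟙ₖ).hom) (g := σ) G.hom σ
      (η[G] : 𝟙ₖ ⟶ G).left (𝟙 _) (𝟙 _) e₁ e₂
  have hp : ((Over.pullback σ).map f).left.base x' ∈ Set.range E.left.base := by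
    rw [hrE]
    refine ⟨?_, ⟨(pullback.snd G.hom σ).base (((Over.pullback σ).map f).left.base x'), rfl⟩⟩
    show (pullback.fst G.hom σ).base (((Over.pullback σ).map f).left.base x') ∈
      Set.range (η[G] : 𝟙ₖ ⟶ G).left.base
    have h1 : ((Over.pullback σ).map f).left ≫ pullback.fst G.hom σ =
        pullback.fst X.hom σ ≫ f.left := pullback.lift_fst _ _ _
    have h2 : (pullback.fst G.hom σ).base (((Over.pullback σ).map f).left.base x') =
        f.left.base ((pullback.fst X.hom σ).base x') :=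
      congrArg (fun q : pullback X.hom σ ⟶ G.left => q.base x') h1
    have h3 : f.left.base ((pullback.fst X.hom σ).base x') = f.left.base x :=
      congrArg f.left.base hx'1
    rw [h2, h3, ← ht]
    exact ⟨t, rfl⟩
  obtain ⟨p₀, hp₀⟩ := hp
  haveI hiso : IsIso (𝟙ₖ).hom := (inferInstance : IsIso (𝟙 (Spec (CommRingCat.of k))))
  haveI hiso2 : IsIso (pullback.snd (𝟙ₖ).hom σ) := inferInstance
  haveI hsubP : Subsingleton ↥(pullback (𝟙ₖ).hom σ) :=
    (pullback.snd (𝟙ₖ).hom σ).homeomorph.injective.subsingleton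
  have hη : (η[Red.bc σ G] : 𝟙_ (Over (Spec (CommRingCat.of Ω))) ⟶ Red.bc σ G) =
      Functor.LaxMonoidal.ε (Over.pullback σ) ≫ E := by
    rw [hE]
    rfl
  refine ⟨ω, ?_⟩
  rw [← hp₀, hη]
  show E.left.base ((Functor.LaxMonoidal.ε (Over.pullback σ)).left.base ω) = E.left.base p₀
  exact congrArg E.left.base (@Subsingleton.elim _ hsubP _ _)

end Up

/-! ### Points of the generated subgroup lie under words -/

set_option maxHeartbeats 12800000 in
/-- A point of the generated subgroup which is the image of a point with values in an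
algebraically closed field lies under a word. -/
theorem under_of_geom_point (G X : Over (Spec (CommRingCat.of k))) [GrpObj G]
    [LocallyOfFiniteType G.hom] [CompactSpace G.left]
    [LocallyOfFiniteType X.hom] [QuasiCompact X.hom] [GeometricallyReduced X.hom]
    [GeometricallyConnected X.hom] (f : X ⟶ G)
    (he : ∃ x : X.left, f.left.base x ∈ Set.range (η[G] : 𝟙ₖ ⟶ G).left.base)
    (Γ₁ : Over (Spec (CommRingCat.of k))) [GrpObj Γ₁] (i : Γ₁ ⟶ G) [IsMonHom i]
    [IsClosedImmersion i.left]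
    (hf : ∃ f' : X ⟶ Γ₁, f' ≫ i = f)
    (hmin : ∀ (Γ' : Over (Spec (CommRingCat.of k))) (_ : GrpObj Γ') (i' : Γ' ⟶ G), IsMonHom i' →
      IsClosedImmersion i'.left → (∃ f'' : X ⟶ Γ', f'' ≫ i' = f) → ∃ j : Γ₁ ⟶ Γ', j ≫ i' = i)
    (Ω : Type u) [Field Ω] [IsAlgClosed Ω] (r : Spec (CommRingCat.of Ω) ⟶ Γ₁.left)
    (ω : ↥(Spec (CommRingCat.of Ω))) :
    ∃ n : ℕ, Under f n (i.left.base (r.base ω)) := by
  obtain ⟨σ, hσ⟩ : ∃ σ : Spec (CommRingCat.of Ω) ⟶ Spec (CommRingCat.of k), σ = r ≫ Γ₁.hom :=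
    ⟨_, rfl⟩
  obtain ⟨a, ha⟩ : ∃ a : Over.mk σ ⟶ Γ₁, a.left = r := ⟨Over.homMk r hσ.symm, rfl⟩
  haveI hqcG : QuasiCompact G.hom := (quasiCompact_iff_compactSpace G.hom).mpr inferInstance
  haveI : LocallyOfFiniteType (Red.bc σ G).hom := by
    show LocallyOfFiniteType (pullback.snd G.hom σ)
    infer_instance
  haveI : CompactSpace ↥(Red.bc σ G).left := by
    haveI : QuasiCompact (pullback.snd G.hom σ) := inferInstance
    exact (quasiCompact_iff_compactSpace (pullback.snd G.hom σ)).mp inferInstance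
  haveI : LocallyOfFiniteType (Red.bc σ X).hom := by
    show LocallyOfFiniteType (pullback.snd X.hom σ)
    infer_instance
  haveI : QuasiCompact (Red.bc σ X).hom := by
    show QuasiCompact (pullback.snd X.hom σ)
    infer_instance
  haveI : AlgebraicGeometry.IsReduced (Red.bc σ X).left :=
    pullback_of_geometrically (‹GeometricallyReduced X.hom›).geometrically_isReduced Ω σ
  haveI : ConnectedSpace ↥(Red.bc σ X).left :=
    pullback_of_geometrically (‹GeometricallyConnected X.hom›).geometrically_connectedSpace Ω σ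
  obtain ⟨D, grpD, iD, hmonD, hclD, ⟨f'', hf''⟩, hD⟩ :=
    core_closed (Red.bc σ G) (Red.bc σ X) ((Over.pullback σ).map f) (he_bc σ f he)
  haveI := hmonD
  haveI := hclD
  obtain ⟨j, hj⟩ := main5361 k G X f Γ₁ i hf hmin (Spec (CommRingCat.of Ω)) σ D grpD iD hmonD
    inferInstance ⟨f'', hf''⟩
  obtain ⟨b, hb⟩ : ∃ b : 𝟙_ (Over (Spec (CommRingCat.of Ω))) ⟶ D, b = up σ a ≫ j := ⟨_, rfl⟩
  have hbi : b ≫ iD = up σ (a ≫ i) := by
    rw [hb, Category.assoc, hj, ← up_comp]
  have hmem := hD b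
  rw [hbi] at hmem
  obtain ⟨g₁, hg₁, hup⟩ := mem_closure_up σ f (up σ (a ≫ i)) hmem
  have hg₁eq : g₁ = a ≫ i := by
    ext1
    calc g₁.left = (up σ g₁).left ≫ pullback.fst G.hom σ := (up_left_fst σ g₁).symm
      _ = (up σ (a ≫ i)).left ≫ pullback.fst G.hom σ := by rw [hup]
      _ = (a ≫ i).left := up_left_fst σ (a ≫ i)
  rw [hg₁eq] at hg₁
  obtain ⟨n, x, ε, hw⟩ := mem_closure_wd f (a ≫ i) hg₁
  refine ⟨n, Over.mk σ, ω, x, ε, ?_⟩
  show (wd f x ε).left.base ω = i.left.base (r.base ω)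
  rw [hw]
  show i.left.base (a.left.base ω) = i.left.base (r.base ω)
  rw [ha]

set_option maxHeartbeats 6400000 in
/-- Every point of the generated subgroup lies under a word. -/
theorem under_of_point (G X : Over (Spec (CommRingCat.of k))) [GrpObj G]
    [LocallyOfFiniteType G.hom] [CompactSpace G.left]
    [LocallyOfFiniteType X.hom] [QuasiCompact X.hom] [GeometricallyReduced X.hom]
    [GeometricallyConnected X.hom] (f : X ⟶ G)
    (he : ∃ x : X.left, f.left.base x ∈ Set.range (η[G] : 𝟙ₖ ⟶ G).left.base)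
    (Γ₁ : Over (Spec (CommRingCat.of k))) [GrpObj Γ₁] (i : Γ₁ ⟶ G) [IsMonHom i]
    [IsClosedImmersion i.left]
    (hf : ∃ f' : X ⟶ Γ₁, f' ≫ i = f)
    (hmin : ∀ (Γ' : Over (Spec (CommRingCat.of k))) (_ : GrpObj Γ') (i' : Γ' ⟶ G), IsMonHom i' →
      IsClosedImmersion i'.left → (∃ f'' : X ⟶ Γ', f'' ≫ i' = f) → ∃ j : Γ₁ ⟶ Γ', j ≫ i' = i)
    (γ₀ : Γ₁.left) : ∃ n : ℕ, Under f n (i.left.base γ₀) := by
  obtain ⟨r, hr⟩ : ∃ r : Spec (CommRingCat.of (AlgebraicClosure (Γ₁.left.residueField γ₀))) ⟶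
      Γ₁.left, ∀ ω, r.base ω = γ₀ := by
    refine ⟨Spec.map (CommRingCat.ofHom (algebraMap (Γ₁.left.residueField γ₀)
      (AlgebraicClosure (Γ₁.left.residueField γ₀)))) ≫ Γ₁.left.fromSpecResidueField γ₀, ?_⟩
    intro ω
    exact Scheme.fromSpecResidueField_apply γ₀ _
  obtain ⟨ω⟩ : Nonempty ↥(Spec (CommRingCat.of (AlgebraicClosure (Γ₁.left.residueField γ₀)))) :=
    (inferInstance : Nonempty (PrimeSpectrum (AlgebraicClosure (Γ₁.left.residueField γ₀))))
  obtain ⟨n, hn⟩ := under_of_geom_point G X f he Γ₁ i hf hmin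
    (AlgebraicClosure (Γ₁.left.residueField γ₀)) r ω
  rw [hr ω] at hn
  exact ⟨n, hn⟩

set_option maxHeartbeats 12800000 in
/-- The quasi-compact case. -/
theorem core6074 (G X : Over (Spec (CommRingCat.of k))) [GrpObj G]
    [LocallyOfFiniteType G.hom] [CompactSpace G.left]
    [LocallyOfFiniteType X.hom] [QuasiCompact X.hom] [GeometricallyReduced X.hom]
    [GeometricallyConnected X.hom] (f : X ⟶ G)
    (he : ∃ x : X.left, f.left.base x ∈ Set.range (η[G] : 𝟙ₖ ⟶ G).left.base)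
    (Γ₁ : Over (Spec (CommRingCat.of k))) [GrpObj Γ₁] (i : Γ₁ ⟶ G) [IsMonHom i]
    [IsClosedImmersion i.left]
    (hf : ∃ f' : X ⟶ Γ₁, f' ≫ i = f)
    (hmin : ∀ (Γ' : Over (Spec (CommRingCat.of k))) (_ : GrpObj Γ') (i' : Γ' ⟶ G), IsMonHom i' →
      IsClosedImmersion i'.left → (∃ f'' : X ⟶ Γ', f'' ≫ i' = f) → ∃ j : Γ₁ ⟶ Γ', j ≫ i' = i) :
    ∃ N : ℕ, Set.range i.left.base = {g : G.left | Under f N g} := by
  haveI hsub : Subsingleton ↥(Spec (CommRingCat.of k)) :=
    (inferInstance : Subsingleton (PrimeSpectrum k))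
  have hpt : ∀ γ₀ : Γ₁.left, ∃ n, Under f n (i.left.base γ₀) :=
    fun γ₀ => under_of_point G X f he Γ₁ i hf hmin γ₀
  obtain ⟨f', hf'⟩ := hf
  have hwd : ∀ (T : Over (Spec (CommRingCat.of k))) {n : ℕ} (x : Fin n → (T ⟶ X))
      (ε : Fin n → Bool), wd f x ε = wd f' x ε ≫ i := by
    intro T n x ε
    rw [wd_comp_hom i f' x ε, hf']
  have hinj : Function.Injective i.left.base := i.left.isClosedEmbedding.injective
  have hsurj : ∀ h : Γ₁.left, ∃ n : ℕ, Groth.Agent.Lib.WordBoundH4.UnderS f' n h := by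
    intro h
    obtain ⟨n, T, p, x, ε, hw⟩ := hpt h
    refine ⟨n, T, p, x, ε, hinj ?_⟩
    have h1 : (wd f x ε).left.base p = i.left.base h := hw
    rw [hwd T x ε] at h1
    exact h1
  haveI : CompactSpace ↥Γ₁.left := i.left.isClosedEmbedding.compactSpace
  haveI hNk : IsNoetherianRing (CommRingCat.of k) := inferInstanceAs (IsNoetherianRing k)
  haveI : LocallyOfFiniteType Γ₁.hom := by
    rw [← Over.w i]
    infer_instance
  haveI : LocallyOfFinitePresentation X.hom :=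
    LocallyOfFinitePresentation.iff_locallyOfFiniteType.mpr inferInstance
  haveI : LocallyOfFinitePresentation Γ₁.hom :=
    LocallyOfFinitePresentation.iff_locallyOfFiniteType.mpr inferInstance
  have hex := fun h : Γ₁.left => Groth.Agent.Lib.WordBoundH4.exists_bound_affine f' hsurj
    (Γ₁.left.affineCover.X (Γ₁.left.affineCover.idx h))
    (Γ₁.left.affineCover.f (Γ₁.left.affineCover.idx h))
  choose Nf hNf using hex
  obtain ⟨tF, htF⟩ := CompactSpace.elim_nhds_subcover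
    (fun h : Γ₁.left => Set.range (Γ₁.left.affineCover.f (Γ₁.left.affineCover.idx h)))
    (fun h => (IsOpenImmersion.isOpen_range
      (Γ₁.left.affineCover.f (Γ₁.left.affineCover.idx h))).mem_nhds
      (Γ₁.left.affineCover.covers h))
  obtain ⟨T₀, ξ, hξ, hne⟩ := exists_unit_point f he
  refine ⟨tF.sup Nf, ?_⟩
  apply Set.Subset.antisymm
  · rintro _ ⟨γ₀, rfl⟩
    have hmem : γ₀ ∈ ⋃ x ∈ tF,
        Set.range (Γ₁.left.affineCover.f (Γ₁.left.affineCover.idx x)) := by
      rw [htF]; trivial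
    obtain ⟨h₀, hh₀, v, hv⟩ := Set.mem_iUnion₂.mp hmem
    obtain ⟨m, hm, T, p, x, ε, hw⟩ := hNf h₀ v
    have hU : Under f m (i.left.base γ₀) := by
      refine ⟨T, p, x, ε, ?_⟩
      show (wd f x ε).left.base p = i.left.base γ₀
      rw [hwd T x ε]
      show i.left.base ((wd f' x ε).left.base p) = i.left.base γ₀
      exact congrArg i.left.base (hw.trans hv)
    exact under_mono' f T₀ ξ hξ hne hU (hm.trans (Finset.le_sup hh₀))
  · rintro g ⟨T, p, x, ε, hw⟩
    refine ⟨(wd f' x ε).left.base p, ?_⟩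
    have h1 : (wd f x ε).left.base p = g := hw
    rw [hwd T x ε] at h1
    exact h1

set_option maxHeartbeats 12800000 in
theorem main6074 (k : Type u) [Field k]
    (G X : Over (Spec (CommRingCat.of k))) [GrpObj G] [LocallyOfFiniteType G.hom]
    [LocallyOfFiniteType X.hom] [QuasiCompact X.hom] [GeometricallyReduced X.hom] [GeometricallyConnected X.hom]
    (f : X ⟶ G) (he : ∃ x : X.left, f.left.base x ∈ Set.range (η[G] : 𝟙_ (Over (Spec (CommRingCat.of k))) ⟶ G).left.base)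
    (Γ₁ : Over (Spec (CommRingCat.of k))) [GrpObj Γ₁] (i : Γ₁ ⟶ G) [IsMonHom i] [IsClosedImmersion i.left]
    (hf : ∃ f' : X ⟶ Γ₁, f' ≫ i = f)
    (hmin : ∀ (Γ' : Over (Spec (CommRingCat.of k))) (_ : GrpObj Γ') (i' : Γ' ⟶ G), IsMonHom i' → IsClosedImmersion i'.left →
        (∃ f'' : X ⟶ Γ', f'' ≫ i' = f) → ∃ j : Γ₁ ⟶ Γ', j ≫ i' = i) :
    ∃ N : ℕ, Set.range i.left.base =
      {g : G.left | ∃ (T : Over (Spec (CommRingCat.of k))) (p : T.left) (x : Fin N → (T ⟶ X)) (ε : Fin N → Bool),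
        ((List.ofFn fun j : Fin N => if ε j then x j ≫ f else (x j ≫ f)⁻¹).prod : T ⟶ G).left.base p = g} := by
  haveI hsub : Subsingleton ↥(Spec (CommRingCat.of k)) :=
    (inferInstance : Subsingleton (PrimeSpectrum k))
  obtain ⟨G₀, grp₀, incl, hmon, hcl, hflat, hrange, hgi, hcpt⟩ :=
    Groth.Agent.Lib.GrpIdZeroH4.exists_idComp k G
  haveI := hmon
  haveI := hcl
  haveI := hcpt
  haveI hXred : AlgebraicGeometry.IsReduced X.left :=
    self_of_isIntegral_of_geometrically (‹GeometricallyReduced X.hom›).geometrically_isReduced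
  haveI hXconn : ConnectedSpace ↥X.left :=
    self_of_isIntegral_of_geometrically
      (‹GeometricallyConnected X.hom›).geometrically_connectedSpace
  obtain ⟨x₀, t, ht⟩ := he
  have hrf : Set.range f.left.base ⊆ Set.range incl.left.base := by
    have h1 : _root_.IsPreconnected (Set.range f.left.base) :=
      isPreconnected_range f.left.continuous
    have h2 : (η[G] : 𝟙_ (Over (Spec (CommRingCat.of k))) ⟶ G).left.base
        (IsLocalRing.closedPoint k) ∈ Set.range f.left.base := by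
      refine ⟨x₀, ?_⟩
      rw [← ht]
      exact congrArg (η[G] : 𝟙_ (Over (Spec (CommRingCat.of k))) ⟶ G).left.base
        (@Subsingleton.elim _ hsub _ _)
    have h3 := h1.subset_connectedComponent h2
    have h5 : connectedComponent ((η[G] : 𝟙_ (Over (Spec (CommRingCat.of k))) ⟶ G).left.base
        (IsLocalRing.closedPoint k)) = Set.range incl.left.base := hrange.symm
    rw [h5] at h3
    exact h3
  obtain ⟨f₀, hf₀⟩ := lift_red incl f hrf
  haveI hmono : Mono incl := by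
    haveI : Mono incl.left := inferInstance
    exact Over.mono_of_mono_left incl
  obtain ⟨j, hj⟩ := hmin G₀ grp₀ incl hmon hcl ⟨f₀, hf₀⟩
  haveI hjmon : IsMonHom j := isMonHom_of_comp_mono j incl i hj
  have hjl : j.left ≫ incl.left = i.left := by rw [← Over.comp_left, hj]
  haveI : IsClosedImmersion (j.left ≫ incl.left) := by rw [hjl]; infer_instance
  haveI hjcl : IsClosedImmersion j.left :=
    IsClosedImmersion.of_comp_isClosedImmersion j.left incl.left
  haveI : LocallyOfFiniteType G₀.hom := by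
    rw [← Over.w incl]
    infer_instance
  have hinj : Function.Injective incl.left.base := incl.left.isClosedEmbedding.injective
  have he₀ : ∃ x : X.left, f₀.left.base x ∈
      Set.range (η[G₀] : 𝟙_ (Over (Spec (CommRingCat.of k))) ⟶ G₀).left.base := by
    refine ⟨x₀, t, hinj ?_⟩
    have e1 : incl.left.base ((η[G₀] : 𝟙_ (Over (Spec (CommRingCat.of k))) ⟶ G₀).left.base t) =
        (η[G] : 𝟙_ (Over (Spec (CommRingCat.of k))) ⟶ G).left.base t :=
      congrArg (fun q : 𝟙_ (Over (Spec (CommRingCat.of k))) ⟶ G => q.left.base t)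
        (IsMonHom.one_hom incl)
    have e2 : incl.left.base (f₀.left.base x₀) = f.left.base x₀ :=
      congrArg (fun q : X ⟶ G => q.left.base x₀) hf₀
    rw [e1, e2]
    exact ht
  have hf₀' : ∃ f' : X ⟶ Γ₁, f' ≫ j = f₀ := by
    obtain ⟨f', hf'⟩ := hf
    refine ⟨f', ?_⟩
    rw [← cancel_mono incl, Category.assoc, hj, hf', hf₀]
  have hmin₀ : ∀ (Γ' : Over (Spec (CommRingCat.of k))) (_ : GrpObj Γ') (i' : Γ' ⟶ G₀),
      IsMonHom i' → IsClosedImmersion i'.left → (∃ f'' : X ⟶ Γ', f'' ≫ i' = f₀) →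
      ∃ j' : Γ₁ ⟶ Γ', j' ≫ i' = j := by
    intro Γ' grp' i' hmon' hcl' hfac
    obtain ⟨f'', hf''⟩ := hfac
    haveI := hmon'
    haveI := hcl'
    haveI : IsClosedImmersion (i' ≫ incl).left := by
      show IsClosedImmersion (i'.left ≫ incl.left)
      infer_instance
    obtain ⟨j', hj'⟩ := hmin Γ' grp' (i' ≫ incl) inferInstance inferInstance
      ⟨f'', by rw [← Category.assoc, hf'', hf₀]⟩
    refine ⟨j', ?_⟩
    rw [← cancel_mono incl, Category.assoc, hj', hj]
  obtain ⟨N, hN⟩ := core6074 G₀ X f₀ he₀ Γ₁ j hf₀' hmin₀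
  refine ⟨N, ?_⟩
  have hwd : ∀ (T : Over (Spec (CommRingCat.of k))) {n : ℕ} (x : Fin n → (T ⟶ X))
      (ε : Fin n → Bool), wd f x ε = wd f₀ x ε ≫ incl := by
    intro T n x ε
    rw [wd_comp_hom incl f₀ x ε, hf₀]
  apply Set.Subset.antisymm
  · rintro _ ⟨γ₀, rfl⟩
    have h1 : j.left.base γ₀ ∈ {g : G₀.left | Under f₀ N g} := by
      rw [← hN]
      exact ⟨γ₀, rfl⟩
    obtain ⟨T, p, x, ε, hw⟩ := h1
    refine ⟨T, p, x, ε, ?_⟩
    show (wd f x ε).left.base p = i.left.base γ₀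
    rw [hwd T x ε]
    show incl.left.base ((wd f₀ x ε).left.base p) = i.left.base γ₀
    have h2 : (wd f₀ x ε).left.base p = j.left.base γ₀ := hw
    rw [h2]
    exact congrArg (fun q : Γ₁ ⟶ G => q.left.base γ₀) hj
  · rintro g ⟨T, p, x, ε, hw⟩
    have h1 : (wd f x ε).left.base p = g := hw
    rw [hwd T x ε] at h1
    have h2 : (wd f₀ x ε).left.base p ∈ Set.range j.left.base := by
      rw [hN]
      exact ⟨T, p, x, ε, rfl⟩
    obtain ⟨γ₀, hγ₀⟩ := h2
    refine ⟨γ₀, ?_⟩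
    rw [← h1]
    show i.left.base γ₀ = incl.left.base ((wd f₀ x ε).left.base p)
    rw [← hγ₀]
    exact (congrArg (fun q : Γ₁ ⟶ G => q.left.base γ₀) hj).symm

end Groth.Agent.Lib.WordConnH4
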