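import Groth.Agent.Lib.WronskLine_lead

/-! Three-dimensional vanishing on the (2+1)-pointed line (lead). -/

open Polynomial

namespace Groth.Agent.Lib.WronskLine2_lead

open Groth.Agent.Lib.WronskLine_lead

variable {k : Type*} [Field k]

lemma finrank_le_two_of_le_span (W : Submodule k k[X]) (g₁ g₂ : k[X])
    (h : W ≤ Submodule.span k {g₁, g₂}) : Module.finrank k W ≤ 2 := by
  classical
  have h' : W ≤ Submodule.span k (↑({g₁, g₂} : Finset k[X]) : Set k[X]) := by
    simpa using h
  refine (Submodule.finrank_mono h').trans ?_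
  refine (finrank_span_finset_le_card _).trans ?_
  exact Finset.card_le_two

lemma mem_V_of {a : ℕ} {f : k[X]} (hd : f.natDegree ≤ a + 1) (he : f.eval 0 = f.eval (-1)) :
    f ∈ Submodule.span k {(1 : k[X])} ⊔
      ((Ideal.span {(X : k[X]) * (X + 1)}).restrictScalars k ⊓ Polynomial.degreeLE k ↑(a + 1)) := by
  have hsplit : f = (f.eval 0) • (1 : k[X]) + (f - C (f.eval 0)) := by
    rw [smul_eq_C_mul, mul_one]; ring
  rw [hsplit]
  refine Submodule.add_mem_sup (Submodule.smul_mem _ _ (Submodule.subset_span rfl)) ?_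
  refine Submodule.mem_inf.mpr ⟨?_, ?_⟩
  · show (f - C (f.eval 0)) ∈ Ideal.span {(X : k[X]) * (X + 1)}
    rw [Ideal.mem_span_singleton]
    have hc : IsCoprime (X : k[X]) (X + 1) := ⟨-1, 1, by ring⟩
    refine hc.mul_dvd ?_ ?_
    · rw [X_dvd_iff]
      simp [coeff_zero_eq_eval_zero]
    · have : (X + 1 : k[X]) = X - C (-1) := by simp
      rw [this, dvd_iff_isRoot, IsRoot.def]
      simp [he]
  · rw [mem_degreeLE]
    refine (degree_sub_le _ _).trans (max_le (degree_le_of_natDegree_le hd) ?_)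
    exact degree_C_le.trans (by exact_mod_cast Nat.zero_le _)

theorem upper (e : ℕ) (g : k[X]) (hg : g.Monic) (hge : g.natDegree = e) (W : Submodule k k[X])
    (hW : ∀ f ∈ W, f.natDegree ≤ e + 2 ∧ f.eval 0 = f.eval (-1) ∧ g ∣ f)
    (hne : ¬ (g.eval 0 = 0 ∧ g.eval (-1) = 0)) : Module.finrank k W ≤ 2 := by
  obtain ⟨c0, hc0⟩ : ∃ c : k, c = g.eval 0 := ⟨_, rfl⟩
  obtain ⟨c1, hc1⟩ : ∃ c : k, c = g.eval (-1) := ⟨_, rfl⟩
  rw [← hc0, ← hc1] at hne
  have key : ∀ f ∈ W, ∃ α β γ : k, f = g * (C α + C β * X + C γ * X ^ 2) ∧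
      c0 * α = c1 * (α - β + γ) := by
    intro f hf
    obtain ⟨hdeg, hev, h, rfl⟩ := hW f hf
    have hh : h.natDegree ≤ 2 := by
      by_cases h0 : h = 0
      · simp [h0]
      · have := hg.natDegree_mul' h0
        rw [this, hge] at hdeg
        omega
    have hform : h = C (h.coeff 0) + C (h.coeff 1) * X + C (h.coeff 2) * X ^ 2 := by
      conv_lhs => rw [as_sum_range_C_mul_X_pow' h (show h.natDegree < 3 by omega)]
      simp [Finset.sum_range_succ]
    refine ⟨h.coeff 0, h.coeff 1, h.coeff 2, by rw [← hform], ?_⟩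
    have e0 : h.eval 0 = h.coeff 0 := (coeff_zero_eq_eval_zero h).symm
    have e1 : h.eval (-1) = h.coeff 0 - h.coeff 1 + h.coeff 2 := by
      conv_lhs => rw [hform]
      simp only [eval_add, eval_mul, eval_C, eval_X, eval_pow]
      ring
    rw [eval_mul, eval_mul, e0, e1, ← hc0, ← hc1] at hev
    exact hev
  by_cases h1 : c1 = 0
  · have h0 : c0 ≠ 0 := fun h => hne ⟨h, h1⟩
    refine finrank_le_two_of_le_span W (g * X) (g * X ^ 2) fun f hf => ?_
    obtain ⟨α, β, γ, rfl, hc⟩ := key f hf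
    rw [h1, zero_mul] at hc
    have hα : α = 0 := (mul_eq_zero.mp hc).resolve_left h0
    rw [Submodule.mem_span_pair]
    refine ⟨β, γ, ?_⟩
    rw [hα, smul_eq_C_mul, smul_eq_C_mul]
    simp only [map_zero, zero_add]
    ring
  · obtain ⟨t, ht⟩ : ∃ t : k, t = c0 / c1 := ⟨_, rfl⟩
    have hc0' : c0 = t * c1 := by rw [ht]; field_simp
    refine finrank_le_two_of_le_span W (g * (1 + C (1 - t) * X)) (g * (X + X ^ 2)) fun f hf => ?_
    obtain ⟨α, β, γ, rfl, hc⟩ := key f hf
    have hβ : β = α - t * α + γ := by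
      apply mul_left_cancel₀ h1
      rw [hc0'] at hc
      linear_combination hc
    rw [Submodule.mem_span_pair]
    refine ⟨α, γ, ?_⟩
    rw [hβ, smul_eq_C_mul, smul_eq_C_mul]
    simp only [C_add, C_sub, C_mul, C_1]
    ring

theorem lower (e : ℕ) (g : k[X]) (hg : g.Monic) (W : Submodule k k[X])
    (hWle : ∀ f ∈ W, f.natDegree ≤ e + 2)
    (hWmem : ∀ h : k[X], h.natDegree ≤ 2 → g * h ∈ W) : 3 ≤ Module.finrank k W := by
  have hle : W ≤ degreeLT k (e + 3) := by
    intro f hf
    rw [mem_degreeLT]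
    exact (degree_le_of_natDegree_le (hWle f hf)).trans_lt
      (by exact_mod_cast (by omega : e + 2 < e + 3))
  haveI : Module.Finite k (degreeLT k (e + 3)) :=
    Module.Finite.equiv (degreeLTEquiv k (e + 3)).symm
  haveI : Module.Finite k W :=
    Module.Finite.of_injective (Submodule.inclusion hle) (Submodule.inclusion_injective hle)
  have hmem : ∀ h : degreeLT k 3,
      ((LinearMap.mulLeft k g).comp (degreeLT k 3).subtype) h ∈ W := by
    intro h
    have h3 := mem_degreeLT.mp h.2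
    have : (h : k[X]).natDegree ≤ 2 := by
      by_cases h0 : (h : k[X]) = 0
      · simp [h0]
      · have := (natDegree_lt_iff_degree_lt h0).mpr h3
        omega
    exact hWmem _ this
  let Φ : degreeLT k 3 →ₗ[k] W := LinearMap.codRestrict W _ hmem
  have hinj : Function.Injective Φ := by
    intro h₁ h₂ h12
    have h12' : g * (h₁ : k[X]) = g * (h₂ : k[X]) := congrArg Subtype.val h12
    exact Subtype.ext (mul_left_cancel₀ hg.ne_zero h12')
  have := LinearMap.finrank_le_finrank_of_injective hinj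
  rw [LinearEquiv.finrank_eq (degreeLTEquiv k 3), Module.finrank_fin_fun] at this
  exact this

theorem main64 (k : Type*) [Field k] [CharZero k] (a i j : ℕ) (hi : 0 < i) (hj : 0 < j)
    (hij : i + j + 1 = a)
    (V : Submodule k (Polynomial k))
    (hV : V = Submodule.span k {(1 : Polynomial k)} ⊔
      ((Ideal.span {(X : Polynomial k) * (X + 1)}).restrictScalars k ⊓ Polynomial.degreeLE k ↑(a + 1)))
    (p q : k) :
    3 ≤ Module.finrank k ↥(V ⊓ (Ideal.span {(X - C p) ^ i * (X - C q) ^ j}).restrictScalars k) ↔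
      (p = 0 ∧ q = -1) ∨ (p = -1 ∧ q = 0) := by
  subst hV
  subst hij
  obtain ⟨g, hg⟩ : ∃ g : k[X], g = (X - C p) ^ i * (X - C q) ^ j := ⟨_, rfl⟩
  rw [← hg]
  have hmon : g.Monic := by
    rw [hg]; exact ((monic_X_sub_C p).pow i).mul ((monic_X_sub_C q).pow j)
  have hnd : g.natDegree = i + j := by
    rw [hg, ((monic_X_sub_C p).pow i).natDegree_mul ((monic_X_sub_C q).pow j),
      (monic_X_sub_C p).natDegree_pow, (monic_X_sub_C q).natDegree_pow, natDegree_X_sub_C,
      natDegree_X_sub_C]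
    ring
  have h0 : g.eval 0 = (-p) ^ i * (-q) ^ j := by rw [hg]; simp
  have h1 : g.eval (-1) = (-1 - p) ^ i * (-1 - q) ^ j := by rw [hg]; simp
  have hz0 : g.eval 0 = 0 ↔ (p = 0 ∨ q = 0) := by
    rw [h0, mul_eq_zero, pow_eq_zero_iff hi.ne', pow_eq_zero_iff hj.ne', neg_eq_zero, neg_eq_zero]
  have hz1 : g.eval (-1) = 0 ↔ (p = -1 ∨ q = -1) := by
    rw [h1, mul_eq_zero, pow_eq_zero_iff hi.ne', pow_eq_zero_iff hj.ne']
    constructor
    · rintro (h | h)
      · left; linear_combination -h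
      · right; linear_combination -h
    · rintro (h | h)
      · left; rw [h]; ring
      · right; rw [h]; ring
  have hne : (0 : k) ≠ -1 := by
    intro h
    have : (1 : k) = 0 := by linear_combination h
    exact one_ne_zero this
  have hprop : ∀ f ∈ (Submodule.span k {(1 : Polynomial k)} ⊔
      ((Ideal.span {(X : Polynomial k) * (X + 1)}).restrictScalars k ⊓
        Polynomial.degreeLE k ↑(i + j + 1 + 1))) ⊓ (Ideal.span {g}).restrictScalars k,
      f.natDegree ≤ i + j + 2 ∧ f.eval 0 = f.eval (-1) ∧ g ∣ f := by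
    intro f hf
    obtain ⟨hf1, hf2⟩ := Submodule.mem_inf.mp hf
    obtain ⟨h1', h2'⟩ := mem_V hf1
    exact ⟨by omega, h2', Ideal.mem_span_singleton.mp hf2⟩
  constructor
  · intro h3
    by_contra hcon
    have hne' : ¬ (g.eval 0 = 0 ∧ g.eval (-1) = 0) := by
      rw [hz0, hz1]
      rintro ⟨(hp | hq), (hp' | hq')⟩
      · exact hne (hp.symm.trans hp')
      · exact hcon (Or.inl ⟨hp, hq'⟩)
      · exact hcon (Or.inr ⟨hp', hq⟩)
      · exact hne (hq.symm.trans hq')
    have hup := upper (i + j) g hmon hnd _ hprop hne'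
    omega
  · intro hpq
    have hboth : g.eval 0 = 0 ∧ g.eval (-1) = 0 := by
      rw [hz0, hz1]
      rcases hpq with ⟨hp, hq⟩ | ⟨hp, hq⟩
      · exact ⟨Or.inl hp, Or.inr hq⟩
      · exact ⟨Or.inr hq, Or.inl hp⟩
    apply lower (i + j) g hmon
    · intro f hf
      exact (hprop f hf).1
    · intro h hh
      refine Submodule.mem_inf.mpr ⟨mem_V_of ?_ ?_, ?_⟩
      · have := natDegree_mul_le (p := g) (q := h)
        omega
      · rw [eval_mul, eval_mul, hboth.1, hboth.2, zero_mul, zero_mul]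
      · exact Ideal.mem_span_singleton.mpr (dvd_mul_right g h)

end Groth.Agent.Lib.WronskLine2_lead
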