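import Mathlib

/-! Two "no special ramification" computations for pencils on the line (lead). -/

open Polynomial

namespace Groth.Agent.Lib.WronskLine_lead

variable {k : Type*} [Field k]

lemma finrank_le_one_of_le_span (W : Submodule k k[X]) (g : k[X]) (h : W ≤ Submodule.span k {g}) :
    Module.finrank k W ≤ 1 := by
  refine (Submodule.finrank_mono h).trans ?_
  have := finrank_span_le_card (R := k) ({g} : Set k[X])
  simpa using this

/-- elements divisible by a monic of degree `m` and of degree `≤ m+1` -/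
lemma exists_linear_cofactor (p : k) (m : ℕ) (f : k[X]) (hdeg : f.natDegree ≤ m + 1)
    (hdvd : (X - C p) ^ m ∣ f) :
    ∃ h : k[X], f = (X - C p) ^ m * h ∧ h = C (h.coeff 0) + C (h.coeff 1) * X := by
  obtain ⟨h, rfl⟩ := hdvd
  have hmon : ((X - C p) ^ m : k[X]).Monic := (monic_X_sub_C p).pow m
  have hnd : ((X - C p) ^ m : k[X]).natDegree = m := by
    rw [natDegree_pow, natDegree_X_sub_C, mul_one]
  have hh : h.natDegree ≤ 1 := by
    by_cases h0 : h = 0
    · simp [h0]
    · have := hmon.natDegree_mul' h0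
      rw [this, hnd] at hdeg
      omega
  refine ⟨h, rfl, ?_⟩
  rw [add_comm]
  exact eq_X_add_C_of_natDegree_le_one hh

lemma mem_V {a : ℕ} {f : k[X]}
    (hf : f ∈ Submodule.span k {(1 : k[X])} ⊔
      ((Ideal.span {(X : k[X]) * (X + 1)}).restrictScalars k ⊓ Polynomial.degreeLE k ↑(a + 1))) :
    f.natDegree ≤ a + 1 ∧ f.eval 0 = f.eval (-1) := by
  obtain ⟨y, hy, z, hz, rfl⟩ := Submodule.mem_sup.mp hf
  obtain ⟨c, rfl⟩ := Submodule.mem_span_singleton.mp hy
  obtain ⟨hz1, hz2⟩ := Submodule.mem_inf.mp hz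
  have hz1' : (X : k[X]) * (X + 1) ∣ z := Ideal.mem_span_singleton.mp hz1
  obtain ⟨w, rfl⟩ := hz1'
  constructor
  · have h1 : (c • (1 : k[X]) + X * (X + 1) * w).degree ≤ ((a + 1 : ℕ) : WithBot ℕ) := by
      refine (degree_add_le _ _).trans (max_le ?_ (mem_degreeLE.mp hz2))
      refine (degree_smul_le _ _).trans ?_
      rw [degree_one]
      exact_mod_cast Nat.zero_le _
    exact natDegree_le_of_degree_le h1
  · simp

theorem part1 (a : ℕ) (p : k) (W : Submodule k k[X])
    (hW : ∀ f ∈ W, f.natDegree ≤ a + 1 ∧ f.eval 0 = f.eval (-1) ∧ (X - C p) ^ a ∣ f) :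
    Module.finrank k W ≤ 1 := by
  obtain ⟨u, hu⟩ : ∃ u : k, u = (-1 - p) ^ a := ⟨_, rfl⟩
  obtain ⟨v, hv⟩ : ∃ v : k, v = (-p) ^ a := ⟨_, rfl⟩
  have key : ∀ f ∈ W, ∃ α β : k, f = (X - C p) ^ a * (C α + C β * X) ∧ v * α = u * (α - β) := by
    intro f hf
    obtain ⟨hdeg, hev, hdvd⟩ := hW f hf
    obtain ⟨h, rfl, hh⟩ := exists_linear_cofactor p a f hdeg hdvd
    refine ⟨h.coeff 0, h.coeff 1, by rw [← hh], ?_⟩
    have e0 : h.eval 0 = h.coeff 0 := (coeff_zero_eq_eval_zero h).symm
    have e1 : h.eval (-1) = h.coeff 0 - h.coeff 1 := by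
      conv_lhs => rw [hh]
      simp only [eval_add, eval_mul, eval_C, eval_X]
      ring
    simp only [eval_mul, eval_pow, eval_sub, eval_X, eval_C, zero_sub] at hev
    rw [e0, e1] at hev
    rw [hu, hv]
    exact hev
  by_cases hu0 : u = 0
  · have hp : p = -1 := by
      have h0 : (-1 - p) = 0 := by
        by_contra hne
        exact (pow_ne_zero a hne) (hu ▸ hu0)
      linear_combination (-1 : k) * h0
    have hv1 : v = 1 := by rw [hv, hp]; simp
    refine finrank_le_one_of_le_span W ((X - C p) ^ a * X) fun f hf => ?_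
    obtain ⟨α, β, rfl, hc⟩ := key f hf
    rw [hu0, hv1, zero_mul, one_mul] at hc
    rw [Submodule.mem_span_singleton]
    refine ⟨β, ?_⟩
    rw [hc, smul_eq_C_mul]
    simp only [map_zero, zero_add]
    ring
  · refine finrank_le_one_of_le_span W ((X - C p) ^ a * (C u + C (u - v) * X)) fun f hf => ?_
    obtain ⟨α, β, rfl, hc⟩ := key f hf
    obtain ⟨s, hs⟩ : ∃ s : k, s = α / u := ⟨_, rfl⟩
    have hα : α = s * u := by rw [hs]; field_simp
    have hβ : β = s * (u - v) := by
      apply mul_right_cancel₀ hu0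
      linear_combination hc - v * hα + (s * u - α) * 0 + u * hα
    rw [Submodule.mem_span_singleton]
    refine ⟨s, ?_⟩
    rw [hα, hβ, smul_eq_C_mul]
    simp only [C_mul, C_sub]
    ring

theorem main63 (k : Type*) [Field k] [CharZero k] (a : ℕ) (ha : 0 < a)
    (V : Submodule k (Polynomial k))
    (hV : V = Submodule.span k {(1 : Polynomial k)} ⊔
      ((Ideal.span {(X : Polynomial k) * (X + 1)}).restrictScalars k ⊓ Polynomial.degreeLE k ↑(a + 1))) :
    (∀ p : k, Module.finrank k ↥(V ⊓ (Ideal.span {(X - C p) ^ a}).restrictScalars k) ≤ 1) ∧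
      Module.finrank k ↥(V ⊓ Polynomial.degreeLT k 2) ≤ 1 := by
  subst hV
  constructor
  · intro p
    apply part1 a p
    intro f hf
    obtain ⟨hf1, hf2⟩ := Submodule.mem_inf.mp hf
    obtain ⟨h1, h2⟩ := mem_V hf1
    exact ⟨h1, h2, Ideal.mem_span_singleton.mp hf2⟩
  · apply finrank_le_one_of_le_span _ 1
    intro f hf
    obtain ⟨hf1, hf2⟩ := Submodule.mem_inf.mp hf
    obtain ⟨h1, h2⟩ := mem_V hf1
    have hd : f.natDegree ≤ 1 := by
      have h3 := mem_degreeLT.mp hf2
      by_cases h0 : f = 0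
      · simp [h0]
      · have := (natDegree_lt_iff_degree_lt h0).mpr h3
        omega
    have hf' := eq_X_add_C_of_natDegree_le_one hd
    have e0 : f.eval 0 = f.coeff 0 := (coeff_zero_eq_eval_zero f).symm
    have e1 : f.eval (-1) = f.coeff 0 - f.coeff 1 := by
      conv_lhs => rw [hf']
      simp only [eval_add, eval_mul, eval_C, eval_X]
      ring
    rw [e0, e1] at h2
    have hb : f.coeff 1 = 0 := by linear_combination h2
    rw [Submodule.mem_span_singleton]
    refine ⟨f.coeff 0, ?_⟩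
    conv_rhs => rw [hf']
    rw [hb, smul_eq_C_mul]
    simp

/-! ### second statement -/

lemma deriv_pow_mul (p : k[X]) (n : ℕ) :
    derivative (p ^ n) * p = C (n : k) * p ^ n * derivative p := by
  rcases n with _ | n
  · simp
  · rw [derivative_pow, Nat.add_sub_cancel, pow_succ]
    ring

section
variable [CharZero k]

lemma coeff_rec (i m : ℕ) (q : k) (hq : q ≠ 0) (l : ℕ)
    (h1 : ((X + 1 : k[X]) ^ i * (X - C q) ^ m).coeff (l + 1) = 0)
    (h2 : ((X + 1 : k[X]) ^ i * (X - C q) ^ m).coeff (l + 2) = 0) :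
    ((X + 1 : k[X]) ^ i * (X - C q) ^ m).coeff (l + 3) = 0 := by
  obtain ⟨P, hP⟩ : ∃ P : k[X], P = (X + 1 : k[X]) ^ i * (X - C q) ^ m := ⟨_, rfl⟩
  rw [← hP] at h1 h2 ⊢
  have dU : derivative ((X + 1 : k[X]) ^ i) * (X + 1) = C (i : k) * (X + 1) ^ i := by
    have := deriv_pow_mul (X + 1 : k[X]) i
    simpa using this
  have dW : derivative ((X - C q : k[X]) ^ m) * (X - C q) = C (m : k) * (X - C q) ^ m := by
    have := deriv_pow_mul (X - C q : k[X]) m
    simpa using this
  have hode : derivative P * X ^ 2 + C (1 - q) * (derivative P * X) - C q * derivative P =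
      C ((i : k) + m) * (P * X) + C ((m : k) - i * q) * P := by
    rw [hP, derivative_mul]
    simp only [C_add, C_sub, C_mul, C_1]
    linear_combination ((X - C q) ^ m * (X - C q)) * dU + ((X + 1) ^ i * (X + 1)) * dW
  have e1 : (derivative P * X ^ 2).coeff (l + 2) = (derivative P).coeff l := coeff_mul_X_pow _ 2 l
  have e2 : (derivative P * X).coeff (l + 2) = (derivative P).coeff (l + 1) := coeff_mul_X _ (l + 1)
  have e3 : (P * X).coeff (l + 2) = P.coeff (l + 1) := coeff_mul_X _ (l + 1)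
  have := congrArg (fun p => p.coeff (l + 2)) hode
  simp only [coeff_add, coeff_sub, coeff_C_mul, e1, e2, e3, coeff_derivative, h1, h2, zero_mul,
    mul_zero, add_zero, zero_sub, sub_zero, zero_add] at this
  have h3 : ((l + 2 : ℕ) : k) + 1 ≠ 0 := Nat.cast_add_one_ne_zero _
  have h4 : q * (P.coeff (l + 2 + 1) * (((l + 2 : ℕ) : k) + 1)) = 0 := by
    linear_combination -this
  rcases mul_eq_zero.mp h4 with h | h
  · exact absurd h hq
  · rcases mul_eq_zero.mp h with h | h
    · exact h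
    · exact absurd h h3

lemma coeff_pair_ne (i m : ℕ) (q : k) (hq : q ≠ 0) (a' : ℕ) (ham : a' + 1 ≤ i + m) :
    ¬ (((X + 1 : k[X]) ^ i * (X - C q) ^ m).coeff a' = 0 ∧
       ((X + 1 : k[X]) ^ i * (X - C q) ^ m).coeff (a' + 1) = 0) := by
  rintro ⟨h0, h1⟩
  rcases a' with _ | l
  · -- constant coefficient is nonzero
    rw [coeff_zero_eq_eval_zero] at h0
    simp only [eval_mul, eval_pow, eval_add, eval_X, eval_one, eval_sub, eval_C, zero_add, one_pow,
      one_mul, zero_sub] at h0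
    exact (pow_ne_zero m (neg_ne_zero.mpr hq)) h0
  · have hall : ∀ j, ((X + 1 : k[X]) ^ i * (X - C q) ^ m).coeff (l + 1 + j) = 0 ∧
        ((X + 1 : k[X]) ^ i * (X - C q) ^ m).coeff (l + 2 + j) = 0 := by
      intro j
      induction j with
      | zero => exact ⟨h0, h1⟩
      | succ j ih =>
        refine ⟨?_, ?_⟩
        · have := ih.2
          rwa [show l + 1 + (j + 1) = l + 2 + j by ring]
        · have := coeff_rec i m q hq (l + j) (by rw [show l + j + 1 = l + 1 + j by ring]; exact ih.1)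
            (by rw [show l + j + 2 = l + 2 + j by ring]; exact ih.2)
          rwa [show l + 2 + (j + 1) = l + j + 3 by ring]
    have hU : (X + 1 : k[X]).Monic := by
      have := monic_X_add_C (1 : k)
      simpa using this
    have hmon : ((X + 1 : k[X]) ^ i * (X - C q) ^ m).Monic :=
      (hU.pow i).mul ((monic_X_sub_C q).pow m)
    have hnd : ((X + 1 : k[X]) ^ i * (X - C q) ^ m).natDegree = i + m := by
      rw [(hU.pow i).natDegree_mul ((monic_X_sub_C q).pow m), hU.natDegree_pow,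
        (monic_X_sub_C q).natDegree_pow, natDegree_X_sub_C]
      have : (X + 1 : k[X]).natDegree = 1 := by
        have := natDegree_X_add_C (1 : k)
        simpa using this
      rw [this]; ring
    have hlead := hmon.coeff_natDegree
    rw [hnd] at hlead
    have := (hall (i + m - (l + 1))).1
    rw [show l + 1 + (i + m - (l + 1)) = i + m by omega] at this
    rw [this] at hlead
    exact zero_ne_one hlead

theorem part2 (a' i m : ℕ) (q : k) (hq : q ≠ 0) (ham : a' + 1 ≤ i + m) (W : Submodule k k[X])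
    (hW : ∀ f ∈ W, f.natDegree ≤ m + 1 ∧ ((X + 1) ^ i * f).coeff (a' + 1) = 0 ∧ (X - C q) ^ m ∣ f) :
    Module.finrank k W ≤ 1 := by
  have hne := coeff_pair_ne i m q hq a' ham
  obtain ⟨P, hP⟩ : ∃ P : k[X], P = (X + 1 : k[X]) ^ i * (X - C q) ^ m := ⟨_, rfl⟩
  rw [← hP] at hne
  obtain ⟨c1, hc1⟩ : ∃ c : k, c = P.coeff a' := ⟨_, rfl⟩
  obtain ⟨c0, hc0⟩ : ∃ c : k, c = P.coeff (a' + 1) := ⟨_, rfl⟩
  rw [← hc1, ← hc0] at hne
  have key : ∀ f ∈ W, ∃ α β : k, f = (X - C q) ^ m * (C α + C β * X) ∧ α * c0 + β * c1 = 0 := by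
    intro f hf
    obtain ⟨hdeg, hco, hdvd⟩ := hW f hf
    obtain ⟨h, rfl, hh⟩ := exists_linear_cofactor q m f hdeg hdvd
    refine ⟨h.coeff 0, h.coeff 1, by rw [← hh], ?_⟩
    have e : (X + 1 : k[X]) ^ i * ((X - C q) ^ m * h) =
        C (h.coeff 0) * P + C (h.coeff 1) * (P * X) := by
      conv_lhs => rw [hh]
      rw [hP]; ring
    rw [e, coeff_add, coeff_C_mul, coeff_C_mul, coeff_mul_X, ← hc0, ← hc1] at hco
    exact hco
  refine finrank_le_one_of_le_span W ((X - C q) ^ m * (C c1 - C c0 * X)) fun f hf => ?_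
  obtain ⟨α, β, rfl, hc⟩ := key f hf
  rw [Submodule.mem_span_singleton]
  by_cases h1 : c1 = 0
  · have h0 : c0 ≠ 0 := fun h => hne ⟨h1, h⟩
    obtain ⟨s, hs⟩ : ∃ s : k, s = -β / c0 := ⟨_, rfl⟩
    have hβ : β = -(s * c0) := by rw [hs]; field_simp
    have hα : α = 0 := by
      rw [h1, mul_zero, add_zero] at hc
      exact (mul_eq_zero.mp hc).resolve_right h0
    refine ⟨s, ?_⟩
    rw [hα, hβ, h1, smul_eq_C_mul]
    simp only [C_mul, C_neg, map_zero]
    ring
  · obtain ⟨s, hs⟩ : ∃ s : k, s = α / c1 := ⟨_, rfl⟩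
    have hα : α = s * c1 := by rw [hs]; field_simp
    have hβ : β = -(s * c0) := by
      apply mul_right_cancel₀ h1
      linear_combination hc - c0 * hα
    refine ⟨s, ?_⟩
    rw [hα, hβ, smul_eq_C_mul]
    simp only [C_mul, C_neg]
    ring

theorem main62 (k : Type*) [Field k] [CharZero k] (a b i : ℕ) (ha : 0 < a) (hb : 0 < b) (hi : 0 < i)
    (hiab : i < a + b)
    (V : Submodule k (Polynomial k))
    (hV : V = Polynomial.degreeLE k ↑(a + b - i) ⊓
      LinearMap.ker ((Polynomial.lcoeff k a).comp (LinearMap.mulLeft k (((X : Polynomial k) + 1) ^ i))))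
    (q : k) (hq : q ≠ 0) :
    Module.finrank k ↥(V ⊓ (Ideal.span {(X - C q) ^ (a + b - i - 1)}).restrictScalars k) ≤ 1 := by
  subst hV
  obtain ⟨a', rfl⟩ := Nat.exists_eq_succ_of_ne_zero ha.ne'
  apply part2 a' i (a' + 1 + b - i - 1) q hq (by omega)
  intro f hf
  obtain ⟨hf1, hf2⟩ := Submodule.mem_inf.mp hf
  obtain ⟨hf3, hf4⟩ := Submodule.mem_inf.mp hf1
  refine ⟨?_, ?_, Ideal.mem_span_singleton.mp hf2⟩
  · have := natDegree_le_of_degree_le (mem_degreeLE.mp hf3)
    omega
  · have := LinearMap.mem_ker.mp hf4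
    simpa only [LinearMap.comp_apply, LinearMap.mulLeft_apply, lcoeff_apply] using this

end

end Groth.Agent.Lib.WronskLine_lead
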