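import Mathlib

/-!
# The three-pointed line linear system (W4c3wronskmg): the `Ψ`-model

`V` = span of multiples of `X^(a+1)` of degree `≤ a+b`, multiples of `(X-1)^(b+1)` of degree `≤ a+b`
and `X^(a+1)(X-1)^(b+1)`.  Every `v ∈ V` is `Ψ G = X(X-1)G' - (a(X-1)+bX)G` with `deg G ≤ a+b+1`
(i.e. `v dX / P = d(G/Q)`, `Q = X^a (X-1)^b`), and `Ψ` lowers orders of vanishing at `q ≠ 0,1` by one.
-/

set_option autoImplicit false

namespace Groth.Agent.Lib.WronskMG

open Polynomial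

variable {k : Type*} [Field k] [CharZero k]

noncomputable def Psi (a b : ℕ) (G : k[X]) : k[X] :=
  X * (X - 1) * derivative G - (C (a:k) * (X - 1) + C (b:k) * X) * G

noncomputable def Q (a b : ℕ) : k[X] := X ^ a * (X - 1) ^ b

noncomputable def Vsp (k : Type*) [Field k] (a b : ℕ) : Submodule k (Polynomial k) :=
  ((Ideal.span {(X : Polynomial k) ^ (a + 1)}).restrictScalars k ⊓ Polynomial.degreeLE k ↑(a + b)) ⊔
      ((Ideal.span {((X : Polynomial k) - 1) ^ (b + 1)}).restrictScalars k ⊓ Polynomial.degreeLE k ↑(a + b)) ⊔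
      Submodule.span k {(X : Polynomial k) ^ (a + 1) * (X - 1) ^ (b + 1)}

lemma Psi_zero (a b : ℕ) : Psi a b (0 : k[X]) = 0 := by simp [Psi]

lemma Psi_add (a b : ℕ) (F G : k[X]) : Psi a b (F + G) = Psi a b F + Psi a b G := by
  simp only [Psi, derivative_add]; ring

lemma Psi_sub (a b : ℕ) (F G : k[X]) : Psi a b (F - G) = Psi a b F - Psi a b G := by
  simp only [Psi, derivative_sub]; ring

lemma Psi_C_mul (a b : ℕ) (c : k) (G : k[X]) : Psi a b (C c * G) = C c * Psi a b G := by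
  simp only [Psi, derivative_C_mul]; ring

lemma Psi_mul (a b : ℕ) (F H : k[X]) :
    Psi a b (F * H) = Psi a b F * H + X * (X - 1) * F * derivative H := by
  simp only [Psi, derivative_mul]; ring

lemma mul_deriv_pow (π : k[X]) (hπ : derivative π = 1) (n : ℕ) :
    π * derivative (π ^ n) = C (n : k) * π ^ n := by
  cases n with
  | zero => simp
  | succ m => rw [derivative_pow, hπ, Nat.add_sub_cancel, pow_succ]; ring

lemma deriv_pow_succ (π : k[X]) (hπ : derivative π = 1) (n : ℕ) :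
    derivative (π ^ (n + 1)) = C ((n:k) + 1) * π ^ n := by
  rw [derivative_pow, hπ, Nat.add_sub_cancel, Nat.cast_succ, mul_one]

lemma dXs : derivative ((X : k[X]) - 1) = 1 := by
  rw [derivative_sub, derivative_X, derivative_one, sub_zero]

lemma dXr (ρ : k) : derivative ((X : k[X]) - C ρ) = 1 := by
  rw [derivative_sub, derivative_X, derivative_C, sub_zero]

lemma Xs_eq : (X - 1 : k[X]) = X - C 1 := by simp

lemma Xs_ne_zero : (X - 1 : k[X]) ≠ 0 := by
  rw [Xs_eq]; exact X_sub_C_ne_zero 1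

lemma natDegree_Xr_pow (ρ : k) (n : ℕ) : ((X - C ρ : k[X]) ^ n).natDegree = n := by
  rw [(monic_X_sub_C ρ).natDegree_pow, natDegree_X_sub_C, mul_one]

lemma natDegree_Xs_pow (n : ℕ) : ((X - 1 : k[X]) ^ n).natDegree = n := by
  rw [Xs_eq]; exact natDegree_Xr_pow 1 n

lemma natDegree_Q_le (a b : ℕ) : (Q a b : k[X]).natDegree ≤ a + b :=
  natDegree_mul_le_of_le (natDegree_X_pow_le a) (natDegree_Xs_pow b).le

lemma Psi_Q (a b : ℕ) : Psi a b (Q a b : k[X]) = 0 := by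
  have h1 := mul_deriv_pow (X : k[X]) derivative_X a
  have h2 := mul_deriv_pow (X - 1 : k[X]) dXs b
  simp only [Psi, Q, derivative_mul]
  linear_combination (X - 1) ^ (b + 1) * h1 + X ^ (a + 1) * h2

lemma Psi_X_pow_mul (a b c : ℕ) (u : k[X]) :
    Psi a b (X ^ c * u) = X ^ c * (C ((c:k) - (a:k)) * (X - 1) * u +
      X * ((X - 1) * derivative u - C (b:k) * u)) := by
  have h1 := mul_deriv_pow (X : k[X]) derivative_X c
  simp only [Psi, derivative_mul, C_sub]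
  linear_combination (X - 1) * u * h1

lemma Psi_Xs_pow_mul (a b c : ℕ) (u : k[X]) :
    Psi a b ((X - 1) ^ c * u) = (X - 1) ^ c * (C ((c:k) - (b:k)) * X * u +
      (X - 1) * (X * derivative u - C (a:k) * u)) := by
  have h2 := mul_deriv_pow (X - 1 : k[X]) dXs c
  simp only [Psi, derivative_mul, C_sub]
  linear_combination X * u * h2

lemma Psi_Xq_pow_mul (a b : ℕ) (q : k) (n : ℕ) (u : k[X]) :
    Psi a b ((X - C q) ^ (n + 1) * u) =
      (X - C q) ^ n * (C ((n:k) + 1) * (X * (X - 1)) * u + (X - C q) * Psi a b u) := by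
  have h := deriv_pow_succ (X - C q : k[X]) (dXr q) n
  simp only [Psi, derivative_mul, h]
  ring

/-- surjectivity of `B ↦ π B' - c B` on polynomials of degree `< c` -/
lemma Lsurj (c : ℕ) (ρ : k) (π : k[X]) (hπ : π = X - C ρ) :
    ∀ n : ℕ, n ≤ c → ∀ A : k[X], degree A < (n : WithBot ℕ) →
      ∃ B : k[X], degree B < (n : WithBot ℕ) ∧ π * derivative B - C (c : k) * B = A := by
  subst hπ
  intro n
  induction n with
  | zero =>
    intro _ A hA
    have h0 : A = 0 := by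
      ext m
      simpa using (degree_lt_iff_coeff_zero A 0).1 hA m (Nat.zero_le m)
    subst h0
    exact ⟨0, hA, by simp⟩
  | succ n ih =>
    intro hn A hA
    have hA' := (degree_lt_iff_coeff_zero A (n + 1)).1 hA
    obtain ⟨E, hE⟩ : ∃ E : k[X], E = (X - C ρ) ^ n := ⟨_, rfl⟩
    have hEm : E.Monic := by rw [hE]; exact (monic_X_sub_C ρ).pow n
    have hEd : E.natDegree = n := by rw [hE]; exact natDegree_Xr_pow ρ n
    have hEn : E.coeff n = 1 := by have := hEm.coeff_natDegree; rwa [hEd] at this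
    have hEgt : ∀ m, n < m → E.coeff m = 0 := fun m hm =>
      coeff_eq_zero_of_natDegree_lt (by rw [hEd]; exact hm)
    have hEL : (X - C ρ) * derivative E = C (n : k) * E := by
      rw [hE]; exact mul_deriv_pow _ (dXr ρ) n
    have hne : (n : k) - (c : k) ≠ 0 :=
      sub_ne_zero.2 ((Nat.cast_injective (R := k)).ne (by omega))
    obtain ⟨α, hα⟩ : ∃ α : k, α = A.coeff n := ⟨_, rfl⟩
    have hA1 : degree (A - C α * E) < (n : WithBot ℕ) := by
      rw [degree_lt_iff_coeff_zero]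
      intro m hm
      rw [coeff_sub, coeff_C_mul]
      rcases Nat.eq_or_lt_of_le hm with h | h
      · rw [← h, hEn, hα]; ring
      · rw [hEgt m h, hA' m (by omega)]; ring
    obtain ⟨B₁, hB₁, hLB₁⟩ := ih (by omega) _ hA1
    have hB₁' := (degree_lt_iff_coeff_zero B₁ n).1 hB₁
    refine ⟨B₁ + C (α / ((n : k) - (c : k))) * E, ?_, ?_⟩
    · rw [degree_lt_iff_coeff_zero]
      intro m hm
      rw [coeff_add, coeff_C_mul, hB₁' m (by omega), hEgt m (by omega)]; ring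
    · rw [derivative_add, derivative_C_mul]
      have hβ : C (α / ((n : k) - (c : k))) * (C (n:k) - C (c:k)) = C α := by
        rw [← C_sub, ← C_mul]; congr 1; field_simp
      linear_combination hLB₁ + C (α / ((n : k) - (c : k))) * hEL + E * hβ

/-- one step of the order computation -/
lemma step (ρ : k) (π : k[X]) (hπ : π = X - C ρ) (c : ℕ) (u Y m r : k[X]) (κ : k) (hκ : κ ≠ 0)
    (hm : m.eval ρ ≠ 0) (hY : Y = π ^ c * (C κ * m * u + π * r)) (hdvd : π ^ (c + 1) ∣ Y) :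
    π ∣ u := by
  subst hπ
  subst hY
  rw [pow_succ] at hdvd
  have h1 : (X - C ρ) ∣ C κ * m * u + (X - C ρ) * r :=
    (mul_dvd_mul_iff_left (pow_ne_zero c (X_sub_C_ne_zero ρ))).1 hdvd
  have h2 : (X - C ρ) ∣ C κ * m * u := (dvd_add_left (dvd_mul_right _ _)).1 h1
  rw [dvd_iff_isRoot, IsRoot.def, eval_mul, eval_mul, eval_C] at h2
  rw [dvd_iff_isRoot, IsRoot.def]
  rcases mul_eq_zero.1 h2 with h | h
  · rcases mul_eq_zero.1 h with h | h
    · exact absurd h hκ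
    · exact absurd h hm
  · exact h

lemma dvd_of_dvd_Psi (a b : ℕ) (q : k) (hq0 : q ≠ 0) (hq1 : q ≠ 1) :
    ∀ e : ℕ, ∀ W : k[X], W.eval q = 0 → (X - C q) ^ e ∣ Psi a b W → (X - C q) ^ (e + 1) ∣ W := by
  intro e
  induction e with
  | zero => intro W hW _; rw [zero_add, pow_one, dvd_iff_isRoot]; exact hW
  | succ e ih =>
    intro W hW hd
    obtain ⟨u, rfl⟩ := ih W hW ((pow_dvd_pow _ (Nat.le_succ e)).trans hd)
    have hm : (X * (X - 1) : k[X]).eval q ≠ 0 := by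
      rw [eval_mul, eval_X, eval_sub, eval_X, eval_one]
      exact mul_ne_zero hq0 (sub_ne_zero.2 hq1)
    have hu : (X - C q) ∣ u :=
      step q (X - C q) rfl e u _ (X * (X - 1)) (Psi a b u) ((e:k) + 1)
        (Nat.cast_add_one_ne_zero e) hm (Psi_Xq_pow_mul a b q e u) hd
    obtain ⟨u', rfl⟩ := hu
    exact ⟨u', by ring⟩

lemma X_pow_dvd_of_dvd_Psi (a b : ℕ) :
    ∀ c : ℕ, c ≤ a → ∀ G : k[X], X ^ c ∣ Psi a b G → X ^ c ∣ G := by
  intro c
  induction c with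
  | zero => intro _ G _; simp
  | succ c ih =>
    intro hc G hd
    obtain ⟨u, rfl⟩ := ih (by omega) G ((pow_dvd_pow _ (Nat.le_succ c)).trans hd)
    have hκ : (c:k) - (a:k) ≠ 0 :=
      sub_ne_zero.2 ((Nat.cast_injective (R := k)).ne (by omega))
    have hu : (X:k[X]) ∣ u :=
      step 0 X (by simp) c u _ (X - 1) ((X - 1) * derivative u - C (b:k) * u) ((c:k) - (a:k)) hκ
        (by simp) (Psi_X_pow_mul a b c u) hd
    obtain ⟨u', rfl⟩ := hu
    exact ⟨u', by ring⟩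

lemma Q_eval_ne (a b : ℕ) (q : k) (hq0 : q ≠ 0) (hq1 : q ≠ 1) : (Q a b : k[X]).eval q ≠ 0 := by
  simp only [Q, eval_mul, eval_pow, eval_X, eval_sub, eval_one]
  exact mul_ne_zero (pow_ne_zero _ hq0) (pow_ne_zero _ (sub_ne_zero.2 hq1))

lemma dvd_sub_Q (a b : ℕ) (q : k) (hq0 : q ≠ 0) (hq1 : q ≠ 1) (e : ℕ) (G : k[X])
    (h : (X - C q) ^ e ∣ Psi a b G) :
    (X - C q) ^ (e + 1) ∣ G - C (G.eval q / (Q a b : k[X]).eval q) * Q a b := by
  apply dvd_of_dvd_Psi a b q hq0 hq1 e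
  · rw [eval_sub, eval_mul, eval_C, div_mul_cancel₀ _ (Q_eval_ne a b q hq0 hq1), sub_self]
  · rw [Psi_sub, Psi_C_mul, Psi_Q, mul_zero, sub_zero]; exact h

lemma natDegree_sub_Q_le (a b : ℕ) (G : k[X]) (l : k) (hG : G.natDegree ≤ a + b + 1) :
    (G - C l * Q a b).natDegree ≤ a + b + 1 :=
  (natDegree_sub_le _ _).trans
    (max_le hG ((natDegree_C_mul_le _ _).trans ((natDegree_Q_le a b).trans (by omega))))

lemma deg_lt_of_mul {π : k[X]} {n m B : ℕ} (hπ : (π ^ n).natDegree = n) (hπ0 : π ≠ 0) {f : k[X]}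
    (h : degree (π ^ n * f) ≤ ((m : ℕ) : WithBot ℕ)) (hm : m < n + B) :
    degree f < (B : WithBot ℕ) := by
  by_cases hf : f = 0
  · subst hf; rw [degree_zero]; exact WithBot.bot_lt_coe B
  · have h' := natDegree_le_of_degree_le h
    rw [natDegree_mul (pow_ne_zero _ hπ0) hf, hπ] at h'
    rw [← natDegree_lt_iff_degree_lt hf]
    omega

lemma mem_Vsp {a b : ℕ} {v : k[X]} (hv : v ∈ Vsp k a b) :
    ∃ f g : k[X], ∃ c : k, degree f < (b : WithBot ℕ) ∧ degree g < (a : WithBot ℕ) ∧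
      v = X ^ (a + 1) * f + (X - 1) ^ (b + 1) * g + C c * (X ^ (a + 1) * (X - 1) ^ (b + 1)) := by
  unfold Vsp at hv
  obtain ⟨y, hy, z, hz, rfl⟩ := Submodule.mem_sup.1 hv
  obtain ⟨y₁, hy₁, y₂, hy₂, rfl⟩ := Submodule.mem_sup.1 hy
  obtain ⟨c, rfl⟩ := Submodule.mem_span_singleton.1 hz
  obtain ⟨hy₁a, hy₁b⟩ := Submodule.mem_inf.1 hy₁
  obtain ⟨hy₂a, hy₂b⟩ := Submodule.mem_inf.1 hy₂
  rw [Submodule.restrictScalars_mem, Ideal.mem_span_singleton] at hy₁a hy₂a
  obtain ⟨f, rfl⟩ := hy₁a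
  obtain ⟨g, rfl⟩ := hy₂a
  rw [Polynomial.mem_degreeLE] at hy₁b hy₂b
  refine ⟨f, g, c, ?_, ?_, ?_⟩
  · exact deg_lt_of_mul (natDegree_X_pow _) X_ne_zero hy₁b (by omega)
  · exact deg_lt_of_mul (natDegree_Xs_pow _) Xs_ne_zero hy₂b (by omega)
  · rw [smul_eq_C_mul]

lemma exists_G {a b : ℕ} {v : k[X]} (hv : v ∈ Vsp k a b) :
    ∃ G : k[X], G.natDegree ≤ a + b + 1 ∧ Psi a b G = v := by
  obtain ⟨f, g, c, hf, hg, rfl⟩ := mem_Vsp hv
  obtain ⟨A₁, hA₁d, hA₁⟩ := Lsurj b 1 (X - 1) (by simp) b le_rfl f hf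
  obtain ⟨A₂, hA₂d, hA₂⟩ := Lsurj a 0 X (by simp) a le_rfl g hg
  refine ⟨X ^ a * A₁ + (X - 1) ^ b * A₂ + C c * (Q a b * X), ?_, ?_⟩
  · have d1 : A₁.natDegree ≤ b := natDegree_le_of_degree_le hA₁d.le
    have d2 : A₂.natDegree ≤ a := natDegree_le_of_degree_le hA₂d.le
    refine natDegree_add_le_of_degree_le (natDegree_add_le_of_degree_le ?_ ?_) ?_
    · exact (natDegree_mul_le_of_le (natDegree_X_pow_le a) d1).trans (by omega)
    · exact (natDegree_mul_le_of_le (natDegree_Xs_pow b).le d2).trans (by omega)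
    · exact (natDegree_C_mul_le _ _).trans
        ((natDegree_mul_le_of_le (natDegree_Q_le a b) natDegree_X_le).trans (by omega))
  · rw [Psi_add, Psi_add, Psi_C_mul, Psi_X_pow_mul, Psi_Xs_pow_mul, Psi_mul, Psi_Q, derivative_X,
      ← hA₁, ← hA₂]
    simp only [Q, sub_self, map_zero]
    ring

lemma exists_ne_zero_of_finrank_pos (W : Submodule k k[X]) (h : 1 ≤ Module.finrank k ↥W) :
    ∃ v ∈ W, v ≠ 0 := by
  apply Submodule.exists_mem_ne_zero_of_ne_bot
  rintro rfl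
  rw [finrank_bot] at h
  omega

lemma dvd_of_coprime_mul {x y z : k[X]} (h : IsCoprime x y) (hd : x ∣ y * z) : x ∣ z := by
  obtain ⟨u, v, huv⟩ := h
  have : z = u * z * x + v * (y * z) := by linear_combination (-z) * huv
  rw [this]
  exact dvd_add (dvd_mul_left _ _) (hd.mul_left _)

lemma isCoprime_X_Xs : IsCoprime (X : k[X]) (X - 1) := ⟨1, -1, by ring⟩

lemma isCoprime_X_Xr (q : k) (hq : q ≠ 0) : IsCoprime (X : k[X]) (X - C q) := by
  have := isCoprime_X_sub_C_of_isUnit_sub (R := k) (a := 0) (b := q)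
    (sub_ne_zero.2 (Ne.symm hq)).isUnit
  simpa using this

lemma coeff_Xs_pow_succ (n : ℕ) : ((X - 1 : k[X]) ^ (n + 1)).coeff n = -((n:k) + 1) := by
  have h : (X - 1 : k[X]) = X + C (-1) := by simp [sub_eq_add_neg]
  rw [h, coeff_X_add_C_pow, Nat.add_sub_cancel_left, pow_one, Nat.choose_succ_self_right,
    Nat.cast_succ]
  ring

/-! ### S16260 -/

theorem main16260 (a b i j : ℕ) (hi : 0 < i) (hiab : i ≤ a + b)
    (hj : i + j = a + b + 2) (p q : k) (hp0 : p ≠ 0) (hp1 : p ≠ 1) (hq0 : q ≠ 0) (hq1 : q ≠ 1) :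
    ¬ (1 ≤ Module.finrank k ↥(Vsp k a b ⊓
          (Ideal.span {(X - C p) ^ i * (X - C q) ^ j}).restrictScalars k) ∧
       2 ≤ Module.finrank k ↥(Vsp k a b ⊓
          (Ideal.span {(X - C p) ^ (i - 1) * (X - C q) ^ (j - 1)}).restrictScalars k)) := by
  rintro ⟨h1, h2⟩
  by_cases hpq : p = q
  · rw [← hpq] at h1
    obtain ⟨v, hv, hv0⟩ := exists_ne_zero_of_finrank_pos _ h1
    obtain ⟨hvV, hvI⟩ := Submodule.mem_inf.1 hv
    rw [Submodule.restrictScalars_mem, Ideal.mem_span_singleton, ← pow_add] at hvI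
    obtain ⟨G, hGd, rfl⟩ := exists_G hvV
    have h5 := dvd_sub_Q a b p hp0 hp1 (i + j) G hvI
    have hz : G - C (G.eval p / (Q a b : k[X]).eval p) * Q a b = 0 := by
      apply eq_zero_of_dvd_of_natDegree_lt h5
      rw [natDegree_Xr_pow]
      have := natDegree_sub_Q_le a b G (G.eval p / (Q a b : k[X]).eval p) hGd
      omega
    apply hv0
    have hG : G = C (G.eval p / (Q a b : k[X]).eval p) * Q a b := sub_eq_zero.1 hz
    rw [hG, Psi_C_mul, Psi_Q, mul_zero]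
  · have hi' : i - 1 + 1 = i := Nat.sub_add_cancel hi
    have hj' : j - 1 + 1 = j := by omega
    have key : ∀ w ∈ Vsp k a b ⊓
        (Ideal.span {(X - C p) ^ (i - 1) * (X - C q) ^ (j - 1)}).restrictScalars k,
        ∃ G : k[X], ∃ l m : k, G.natDegree ≤ a + b + 1 ∧ Psi a b G = w ∧
          (X - C p) ^ i ∣ G - C l * Q a b ∧ (X - C q) ^ j ∣ G - C m * Q a b := by
      intro w hw
      obtain ⟨hwV, hwI⟩ := Submodule.mem_inf.1 hw
      rw [Submodule.restrictScalars_mem, Ideal.mem_span_singleton] at hwI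
      obtain ⟨G, hGd, rfl⟩ := exists_G hwV
      have e1 := dvd_sub_Q a b p hp0 hp1 (i - 1) G ((dvd_mul_right _ _).trans hwI)
      have e2 := dvd_sub_Q a b q hq0 hq1 (j - 1) G ((dvd_mul_left _ _).trans hwI)
      rw [hi'] at e1; rw [hj'] at e2
      exact ⟨G, _, _, hGd, rfl, e1, e2⟩
    have zero_of : ∀ (G : k[X]) (l : k), G.natDegree ≤ a + b + 1 →
        (X - C p) ^ i ∣ G - C l * Q a b → (X - C q) ^ j ∣ G - C l * Q a b → Psi a b G = 0 := by
      intro G l hGd d1 d2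
      have hcop : IsCoprime ((X - C p : k[X]) ^ i) ((X - C q) ^ j) :=
        (isCoprime_X_sub_C_of_isUnit_sub (sub_ne_zero.2 hpq).isUnit).pow
      have hd := hcop.mul_dvd d1 d2
      have hz : G - C l * Q a b = 0 := by
        apply eq_zero_of_dvd_of_natDegree_lt hd
        rw [((monic_X_sub_C p).pow i).natDegree_mul ((monic_X_sub_C q).pow j),
          natDegree_Xr_pow, natDegree_Xr_pow]
        have := natDegree_sub_Q_le a b G l hGd
        omega
      rw [sub_eq_zero.1 hz, Psi_C_mul, Psi_Q, mul_zero]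
    by_cases hbot : Vsp k a b ⊓
        (Ideal.span {(X - C p) ^ (i - 1) * (X - C q) ^ (j - 1)}).restrictScalars k = ⊥
    · rw [hbot, finrank_bot] at h2; omega
    obtain ⟨w₀, hw₀, hw₀ne⟩ := Submodule.exists_mem_ne_zero_of_ne_bot hbot
    obtain ⟨G₀, l₀, m₀, hG₀d, hG₀, d₀1, d₀2⟩ := key w₀ hw₀
    have hlm : l₀ - m₀ ≠ 0 := by
      intro h
      have hlm0 : l₀ = m₀ := sub_eq_zero.1 h
      subst hlm0
      exact hw₀ne (hG₀ ▸ zero_of G₀ l₀ hG₀d d₀1 d₀2)
    have hfin : Module.finrank k ↥(Vsp k a b ⊓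
        (Ideal.span {(X - C p) ^ (i - 1) * (X - C q) ^ (j - 1)}).restrictScalars k) ≤ 1 := by
      refine finrank_le_one (⟨w₀, hw₀⟩ : ↥(Vsp k a b ⊓
        (Ideal.span {(X - C p) ^ (i - 1) * (X - C q) ^ (j - 1)}).restrictScalars k)) ?_
      rintro ⟨w, hw⟩
      obtain ⟨G, l, m, hGd, hG, d1, d2⟩ := key w hw
      obtain ⟨c, hc⟩ : ∃ c : k, c = (l - m) / (l₀ - m₀) := ⟨_, rfl⟩
      have hc' : c * (l₀ - m₀) = l - m := by rw [hc]; field_simp
      have hll : l - c * l₀ = m - c * m₀ := by linear_combination (-1 : k) * hc'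
      have hz := zero_of (G - C c * G₀) (l - c * l₀)
        ((natDegree_sub_le _ _).trans (max_le hGd ((natDegree_C_mul_le _ _).trans hG₀d)))
        (by
          have e : (G - C c * G₀) - C (l - c * l₀) * Q a b =
              (G - C l * Q a b) - C c * (G₀ - C l₀ * Q a b) := by
            simp only [C_sub, C_mul]; ring
          rw [e]; exact dvd_sub d1 (d₀1.mul_left _))
        (by
          have e : (G - C c * G₀) - C (l - c * l₀) * Q a b =
              (G - C m * Q a b) - C c * (G₀ - C m₀ * Q a b) := by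
            rw [hll]; simp only [C_sub, C_mul]; ring
          rw [e]; exact dvd_sub d2 (d₀2.mul_left _))
      rw [Psi_sub, Psi_C_mul, hG, hG₀] at hz
      refine ⟨c, Subtype.ext ?_⟩
      show c • w₀ = w
      rw [smul_eq_C_mul]
      exact (sub_eq_zero.1 hz).symm
    omega

/-! ### S16261 -/

lemma case_gen (a b i j : ℕ) (hia : i ≤ a) (hj : i + j = a + b + 2) (q : k) (hq0 : q ≠ 0)
    (hq1 : q ≠ 1) {v : k[X]} (hvV : v ∈ Vsp k a b) (hvI : X ^ i * (X - C q) ^ j ∣ v) : v = 0 := by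
  obtain ⟨G, hGd, rfl⟩ := exists_G hvV
  have e2 := dvd_sub_Q a b q hq0 hq1 j G ((dvd_mul_left _ _).trans hvI)
  obtain ⟨l, hl⟩ : ∃ l : k, l = G.eval q / (Q a b : k[X]).eval q := ⟨_, rfl⟩
  rw [← hl] at e2
  have hΨ : Psi a b (G - C l * Q a b) = Psi a b G := by
    rw [Psi_sub, Psi_C_mul, Psi_Q, mul_zero, sub_zero]
  have e1 : X ^ i ∣ G - C l * Q a b :=
    X_pow_dvd_of_dvd_Psi a b i hia _ (by rw [hΨ]; exact (dvd_mul_right _ _).trans hvI)
  have hcop : IsCoprime ((X : k[X]) ^ i) ((X - C q) ^ (j + 1)) := (isCoprime_X_Xr q hq0).pow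
  have hd := hcop.mul_dvd e1 e2
  have hz : G - C l * Q a b = 0 := by
    apply eq_zero_of_dvd_of_natDegree_lt hd
    rw [(monic_X_pow i).natDegree_mul ((monic_X_sub_C q).pow (j + 1)), natDegree_X_pow,
      natDegree_Xr_pow]
    have := natDegree_sub_Q_le a b G l hGd
    omega
  rw [← hΨ, hz, Psi_zero]

lemma case_zero (a b : ℕ) {v : k[X]} (hvV : v ∈ Vsp k a b) (hvI : X ^ (a + b + 2) ∣ v) :
    v = 0 := by
  obtain ⟨f, g, c, hf, hg, rfl⟩ := mem_Vsp hvV
  have hX1 : (X:k[X]) ^ (a + 1) ∣ X ^ (a + 1) * f + (X - 1) ^ (b + 1) * g +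
      C c * (X ^ (a + 1) * (X - 1) ^ (b + 1)) :=
    (pow_dvd_pow _ (by omega)).trans hvI
  have hg1 : (X:k[X]) ^ (a + 1) ∣ (X - 1) ^ (b + 1) * g := by
    have e : (X - 1) ^ (b + 1) * g = (X ^ (a + 1) * f + (X - 1) ^ (b + 1) * g +
        C c * (X ^ (a + 1) * (X - 1) ^ (b + 1))) -
        X ^ (a + 1) * (f + C c * (X - 1) ^ (b + 1)) := by ring
    rw [e]; exact dvd_sub hX1 (dvd_mul_right _ _)
  have hg2 : (X:k[X]) ^ (a + 1) ∣ g := dvd_of_coprime_mul (isCoprime_X_Xs.pow) hg1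
  have hg0 : g = 0 := eq_zero_of_dvd_of_natDegree_lt hg2
    (by rw [natDegree_X_pow]; exact Nat.lt_succ_of_le (natDegree_le_of_degree_le hg.le))
  subst hg0
  have hh : (X:k[X]) ^ (b + 1) ∣ f + C c * (X - 1) ^ (b + 1) := by
    have e : X ^ (a + 1) * f + (X - 1) ^ (b + 1) * 0 + C c * (X ^ (a + 1) * (X - 1) ^ (b + 1)) =
        X ^ (a + 1) * (f + C c * (X - 1) ^ (b + 1)) := by ring
    have e' : a + b + 2 = (a + 1) + (b + 1) := by omega
    rw [e, e', pow_add] at hvI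
    exact (mul_dvd_mul_iff_left (pow_ne_zero _ X_ne_zero)).1 hvI
  obtain ⟨r, hr⟩ := hh
  have hcb := congrArg (fun P => coeff P b) hr
  have hnb : ¬ (b + 1 ≤ b) := by omega
  simp only [coeff_add, coeff_C_mul, coeff_X_pow_mul', coeff_Xs_pow_succ, if_neg hnb,
    coeff_eq_zero_of_degree_lt hf] at hcb
  have hc0 : c = 0 := by
    have hb1 : ((b:k) + 1) ≠ 0 := Nat.cast_add_one_ne_zero b
    have h0 : c * ((b:k) + 1) = 0 := by linear_combination (-1 : k) * hcb
    rcases mul_eq_zero.1 h0 with h | h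
    · exact h
    · exact absurd h hb1
  subst hc0
  have hf2 : (X:k[X]) ^ (b + 1) ∣ f := ⟨r, by rw [← hr]; simp⟩
  have hf0 : f = 0 := eq_zero_of_dvd_of_natDegree_lt hf2
    (by rw [natDegree_X_pow]; exact Nat.lt_succ_of_le (natDegree_le_of_degree_le hf.le))
  subst hf0
  simp

lemma case_one (a b i j : ℕ) (hia : i ≤ a) (hj : i + j = a + b + 2)
    {v : k[X]} (hvV : v ∈ Vsp k a b) (hvI : X ^ i * (X - 1) ^ j ∣ v) : v = 0 := by
  obtain ⟨f, g, c, hf, hg, rfl⟩ := mem_Vsp hvV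
  obtain ⟨d, rfl⟩ : ∃ d, a = i + d := ⟨a - i, by omega⟩
  obtain rfl : j = (b + 1) + (d + 1) := by omega
  have hX1 : ((X:k[X]) - 1) ^ (b + 1) ∣ X ^ (i + d + 1) * f + (X - 1) ^ (b + 1) * g +
      C c * (X ^ (i + d + 1) * (X - 1) ^ (b + 1)) :=
    ((pow_dvd_pow _ (Nat.le_add_right _ _)).mul_left _).trans hvI
  have hf1 : ((X:k[X]) - 1) ^ (b + 1) ∣ X ^ (i + d + 1) * f := by
    have e : X ^ (i + d + 1) * f = (X ^ (i + d + 1) * f + (X - 1) ^ (b + 1) * g +
        C c * (X ^ (i + d + 1) * (X - 1) ^ (b + 1))) -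
        (X - 1) ^ (b + 1) * (g + C c * X ^ (i + d + 1)) := by ring
    rw [e]; exact dvd_sub hX1 (dvd_mul_right _ _)
  have hf2 : ((X:k[X]) - 1) ^ (b + 1) ∣ f := dvd_of_coprime_mul (isCoprime_X_Xs.symm.pow) hf1
  have hf0 : f = 0 := eq_zero_of_dvd_of_natDegree_lt hf2
    (by rw [natDegree_Xs_pow]; exact Nat.lt_succ_of_le (natDegree_le_of_degree_le hf.le))
  subst hf0
  have hh : (X:k[X]) ^ i * (X - 1) ^ (d + 1) ∣ g + C c * X ^ (i + d + 1) := by
    have e1 : (X:k[X]) ^ i * (X - 1) ^ (b + 1 + (d + 1)) =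
        (X - 1) ^ (b + 1) * (X ^ i * (X - 1) ^ (d + 1)) := by ring
    have e2 : (X:k[X]) ^ (i + d + 1) * 0 + (X - 1) ^ (b + 1) * g +
        C c * (X ^ (i + d + 1) * (X - 1) ^ (b + 1)) =
        (X - 1) ^ (b + 1) * (g + C c * X ^ (i + d + 1)) := by ring
    rw [e1, e2] at hvI
    exact (mul_dvd_mul_iff_left (pow_ne_zero _ Xs_ne_zero)).1 hvI
  obtain ⟨r, hr⟩ := hh
  have hhd : (g + C c * X ^ (i + d + 1)).natDegree ≤ i + d + 1 :=
    natDegree_add_le_of_degree_le ((natDegree_le_of_degree_le hg.le).trans (by omega))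
      ((natDegree_C_mul_le _ _).trans (natDegree_X_pow_le _))
  have hr0 : r.natDegree = 0 := by
    by_contra hne
    have hrne : r ≠ 0 := fun h0 => hne (by rw [h0, natDegree_zero])
    rw [hr, natDegree_mul (mul_ne_zero (pow_ne_zero _ X_ne_zero) (pow_ne_zero _ Xs_ne_zero)) hrne,
      natDegree_mul (pow_ne_zero _ X_ne_zero) (pow_ne_zero _ Xs_ne_zero), natDegree_X_pow,
      natDegree_Xs_pow] at hhd
    omega
  rw [eq_C_of_natDegree_eq_zero hr0] at hr
  have hcoef := congrArg (fun P => coeff P (d + i)) hr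
  have hg' : g.coeff (d + i) = 0 := coeff_eq_zero_of_degree_lt (by rwa [add_comm] at hg)
  have hne : ¬ (d + i = i + d + 1) := by omega
  simp only [coeff_add, coeff_C_mul, coeff_X_pow, mul_assoc, coeff_X_pow_mul, coeff_mul_C,
    coeff_Xs_pow_succ, hg', if_neg hne] at hcoef
  have hr00 : r.coeff 0 = 0 := by
    have hd1 : ((d:k) + 1) ≠ 0 := Nat.cast_add_one_ne_zero d
    have h0 : ((d:k) + 1) * r.coeff 0 = 0 := by linear_combination hcoef
    rcases mul_eq_zero.1 h0 with h | h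
    · exact absurd h hd1
    · exact h
  rw [hr00, map_zero, mul_zero] at hr
  have e2 : (X:k[X]) ^ (i + d + 1) * 0 + (X - 1) ^ (b + 1) * g +
      C c * (X ^ (i + d + 1) * (X - 1) ^ (b + 1)) =
      (X - 1) ^ (b + 1) * (g + C c * X ^ (i + d + 1)) := by ring
  rw [e2, hr, mul_zero]

theorem main16261 (a b i j : ℕ) (hj : i + j = a + b + 2) (q : k)
    (h1 : 1 ≤ Module.finrank k ↥(Vsp k a b ⊓
      (Ideal.span {(X : k[X]) ^ i * (X - C q) ^ j}).restrictScalars k)) :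
    a + 1 ≤ i := by
  by_contra hlt
  have hia : i ≤ a := by omega
  obtain ⟨v, hv, hv0⟩ := exists_ne_zero_of_finrank_pos _ h1
  obtain ⟨hvV, hvI⟩ := Submodule.mem_inf.1 hv
  rw [Submodule.restrictScalars_mem, Ideal.mem_span_singleton] at hvI
  by_cases hq0 : q = 0
  · subst hq0
    rw [map_zero, sub_zero, ← pow_add, hj] at hvI
    exact hv0 (case_zero a b hvV hvI)
  by_cases hq1 : q = 1
  · subst hq1
    rw [map_one] at hvI
    exact hv0 (case_one a b i j hia hj hvV hvI)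
  · exact hv0 (case_gen a b i j hia hj q hq0 hq1 hvV hvI)

end Groth.Agent.Lib.WronskMG
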