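import Mathlib
import Groth.Agent.Lib.WronskMG_lead

/-!
# Sum of polar parts on the line with `m` marked points and `∞` (W4c4effdivwronsk2)

`V = D·k[X]_{<b} + ∑ D_i·k[X]_{<a_i}`.  Every `v ∈ V` satisfies `E v = P (G' E - G E')` for some `G`
of degree `≤ N` (`E = ∏ (X-r_j)^{a_j}`, `P = ∏ (X-r_j)`), i.e. `v dX/(EP) = d(G/E)`.
-/

set_option autoImplicit false

namespace Groth.Agent.Lib.WronskMG2

open Polynomial Groth.Agent.Lib.WronskMG

variable {k : Type*} [Field k] [CharZero k]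

noncomputable def Vm (k : Type*) [Field k] (m : ℕ) (r : Fin m → k) (a : Fin m → ℕ) (b : ℕ) :
    Submodule k (Polynomial k) :=
  (Polynomial.degreeLT k b).map (LinearMap.mulLeft k (∏ j, (X - C (r j)) ^ (a j + 1))) ⊔
      ⨆ i, (Polynomial.degreeLT k (a i)).map
        (LinearMap.mulLeft k (∏ j ∈ Finset.univ.erase i, (X - C (r j)) ^ (a j + 1)))

/-! ### the relation `E v = P (G' E - G E')` -/

def Sset (E P : k[X]) (N : ℕ) : Submodule k k[X] where
  carrier := {v | ∃ G : k[X], G.natDegree ≤ N ∧ E * v = P * (derivative G * E - G * derivative E)}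
  add_mem' := by
    rintro v w ⟨G, hG, h1⟩ ⟨H, hH, h2⟩
    show ∃ G' : k[X], G'.natDegree ≤ N ∧
      E * (v + w) = P * (derivative G' * E - G' * derivative E)
    refine ⟨G + H, natDegree_add_le_of_degree_le hG hH, ?_⟩
    rw [derivative_add]; linear_combination h1 + h2
  zero_mem' := by
    show ∃ G' : k[X], G'.natDegree ≤ N ∧
      E * 0 = P * (derivative G' * E - G' * derivative E)
    exact ⟨0, by simp, by simp⟩
  smul_mem' := by
    rintro c v ⟨G, hG, h1⟩
    show ∃ G' : k[X], G'.natDegree ≤ N ∧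
      E * (c • v) = P * (derivative G' * E - G' * derivative E)
    refine ⟨C c * G, (natDegree_C_mul_le _ _).trans hG, ?_⟩
    rw [smul_eq_C_mul, derivative_C_mul]; linear_combination C c * h1

lemma mem_Sset {E P : k[X]} {N : ℕ} {v : k[X]} :
    v ∈ Sset E P N ↔
      ∃ G : k[X], G.natDegree ≤ N ∧ E * v = P * (derivative G * E - G * derivative E) := Iff.rfl

lemma exists_antideriv : ∀ n : ℕ, ∀ A : k[X], degree A < (n : WithBot ℕ) →
    ∃ B : k[X], B.natDegree ≤ n ∧ derivative B = A := by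
  intro n
  induction n with
  | zero =>
    intro A hA
    have h0 : A = 0 := by
      ext j
      simpa using (degree_lt_iff_coeff_zero A 0).1 hA j (Nat.zero_le j)
    exact ⟨0, by simp, by simp [h0]⟩
  | succ n ih =>
    intro A hA
    have hA' := (degree_lt_iff_coeff_zero A (n + 1)).1 hA
    obtain ⟨α, hα⟩ : ∃ α : k, α = A.coeff n := ⟨_, rfl⟩
    have hA1 : degree (A - C α * X ^ n) < (n : WithBot ℕ) := by
      rw [degree_lt_iff_coeff_zero]
      intro j hj
      rw [coeff_sub, coeff_C_mul, coeff_X_pow]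
      rcases Nat.eq_or_lt_of_le hj with h | h
      · rw [← h, if_pos rfl, hα]; ring
      · have hne : ¬ (j = n) := by omega
        rw [if_neg hne, hA' j (by omega)]; ring
    obtain ⟨B₁, hB₁, hdB₁⟩ := ih _ hA1
    have hn1 : ((n:k) + 1) ≠ 0 := Nat.cast_add_one_ne_zero n
    refine ⟨B₁ + C (α / ((n:k) + 1)) * X ^ (n + 1), ?_, ?_⟩
    · exact natDegree_add_le_of_degree_le (hB₁.trans (Nat.le_succ n))
        ((natDegree_C_mul_le _ _).trans (natDegree_X_pow_le _))
    · rw [derivative_add, derivative_C_mul, deriv_pow_succ X derivative_X n, hdB₁]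
      have hβ : C (α / ((n:k) + 1)) * C ((n:k) + 1) = C α := by
        rw [← C_mul]; congr 1; field_simp
      linear_combination X ^ n * hβ

lemma rel_piece (π Ei Pi B g : k[X]) (c : ℕ) (hπ : derivative π = 1)
    (hg : π * derivative B - C (c:k) * B = g) :
    (π ^ c * Ei) * ((Ei * Pi) * g) =
      (π * Pi) * (derivative (Ei * B) * (π ^ c * Ei) - Ei * B * derivative (π ^ c * Ei)) := by
  have h1 := mul_deriv_pow π hπ c
  simp only [derivative_mul]
  linear_combination (-(Pi * Ei ^ 2 * π ^ c)) * hg + (Pi * Ei ^ 2 * B) * h1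

lemma dvd_of_rel (E P : k[X]) (q : k) (hEq : E.eval q ≠ 0) (hPq : P.eval q ≠ 0) :
    ∀ e : ℕ, ∀ W v : k[X], E * v = P * (derivative W * E - W * derivative E) → W.eval q = 0 →
      (X - C q) ^ e ∣ v → (X - C q) ^ (e + 1) ∣ W := by
  intro e
  induction e with
  | zero => intro W v _ hW _; rw [zero_add, pow_one, dvd_iff_isRoot]; exact hW
  | succ e ih =>
    intro W v hrel hW hd
    obtain ⟨u, rfl⟩ := ih W v hrel hW ((pow_dvd_pow _ (Nat.le_succ e)).trans hd)
    have hY : E * v = (X - C q) ^ e * (C ((e:k) + 1) * (P * E) * u +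
        (X - C q) * (P * (derivative u * E - u * derivative E))) := by
      rw [hrel, derivative_mul, deriv_pow_succ _ (dXr q) e]; ring
    have hu : (X - C q) ∣ u :=
      step q (X - C q) rfl e u (E * v) (P * E) _ ((e:k) + 1) (Nat.cast_add_one_ne_zero e)
        (by rw [eval_mul]; exact mul_ne_zero hPq hEq) hY (Dvd.dvd.mul_left hd E)
    obtain ⟨u', rfl⟩ := hu
    exact ⟨u', by ring⟩

lemma dvd_sub_E (E P : k[X]) (q : k) (hEq : E.eval q ≠ 0) (hPq : P.eval q ≠ 0) (e : ℕ)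
    (G v : k[X]) (hrel : E * v = P * (derivative G * E - G * derivative E))
    (hd : (X - C q) ^ e ∣ v) :
    (X - C q) ^ (e + 1) ∣ G - C (G.eval q / E.eval q) * E := by
  apply dvd_of_rel E P q hEq hPq e _ v
  · rw [derivative_sub, derivative_C_mul]; linear_combination hrel
  · rw [eval_sub, eval_mul, eval_C, div_mul_cancel₀ _ hEq, sub_self]
  · exact hd

lemma eq_zero_of_rel_CE (E P : k[X]) (hE : E ≠ 0) (l : k) (v : k[X])
    (hrel : E * v = P * (derivative (C l * E) * E - C l * E * derivative E)) : v = 0 := by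
  rw [derivative_C_mul] at hrel
  have h0 : E * v = 0 := by rw [hrel]; ring
  exact (mul_eq_zero.1 h0).resolve_left hE

lemma rel_sub {E P G G₀ w w₀ : k[X]} (c : k)
    (h : E * w = P * (derivative G * E - G * derivative E))
    (h₀ : E * w₀ = P * (derivative G₀ * E - G₀ * derivative E)) :
    E * (w - C c * w₀) =
      P * (derivative (G - C c * G₀) * E - (G - C c * G₀) * derivative E) := by
  rw [derivative_sub, derivative_C_mul]; linear_combination h - C c * h₀

/-! ### the products -/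

section prods

variable {m : ℕ} (r : Fin m → k) (a : Fin m → ℕ)

noncomputable def EE : k[X] := ∏ j, (X - C (r j)) ^ (a j)
noncomputable def PP : k[X] := ∏ j, (X - C (r j))
noncomputable def DD : k[X] := ∏ j, (X - C (r j)) ^ (a j + 1)
noncomputable def Di (i : Fin m) : k[X] := ∏ j ∈ Finset.univ.erase i, (X - C (r j)) ^ (a j + 1)
noncomputable def Ei (i : Fin m) : k[X] := ∏ j ∈ Finset.univ.erase i, (X - C (r j)) ^ (a j)
noncomputable def Pi' (i : Fin m) : k[X] := ∏ j ∈ Finset.univ.erase i, (X - C (r j))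

lemma DD_eq : (∏ j, (X - C (r j)) ^ (a j + 1)) = EE r a * PP r := by
  simp only [EE, PP, pow_succ, Finset.prod_mul_distrib]

lemma Di_eq (i : Fin m) :
    (∏ j ∈ Finset.univ.erase i, (X - C (r j)) ^ (a j + 1)) = Ei r a i * Pi' r i := by
  simp only [Ei, Pi', pow_succ, Finset.prod_mul_distrib]

lemma EE_eq (i : Fin m) : EE r a = (X - C (r i)) ^ (a i) * Ei r a i :=
  (Finset.mul_prod_erase Finset.univ (fun j => (X - C (r j)) ^ (a j)) (Finset.mem_univ i)).symm

lemma PP_eq (i : Fin m) : PP r = (X - C (r i)) * Pi' r i :=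
  (Finset.mul_prod_erase Finset.univ (fun j => (X - C (r j))) (Finset.mem_univ i)).symm

lemma EE_eval_ne (q : k) (hq : ∀ j, q ≠ r j) : (EE r a).eval q ≠ 0 := by
  rw [EE, eval_prod]
  refine Finset.prod_ne_zero_iff.2 fun j _ => ?_
  rw [eval_pow, eval_sub, eval_X, eval_C]
  exact pow_ne_zero _ (sub_ne_zero.2 (hq j))

lemma PP_eval_ne (q : k) (hq : ∀ j, q ≠ r j) : (PP r).eval q ≠ 0 := by
  rw [PP, eval_prod]
  refine Finset.prod_ne_zero_iff.2 fun j _ => ?_
  rw [eval_sub, eval_X, eval_C]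
  exact sub_ne_zero.2 (hq j)

lemma DD_eval_ne (q : k) (hq : ∀ j, q ≠ r j) : (DD r a).eval q ≠ 0 := by
  rw [DD, eval_prod]
  refine Finset.prod_ne_zero_iff.2 fun j _ => ?_
  rw [eval_pow, eval_sub, eval_X, eval_C]
  exact pow_ne_zero _ (sub_ne_zero.2 (hq j))

lemma EE_ne_zero : EE r a ≠ 0 :=
  Finset.prod_ne_zero_iff.2 fun j _ => pow_ne_zero _ (X_sub_C_ne_zero _)

lemma DD_ne_zero : DD r a ≠ 0 :=
  Finset.prod_ne_zero_iff.2 fun j _ => pow_ne_zero _ (X_sub_C_ne_zero _)

lemma natDegree_EE_le : (EE r a).natDegree ≤ ∑ j, a j :=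
  (natDegree_prod_le _ _).trans
    (le_of_eq (Finset.sum_congr rfl fun j _ => natDegree_Xr_pow _ _))

lemma natDegree_Ei_le (i : Fin m) : (Ei r a i).natDegree + a i ≤ ∑ j, a j := by
  have h1 : (Ei r a i).natDegree ≤ ∑ j ∈ Finset.univ.erase i, a j :=
    (natDegree_prod_le _ _).trans
      (le_of_eq (Finset.sum_congr rfl fun j _ => natDegree_Xr_pow _ _))
  have h2 := Finset.add_sum_erase Finset.univ a (Finset.mem_univ i)
  omega

lemma natDegree_sub_E_le (b N : ℕ) (hN : N = (∑ j, a j) + b) (G : k[X]) (l : k)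
    (hG : G.natDegree ≤ N) : (G - C l * EE r a).natDegree ≤ N :=
  (natDegree_sub_le _ _).trans
    (max_le hG ((natDegree_C_mul_le _ _).trans ((natDegree_EE_le r a).trans (by omega))))

lemma Vm_le_Sset (b N : ℕ) (hN : N = (∑ j, a j) + b) :
    Vm k m r a b ≤ Sset (EE r a) (PP r) N := by
  unfold Vm
  refine sup_le ?_ (iSup_le fun i => ?_)
  · intro v hv
    obtain ⟨f, hf, rfl⟩ := Submodule.mem_map.1 hv
    rw [Polynomial.mem_degreeLT] at hf
    obtain ⟨F, hFd, hF⟩ := exists_antideriv b f hf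
    refine mem_Sset.2 ⟨EE r a * F, ?_, ?_⟩
    · exact (natDegree_mul_le_of_le (natDegree_EE_le r a) hFd).trans (by omega)
    · rw [LinearMap.mulLeft_apply, derivative_mul, hF, DD_eq r a]; ring
  · intro v hv
    obtain ⟨g, hg, rfl⟩ := Submodule.mem_map.1 hv
    rw [Polynomial.mem_degreeLT] at hg
    obtain ⟨B, hBd, hB⟩ := Lsurj (a i) (r i) (X - C (r i)) rfl (a i) le_rfl g hg
    refine mem_Sset.2 ⟨Ei r a i * B, ?_, ?_⟩
    · have h1 := natDegree_Ei_le r a i
      have hB' : B.natDegree ≤ a i := natDegree_le_of_degree_le hBd.le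
      exact (natDegree_mul_le_of_le le_rfl hB').trans (by omega)
    · rw [LinearMap.mulLeft_apply, Di_eq r a i, EE_eq r a i, PP_eq r i]
      exact rel_piece _ _ _ _ _ _ (dXr (r i)) hB

lemma eq_zero_of_mem_of_dvd (b N : ℕ) (hN : N = (∑ j, a j) + b) (q : k) (hq : ∀ j, q ≠ r j)
    {v : k[X]} (hvV : v ∈ Vm k m r a b) (hvI : (X - C q) ^ N ∣ v) : v = 0 := by
  obtain ⟨G, hGd, hrel⟩ := mem_Sset.1 (Vm_le_Sset r a b N hN hvV)
  have hEq := EE_eval_ne r a q hq
  have hPq := PP_eval_ne r q hq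
  have h5 := dvd_sub_E _ _ q hEq hPq N G v hrel hvI
  obtain ⟨l, hl⟩ : ∃ l : k, l = G.eval q / (EE r a).eval q := ⟨_, rfl⟩
  rw [← hl] at h5
  have hz : G - C l * EE r a = 0 := by
    apply eq_zero_of_dvd_of_natDegree_lt h5
    rw [natDegree_Xr_pow]
    have := natDegree_sub_E_le r a b N hN G l hGd
    omega
  have hG : G = C l * EE r a := sub_eq_zero.1 hz
  rw [hG] at hrel
  exact eq_zero_of_rel_CE _ _ (EE_ne_zero r a) l v hrel

theorem main17242 (b N : ℕ) (hN : N = (∑ j, a j) + b) (q : k) (hq : ∀ j, q ≠ r j) :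
    Vm k m r a b ⊓ (Ideal.span {(X - C q) ^ N}).restrictScalars k = ⊥ := by
  rw [eq_bot_iff]
  intro v hv
  obtain ⟨hvV, hvI⟩ := Submodule.mem_inf.1 hv
  rw [Submodule.restrictScalars_mem, Ideal.mem_span_singleton] at hvI
  rw [Submodule.mem_bot]
  exact eq_zero_of_mem_of_dvd r a b N hN q hq hvV hvI

/-! ### weight at most one -/

lemma c2_core (b N : ℕ) (hN : N = (∑ j, a j) + b) (p q : k) (hp : ∀ j, p ≠ r j)
    (hq : ∀ j, q ≠ r j) (hqp : q ≠ p) (W2 : Submodule k k[X])
    (hW2 : ∀ w ∈ W2, w ∈ Vm k m r a b ∧ (X - C p) ∣ w ∧ (X - C q) ^ (N - 2) ∣ w) :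
    Module.finrank k ↥W2 ≤ 1 := by
  have hEp := EE_eval_ne r a p hp
  have hPp := PP_eval_ne r p hp
  have hEq := EE_eval_ne r a q hq
  have hPq := PP_eval_ne r q hq
  have key : ∀ w ∈ W2, ∃ G : k[X], ∃ l μ : k, G.natDegree ≤ N ∧
      (EE r a * w = PP r * (derivative G * EE r a - G * derivative (EE r a))) ∧
      (X - C p) ^ (1 + 1) ∣ G - C l * EE r a ∧ (X - C q) ^ (N - 2 + 1) ∣ G - C μ * EE r a := by
    intro w hw
    obtain ⟨hwV, hwp, hwq⟩ := hW2 w hw
    obtain ⟨G, hGd, hrel⟩ := mem_Sset.1 (Vm_le_Sset r a b N hN hwV)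
    have e1 := dvd_sub_E _ _ p hEp hPp 1 G w hrel (by rwa [pow_one])
    have e2 := dvd_sub_E _ _ q hEq hPq (N - 2) G w hrel hwq
    exact ⟨G, _, _, hGd, hrel, e1, e2⟩
  have zero_of : ∀ (G : k[X]) (l : k) (w : k[X]), G.natDegree ≤ N →
      (EE r a * w = PP r * (derivative G * EE r a - G * derivative (EE r a))) →
      (X - C p) ^ (1 + 1) ∣ G - C l * EE r a → (X - C q) ^ (N - 2 + 1) ∣ G - C l * EE r a →
      w = 0 := by
    intro G l w hGd hrel d1 d2
    have hcop : IsCoprime ((X - C p : k[X]) ^ (1 + 1)) ((X - C q) ^ (N - 2 + 1)) :=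
      (isCoprime_X_sub_C_of_isUnit_sub (sub_ne_zero.2 (Ne.symm hqp)).isUnit).pow
    have hd := hcop.mul_dvd d1 d2
    have hz : G - C l * EE r a = 0 := by
      apply eq_zero_of_dvd_of_natDegree_lt hd
      rw [((monic_X_sub_C p).pow _).natDegree_mul ((monic_X_sub_C q).pow _),
        natDegree_Xr_pow, natDegree_Xr_pow]
      have := natDegree_sub_E_le r a b N hN G l hGd
      omega
    have hG : G = C l * EE r a := sub_eq_zero.1 hz
    rw [hG] at hrel
    exact eq_zero_of_rel_CE _ _ (EE_ne_zero r a) l w hrel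
  by_cases hbot : W2 = ⊥
  · rw [hbot, finrank_bot]; exact Nat.zero_le 1
  obtain ⟨w₀, hw₀, hw₀ne⟩ := Submodule.exists_mem_ne_zero_of_ne_bot hbot
  obtain ⟨G₀, l₀, μ₀, hG₀d, hrel₀, d₀1, d₀2⟩ := key w₀ hw₀
  have hlm : l₀ - μ₀ ≠ 0 := by
    intro h
    have h' : l₀ = μ₀ := sub_eq_zero.1 h
    subst h'
    exact hw₀ne (zero_of G₀ l₀ w₀ hG₀d hrel₀ d₀1 d₀2)
  refine finrank_le_one (⟨w₀, hw₀⟩ : ↥W2) ?_
  rintro ⟨w, hw⟩
  obtain ⟨G, l, μ, hGd, hrel, d1, d2⟩ := key w hw
  obtain ⟨c, hc⟩ : ∃ c : k, c = (l - μ) / (l₀ - μ₀) := ⟨_, rfl⟩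
  have hc' : c * (l₀ - μ₀) = l - μ := by rw [hc]; field_simp
  have hll : l - c * l₀ = μ - c * μ₀ := by linear_combination (-1 : k) * hc'
  have hz := zero_of (G - C c * G₀) (l - c * l₀) (w - C c * w₀)
    ((natDegree_sub_le _ _).trans (max_le hGd ((natDegree_C_mul_le _ _).trans hG₀d)))
    (rel_sub c hrel hrel₀)
    (by
      have e : (G - C c * G₀) - C (l - c * l₀) * EE r a =
          (G - C l * EE r a) - C c * (G₀ - C l₀ * EE r a) := by
        simp only [C_sub, C_mul]; ring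
      rw [e]; exact dvd_sub d1 (d₀1.mul_left _))
    (by
      have e : (G - C c * G₀) - C (l - c * l₀) * EE r a =
          (G - C μ * EE r a) - C c * (G₀ - C μ₀ * EE r a) := by
        rw [hll]; simp only [C_sub, C_mul]; ring
      rw [e]; exact dvd_sub d2 (d₀2.mul_left _))
  refine ⟨c, Subtype.ext ?_⟩
  show c • w₀ = w
  rw [smul_eq_C_mul]
  exact (sub_eq_zero.1 hz).symm

/-! ### the unique ramification point -/

lemma star (b N : ℕ) (hN : N = (∑ j, a j) + b) (hN1 : 1 ≤ N) (p q : k) (hp : ∀ j, p ≠ r j)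
    (hq : ∀ j, q ≠ r j) (hqp : q ≠ p) {v : k[X]} (hv0 : v ≠ 0) (hvV : v ∈ Vm k m r a b)
    (hvp : (X - C p) ∣ v) (hvq : (X - C q) ^ (N - 1) ∣ v) :
    (derivative (EE r a)).eval p * (p - q) = (N : k) * (EE r a).eval p := by
  have hEp := EE_eval_ne r a p hp
  have hPp := PP_eval_ne r p hp
  have hEq := EE_eval_ne r a q hq
  have hPq := PP_eval_ne r q hq
  obtain ⟨G, hGd, hrel⟩ := mem_Sset.1 (Vm_le_Sset r a b N hN hvV)
  have e1 := dvd_sub_E _ _ p hEp hPp 1 G v hrel (by rwa [pow_one])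
  obtain ⟨l, hl⟩ : ∃ l : k, l = G.eval p / (EE r a).eval p := ⟨_, rfl⟩
  rw [← hl] at e1
  have hrel₁ : EE r a * v = PP r * (derivative (G - C l * EE r a) * EE r a -
      (G - C l * EE r a) * derivative (EE r a)) := by
    rw [derivative_sub, derivative_C_mul]; linear_combination hrel
  have hG₁d := natDegree_sub_E_le r a b N hN G l hGd
  obtain ⟨G₁, hG₁⟩ : ∃ G₁ : k[X], G₁ = G - C l * EE r a := ⟨_, rfl⟩
  rw [← hG₁] at e1 hrel₁ hG₁d
  have e2 := dvd_sub_E _ _ q hEq hPq (N - 1) G₁ v hrel₁ hvq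
  obtain ⟨μ, hμ⟩ : ∃ μ : k, μ = G₁.eval q / (EE r a).eval q := ⟨_, rfl⟩
  rw [← hμ, Nat.sub_add_cancel hN1] at e2
  obtain ⟨s, hs⟩ := e2
  have hWd := natDegree_sub_E_le r a b N hN G₁ μ hG₁d
  have hs0 : s.natDegree = 0 := by
    by_contra hne
    have hsne : s ≠ 0 := fun h0 => hne (by rw [h0, natDegree_zero])
    rw [hs, natDegree_mul (pow_ne_zero _ (X_sub_C_ne_zero q)) hsne, natDegree_Xr_pow] at hWd
    omega
  rw [eq_C_of_natDegree_eq_zero hs0] at hs
  obtain ⟨c, hc⟩ : ∃ c : k, c = s.coeff 0 := ⟨_, rfl⟩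
  rw [← hc] at hs
  have hG₁' : G₁ = C μ * EE r a + (X - C q) ^ N * C c := by rw [← hs]; ring
  obtain ⟨H, hH⟩ := e1
  have hA0 : G₁.eval p = 0 := by rw [hH]; simp
  have hB0 : (derivative G₁).eval p = 0 := by
    rw [hH, derivative_mul, deriv_pow_succ _ (dXr p) 1]; simp
  have hA : μ * (EE r a).eval p + (p - q) ^ N * c = 0 := by
    rw [hG₁'] at hA0
    simpa only [eval_add, eval_mul, eval_C, eval_pow, eval_sub, eval_X] using hA0
  have hB : μ * (derivative (EE r a)).eval p +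
      (derivative ((X - C q : k[X]) ^ N)).eval p * c = 0 := by
    rw [hG₁', derivative_add, derivative_C_mul, derivative_mul, derivative_C, mul_zero,
      add_zero] at hB0
    simpa only [eval_add, eval_mul, eval_C] using hB0
  have hδ : (p - q) * (derivative ((X - C q : k[X]) ^ N)).eval p = (N : k) * (p - q) ^ N := by
    have h := congrArg (eval p) (mul_deriv_pow (X - C q : k[X]) (dXr q) N)
    simpa only [eval_mul, eval_sub, eval_X, eval_C, eval_pow] using h
  have hμ0 : μ ≠ 0 := by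
    intro h0
    rw [h0, zero_mul, zero_add] at hA
    have hpq : (p - q) ^ N ≠ 0 := pow_ne_zero _ (sub_ne_zero.2 (Ne.symm hqp))
    have hc0 : c = 0 := (mul_eq_zero.1 hA).resolve_left hpq
    rw [hG₁', h0, hc0] at hrel₁
    apply hv0
    have h00 : EE r a * v = 0 := by rw [hrel₁]; simp
    exact (mul_eq_zero.1 h00).resolve_left (EE_ne_zero r a)
  have hmain : μ * ((derivative (EE r a)).eval p * (p - q) - (N : k) * (EE r a).eval p) = 0 := by
    linear_combination (p - q) * hB - c * hδ - (N : k) * hA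
  exact sub_eq_zero.1 ((mul_eq_zero.1 hmain).resolve_left hμ0)

/-! ### dimension count -/

noncomputable def Tmap (b : ℕ) :
    (↥(degreeLT k b) × ((i : Fin m) → ↥(degreeLT k (a i)))) →ₗ[k] k[X] where
  toFun x := DD r a * (x.1 : k[X]) + ∑ i, Di r a i * ((x.2 i : ↥(degreeLT k (a i))) : k[X])
  map_add' x y := by
    simp only [Prod.fst_add, Prod.snd_add, Pi.add_apply, Submodule.coe_add, mul_add,
      Finset.sum_add_distrib]
    ring
  map_smul' c x := by
    simp only [Prod.smul_fst, Prod.smul_snd, Pi.smul_apply, Submodule.coe_smul, mul_smul_comm,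
      RingHom.id_apply, smul_add, Finset.smul_sum]

lemma Tmap_apply (b : ℕ) (x : ↥(degreeLT k b) × ((i : Fin m) → ↥(degreeLT k (a i)))) :
    Tmap r a b x =
      DD r a * (x.1 : k[X]) + ∑ i, Di r a i * ((x.2 i : ↥(degreeLT k (a i))) : k[X]) := rfl

lemma range_Tmap (b : ℕ) : LinearMap.range (Tmap r a b) = Vm k m r a b := by
  apply le_antisymm
  · rintro _ ⟨x, rfl⟩
    rw [Tmap_apply]
    unfold Vm
    refine Submodule.add_mem _ (Submodule.mem_sup_left ?_) (Submodule.mem_sup_right ?_)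
    · exact Submodule.mem_map.2 ⟨x.1, x.1.2, rfl⟩
    · exact Submodule.sum_mem _ fun i _ =>
        Submodule.mem_iSup_of_mem i (Submodule.mem_map.2 ⟨x.2 i, (x.2 i).2, rfl⟩)
  · unfold Vm
    refine sup_le ?_ (iSup_le fun i => ?_)
    · intro v hv
      obtain ⟨f, hf, rfl⟩ := Submodule.mem_map.1 hv
      refine ⟨((⟨f, hf⟩ : ↥(degreeLT k b)), 0), ?_⟩
      rw [Tmap_apply]
      simp [DD]
    · intro v hv
      obtain ⟨g, hg, rfl⟩ := Submodule.mem_map.1 hv
      refine ⟨((0 : ↥(degreeLT k b)), Pi.single i (⟨g, hg⟩ : ↥(degreeLT k (a i)))), ?_⟩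
      rw [Tmap_apply]
      rw [Finset.sum_eq_single i]
      · simp [Di]
      · intro j _ hji
        dsimp only
        rw [Pi.single_eq_of_ne hji]; simp
      · intro h; exact absurd (Finset.mem_univ i) h

lemma Tmap_injective (b : ℕ) (hr : Function.Injective r) : Function.Injective (Tmap r a b) := by
  rw [← LinearMap.ker_eq_bot, LinearMap.ker_eq_bot']
  intro x hx
  rw [Tmap_apply] at hx
  have hg : ∀ i, ((x.2 i : ↥(degreeLT k (a i))) : k[X]) = 0 := by
    intro i
    have hdeg : degree ((x.2 i : ↥(degreeLT k (a i))) : k[X]) < (a i : WithBot ℕ) :=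
      Polynomial.mem_degreeLT.1 (x.2 i).2
    have hπD : (X - C (r i)) ^ (a i + 1) ∣ DD r a :=
      Finset.dvd_prod_of_mem (fun j => (X - C (r j)) ^ (a j + 1)) (Finset.mem_univ i)
    have hπDj : ∀ j ∈ Finset.univ.erase i, (X - C (r i)) ^ (a i + 1) ∣
        Di r a j * ((x.2 j : ↥(degreeLT k (a j))) : k[X]) := by
      intro j hj
      have hji : j ≠ i := (Finset.mem_erase.1 hj).1
      exact Dvd.dvd.mul_right (Finset.dvd_prod_of_mem (fun j' => (X - C (r j')) ^ (a j' + 1))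
        (Finset.mem_erase.2 ⟨Ne.symm hji, Finset.mem_univ i⟩)) _
    have hsum := Finset.add_sum_erase Finset.univ
      (fun j => Di r a j * ((x.2 j : ↥(degreeLT k (a j))) : k[X])) (Finset.mem_univ i)
    beta_reduce at hsum
    have h1 : (X - C (r i)) ^ (a i + 1) ∣ Di r a i * ((x.2 i : ↥(degreeLT k (a i))) : k[X]) := by
      have e : Di r a i * ((x.2 i : ↥(degreeLT k (a i))) : k[X]) =
          0 - DD r a * (x.1 : k[X]) -
            ∑ j ∈ Finset.univ.erase i, Di r a j * ((x.2 j : ↥(degreeLT k (a j))) : k[X]) := by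
        linear_combination hx + hsum
      rw [e]
      exact dvd_sub (dvd_sub (dvd_zero _) (hπD.mul_right _)) (Finset.dvd_sum hπDj)
    have hcop : IsCoprime ((X - C (r i)) ^ (a i + 1)) (Di r a i) := by
      unfold Di
      apply IsCoprime.prod_right
      intro j hj
      have hji : j ≠ i := (Finset.mem_erase.1 hj).1
      exact (isCoprime_X_sub_C_of_isUnit_sub (sub_ne_zero.2 (hr.ne (Ne.symm hji))).isUnit).pow
    have h2 := dvd_of_coprime_mul hcop h1
    exact eq_zero_of_dvd_of_natDegree_lt h2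
      (by rw [natDegree_Xr_pow]; exact Nat.lt_succ_of_le (natDegree_le_of_degree_le hdeg.le))
  have hs : ∑ i, Di r a i * ((x.2 i : ↥(degreeLT k (a i))) : k[X]) = 0 :=
    Finset.sum_eq_zero fun i _ => by rw [hg i, mul_zero]
  rw [hs, add_zero] at hx
  have hf : ((x.1 : ↥(degreeLT k b)) : k[X]) = 0 :=
    (mul_eq_zero.1 hx).resolve_left (DD_ne_zero r a)
  exact Prod.ext (Subtype.ext hf) (funext fun i => Subtype.ext (hg i))

omit [CharZero k] in
lemma finrank_degreeLT' (n : ℕ) : Module.finrank k ↥(degreeLT k n) = n :=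
  (degreeLTEquiv k n).finrank_eq.trans (Module.finrank_fin_fun k)

lemma finrank_dom (b : ℕ) :
    Module.finrank k (↥(degreeLT k b) × ((i : Fin m) → ↥(degreeLT k (a i)))) = b + ∑ i, a i := by
  rw [Module.finrank_prod, Module.finrank_pi_fintype]
  simp only [finrank_degreeLT']

lemma finrank_Vm (b N : ℕ) (hN : N = (∑ j, a j) + b) (hr : Function.Injective r) :
    Module.finrank k ↥(Vm k m r a b) = N := by
  rw [← range_Tmap r a b, LinearMap.finrank_range_of_inj (Tmap_injective r a b hr),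
    finrank_dom, hN, add_comm]

omit [CharZero k] in
lemma finrank_hyperplane (W : Submodule k k[X]) [Module.Finite k ↥W] (φ : k[X] →ₗ[k] k)
    (w : k[X]) (hw : w ∈ W) (hφ : φ w ≠ 0) :
    Module.finrank k ↥(W ⊓ LinearMap.ker φ) + 1 = Module.finrank k ↥W := by
  have h1 := LinearMap.finrank_range_add_finrank_ker (φ ∘ₗ W.subtype)
  have hsurj : LinearMap.range (φ ∘ₗ W.subtype) = ⊤ := by
    rw [LinearMap.range_eq_top]
    intro c
    refine ⟨(c / φ w) • (⟨w, hw⟩ : ↥W), ?_⟩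
    rw [map_smul, LinearMap.comp_apply, Submodule.subtype_apply, smul_eq_mul]
    exact div_mul_cancel₀ c hφ
  have hker : Module.finrank k ↥(LinearMap.ker (φ ∘ₗ W.subtype)) =
      Module.finrank k ↥(W ⊓ LinearMap.ker φ) := by
    rw [LinearMap.ker_comp, ← Submodule.map_comap_subtype, Submodule.finrank_map_subtype_eq]
  rw [hsurj, finrank_top, Module.finrank_self, hker] at h1
  omega

lemma finrank_V1 (b N : ℕ) (hN : N = (∑ j, a j) + b) (hb : 1 ≤ b) (hr : Function.Injective r)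
    (p : k) (hp : ∀ j, p ≠ r j) :
    Module.finrank k ↥(Vm k m r a b ⊓ (Ideal.span {X - C p}).restrictScalars k) + 1 = N := by
  haveI : Module.Finite k ↥(Vm k m r a b) := by
    rw [← range_Tmap r a b]; infer_instance
  have hker : (Ideal.span {X - C p}).restrictScalars k = LinearMap.ker (Polynomial.leval p) := by
    ext v
    rw [Submodule.restrictScalars_mem, Ideal.mem_span_singleton, dvd_iff_isRoot,
      LinearMap.mem_ker]
    rfl
  have hmem : DD r a ∈ Vm k m r a b := by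
    unfold Vm
    refine Submodule.mem_sup_left (Submodule.mem_map.2 ⟨1, ?_, ?_⟩)
    · rw [Polynomial.mem_degreeLT, degree_one]; exact_mod_cast hb
    · rw [LinearMap.mulLeft_apply, mul_one]; rfl
  have hne : Polynomial.leval p (DD r a) ≠ 0 := DD_eval_ne r a p hp
  have h := finrank_hyperplane (Vm k m r a b) (Polynomial.leval p) (DD r a) hmem hne
  rw [hker, h, finrank_Vm r a b N hN hr]

theorem main17245 (hr : Function.Injective r) (b : ℕ) (hb : 1 ≤ b) (N : ℕ)
    (hN : N = (∑ j, a j) + b) (p : k) (hp : ∀ j, p ≠ r j) :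
    Module.finrank k ↥(Vm k m r a b ⊓ (Ideal.span {X - C p}).restrictScalars k) + 1 = N ∧
    ((Vm k m r a b ⊓ (Ideal.span {X - C p}).restrictScalars k) ⊓
      (Ideal.span {(X - C p) ^ N}).restrictScalars k) = ⊥ ∧
    (∀ q : k, (∀ j, q ≠ r j) → q ≠ p →
      ((Vm k m r a b ⊓ (Ideal.span {X - C p}).restrictScalars k) ⊓
        (Ideal.span {(X - C q) ^ N}).restrictScalars k) = ⊥ ∧
      Module.finrank k ↥((Vm k m r a b ⊓ (Ideal.span {X - C p}).restrictScalars k) ⊓
        (Ideal.span {(X - C q) ^ (N - 2)}).restrictScalars k) ≤ 1) ∧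
    (∀ q q' : k, (∀ j, q ≠ r j) → q ≠ p → (∀ j, q' ≠ r j) → q' ≠ p →
      ((Vm k m r a b ⊓ (Ideal.span {X - C p}).restrictScalars k) ⊓
        (Ideal.span {(X - C q) ^ (N - 1)}).restrictScalars k) ≠ ⊥ →
      ((Vm k m r a b ⊓ (Ideal.span {X - C p}).restrictScalars k) ⊓
        (Ideal.span {(X - C q') ^ (N - 1)}).restrictScalars k) ≠ ⊥ → q = q') := by
  have hN1 : 1 ≤ N := by omega
  have hbot : ∀ q : k, (∀ j, q ≠ r j) →
      ((Vm k m r a b ⊓ (Ideal.span {X - C p}).restrictScalars k) ⊓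
        (Ideal.span {(X - C q) ^ N}).restrictScalars k) = ⊥ := by
    intro q hq
    rw [eq_bot_iff]
    intro v hv
    obtain ⟨hv1, hvq⟩ := Submodule.mem_inf.1 hv
    rw [Submodule.restrictScalars_mem, Ideal.mem_span_singleton] at hvq
    rw [Submodule.mem_bot]
    exact eq_zero_of_mem_of_dvd r a b N hN q hq (Submodule.mem_inf.1 hv1).1 hvq
  refine ⟨finrank_V1 r a b N hN hb hr p hp, hbot p hp, ?_, ?_⟩
  · intro q hq hqp
    refine ⟨hbot q hq, ?_⟩
    refine c2_core r a b N hN p q hp hq hqp _ ?_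
    intro w hw
    obtain ⟨hw1, hwq⟩ := Submodule.mem_inf.1 hw
    obtain ⟨hwV, hwp⟩ := Submodule.mem_inf.1 hw1
    rw [Submodule.restrictScalars_mem, Ideal.mem_span_singleton] at hwq hwp
    exact ⟨hwV, hwp, hwq⟩
  · intro q q' hq hqp hq' hq'p hne hne'
    obtain ⟨v, hv, hv0⟩ := Submodule.exists_mem_ne_zero_of_ne_bot hne
    obtain ⟨v', hv', hv0'⟩ := Submodule.exists_mem_ne_zero_of_ne_bot hne'
    obtain ⟨hv1, hvq⟩ := Submodule.mem_inf.1 hv
    obtain ⟨hvV, hvp⟩ := Submodule.mem_inf.1 hv1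
    obtain ⟨hv1', hvq'⟩ := Submodule.mem_inf.1 hv'
    obtain ⟨hvV', hvp'⟩ := Submodule.mem_inf.1 hv1'
    rw [Submodule.restrictScalars_mem, Ideal.mem_span_singleton] at hvq hvp hvq' hvp'
    have s1 := star r a b N hN hN1 p q hp hq hqp hv0 hvV hvp hvq
    have s2 := star r a b N hN hN1 p q' hp hq' hq'p hv0' hvV' hvp' hvq'
    have hEp := EE_eval_ne r a p hp
    have hN0 : (N : k) ≠ 0 := Nat.cast_ne_zero.2 (by omega)
    have hE' : (derivative (EE r a)).eval p ≠ 0 := by
      intro h0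
      rw [h0, zero_mul] at s1
      exact (mul_ne_zero hN0 hEp) s1.symm
    have hpq : p - q = p - q' := mul_left_cancel₀ hE' (s1.trans s2.symm)
    linear_combination (-1 : k) * hpq

end prods

end Groth.Agent.Lib.WronskMG2
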