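import Mathlib
import Groth.Agent.Lib.WronskMG2_lead

/-!
# Hyperplanes of the sum of polar parts containing the forms with pole order dropped by two at `∞`
(W4c4effdivwronsk2, S17243)
-/

set_option autoImplicit false

namespace Groth.Agent.Lib.WronskMG3

open Polynomial Groth.Agent.Lib.WronskMG Groth.Agent.Lib.WronskMG2

variable {k : Type*} [Field k] [CharZero k] {m : ℕ} (r : Fin m → k) (a : Fin m → ℕ)

lemma exists_const_of_dvd (W : k[X]) (q : k) (n : ℕ) (hWd : W.natDegree ≤ n)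
    (hd : (X - C q) ^ n ∣ W) : ∃ c : k, W = (X - C q) ^ n * C c := by
  obtain ⟨s, hs⟩ := hd
  have hs0 : s.natDegree = 0 := by
    by_contra hne
    have hsne : s ≠ 0 := fun h0 => hne (by rw [h0, natDegree_zero])
    rw [hs, natDegree_mul (pow_ne_zero _ (X_sub_C_ne_zero q)) hsne, natDegree_Xr_pow] at hWd
    omega
  exact ⟨s.coeff 0, by rw [← eq_C_of_natDegree_eq_zero hs0]; exact hs⟩

lemma coeff_Xr_pow_succ (q : k) (n : ℕ) :
    ((X - C q : k[X]) ^ (n + 1)).coeff n = -((n:k) + 1) * q := by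
  have h : (X - C q : k[X]) = X + C (-q) := by rw [map_neg, sub_eq_add_neg]
  rw [h, coeff_X_add_C_pow, Nat.add_sub_cancel_left, pow_one, Nat.choose_succ_self_right,
    Nat.cast_succ]
  ring

lemma coeff_Xr_pow_pred (q : k) (N : ℕ) (hN1 : 1 ≤ N) :
    ((X - C q : k[X]) ^ N).coeff (N - 1) = -(N:k) * q := by
  obtain ⟨n, rfl⟩ : ∃ n, N = n + 1 := ⟨N - 1, by omega⟩
  rw [Nat.add_sub_cancel, coeff_Xr_pow_succ]
  push_cast
  ring

lemma coeff_Xr_pow_self (q : k) (n : ℕ) : ((X - C q : k[X]) ^ n).coeff n = 1 := by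
  have h := ((monic_X_sub_C q).pow n).coeff_natDegree
  rwa [natDegree_Xr_pow] at h

lemma top_data (b N : ℕ) (hN : N = (∑ j, a j) + b) (hN1 : 1 ≤ N) (q : k) (hq : ∀ j, q ≠ r j)
    {v : k[X]} (hvV : v ∈ Vm k m r a b) (hvq : (X - C q) ^ (N - 1) ∣ v) :
    ∃ G : k[X], ∃ l c : k, G.natDegree ≤ N ∧
      (EE r a * v = PP r * (derivative G * EE r a - G * derivative (EE r a))) ∧
      G - C l * EE r a = (X - C q) ^ N * C c := by
  obtain ⟨G, hGd, hrel⟩ := mem_Sset.1 (Vm_le_Sset r a b N hN hvV)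
  have e2 := dvd_sub_E _ _ q (EE_eval_ne r a q hq) (PP_eval_ne r q hq) (N - 1) G v hrel hvq
  rw [Nat.sub_add_cancel hN1] at e2
  obtain ⟨c, hc⟩ := exists_const_of_dvd _ q N (natDegree_sub_E_le r a b N hN G _ hGd) e2
  exact ⟨G, _, c, hGd, hrel, hc⟩

lemma line_core (b' N' e : ℕ) (hN' : N' = (∑ j, a j) + b') (he : N' ≤ e + 1) (q : k)
    (hq : ∀ j, q ≠ r j) (W2 : Submodule k k[X])
    (hW2 : ∀ w ∈ W2, w ∈ Vm k m r a b' ∧ (X - C q) ^ e ∣ w) :
    Module.finrank k ↥W2 ≤ 1 := by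
  have hEq := EE_eval_ne r a q hq
  have hPq := PP_eval_ne r q hq
  have key : ∀ w ∈ W2, ∃ G : k[X], ∃ l c : k,
      (EE r a * w = PP r * (derivative G * EE r a - G * derivative (EE r a))) ∧
      G - C l * EE r a = (X - C q) ^ (e + 1) * C c := by
    intro w hw
    obtain ⟨hwV, hwq⟩ := hW2 w hw
    obtain ⟨G, hGd, hrel⟩ := mem_Sset.1 (Vm_le_Sset r a b' N' hN' hwV)
    have e2 := dvd_sub_E _ _ q hEq hPq e G w hrel hwq
    obtain ⟨c, hc⟩ := exists_const_of_dvd _ q (e + 1)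
      ((natDegree_sub_E_le r a b' N' hN' G _ hGd).trans he) e2
    exact ⟨G, _, c, hrel, hc⟩
  have zero_of : ∀ (G : k[X]) (l : k) (w : k[X]),
      (EE r a * w = PP r * (derivative G * EE r a - G * derivative (EE r a))) →
      G - C l * EE r a = (X - C q) ^ (e + 1) * C 0 → w = 0 := by
    intro G l w hrel hG
    rw [map_zero, mul_zero] at hG
    have hG' : G = C l * EE r a := sub_eq_zero.1 hG
    rw [hG'] at hrel
    exact eq_zero_of_rel_CE _ _ (EE_ne_zero r a) l w hrel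
  by_cases hbot : W2 = ⊥
  · rw [hbot, finrank_bot]; exact Nat.zero_le 1
  obtain ⟨w₀, hw₀, hw₀ne⟩ := Submodule.exists_mem_ne_zero_of_ne_bot hbot
  obtain ⟨G₀, l₀, c₀, hrel₀, hG₀⟩ := key w₀ hw₀
  have hc₀ : c₀ ≠ 0 := by
    intro h
    rw [h] at hG₀
    exact hw₀ne (zero_of G₀ l₀ w₀ hrel₀ hG₀)
  refine finrank_le_one (⟨w₀, hw₀⟩ : ↥W2) ?_
  rintro ⟨w, hw⟩
  obtain ⟨G, l, c, hrel, hG⟩ := key w hw
  obtain ⟨t, ht⟩ : ∃ t : k, t = c / c₀ := ⟨_, rfl⟩
  have ht' : t * c₀ = c := by rw [ht]; field_simp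
  have hz := zero_of (G - C t * G₀) (l - t * l₀) (w - C t * w₀) (rel_sub t hrel hrel₀)
    (by
      have e : (G - C t * G₀) - C (l - t * l₀) * EE r a =
          (G - C l * EE r a) - C t * (G₀ - C l₀ * EE r a) := by
        simp only [C_sub, C_mul]; ring
      rw [e, hG, hG₀, ← ht']
      simp only [C_mul, map_zero]; ring)
  refine ⟨t, Subtype.ext ?_⟩
  show t • w₀ = w
  rw [smul_eq_C_mul]
  exact (sub_eq_zero.1 hz).symm

lemma uniq_core (hr : Function.Injective r) (b N : ℕ) (hN : N = (∑ j, a j) + b) (hb2 : 2 ≤ b)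
    (V₁ : Submodule k k[X]) (hV₁ : V₁ ≤ Vm k m r a b) (hfin : Module.finrank k ↥V₁ + 1 = N)
    (hU : Vm k m r a (b - 2) ≤ V₁) (q q' : k) (hq : ∀ j, q ≠ r j) (hq' : ∀ j, q' ≠ r j)
    {v v' : k[X]} (hv0 : v ≠ 0) (hv1 : v ∈ V₁) (hvq : (X - C q) ^ (N - 1) ∣ v)
    (hv0' : v' ≠ 0) (hv1' : v' ∈ V₁) (hvq' : (X - C q') ^ (N - 1) ∣ v') : q = q' := by
  have hN1 : 1 ≤ N := by omega
  haveI finV : Module.Finite k ↥(Vm k m r a b) := by
    rw [← range_Tmap r a b]; infer_instance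
  haveI finU : Module.Finite k ↥(Vm k m r a (b - 2)) := by
    rw [← range_Tmap r a (b - 2)]; infer_instance
  haveI finV₁ : Module.Finite k ↥V₁ := Submodule.finiteDimensional_of_le hV₁
  have hUrank : Module.finrank k ↥(Vm k m r a (b - 2)) = (∑ j, a j) + (b - 2) :=
    finrank_Vm r a (b - 2) _ rfl hr
  have hvU : v ∉ Vm k m r a (b - 2) := by
    intro hvU
    have h0 := eq_zero_of_mem_of_dvd r a (b - 2) (N - 2) (by omega) q hq hvU
      ((pow_dvd_pow _ (by omega)).trans hvq)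
    exact hv0 h0
  have hdisj : Vm k m r a (b - 2) ⊓ Submodule.span k {v} = ⊥ := by
    rw [eq_bot_iff]
    intro x hx
    obtain ⟨hxU, hxv⟩ := Submodule.mem_inf.1 hx
    obtain ⟨α, rfl⟩ := Submodule.mem_span_singleton.1 hxv
    rw [Submodule.mem_bot]
    by_cases hα : α = 0
    · rw [hα, zero_smul]
    · exfalso
      apply hvU
      have h := Submodule.smul_mem _ α⁻¹ hxU
      rwa [smul_smul, inv_mul_cancel₀ hα, one_smul] at h
  have hsup : Vm k m r a (b - 2) ⊔ Submodule.span k {v} = V₁ := by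
    apply Submodule.eq_of_le_of_finrank_eq
      (sup_le hU ((Submodule.span_singleton_le_iff_mem _ _).2 hv1))
    have h1 := Submodule.finrank_sup_add_finrank_inf_eq (Vm k m r a (b - 2))
      (Submodule.span k {v})
    rw [hdisj, finrank_bot, finrank_span_singleton hv0] at h1
    omega
  have hv1'' : v' ∈ Vm k m r a (b - 2) ⊔ Submodule.span k {v} := by rw [hsup]; exact hv1'
  obtain ⟨u, huU, z, hz, huz⟩ := Submodule.mem_sup.1 hv1''
  obtain ⟨α, rfl⟩ := Submodule.mem_span_singleton.1 hz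
  obtain ⟨G, l, c, hGd, hrel, hG⟩ := top_data r a b N hN hN1 q hq (hV₁ hv1) hvq
  obtain ⟨G', l', c', hGd', hrel', hG'⟩ := top_data r a b N hN hN1 q' hq' (hV₁ hv1') hvq'
  have hc' : c' ≠ 0 := by
    intro h
    rw [h, map_zero, mul_zero] at hG'
    have hGe : G' = C l' * EE r a := sub_eq_zero.1 hG'
    rw [hGe] at hrel'
    exact hv0' (eq_zero_of_rel_CE _ _ (EE_ne_zero r a) l' v' hrel')
  obtain ⟨Gu, hGud, hrelu⟩ := mem_Sset.1 (Vm_le_Sset r a (b - 2) (N - 2) (by omega) huU)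
  have hzero : (v' - C α * v) - C 1 * u = 0 := by
    rw [← huz, smul_eq_C_mul, map_one]; ring
  have hrelW := rel_sub (1 : k) (rel_sub α hrel' hrel) hrelu
  rw [hzero, map_one, one_mul] at hrelW
  have hWd : ((G' - C α * G) - Gu).natDegree ≤ N :=
    (natDegree_sub_le _ _).trans (max_le
      ((natDegree_sub_le _ _).trans (max_le hGd' ((natDegree_C_mul_le _ _).trans hGd)))
      (hGud.trans (Nat.sub_le N 2)))
  have h5 := dvd_sub_E _ _ q (EE_eval_ne r a q hq) (PP_eval_ne r q hq) N _ 0 hrelW (dvd_zero _)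
  obtain ⟨lam, hlam⟩ : ∃ lam : k, lam =
      ((G' - C α * G) - Gu).eval q / (EE r a).eval q := ⟨_, rfl⟩
  rw [← hlam] at h5
  have hW : (G' - C α * G) - Gu - C lam * EE r a = 0 := by
    apply eq_zero_of_dvd_of_natDegree_lt h5
    rw [natDegree_Xr_pow]
    have := natDegree_sub_E_le r a b N hN _ lam hWd
    omega
  have hT : (X - C q') ^ N * C c' - C α * ((X - C q) ^ N * C c) =
      Gu + C (lam - l' + α * l) * EE r a := by
    simp only [C_add, C_sub, C_mul]
    linear_combination (-1 : k[X]) * hG' + C α * hG + hW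
  have hTd : ((X - C q') ^ N * C c' - C α * ((X - C q) ^ N * C c)).natDegree ≤ N - 2 := by
    rw [hT]
    refine natDegree_add_le_of_degree_le hGud
      ((natDegree_C_mul_le _ _).trans ((natDegree_EE_le r a).trans (by omega)))
  have hcN := coeff_eq_zero_of_natDegree_lt (lt_of_le_of_lt hTd (by omega : N - 2 < N))
  have hcN1 := coeff_eq_zero_of_natDegree_lt (lt_of_le_of_lt hTd (by omega : N - 2 < N - 1))
  simp only [coeff_sub, coeff_mul_C, coeff_C_mul, coeff_Xr_pow_self,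
    coeff_Xr_pow_pred _ N hN1] at hcN hcN1
  have hN0 : (N : k) ≠ 0 := Nat.cast_ne_zero.2 (by omega)
  have hfinal : (N:k) * c' * (q - q') = 0 := by
    linear_combination hcN1 + (N:k) * q * hcN
  rcases mul_eq_zero.1 hfinal with h | h
  · exact absurd h (mul_ne_zero hN0 hc')
  · exact sub_eq_zero.1 h

theorem main17243 (hr : Function.Injective r) (b : ℕ) (hb : 1 ≤ b) (N : ℕ)
    (hN : N = (∑ j, a j) + b) (V₁ : Submodule k k[X]) (hV₁ : V₁ ≤ Vm k m r a b)
    (hfin : Module.finrank k ↥V₁ + 1 = N) (hU : Vm k m r a (b - 2) ≤ V₁) :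
    (∀ q : k, (∀ j, q ≠ r j) →
      (V₁ ⊓ (Ideal.span {(X - C q) ^ N}).restrictScalars k) = ⊥ ∧
      Module.finrank k ↥(V₁ ⊓ (Ideal.span {(X - C q) ^ (N - 2)}).restrictScalars k) ≤ 1) ∧
    (∀ q q' : k, (∀ j, q ≠ r j) → (∀ j, q' ≠ r j) →
      (V₁ ⊓ (Ideal.span {(X - C q) ^ (N - 1)}).restrictScalars k) ≠ ⊥ →
      (V₁ ⊓ (Ideal.span {(X - C q') ^ (N - 1)}).restrictScalars k) ≠ ⊥ → q = q') := by
  have hN1 : 1 ≤ N := by omega
  haveI finV : Module.Finite k ↥(Vm k m r a b) := by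
    rw [← range_Tmap r a b]; infer_instance
  haveI finU : Module.Finite k ↥(Vm k m r a (b - 2)) := by
    rw [← range_Tmap r a (b - 2)]; infer_instance
  haveI finV₁ : Module.Finite k ↥V₁ := Submodule.finiteDimensional_of_le hV₁
  have hUrank : Module.finrank k ↥(Vm k m r a (b - 2)) = (∑ j, a j) + (b - 2) :=
    finrank_Vm r a (b - 2) _ rfl hr
  have hbotN : ∀ q : k, (∀ j, q ≠ r j) →
      (V₁ ⊓ (Ideal.span {(X - C q) ^ N}).restrictScalars k) = ⊥ := by
    intro q hq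
    rw [eq_bot_iff]
    intro v hv
    obtain ⟨hv1, hvq⟩ := Submodule.mem_inf.1 hv
    rw [Submodule.restrictScalars_mem, Ideal.mem_span_singleton] at hvq
    rw [Submodule.mem_bot]
    exact eq_zero_of_mem_of_dvd r a b N hN q hq (hV₁ hv1) hvq
  rcases Nat.lt_or_ge b 2 with hb1 | hb2
  · have hVU : Vm k m r a (b - 2) = V₁ := Submodule.eq_of_le_of_finrank_eq hU (by omega)
    refine ⟨fun q hq => ⟨hbotN q hq, ?_⟩, ?_⟩
    · refine line_core r a (b - 2) (N - 1) (N - 2) (by omega) (by omega) q hq _ ?_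
      intro w hw
      obtain ⟨hw1, hwq⟩ := Submodule.mem_inf.1 hw
      rw [Submodule.restrictScalars_mem, Ideal.mem_span_singleton] at hwq
      exact ⟨by rw [hVU]; exact hw1, hwq⟩
    · intro q q' hq hq' hne hne'
      exfalso
      apply hne
      rw [← hVU]
      exact main17242 r a (b - 2) (N - 1) (by omega) q hq
  · have hUA : ∀ q : k, (∀ j, q ≠ r j) → Vm k m r a (b - 2) ⊓
        (Ideal.span {(X - C q) ^ (N - 2)}).restrictScalars k = ⊥ :=
      fun q hq => main17242 r a (b - 2) (N - 2) (by omega) q hq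
    refine ⟨fun q hq => ⟨hbotN q hq, ?_⟩, ?_⟩
    · obtain ⟨Xs, hXs⟩ : ∃ Xs : Submodule k k[X],
          Xs = V₁ ⊓ (Ideal.span {(X - C q) ^ (N - 2)}).restrictScalars k := ⟨_, rfl⟩
      rw [← hXs]
      have hXle : Xs ≤ V₁ := by rw [hXs]; exact inf_le_left
      haveI : Module.Finite k ↥Xs := Submodule.finiteDimensional_of_le hXle
      have h1 := Submodule.finrank_sup_add_finrank_inf_eq Xs (Vm k m r a (b - 2))
      have h2 : Xs ⊓ Vm k m r a (b - 2) = ⊥ := by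
        rw [eq_bot_iff, ← hUA q hq]
        intro x hx
        obtain ⟨hx1, hx2⟩ := Submodule.mem_inf.1 hx
        rw [hXs] at hx1
        exact Submodule.mem_inf.2 ⟨hx2, (Submodule.mem_inf.1 hx1).2⟩
      have h3 : Module.finrank k ↥(Xs ⊔ Vm k m r a (b - 2)) ≤ Module.finrank k ↥V₁ :=
        Submodule.finrank_mono (sup_le hXle hU)
      rw [h2, finrank_bot] at h1
      omega
    · intro q q' hq hq' hne hne'
      obtain ⟨v, hv, hv0⟩ := Submodule.exists_mem_ne_zero_of_ne_bot hne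
      obtain ⟨v', hv', hv0'⟩ := Submodule.exists_mem_ne_zero_of_ne_bot hne'
      obtain ⟨hv1, hvq⟩ := Submodule.mem_inf.1 hv
      obtain ⟨hv1', hvq'⟩ := Submodule.mem_inf.1 hv'
      rw [Submodule.restrictScalars_mem, Ideal.mem_span_singleton] at hvq hvq'
      exact uniq_core r a hr b N hN hb2 V₁ hV₁ hfin hU q q' hq hq' hv0 hv1 hvq hv0' hv1' hvq'

end Groth.Agent.Lib.WronskMG3
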