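import Mathlib
import Groth.Agent.Lib.WronskMG2_lead

set_option autoImplicit false
set_option maxHeartbeats 1000000

/-! Vanishing sequences of the system of polar parts at the marked points (helper1),
on top of lead's `WronskMG2`. -/

namespace Groth.Agent.Lib.WronskSeqH1

open Polynomial Groth.Agent.Lib.WronskMG Groth.Agent.Lib.WronskMG2

lemma chain_nat (f : ℕ → ℕ) (N e : ℕ) (heN : e ≤ N) (h0 : f 0 = N)
    (hs : ∀ n, f n ≤ f (n+1) + 1) (ha : ∀ n, f (n+1) ≤ f n) (he : f e = f (e+1))
    (hN : f (N+1) = 0) :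
    ∀ n, f n = if n ≤ e then N - n else N + 1 - n := by
  have La : ∀ n, N ≤ f n + n := by
    intro n; induction n with
    | zero => omega
    | succ n ih => have := hs n; omega
  have Lb : ∀ j, j ≤ N + 1 → f (N + 1 - j) ≤ j := by
    intro j; induction j with
    | zero => intro _; rw [Nat.sub_zero, hN]
    | succ j ih =>
      intro hj
      have h1 := ih (by omega)
      have h2 := hs (N + 1 - (j+1))
      have h3 : N + 1 - (j + 1) + 1 = N + 1 - j := by omega
      rw [h3] at h2
      omega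
  have Lb' : ∀ n, n ≤ N + 1 → f n ≤ N + 1 - n := by
    intro n hn
    have := Lb (N + 1 - n) (by omega)
    have h3 : N + 1 - (N + 1 - n) = n := by omega
    rw [h3] at this
    exact this
  have Lanti : ∀ n, N + 1 ≤ n → f n = 0 := by
    intro n hn
    induction n, hn using Nat.le_induction with
    | base => exact hN
    | succ n hn ih => have := ha n; omega
  have hfe : f e = N - e := by
    have h1 := La e
    have h2 := Lb' (e+1) (by omega)
    omega
  have Ld : ∀ j, j ≤ e → f (e - j) ≤ N - e + j := by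
    intro j; induction j with
    | zero => intro _; rw [Nat.sub_zero, Nat.add_zero]; exact hfe.le
    | succ j ih =>
      intro hj
      have h1 := ih (by omega)
      have h2 := hs (e - (j+1))
      have h3 : e - (j + 1) + 1 = e - j := by omega
      rw [h3] at h2
      omega
  have Le : ∀ j, N - e ≤ f (e + 1 + j) + j := by
    intro j; induction j with
    | zero => rw [Nat.add_zero, Nat.add_zero, ← he, hfe]
    | succ j ih =>
      have h2 := hs (e + 1 + j)
      have h3 : e + 1 + j + 1 = e + 1 + (j + 1) := by omega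
      rw [h3] at h2
      omega
  intro n
  split_ifs with hn
  · have h1 := La n
    have h2 := Ld (e - n) (by omega)
    have h3 : e - (e - n) = n := by omega
    rw [h3] at h2
    omega
  · push Not at hn
    rcases Nat.lt_or_ge n (N + 2) with h | h
    · have h1 := Lb' n (by omega)
      have h2 := Le (n - e - 1)
      have h3 : e + 1 + (n - e - 1) = n := by omega
      rw [h3] at h2
      omega
    · rw [Lanti n (by omega)]; omega

variable {k : Type*} [Field k] [CharZero k]

omit [CharZero k] in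
lemma finrank_le_inf_ker_add_one (W : Submodule k k[X]) [Module.Finite k ↥W] (φ : k[X] →ₗ[k] k) :
    Module.finrank k ↥W ≤ Module.finrank k ↥(W ⊓ LinearMap.ker φ) + 1 := by
  have h1 := LinearMap.finrank_range_add_finrank_ker (φ ∘ₗ W.subtype)
  have hker : Module.finrank k ↥(LinearMap.ker (φ ∘ₗ W.subtype)) =
      Module.finrank k ↥(W ⊓ LinearMap.ker φ) := by
    rw [LinearMap.ker_comp, ← Submodule.map_comap_subtype, Submodule.finrank_map_subtype_eq]
  have hr : Module.finrank k ↥(LinearMap.range (φ ∘ₗ W.subtype)) ≤ 1 := by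
    have := Submodule.finrank_le (LinearMap.range (φ ∘ₗ W.subtype))
    rwa [Module.finrank_self] at this
  omega

omit [CharZero k] in
lemma chain_sub (V : Submodule k k[X]) [Module.Finite k ↥V] (I : ℕ → Submodule k k[X])
    (φ : ℕ → (k[X] →ₗ[k] k)) (N e : ℕ) (heN : e ≤ N) (hV : Module.finrank k ↥V = N)
    (h0 : V ≤ I 0) (hanti : ∀ n, I (n+1) ≤ I n)
    (hstep : ∀ n v, v ∈ V → v ∈ I n → φ n v = 0 → v ∈ I (n+1))
    (he : ∀ v ∈ V, v ∈ I e → v ∈ I (e+1)) (hN : ∀ v ∈ V, v ∈ I (N+1) → v = 0) :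
    ∀ n, Module.finrank k ↥(V ⊓ I n) = if n ≤ e then N - n else N + 1 - n := by
  apply chain_nat (fun n => Module.finrank k ↥(V ⊓ I n)) N e heN
  · show Module.finrank k ↥(V ⊓ I 0) = N
    rw [inf_eq_left.mpr h0, hV]
  · intro n
    show Module.finrank k ↥(V ⊓ I n) ≤ Module.finrank k ↥(V ⊓ I (n+1)) + 1
    have h1 := finrank_le_inf_ker_add_one (V ⊓ I n) (φ n)
    have h2 : (V ⊓ I n) ⊓ LinearMap.ker (φ n) ≤ V ⊓ I (n+1) := by
      rintro v ⟨⟨hv1, hv2⟩, hv3⟩
      exact ⟨hv1, hstep n v hv1 hv2 (LinearMap.mem_ker.mp hv3)⟩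
    exact h1.trans (Nat.add_le_add_right (Submodule.finrank_mono h2) 1)
  · intro n
    exact Submodule.finrank_mono (inf_le_inf_left V (hanti n))
  · show Module.finrank k ↥(V ⊓ I e) = Module.finrank k ↥(V ⊓ I (e+1))
    have : V ⊓ I e = V ⊓ I (e+1) :=
      le_antisymm (fun v hv => ⟨hv.1, he v hv.1 hv.2⟩) (inf_le_inf_left V (hanti e))
    rw [this]
  · show Module.finrank k ↥(V ⊓ I (N+1)) = 0
    have : V ⊓ I (N+1) = ⊥ := by
      rw [eq_bot_iff]; intro v hv; rw [Submodule.mem_bot]; exact hN v hv.1 hv.2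
    rw [this, finrank_bot]

omit [CharZero k] in
lemma Xr_pow_dvd_iff (ρ : k) (n : ℕ) (v : k[X]) :
    (X - C ρ) ^ n ∣ v ↔ X ^ n ∣ taylor ρ v := by
  have hπ : taylor ρ (X - C ρ) = X := by
    rw [map_sub, taylor_X, taylor_C]; ring
  constructor
  · rintro ⟨u, rfl⟩
    rw [taylor_mul, taylor_pow, hπ]
    exact dvd_mul_right _ _
  · rintro ⟨w, hw⟩
    have h1 : taylor (-ρ) (taylor ρ v) = v := by
      rw [taylor_taylor, neg_add_cancel, taylor_zero]
    rw [← h1, hw, taylor_mul, taylor_pow, taylor_X, C_neg]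
    have : (X + -C ρ : k[X]) = X - C ρ := by ring
    rw [this]
    exact dvd_mul_right _ _

omit [CharZero k] in
lemma mem_succ_of_coeff (ρ : k) (n : ℕ) (v : k[X]) (h1 : (X - C ρ)^n ∣ v)
    (h2 : (taylor ρ v).coeff n = 0) : (X - C ρ)^(n+1) ∣ v := by
  rw [Xr_pow_dvd_iff] at h1 ⊢
  rw [X_pow_dvd_iff] at h1 ⊢
  intro d hd
  rcases Nat.lt_succ_iff_lt_or_eq.mp hd with h | h
  · exact h1 d h
  · rw [h]; exact h2

omit [CharZero k] in
lemma coeff_X_mul_derivative (p : k[X]) (n : ℕ) :
    (X * derivative p).coeff n = (n : k) * p.coeff n := by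
  cases n with
  | zero => simp
  | succ n => rw [coeff_X_mul, coeff_derivative]; push_cast; ring

omit [CharZero k] in
lemma natDegree_X_mul_derivative_le (p : k[X]) : (X * derivative p).natDegree ≤ p.natDegree := by
  rw [natDegree_le_iff_coeff_eq_zero]
  intro n hn
  rw [coeff_X_mul_derivative, coeff_eq_zero_of_natDegree_lt hn, mul_zero]

/-- degree of `T(G) = G'E - GE'` when the `deg E` coefficient of `G` vanishes. -/
lemma natDegree_T (E G : k[X]) (hE : E.Monic) (hGe : G.coeff E.natDegree = 0) (hG : G ≠ 0) :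
    G.natDegree ≠ E.natDegree ∧
      (derivative G * E - G * derivative E).natDegree + 1 = G.natDegree + E.natDegree := by
  have hg : G.natDegree ≠ E.natDegree := by
    intro h
    have : G.coeff G.natDegree ≠ 0 := by
      rw [coeff_natDegree]; exact leadingCoeff_ne_zero.mpr hG
    rw [h] at this; exact this hGe
  obtain ⟨T, hT⟩ : ∃ T : k[X], T = derivative G * E - G * derivative E := ⟨_, rfl⟩
  rw [← hT]
  have hXT : X * T = (X * derivative G) * E - G * (X * derivative E) := by rw [hT]; ring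
  have hc : (X * T).coeff (G.natDegree + E.natDegree)
      = ((G.natDegree : k) - (E.natDegree : k)) * G.leadingCoeff := by
    rw [hXT, coeff_sub, coeff_mul_add_eq_of_natDegree_le (natDegree_X_mul_derivative_le G) le_rfl,
      coeff_mul_add_eq_of_natDegree_le le_rfl (natDegree_X_mul_derivative_le E),
      coeff_X_mul_derivative, coeff_X_mul_derivative, hE.coeff_natDegree, coeff_natDegree]
    ring
  have hcne : (X * T).coeff (G.natDegree + E.natDegree) ≠ 0 := by
    rw [hc]
    exact mul_ne_zero (sub_ne_zero.2 ((Nat.cast_injective (R := k)).ne hg))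
      (leadingCoeff_ne_zero.mpr hG)
  have hTne : T ≠ 0 := by
    intro h0; rw [h0, mul_zero, coeff_zero] at hcne; exact hcne rfl
  have hle : (X * T).natDegree ≤ G.natDegree + E.natDegree := by
    rw [hXT]
    refine (natDegree_sub_le _ _).trans (max_le ?_ ?_)
    · exact natDegree_mul_le_of_le (natDegree_X_mul_derivative_le G) le_rfl
    · exact natDegree_mul_le_of_le le_rfl (natDegree_X_mul_derivative_le E)
  have heq : (X * T).natDegree = G.natDegree + E.natDegree :=
    natDegree_eq_of_le_of_coeff_ne_zero hle hcne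
  rw [natDegree_X_mul hTne] at heq
  exact ⟨hg, heq⟩

section sys

variable {m : ℕ} (r : Fin m → k) (a : Fin m → ℕ)

omit [CharZero k] in
lemma monic_EE : (EE r a).Monic :=
  monic_prod_of_monic _ _ (fun j _ => (monic_X_sub_C _).pow _)

lemma natDegree_EE : (EE r a).natDegree = ∑ j, a j := by
  rw [EE, natDegree_prod_of_monic _ _ (fun j _ => (monic_X_sub_C _).pow _)]
  exact Finset.sum_congr rfl (fun j _ => natDegree_Xr_pow _ _)

omit [CharZero k] in
lemma monic_PP : (PP r).Monic := monic_prod_of_monic _ _ (fun j _ => monic_X_sub_C _)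

omit [CharZero k] in
lemma natDegree_PP : (PP r).natDegree = m := by
  rw [PP, natDegree_prod_of_monic _ _ (fun j _ => monic_X_sub_C _)]
  simp

lemma degree_data (b N : ℕ) (hN : N = (∑ j, a j) + b) {v : k[X]} (hv : v ∈ Vm k m r a b)
    (hv0 : v ≠ 0) :
    ∃ g : ℕ, g ≠ ∑ j, a j ∧ g ≤ N ∧ v.natDegree + 1 = m + g := by
  obtain ⟨G, hGd, hrel⟩ := mem_Sset.1 (Vm_le_Sset r a b N hN hv)
  have hEm : (EE r a).Monic := monic_EE r a
  have hEd : (EE r a).natDegree = ∑ j, a j := natDegree_EE r a
  obtain ⟨G₁, hG₁⟩ : ∃ G₁ : k[X], G₁ = G - C (G.coeff (EE r a).natDegree) * EE r a := ⟨_, rfl⟩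
  have hT : derivative G₁ * EE r a - G₁ * derivative (EE r a)
      = derivative G * EE r a - G * derivative (EE r a) := by
    rw [hG₁, derivative_sub, derivative_C_mul]; ring
  have hcoeff : G₁.coeff (EE r a).natDegree = 0 := by
    rw [hG₁, coeff_sub, coeff_C_mul, hEm.coeff_natDegree]; ring
  have hTne : derivative G * EE r a - G * derivative (EE r a) ≠ 0 := by
    intro h0
    rw [h0, mul_zero] at hrel
    exact hv0 ((mul_eq_zero.1 hrel).resolve_left hEm.ne_zero)
  have hG₁ne : G₁ ≠ 0 := by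
    intro h0; apply hTne; rw [← hT, h0]; simp
  obtain ⟨hg, hdeg⟩ := natDegree_T (EE r a) G₁ hEm hcoeff hG₁ne
  refine ⟨G₁.natDegree, by rw [← hEd]; exact hg, ?_, ?_⟩
  · rw [hG₁]
    exact natDegree_sub_E_le r a b N hN G _ hGd
  · have h1 : (EE r a * v).natDegree = (EE r a).natDegree + v.natDegree :=
      natDegree_mul hEm.ne_zero hv0
    have h2 : (PP r * (derivative G * EE r a - G * derivative (EE r a))).natDegree
        = m + (derivative G * EE r a - G * derivative (EE r a)).natDegree := by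
      rw [natDegree_mul (monic_PP r).ne_zero hTne, natDegree_PP]
    rw [hrel, h2, ← hT] at h1
    omega

omit [CharZero k] in
lemma Ei_eval_ne (hr : Function.Injective r) (i : Fin m) : (Ei r a i).eval (r i) ≠ 0 := by
  rw [Ei, eval_prod]
  refine Finset.prod_ne_zero_iff.2 fun j hj => ?_
  rw [eval_pow, eval_sub, eval_X, eval_C]
  exact pow_ne_zero _ (sub_ne_zero.2 (hr.ne (Finset.mem_erase.1 hj).1.symm))

omit [CharZero k] in
lemma Pi'_eval_ne (hr : Function.Injective r) (i : Fin m) : (Pi' r i).eval (r i) ≠ 0 := by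
  rw [Pi', eval_prod]
  refine Finset.prod_ne_zero_iff.2 fun j hj => ?_
  rw [eval_sub, eval_X, eval_C]
  exact sub_ne_zero.2 (hr.ne (Finset.mem_erase.1 hj).1.symm)

omit [CharZero k] in
lemma Ei_ne_zero (i : Fin m) : Ei r a i ≠ 0 :=
  Finset.prod_ne_zero_iff.2 fun j _ => pow_ne_zero _ (X_sub_C_ne_zero _)

omit [CharZero k] in
lemma coprime_pow_Ei (hr : Function.Injective r) (i : Fin m) (n : ℕ) :
    IsCoprime ((X - C (r i)) ^ n) (Ei r a i) := by
  unfold Ei
  apply IsCoprime.prod_right
  intro j hj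
  have hji : j ≠ i := (Finset.mem_erase.1 hj).1
  exact (isCoprime_X_sub_C_of_isUnit_sub (sub_ne_zero.2 (hr.ne (Ne.symm hji))).isUnit).pow

lemma red_rel (i : Fin m) {v G : k[X]}
    (hrel : EE r a * v = PP r * (derivative G * EE r a - G * derivative (EE r a))) :
    Ei r a i * v = Pi' r i * ((X - C (r i)) * derivative G * Ei r a i
      - C ((a i : ℕ) : k) * G * Ei r a i - (X - C (r i)) * G * derivative (Ei r a i)) := by
  have h1 := mul_deriv_pow (X - C (r i)) (dXr (r i)) (a i)
  rw [EE_eq r a i, PP_eq r i, derivative_mul] at hrel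
  have hπ : (X - C (r i)) ^ (a i) ≠ 0 := pow_ne_zero _ (X_sub_C_ne_zero _)
  apply mul_left_cancel₀ hπ
  linear_combination hrel - (Pi' r i * G * Ei r a i) * h1

lemma red_rel_pow (i : Fin m) (s : ℕ) {v u : k[X]}
    (h : Ei r a i * v = Pi' r i * ((X - C (r i)) * derivative ((X - C (r i))^s * u) * Ei r a i
      - C ((a i : ℕ) : k) * ((X - C (r i))^s * u) * Ei r a i
      - (X - C (r i)) * ((X - C (r i))^s * u) * derivative (Ei r a i))) :
    Ei r a i * v = (X - C (r i))^s * (C ((s:k) - (a i : k)) * (Pi' r i * Ei r a i) * u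
      + (X - C (r i)) * (Pi' r i * (derivative u * Ei r a i - u * derivative (Ei r a i)))) := by
  have h1 := mul_deriv_pow (X - C (r i)) (dXr (r i)) s
  rw [derivative_mul] at h
  rw [h, C_sub]
  linear_combination (Pi' r i * u * Ei r a i) * h1

lemma pow_dvd_G (hr : Function.Injective r) (i : Fin m) {v G : k[X]}
    (hred : Ei r a i * v = Pi' r i * ((X - C (r i)) * derivative G * Ei r a i
      - C ((a i : ℕ) : k) * G * Ei r a i - (X - C (r i)) * G * derivative (Ei r a i))) :
    ∀ s : ℕ, s ≤ a i → (X - C (r i))^s ∣ v → (X - C (r i))^s ∣ G := by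
  intro s
  induction s with
  | zero => intro _ _; simp
  | succ s ih =>
    intro hs hd
    obtain ⟨u, rfl⟩ := ih (by omega) ((pow_dvd_pow _ (Nat.le_succ s)).trans hd)
    have hY := red_rel_pow r a i s hred
    have hκ : ((s:k) - (a i : k)) ≠ 0 :=
      sub_ne_zero.2 ((Nat.cast_injective (R := k)).ne (by omega))
    have hm : (Pi' r i * Ei r a i).eval (r i) ≠ 0 := by
      rw [eval_mul]; exact mul_ne_zero (Pi'_eval_ne r hr i) (Ei_eval_ne r a hr i)
    have hu : (X - C (r i)) ∣ u :=
      step (r i) (X - C (r i)) rfl s u (Ei r a i * v) (Pi' r i * Ei r a i) _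
        ((s:k) - (a i : k)) hκ hm hY (Dvd.dvd.mul_left hd _)
    obtain ⟨u', rfl⟩ := hu
    exact ⟨u', by ring⟩

lemma key_B (hr : Function.Injective r) (b N : ℕ) (hN : N = (∑ j, a j) + b) (i : Fin m)
    {v : k[X]} (hv : v ∈ Vm k m r a b) (hd : (X - C (r i))^(a i) ∣ v) :
    ∃ H : k[X], H.natDegree + a i ≤ N ∧
      Ei r a i * v = (X - C (r i))^(a i + 1) *
        (Pi' r i * (derivative H * Ei r a i - H * derivative (Ei r a i))) := by
  obtain ⟨G, hGd, hrel⟩ := mem_Sset.1 (Vm_le_Sset r a b N hN hv)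
  have hred := red_rel r a i hrel
  obtain ⟨H, rfl⟩ := pow_dvd_G r a hr i hred (a i) le_rfl hd
  have hY := red_rel_pow r a i (a i) hred
  rw [sub_self, C_0, zero_mul, zero_mul, zero_add] at hY
  refine ⟨H, ?_, ?_⟩
  · by_cases hH : H = 0
    · rw [hH, natDegree_zero]; have := natDegree_Ei_le r a i; omega
    · rw [natDegree_mul (pow_ne_zero _ (X_sub_C_ne_zero _)) hH, natDegree_Xr_pow] at hGd
      omega
  · rw [hY, pow_succ]; ring

lemma B1 (hr : Function.Injective r) (b N : ℕ) (hN : N = (∑ j, a j) + b) (i : Fin m)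
    {v : k[X]} (hv : v ∈ Vm k m r a b) (hd : (X - C (r i))^(a i) ∣ v) :
    (X - C (r i))^(a i + 1) ∣ v := by
  obtain ⟨H, -, hrel⟩ := key_B r a hr b N hN i hv hd
  have : (X - C (r i))^(a i + 1) ∣ Ei r a i * v := ⟨_, hrel⟩
  exact dvd_of_coprime_mul (coprime_pow_Ei r a hr i _) this

lemma B2 (hr : Function.Injective r) (b N : ℕ) (hN : N = (∑ j, a j) + b) (i : Fin m)
    {v : k[X]} (hv : v ∈ Vm k m r a b) (hd : (X - C (r i))^(N + 1) ∣ v) : v = 0 := by
  have hai : a i ≤ N := by have := natDegree_Ei_le r a i; omega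
  obtain ⟨H, hHd, hrel⟩ := key_B r a hr b N hN i hv ((pow_dvd_pow _ (by omega)).trans hd)
  obtain ⟨v₀, rfl⟩ := hd
  have hsplit : (X - C (r i))^(N+1) = (X - C (r i))^(a i + 1) * (X - C (r i))^(N - a i) := by
    rw [← pow_add]; congr 1; omega
  have hrel' : Ei r a i * ((X - C (r i))^(N - a i) * v₀)
      = Pi' r i * (derivative H * Ei r a i - H * derivative (Ei r a i)) := by
    apply mul_left_cancel₀ (pow_ne_zero (a i + 1) (X_sub_C_ne_zero (r i)))
    rw [← hrel, hsplit]; ring
  have h5 := dvd_sub_E (Ei r a i) (Pi' r i) (r i) (Ei_eval_ne r a hr i) (Pi'_eval_ne r hr i)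
    (N - a i) H _ hrel' (dvd_mul_right _ _)
  obtain ⟨l, hl⟩ : ∃ l : k, l = H.eval (r i) / (Ei r a i).eval (r i) := ⟨_, rfl⟩
  rw [← hl] at h5
  have hz : H - C l * Ei r a i = 0 := by
    apply eq_zero_of_dvd_of_natDegree_lt h5
    rw [natDegree_Xr_pow]
    have h1 : (H - C l * Ei r a i).natDegree ≤ N - a i := by
      refine (natDegree_sub_le _ _).trans (max_le (by omega) ?_)
      have := natDegree_Ei_le r a i
      exact (natDegree_C_mul_le _ _).trans (by omega)
    omega
  have hH : H = C l * Ei r a i := sub_eq_zero.1 hz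
  rw [hH] at hrel'
  have hw := eq_zero_of_rel_CE _ _ (Ei_ne_zero r a i) l _ hrel'
  rw [hsplit, mul_assoc, hw, mul_zero]

theorem finrank_B (hr : Function.Injective r) (b N : ℕ) (hN : N = (∑ j, a j) + b) (i : Fin m)
    (n : ℕ) :
    Module.finrank k ↥(Vm k m r a b ⊓ (Ideal.span {(X - C (r i)) ^ n}).restrictScalars k)
      = if n ≤ a i then N - n else N + 1 - n := by
  haveI : Module.Finite k ↥(Vm k m r a b) := by rw [← range_Tmap r a b]; infer_instance
  have hai : a i ≤ N := by have := natDegree_Ei_le r a i; omega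
  have hmem : ∀ (n : ℕ) (v : k[X]), v ∈ (Ideal.span {(X - C (r i)) ^ n}).restrictScalars k
      ↔ (X - C (r i))^n ∣ v := by
    intro n v
    rw [Submodule.restrictScalars_mem, Ideal.mem_span_singleton]
  refine chain_sub (Vm k m r a b)
    (fun n => (Ideal.span {(X - C (r i)) ^ n}).restrictScalars k)
    (fun n => (lcoeff k n) ∘ₗ (taylor (r i))) N (a i) hai (finrank_Vm r a b N hN hr)
    ?_ ?_ ?_ ?_ ?_ n
  · intro v _
    rw [hmem, pow_zero]; exact one_dvd v
  · intro n v hv
    rw [hmem] at hv ⊢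
    exact (pow_dvd_pow _ (Nat.le_succ n)).trans hv
  · intro n v _ hv hφ
    rw [hmem] at hv ⊢
    exact mem_succ_of_coeff (r i) n v hv hφ
  · intro v hvV hv
    rw [hmem] at hv ⊢
    exact B1 r a hr b N hN i hvV hv
  · intro v hvV hv
    rw [hmem] at hv
    exact B2 r a hr b N hN i hvV hv

omit [CharZero k] in
lemma mem_degLT_of_natDegree_lt {v : k[X]} {n : ℕ} (h : v.natDegree < n) :
    v ∈ degreeLT k n := by
  rw [mem_degreeLT]
  exact (degree_le_natDegree).trans_lt (by exact_mod_cast h)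

omit [CharZero k] in
lemma natDegree_lt_of_mem_degLT {v : k[X]} {n : ℕ} (hv0 : v ≠ 0) (h : v ∈ degreeLT k n) :
    v.natDegree < n := by
  rw [mem_degreeLT] at h
  exact (natDegree_lt_iff_degree_lt hv0).mpr h

theorem finrank_C (hr : Function.Injective r) (b N d : ℕ) (hN : N = (∑ j, a j) + b)
    (hd : d + 1 = (∑ j, (a j + 1)) + b) (n : ℕ) :
    Module.finrank k ↥(Vm k m r a b ⊓ degreeLT k (d + 1 - n))
      = if n ≤ b then N - n else N + 1 - n := by
  haveI : Module.Finite k ↥(Vm k m r a b) := by rw [← range_Tmap r a b]; infer_instance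
  have hsum : (∑ j, (a j + 1)) = (∑ j, a j) + m := by
    rw [Finset.sum_add_distrib, Finset.sum_const, Finset.card_univ, Fintype.card_fin,
      smul_eq_mul, mul_one]
  refine chain_sub (Vm k m r a b) (fun n => degreeLT k (d + 1 - n))
    (fun n => lcoeff k (d - n)) N b (by omega) (finrank_Vm r a b N hN hr) ?_ ?_ ?_ ?_ ?_ n
  · intro v hv
    by_cases hv0 : v = 0
    · rw [hv0]; exact Submodule.zero_mem _
    · obtain ⟨g, -, hgN, hg⟩ := degree_data r a b N hN hv hv0
      exact mem_degLT_of_natDegree_lt (by omega)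
  · intro n
    exact degreeLT_mono (by omega)
  · intro n v _ hv hφ
    have hφ' : v.coeff (d - n) = 0 := hφ
    rw [mem_degreeLT, degree_lt_iff_coeff_zero] at hv ⊢
    intro j hj
    rcases Nat.lt_or_ge j (d + 1 - n) with h | h
    · have : j = d - n := by omega
      rw [this]; exact hφ'
    · exact hv j h
  · intro v hvV hv
    by_cases hv0 : v = 0
    · rw [hv0]; exact Submodule.zero_mem _
    · obtain ⟨g, hge, hgN, hg⟩ := degree_data r a b N hN hvV hv0
      have h1 := natDegree_lt_of_mem_degLT hv0 hv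
      exact mem_degLT_of_natDegree_lt (by omega)
  · intro v hvV hv
    by_contra hv0
    obtain ⟨g, hge, hgN, hg⟩ := degree_data r a b N hN hvV hv0
    have h1 := natDegree_lt_of_mem_degLT hv0 hv
    omega

end sys

theorem main17241
    (k : Type*) [Field k] [CharZero k] (m : ℕ) (r : Fin m → k) (hr : Function.Injective r)
    (a : Fin m → ℕ) (ha : ∀ j, 1 ≤ a j) (b : ℕ) (hb : 1 ≤ b) (N d : ℕ)
    (hN : N = (∑ j, a j) + b) (hd : d + 1 = (∑ j, (a j + 1)) + b)
    (V : Submodule k (Polynomial k))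
    (hV : V = (Polynomial.degreeLT k b).map (LinearMap.mulLeft k (∏ j, (X - C (r j)) ^ (a j + 1))) ⊔
      ⨆ i, (Polynomial.degreeLT k (a i)).map
        (LinearMap.mulLeft k (∏ j ∈ Finset.univ.erase i, (X - C (r j)) ^ (a j + 1)))) :
    Module.finrank k ↥V = N ∧
    (∀ (i : Fin m) (n : ℕ), Module.finrank k ↥(V ⊓ (Ideal.span {(X - C (r i)) ^ n}).restrictScalars k) =
        if n ≤ a i then N - n else N + 1 - n) ∧
    (∀ n : ℕ, Module.finrank k ↥(V ⊓ Polynomial.degreeLT k (d + 1 - n)) =
        if n ≤ b then N - n else N + 1 - n) := by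
  subst hV
  exact ⟨finrank_Vm r a b N hN hr, fun i n => finrank_B r a hr b N hN i n,
    fun n => finrank_C r a hr b N d hN hd n⟩

end Groth.Agent.Lib.WronskSeqH1
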