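import Mathlib
import Groth.Agent.Lib.WronskSeq_helper1

set_option autoImplicit false
set_option maxHeartbeats 1000000

/-! Weights at the marked points of hyperplane subsystems of the polar-parts system (helper1). -/

namespace Groth.Agent.Lib.WronskWtH1

open Polynomial Groth.Agent.Lib.WronskMG Groth.Agent.Lib.WronskMG2 Groth.Agent.Lib.WronskSeqH1

lemma sum_S1 (L : ℕ) : ∀ K, K ≤ L →
    (∑ n ∈ Finset.range K, (L - 1 - n)) + (L - K).choose 2 = L.choose 2 := by
  intro K
  induction K with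
  | zero => intro _; simp
  | succ K ih =>
    intro hK
    rw [Finset.sum_range_succ]
    have h1 := ih (by omega)
    have h2 : (L - K).choose 2 = (L - (K+1)) + (L - (K+1)).choose 2 := by
      have h3 : L - K = (L - (K+1)) + 1 := by omega
      rw [h3]
      exact (Nat.choose_succ_succ' _ 1).trans (by rw [Nat.choose_one_right])
    omega

lemma sum_S2 (e : ℕ) : ∀ K, (∑ n ∈ Finset.range K, (if e ≤ n then 1 else 0)) = K - e := by
  intro K
  induction K with
  | zero => simp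
  | succ K ih => rw [Finset.sum_range_succ, ih]; split_ifs <;> omega

lemma wsum (f f₁ : ℕ → ℕ) (L e d : ℕ) (heN : e ≤ L + 1)
    (hf : ∀ n, f n = if n ≤ e then L + 1 - n else L + 2 - n)
    (h1 : ∀ n, 1 ≤ n → n ≤ L → f₁ n + 1 = f n) (h2 : ∀ n, f₁ n ≤ f n)
    (hd : L + 1 ≤ d ∨ (d = L ∧ e = L + 1)) :
    ∃ ε : ℕ, ε ≤ 1 ∧
      (∑ n ∈ Finset.range d, f₁ (n+1)) + 1 = L.choose 2 + (L + 1 - e) + ε := by
  have hzero : ∀ n, L + 2 ≤ n → f₁ n = 0 := by
    intro n hn
    have := h2 n; rw [hf n] at this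
    split_ifs at this <;> omega
  have hA : (∑ n ∈ Finset.range d, f₁ (n+1))
      = (∑ n ∈ Finset.range L, f₁ (n+1)) + f₁ (L+1) := by
    rcases hd with hd | ⟨hd, heq⟩
    · have hB : ∀ d', L + 1 ≤ d' → (∑ n ∈ Finset.range d', f₁ (n+1))
          = ∑ n ∈ Finset.range (L+1), f₁ (n+1) := by
        intro d' hd'
        induction d', hd' using Nat.le_induction with
        | base => rfl
        | succ d' hd' ih =>
          rw [Finset.sum_range_succ, ih, hzero (d'+1) (by omega), add_zero]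
      rw [hB d hd, Finset.sum_range_succ]
    · have h0 : f₁ (L+1) = 0 := by
        have := h2 (L+1); rw [hf (L+1), if_pos (by omega)] at this; omega
      rw [hd, h0, add_zero]
  have hB : (∑ n ∈ Finset.range L, f₁ (n+1))
      = ∑ n ∈ Finset.range L, ((L - 1 - n) + if e ≤ n then 1 else 0) := by
    apply Finset.sum_congr rfl
    intro n hn
    rw [Finset.mem_range] at hn
    have := h1 (n+1) (by omega) (by omega)
    rw [hf (n+1)] at this
    split_ifs at this ⊢ <;> omega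
  have hS1 := sum_S1 L L le_rfl
  have hS2 := sum_S2 e L
  have hc0 : (L - L).choose 2 = 0 := by rw [Nat.sub_self]; rfl
  rw [hc0, add_zero] at hS1
  rw [hA, hB, Finset.sum_add_distrib, hS1, hS2]
  by_cases he : e = L + 1
  · refine ⟨1, le_rfl, ?_⟩
    have h0 : f₁ (L+1) = 0 := by
      have := h2 (L+1); rw [hf (L+1), if_pos (by omega)] at this; omega
    rw [h0]; omega
  · refine ⟨f₁ (L+1), ?_, by omega⟩
    have := h2 (L+1); rw [hf (L+1), if_neg (by omega)] at this; omega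

variable {k : Type*} [Field k] [CharZero k]

section sys

variable {m : ℕ} (r : Fin m → k) (a : Fin m → ℕ)

/-! ### marked points -/

lemma key_B' (hr : Function.Injective r) (b N : ℕ) (hN : N = (∑ j, a j) + b) (i : Fin m)
    {w : k[X]} (hw : w ∈ Vm k m r a b) (hd : (X - C (r i))^(a i) ∣ w) :
    ∃ w' H : k[X], w = (X - C (r i))^(a i + 1) * w' ∧ H.natDegree + a i ≤ N ∧
      Ei r a i * w' = Pi' r i * (derivative H * Ei r a i - H * derivative (Ei r a i)) := by
  obtain ⟨H, hHd, hrel⟩ := key_B r a hr b N hN i hw hd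
  obtain ⟨w', rfl⟩ := B1 r a hr b N hN i hw hd
  refine ⟨w', H, rfl, hHd, ?_⟩
  apply mul_left_cancel₀ (pow_ne_zero (a i + 1) (X_sub_C_ne_zero (r i)))
  rw [← hrel]; ring

/-- full data for `w ∈ V` divisible by `(X - r_i)^(N-1)` and by `X - p`. -/
lemma data_marked (hr : Function.Injective r) (b N : ℕ) (hN : N = (∑ j, a j) + b) (i : Fin m)
    (hai : a i + 1 ≤ N) (p : k) (hp : ∀ j, p ≠ r j)
    {w : k[X]} (hw : w ∈ Vm k m r a b) (hd : (X - C (r i))^(N - 1) ∣ w)
    (hwp : (X - C p) ∣ w) :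
    ∃ w' H : k[X], ∃ l μ : k, w = (X - C (r i))^(a i + 1) * w' ∧ H.natDegree + a i ≤ N ∧
      Ei r a i * w' = Pi' r i * (derivative H * Ei r a i - H * derivative (Ei r a i)) ∧
      (X - C p)^(1 + 1) ∣ H - C l * Ei r a i ∧
      (X - C (r i))^(N - 1 - a i) ∣ H - C μ * Ei r a i := by
  obtain ⟨w', H, rfl, hHd, hrel⟩ := key_B' r a hr b N hN i hw
    ((pow_dvd_pow _ (by omega)).trans hd)
  have hEp : (Ei r a i).eval p ≠ 0 := by
    rw [Ei, eval_prod]
    refine Finset.prod_ne_zero_iff.2 fun j _ => ?_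
    rw [eval_pow, eval_sub, eval_X, eval_C]
    exact pow_ne_zero _ (sub_ne_zero.2 (hp j))
  have hPp : (Pi' r i).eval p ≠ 0 := by
    rw [Pi', eval_prod]
    refine Finset.prod_ne_zero_iff.2 fun j _ => ?_
    rw [eval_sub, eval_X, eval_C]
    exact sub_ne_zero.2 (hp j)
  -- `X - p` divides `w'`
  have hwp' : (X - C p) ∣ w' := by
    have hcop : IsCoprime (X - C p) ((X - C (r i))^(a i + 1)) :=
      (isCoprime_X_sub_C_of_isUnit_sub (sub_ne_zero.2 (hp i)).isUnit).pow_right
    exact dvd_of_coprime_mul hcop hwp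
  -- `(X - r_i)^(N - 1 - (a_i+1))` divides `w'`
  have hwr' : (X - C (r i))^(N - 1 - (a i + 1)) ∣ w' := by
    by_cases h : a i + 1 ≤ N - 1
    · have hsplit : (X - C (r i))^(N - 1)
          = (X - C (r i))^(a i + 1) * (X - C (r i))^(N - 1 - (a i + 1)) := by
        rw [← pow_add]; congr 1; omega
      rw [hsplit] at hd
      exact (mul_dvd_mul_iff_left (pow_ne_zero _ (X_sub_C_ne_zero (r i)))).mp hd
    · have : N - 1 - (a i + 1) = 0 := by omega
      rw [this, pow_zero]; exact one_dvd _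
  have e1 := dvd_sub_E _ _ p hEp hPp 1 H w' hrel (by rwa [pow_one])
  have e2 := dvd_sub_E _ _ (r i) (Ei_eval_ne r a hr i) (Pi'_eval_ne r hr i)
    (N - 1 - (a i + 1)) H w' hrel hwr'
  exact ⟨w', H, _, _, rfl, hHd, hrel, e1, (pow_dvd_pow _ (by omega)).trans e2⟩

lemma zero_of_marked (hr : Function.Injective r) (b N : ℕ) (hN : N = (∑ j, a j) + b)
    (i : Fin m) (hai : a i + 1 ≤ N) (p : k) (hpi : p ≠ r i) {w' H : k[X]} (l : k)
    (hHd : H.natDegree + a i ≤ N)
    (hrel : Ei r a i * w' = Pi' r i * (derivative H * Ei r a i - H * derivative (Ei r a i)))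
    (d1 : (X - C p)^(1 + 1) ∣ H - C l * Ei r a i)
    (d2 : (X - C (r i))^(N - 1 - a i) ∣ H - C l * Ei r a i) : w' = 0 := by
  have hcop : IsCoprime ((X - C p : k[X]) ^ (1 + 1)) ((X - C (r i)) ^ (N - 1 - a i)) :=
    (isCoprime_X_sub_C_of_isUnit_sub (sub_ne_zero.2 hpi).isUnit).pow
  have hd := hcop.mul_dvd d1 d2
  have hz : H - C l * Ei r a i = 0 := by
    apply eq_zero_of_dvd_of_natDegree_lt hd
    rw [((monic_X_sub_C p).pow _).natDegree_mul ((monic_X_sub_C (r i)).pow _),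
      natDegree_Xr_pow, natDegree_Xr_pow]
    have h1 : (H - C l * Ei r a i).natDegree ≤ N - a i := by
      refine (natDegree_sub_le _ _).trans (max_le (by omega) ?_)
      have := natDegree_Ei_le r a i
      exact (natDegree_C_mul_le _ _).trans (by omega)
    omega
  have hH : H = C l * Ei r a i := sub_eq_zero.1 hz
  rw [hH] at hrel
  exact eq_zero_of_rel_CE _ _ (Ei_ne_zero r a i) l _ hrel

lemma c2_marked (hr : Function.Injective r) (b N : ℕ) (hN : N = (∑ j, a j) + b) (i : Fin m)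
    (hai : a i + 1 ≤ N) (p : k) (hp : ∀ j, p ≠ r j) (W2 : Submodule k k[X])
    (hW2 : ∀ w ∈ W2, w ∈ Vm k m r a b ∧ (X - C p) ∣ w ∧ (X - C (r i)) ^ (N - 1) ∣ w) :
    Module.finrank k ↥W2 ≤ 1 ∧ (N = a i + 1 → W2 = ⊥) := by
  have key : ∀ w ∈ W2, ∃ w' H : k[X], ∃ l μ : k, w = (X - C (r i))^(a i + 1) * w' ∧
      H.natDegree + a i ≤ N ∧
      Ei r a i * w' = Pi' r i * (derivative H * Ei r a i - H * derivative (Ei r a i)) ∧
      (X - C p)^(1 + 1) ∣ H - C l * Ei r a i ∧
      (X - C (r i))^(N - 1 - a i) ∣ H - C μ * Ei r a i := by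
    intro w hw
    obtain ⟨hwV, hwp, hwq⟩ := hW2 w hw
    exact data_marked r a hr b N hN i hai p hp hwV hwq hwp
  constructor
  · by_cases hbot : W2 = ⊥
    · rw [hbot, finrank_bot]; exact Nat.zero_le 1
    obtain ⟨w₀, hw₀, hw₀ne⟩ := Submodule.exists_mem_ne_zero_of_ne_bot hbot
    obtain ⟨w₀', H₀, l₀, μ₀, hw₀eq, hH₀d, hrel₀, d₀1, d₀2⟩ := key w₀ hw₀
    have hlm : l₀ - μ₀ ≠ 0 := by
      intro h
      have h' : l₀ = μ₀ := sub_eq_zero.1 h
      subst h'
      apply hw₀ne
      rw [hw₀eq, zero_of_marked r a hr b N hN i hai p (hp i) l₀ hH₀d hrel₀ d₀1 d₀2, mul_zero]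
    refine finrank_le_one (⟨w₀, hw₀⟩ : ↥W2) ?_
    rintro ⟨w, hw⟩
    obtain ⟨w', H, l, μ, hweq, hHd, hrel, d1, d2⟩ := key w hw
    obtain ⟨c, hc⟩ : ∃ c : k, c = (l - μ) / (l₀ - μ₀) := ⟨_, rfl⟩
    have hc' : c * (l₀ - μ₀) = l - μ := by rw [hc]; field_simp
    have hll : l - c * l₀ = μ - c * μ₀ := by linear_combination (-1 : k) * hc'
    have hz := zero_of_marked r a hr b N hN i hai p (hp i) (w' := w' - C c * w₀')
      (H := H - C c * H₀) (l - c * l₀)
      (by
        have h1 : (H - C c * H₀).natDegree ≤ N - a i :=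
          (natDegree_sub_le _ _).trans
            (max_le (by omega) ((natDegree_C_mul_le _ _).trans (by omega)))
        omega)
      (rel_sub c hrel hrel₀)
      (by
        have e : (H - C c * H₀) - C (l - c * l₀) * Ei r a i =
            (H - C l * Ei r a i) - C c * (H₀ - C l₀ * Ei r a i) := by
          simp only [C_sub, C_mul]; ring
        rw [e]; exact dvd_sub d1 (d₀1.mul_left _))
      (by
        have e : (H - C c * H₀) - C (l - c * l₀) * Ei r a i =
            (H - C μ * Ei r a i) - C c * (H₀ - C μ₀ * Ei r a i) := by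
          rw [hll]; simp only [C_sub, C_mul]; ring
        rw [e]; exact dvd_sub d2 (d₀2.mul_left _))
    refine ⟨c, Subtype.ext ?_⟩
    show c • w₀ = w
    rw [smul_eq_C_mul, hweq, hw₀eq]
    have : w' = C c * w₀' := sub_eq_zero.1 hz
    rw [this]; ring
  · intro hNa
    rw [eq_bot_iff]
    intro w hw
    rw [Submodule.mem_bot]
    obtain ⟨w', H, l, μ, hweq, hHd, hrel, d1, d2⟩ := key w hw
    have hz := zero_of_marked r a hr b N hN i hai p (hp i) l hHd hrel d1
      (by
        have : N - 1 - a i = 0 := by omega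
        rw [this, pow_zero]; exact one_dvd _)
    rw [hweq, hz, mul_zero]

lemma exists_nonvanishing_marked (hr : Function.Injective r) (b N : ℕ) (hb : 1 ≤ b)
    (hN : N = (∑ j, a j) + b) (i : Fin m) (p : k) (hp : ∀ j, p ≠ r j) :
    ∃ u ∈ Vm k m r a b, (X - C (r i))^(N - 1) ∣ u ∧ u.eval p ≠ 0 := by
  by_contra hcon
  push Not at hcon
  have hai : a i + 1 ≤ N := by have := natDegree_Ei_le r a i; omega
  have hW2 : ∀ w ∈ Vm k m r a b ⊓ (Ideal.span {(X - C (r i)) ^ (N - 1)}).restrictScalars k,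
      w ∈ Vm k m r a b ∧ (X - C p) ∣ w ∧ (X - C (r i)) ^ (N - 1) ∣ w := by
    intro w hw
    obtain ⟨hw1, hw2⟩ := Submodule.mem_inf.1 hw
    rw [Submodule.restrictScalars_mem, Ideal.mem_span_singleton] at hw2
    exact ⟨hw1, by rw [dvd_iff_isRoot]; exact hcon w hw1 hw2, hw2⟩
  obtain ⟨h1, h2⟩ := c2_marked r a hr b N hN i hai p hp _ hW2
  have h3 := finrank_B r a hr b N hN i (N - 1)
  by_cases hc : N - 1 ≤ a i
  · rw [if_pos hc, h2 (by omega), finrank_bot] at h3
    omega
  · rw [if_neg hc] at h3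
    omega

/-! ### infinity -/

lemma rel_data (b N : ℕ) (hN : N = (∑ j, a j) + b) {v : k[X]} (hv : v ∈ Vm k m r a b) :
    ∃ G₁ : k[X], G₁.coeff (∑ j, a j) = 0 ∧ G₁.natDegree ≤ N ∧
      EE r a * v = PP r * (derivative G₁ * EE r a - G₁ * derivative (EE r a)) ∧
      (v ≠ 0 → v.natDegree + 1 = m + G₁.natDegree) := by
  obtain ⟨G, hGd, hrel⟩ := mem_Sset.1 (Vm_le_Sset r a b N hN hv)
  have hEm : (EE r a).Monic := monic_EE r a
  have hEd : (EE r a).natDegree = ∑ j, a j := natDegree_EE r a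
  obtain ⟨G₁, hG₁⟩ : ∃ G₁ : k[X], G₁ = G - C (G.coeff (EE r a).natDegree) * EE r a := ⟨_, rfl⟩
  have hT : derivative G₁ * EE r a - G₁ * derivative (EE r a)
      = derivative G * EE r a - G * derivative (EE r a) := by
    rw [hG₁, derivative_sub, derivative_C_mul]; ring
  have hcoeff : G₁.coeff (EE r a).natDegree = 0 := by
    rw [hG₁, coeff_sub, coeff_C_mul, hEm.coeff_natDegree]; ring
  refine ⟨G₁, by rw [← hEd]; exact hcoeff, ?_, by rw [hT]; exact hrel, ?_⟩
  · rw [hG₁]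
    exact natDegree_sub_E_le r a b N hN G _ hGd
  · intro hv0
    have hTne : derivative G * EE r a - G * derivative (EE r a) ≠ 0 := by
      intro h0
      rw [h0, mul_zero] at hrel
      exact hv0 ((mul_eq_zero.1 hrel).resolve_left hEm.ne_zero)
    have hG₁ne : G₁ ≠ 0 := by
      intro h0; apply hTne; rw [← hT, h0]; simp
    obtain ⟨hg, hdeg⟩ := natDegree_T (EE r a) G₁ hEm hcoeff hG₁ne
    have h1 : (EE r a * v).natDegree = (EE r a).natDegree + v.natDegree :=
      natDegree_mul hEm.ne_zero hv0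
    have h2 : (PP r * (derivative G * EE r a - G * derivative (EE r a))).natDegree
        = m + (derivative G * EE r a - G * derivative (EE r a)).natDegree := by
      rw [natDegree_mul (monic_PP r).ne_zero hTne, natDegree_PP]
    rw [hrel, h2, ← hT] at h1
    omega

lemma zero_of_inf (p : k) {w G₁ : k[X]} (lam : k)
    (hG0 : G₁.coeff (∑ j, a j) = 0) (hGd : G₁.natDegree ≤ 1)
    (hrel : EE r a * w = PP r * (derivative G₁ * EE r a - G₁ * derivative (EE r a)))
    (d1 : (X - C p)^(1 + 1) ∣ G₁ - C lam * EE r a)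
    (hcase : lam = 0 ∨ (∑ j, a j) ≤ 1) : w = 0 := by
  have hEm : (EE r a).Monic := monic_EE r a
  have hEd : (EE r a).natDegree = ∑ j, a j := natDegree_EE r a
  have hG : G₁ = 0 := by
    have hlam : lam = 0 := by
      rcases hcase with h | h
      · exact h
      · have hz : G₁ - C lam * EE r a = 0 := by
          apply eq_zero_of_dvd_of_natDegree_lt d1
          rw [natDegree_Xr_pow]
          have h1 : (G₁ - C lam * EE r a).natDegree ≤ 1 :=
            (natDegree_sub_le _ _).trans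
              (max_le hGd ((natDegree_C_mul_le _ _).trans (by omega)))
          omega
        have hG' : G₁ = C lam * EE r a := sub_eq_zero.1 hz
        have h2 := hG0
        rw [hG', coeff_C_mul, ← hEd, hEm.coeff_natDegree, mul_one] at h2
        exact h2
    rw [hlam, C_0, zero_mul, sub_zero] at d1
    apply eq_zero_of_dvd_of_natDegree_lt d1
    rw [natDegree_Xr_pow]; omega
  rw [hG] at hrel
  have h00 : EE r a * w = 0 := by rw [hrel]; simp
  exact (mul_eq_zero.1 h00).resolve_left (EE_ne_zero r a)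

lemma c2_inf (b N : ℕ) (hN : N = (∑ j, a j) + b) (p : k) (hp : ∀ j, p ≠ r j)
    (W2 : Submodule k k[X])
    (hW2 : ∀ w ∈ W2, w ∈ Vm k m r a b ∧ (X - C p) ∣ w ∧ w.natDegree ≤ m) :
    Module.finrank k ↥W2 ≤ 1 ∧ ((∑ j, a j) ≤ 1 → W2 = ⊥) := by
  have hEp := EE_eval_ne r a p hp
  have hPp := PP_eval_ne r p hp
  have key : ∀ w ∈ W2, ∃ G₁ : k[X], ∃ lam : k, G₁.coeff (∑ j, a j) = 0 ∧ G₁.natDegree ≤ 1 ∧
      EE r a * w = PP r * (derivative G₁ * EE r a - G₁ * derivative (EE r a)) ∧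
      (X - C p)^(1 + 1) ∣ G₁ - C lam * EE r a := by
    intro w hw
    obtain ⟨hwV, hwp, hwd⟩ := hW2 w hw
    by_cases hw0 : w = 0
    · exact ⟨0, 0, by simp, by simp, by rw [hw0]; simp, by simp⟩
    · obtain ⟨G₁, hG0, -, hrel, hdeg⟩ := rel_data r a b N hN hwV
      have hd := hdeg hw0
      have e1 := dvd_sub_E _ _ p hEp hPp 1 G₁ w hrel (by rwa [pow_one])
      exact ⟨G₁, _, hG0, by omega, hrel, e1⟩
  constructor
  · by_cases hbot : W2 = ⊥
    · rw [hbot, finrank_bot]; exact Nat.zero_le 1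
    obtain ⟨w₀, hw₀, hw₀ne⟩ := Submodule.exists_mem_ne_zero_of_ne_bot hbot
    obtain ⟨G₀, lam₀, hG₀0, hG₀d, hrel₀, d₀1⟩ := key w₀ hw₀
    have hlm : lam₀ ≠ 0 := by
      intro h
      exact hw₀ne (zero_of_inf r a p lam₀ hG₀0 hG₀d hrel₀ d₀1 (Or.inl h))
    refine finrank_le_one (⟨w₀, hw₀⟩ : ↥W2) ?_
    rintro ⟨w, hw⟩
    obtain ⟨G, lam, hG0, hGd, hrel, d1⟩ := key w hw
    obtain ⟨c, hc⟩ : ∃ c : k, c = lam / lam₀ := ⟨_, rfl⟩
    have hc' : c * lam₀ = lam := by rw [hc]; field_simp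
    have hz := zero_of_inf r a p (w := w - C c * w₀) (G₁ := G - C c * G₀) (lam - c * lam₀)
      (by rw [coeff_sub, coeff_C_mul, hG0, hG₀0]; ring)
      ((natDegree_sub_le _ _).trans (max_le hGd ((natDegree_C_mul_le _ _).trans hG₀d)))
      (rel_sub c hrel hrel₀)
      (by
        have e : (G - C c * G₀) - C (lam - c * lam₀) * EE r a =
            (G - C lam * EE r a) - C c * (G₀ - C lam₀ * EE r a) := by
          simp only [C_sub, C_mul]; ring
        rw [e]; exact dvd_sub d1 (d₀1.mul_left _))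
      (Or.inl (by rw [hc']; ring))
    refine ⟨c, Subtype.ext ?_⟩
    show c • w₀ = w
    rw [smul_eq_C_mul]
    exact (sub_eq_zero.1 hz).symm
  · intro he
    rw [eq_bot_iff]
    intro w hw
    rw [Submodule.mem_bot]
    obtain ⟨G, lam, hG0, hGd, hrel, d1⟩ := key w hw
    exact zero_of_inf r a p lam hG0 hGd hrel d1 (Or.inr he)

lemma exists_nonvanishing_inf (hr : Function.Injective r) (b N d : ℕ) (hb : 1 ≤ b)
    (hN : N = (∑ j, a j) + b) (hd : d + 1 = (∑ j, (a j + 1)) + b) (p : k)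
    (hp : ∀ j, p ≠ r j) :
    ∃ u ∈ Vm k m r a b, u ∈ degreeLT k (d + 1 - (N - 1)) ∧ u.eval p ≠ 0 := by
  by_contra hcon
  push Not at hcon
  have hsum : (∑ j, (a j + 1)) = (∑ j, a j) + m := by
    rw [Finset.sum_add_distrib, Finset.sum_const, Finset.card_univ, Fintype.card_fin,
      smul_eq_mul, mul_one]
  have hW2 : ∀ w ∈ Vm k m r a b ⊓ degreeLT k (d + 1 - (N - 1)),
      w ∈ Vm k m r a b ∧ (X - C p) ∣ w ∧ w.natDegree ≤ m := by
    intro w hw
    obtain ⟨hw1, hw2⟩ := Submodule.mem_inf.1 hw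
    refine ⟨hw1, by rw [dvd_iff_isRoot]; exact hcon w hw1 hw2, ?_⟩
    by_cases hw0 : w = 0
    · rw [hw0, natDegree_zero]; exact Nat.zero_le m
    · have := natDegree_lt_of_mem_degLT hw0 hw2
      omega
  obtain ⟨h1, h2⟩ := c2_inf r a b N hN p hp _ hW2
  have h3 := finrank_C r a hr b N d hN hd (N - 1)
  by_cases hc : N - 1 ≤ b
  · rw [if_pos hc, h2 (by omega), finrank_bot] at h3
    omega
  · rw [if_neg hc] at h3
    omega

end sys

omit [CharZero k] in
lemma weights_hyper (V : Submodule k k[X]) [Module.Finite k ↥V] (φ : k[X] →ₗ[k] k)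
    (I : ℕ → Submodule k k[X]) (hanti : ∀ n n', n ≤ n' → I n' ≤ I n) (L e d : ℕ)
    (heN : e ≤ L + 1)
    (hf : ∀ n, Module.finrank k ↥(V ⊓ I n) = if n ≤ e then L + 1 - n else L + 2 - n)
    (u : k[X]) (huV : u ∈ V) (huI : u ∈ I L) (huφ : φ u ≠ 0)
    (hd : L + 1 ≤ d ∨ (d = L ∧ e = L + 1)) :
    ∃ ε : ℕ, ε ≤ 1 ∧
      (∑ n ∈ Finset.range d, Module.finrank k ↥((V ⊓ LinearMap.ker φ) ⊓ I (n+1))) + 1
        = L.choose 2 + (L + 1 - e) + ε := by
  apply wsum (fun n => Module.finrank k ↥(V ⊓ I n))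
    (fun n => Module.finrank k ↥((V ⊓ LinearMap.ker φ) ⊓ I n)) L e d heN hf ?_ ?_ hd
  · intro n hn1 hnL
    show Module.finrank k ↥((V ⊓ LinearMap.ker φ) ⊓ I n) + 1 = Module.finrank k ↥(V ⊓ I n)
    rw [inf_right_comm]
    exact finrank_hyperplane (V ⊓ I n) φ u ⟨huV, hanti n L hnL huI⟩ huφ
  · intro n
    exact Submodule.finrank_mono (inf_le_inf_right _ inf_le_left)

theorem main17246
    (k : Type*) [Field k] [CharZero k] (m : ℕ) (r : Fin m → k) (hr : Function.Injective r)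
    (a : Fin m → ℕ) (ha : ∀ j, 1 ≤ a j) (b : ℕ) (hb : 1 ≤ b) (N d : ℕ)
    (hN : N = (∑ j, a j) + b) (hd : d + 1 = (∑ j, (a j + 1)) + b)
    (V : Submodule k (Polynomial k))
    (hV : V = (Polynomial.degreeLT k b).map (LinearMap.mulLeft k (∏ j, (X - C (r j)) ^ (a j + 1))) ⊔
      ⨆ i, (Polynomial.degreeLT k (a i)).map
        (LinearMap.mulLeft k (∏ j ∈ Finset.univ.erase i, (X - C (r j)) ^ (a j + 1))))
    (p : k) (hp : ∀ j, p ≠ r j) (V₁ : Submodule k (Polynomial k))
    (hV₁ : V₁ = V ⊓ (Ideal.span {X - C p}).restrictScalars k) :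
    (∀ i : Fin m, ∃ ε : ℕ, ε ≤ 1 ∧
      (∑ n ∈ Finset.range d, Module.finrank k ↥(V₁ ⊓ (Ideal.span {(X - C (r i)) ^ (n + 1)}).restrictScalars k)) + 1 =
        (N - 1).choose 2 + (N - a i) + ε) ∧
    (∃ ε : ℕ, ε ≤ 1 ∧
      (∑ n ∈ Finset.range d, Module.finrank k ↥(V₁ ⊓ Polynomial.degreeLT k (d - n))) + 1 =
        (N - 1).choose 2 + (N - b) + ε) := by
  subst hV
  have hker : (Ideal.span {X - C p}).restrictScalars k = LinearMap.ker (Polynomial.leval p) := by
    ext v
    rw [Submodule.restrictScalars_mem, Ideal.mem_span_singleton, dvd_iff_isRoot,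
      LinearMap.mem_ker]
    rfl
  rw [hker] at hV₁
  subst hV₁
  haveI : Module.Finite k ↥(Vm k m r a b) := by rw [← range_Tmap r a b]; infer_instance
  have hsum : (∑ j, (a j + 1)) = (∑ j, a j) + m := by
    rw [Finset.sum_add_distrib, Finset.sum_const, Finset.card_univ, Fintype.card_fin,
      smul_eq_mul, mul_one]
  obtain ⟨L, rfl⟩ : ∃ L, N = L + 1 := ⟨N - 1, by omega⟩
  rw [Nat.add_sub_cancel]
  constructor
  · intro i
    have hm : 1 ≤ m := by have := i.isLt; omega
    obtain ⟨u, huV, hud, hup⟩ := exists_nonvanishing_marked r a hr b (L+1) hb hN i p hp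
    rw [Nat.add_sub_cancel] at hud
    have hai : a i ≤ L + 1 := by have := natDegree_Ei_le r a i; omega
    exact weights_hyper (Vm k m r a b) (Polynomial.leval p)
      (fun n => (Ideal.span {(X - C (r i)) ^ n}).restrictScalars k)
      (fun n n' hnn' v hv => by
        rw [Submodule.restrictScalars_mem, Ideal.mem_span_singleton] at hv ⊢
        exact (pow_dvd_pow _ hnn').trans hv)
      L (a i) d hai
      (fun n => by rw [finrank_B r a hr b (L+1) hN i n])
      u huV (by rw [Submodule.restrictScalars_mem, Ideal.mem_span_singleton]; exact hud) hup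
      (Or.inl (by omega))
  · obtain ⟨u, huV, hud, hup⟩ := exists_nonvanishing_inf r a hr b (L+1) d hb hN hd p hp
    rw [Nat.add_sub_cancel] at hud
    have hdd : L + 1 ≤ d ∨ (d = L ∧ b = L + 1) := by
      rcases Nat.eq_zero_or_pos m with hm | hm
      · right
        subst hm
        simp only [Finset.univ_eq_empty, Finset.sum_empty] at hN hd
        omega
      · left; omega
    have key := weights_hyper (Vm k m r a b) (Polynomial.leval p)
      (fun n => degreeLT k (d + 1 - n))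
      (fun n n' hnn' => degreeLT_mono (by omega))
      L b d (by omega)
      (fun n => by rw [finrank_C r a hr b (L+1) d hN hd n])
      u huV hud hup hdd
    obtain ⟨ε, hε, hkey⟩ := key
    refine ⟨ε, hε, ?_⟩
    rw [← hkey]
    congr 1
    apply Finset.sum_congr rfl
    intro n _
    have : d - n = d + 1 - (n + 1) := by omega
    rw [this]
    rfl

end Groth.Agent.Lib.WronskWtH1
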