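import Mathlib
import Groth.Agent.Lib.WronskWt_helper1

set_option autoImplicit false
set_option maxHeartbeats 1000000

/-! Weights at the marked points of a hyperplane of the polar-parts system containing the
subsystem dropping two at infinity (helper1). -/

namespace Groth.Agent.Lib.WronskWt2H1

open Polynomial Groth.Agent.Lib.WronskMG Groth.Agent.Lib.WronskMG2 Groth.Agent.Lib.WronskSeqH1
  Groth.Agent.Lib.WronskWtH1

lemma fsum (f : ℕ → ℕ) (L e d : ℕ) (heN : e ≤ L + 1)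
    (hf : ∀ n, f n = if n ≤ e then L + 1 - n else L + 2 - n)
    (hd : L + 1 ≤ d ∨ (d = L ∧ e = L + 1)) :
    (∑ n ∈ Finset.range d, f (n+1)) + e = (L+2).choose 2 := by
  have hzero : ∀ n, L + 2 ≤ n → f n = 0 := by
    intro n hn; rw [hf n]; split_ifs <;> omega
  have hA : (∑ n ∈ Finset.range d, f (n+1)) = ∑ n ∈ Finset.range (L+1), f (n+1) := by
    rcases hd with hd | ⟨hd, heq⟩
    · have hB : ∀ d', L + 1 ≤ d' → (∑ n ∈ Finset.range d', f (n+1))
          = ∑ n ∈ Finset.range (L+1), f (n+1) := by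
        intro d' hd'
        induction d', hd' using Nat.le_induction with
        | base => rfl
        | succ d' hd' ih =>
          rw [Finset.sum_range_succ, ih, hzero (d'+1) (by omega), add_zero]
      exact hB d hd
    · have h0 : f (L+1) = 0 := by rw [hf (L+1), if_pos (by omega)]; omega
      rw [hd, Finset.sum_range_succ, h0, add_zero]
  have hB : (∑ n ∈ Finset.range (L+1), f (n+1))
      = ∑ n ∈ Finset.range (L+1), ((L + 1 - 1 - n) + if e ≤ n then 1 else 0) := by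
    apply Finset.sum_congr rfl
    intro n hn
    rw [Finset.mem_range] at hn
    rw [hf (n+1)]
    split_ifs <;> omega
  have hS1 := sum_S1 (L+1) (L+1) le_rfl
  have hS2 := sum_S2 e (L+1)
  have hc0 : (L + 1 - (L + 1)).choose 2 = 0 := by rw [Nat.sub_self]; rfl
  rw [hc0, add_zero] at hS1
  have hch : (L+2).choose 2 = (L+1) + (L+1).choose 2 :=
    (Nat.choose_succ_succ' (L+1) 1).trans (by rw [Nat.choose_one_right])
  rw [hA, hB, Finset.sum_add_distrib, hS1, hS2, hch]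
  omega

variable {k : Type*} [Field k] [CharZero k]

omit [CharZero k] in
lemma hyper_inf (V V₁ W : Submodule k k[X]) [Module.Finite k ↥V] (hV₁ : V₁ ≤ V)
    (hcodim : Module.finrank k ↥V₁ + 1 = Module.finrank k ↥V) (hW : W ≤ V) (u : k[X])
    (huW : u ∈ W) (huV₁ : u ∉ V₁) :
    Module.finrank k ↥(V₁ ⊓ W) + 1 = Module.finrank k ↥W := by
  haveI : Module.Finite k ↥V₁ := Submodule.finiteDimensional_of_le hV₁
  haveI : Module.Finite k ↥W := Submodule.finiteDimensional_of_le hW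
  have h := Submodule.finrank_sup_add_finrank_inf_eq V₁ W
  have hle : V₁ ⊔ W ≤ V := sup_le hV₁ hW
  haveI : Module.Finite k ↥(V₁ ⊔ W) := Submodule.finiteDimensional_of_le hle
  have h1 : Module.finrank k ↥(V₁ ⊔ W) ≤ Module.finrank k ↥V := Submodule.finrank_mono hle
  have hlt : V₁ < V₁ ⊔ W := by
    refine lt_of_le_of_ne le_sup_left (fun heq => huV₁ ?_)
    rw [heq]; exact Submodule.mem_sup_right huW
  have h2 := Submodule.finrank_lt_finrank_of_lt hlt
  omega

omit [CharZero k] in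
lemma weights_hyper' (V V₁ : Submodule k k[X]) [Module.Finite k ↥V] (hV₁ : V₁ ≤ V)
    (I : ℕ → Submodule k k[X]) (hanti : ∀ n n', n ≤ n' → I n' ≤ I n) (L e d : ℕ)
    (heN : e ≤ L + 1) (hV : Module.finrank k ↥V = L + 1)
    (hcod : Module.finrank k ↥V₁ + 1 = L + 1)
    (hf : ∀ n, Module.finrank k ↥(V ⊓ I n) = if n ≤ e then L + 1 - n else L + 2 - n)
    (u : k[X]) (huV : u ∈ V) (huI : u ∈ I L) (hu : u ∉ V₁)
    (hd : L + 1 ≤ d ∨ (d = L ∧ e = L + 1)) :
    ∃ ε : ℕ, ε ≤ 1 ∧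
      (∑ n ∈ Finset.range d, Module.finrank k ↥(V₁ ⊓ I (n+1))) + 1
        = L.choose 2 + (L + 1 - e) + ε := by
  apply wsum (fun n => Module.finrank k ↥(V ⊓ I n))
    (fun n => Module.finrank k ↥(V₁ ⊓ I n)) L e d heN hf ?_ ?_ hd
  · intro n hn1 hnL
    show Module.finrank k ↥(V₁ ⊓ I n) + 1 = Module.finrank k ↥(V ⊓ I n)
    have : V₁ ⊓ I n = V₁ ⊓ (V ⊓ I n) := by rw [← inf_assoc, inf_eq_left.mpr hV₁]
    rw [this]
    exact hyper_inf V V₁ (V ⊓ I n) hV₁ (by rw [hV, hcod]) inf_le_left u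
      ⟨huV, hanti n L hnL huI⟩ hu
  · intro n
    exact Submodule.finrank_mono (inf_le_inf_right _ hV₁)

section sys

variable {m : ℕ} (r : Fin m → k) (a : Fin m → ℕ)

lemma exists_notMem_marked (hr : Function.Injective r) (b N : ℕ) (hb : 1 ≤ b)
    (hN : N = (∑ j, a j) + b) (i : Fin m) (V₁ : Submodule k k[X])
    (hV₁ : V₁ ≤ Vm k m r a b) (hfin : Module.finrank k ↥V₁ + 1 = N)
    (hU : Vm k m r a (b - 2) ≤ V₁) :
    ∃ u ∈ Vm k m r a b, (X - C (r i))^(N - 1) ∣ u ∧ u ∉ V₁ := by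
  by_contra hcon
  push Not at hcon
  haveI : Module.Finite k ↥(Vm k m r a b) := by rw [← range_Tmap r a b]; infer_instance
  haveI : Module.Finite k ↥V₁ := Submodule.finiteDimensional_of_le hV₁
  obtain ⟨Is, hIs⟩ : ∃ Is : Submodule k k[X],
      Is = (Ideal.span {(X - C (r i)) ^ (N - 1)}).restrictScalars k := ⟨_, rfl⟩
  have hmem : ∀ v, v ∈ Is ↔ (X - C (r i))^(N - 1) ∣ v := by
    intro v; rw [hIs, Submodule.restrictScalars_mem, Ideal.mem_span_singleton]
  have hsub : Vm k m r a b ⊓ Is ≤ V₁ ⊓ Is :=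
    fun v hv => ⟨hcon v hv.1 ((hmem v).mp hv.2), hv.2⟩
  have h1 : Module.finrank k ↥(Vm k m r a b ⊓ Is) ≤ Module.finrank k ↥(V₁ ⊓ Is) :=
    Submodule.finrank_mono hsub
  have hXU : (V₁ ⊓ Is) ⊓ Vm k m r a (b - 2) = Vm k m r a (b - 2) ⊓ Is := by
    rw [inf_right_comm, inf_eq_right.mpr hU]
  haveI : Module.Finite k ↥(Vm k m r a (b - 2)) := Submodule.finiteDimensional_of_le hU
  have h2 := Submodule.finrank_sup_add_finrank_inf_eq (V₁ ⊓ Is) (Vm k m r a (b - 2))
  have h3 : Module.finrank k ↥((V₁ ⊓ Is) ⊔ Vm k m r a (b - 2)) ≤ Module.finrank k ↥V₁ :=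
    Submodule.finrank_mono (sup_le inf_le_left hU)
  rw [hXU] at h2
  have hF := finrank_B r a hr b N hN i (N - 1)
  have hg := finrank_B r a hr (b - 2) ((∑ j, a j) + (b - 2)) rfl i (N - 1)
  have hUr := finrank_Vm r a (b - 2) ((∑ j, a j) + (b - 2)) rfl hr
  rw [← hIs] at hF hg
  have hai : a i ≤ ∑ j, a j := by have := natDegree_Ei_le r a i; omega
  split_ifs at hF hg <;> omega

theorem weights_marked (hr : Function.Injective r) (b N d : ℕ) (hb : 1 ≤ b)
    (hN : N = (∑ j, a j) + b) (hd : d + 1 = (∑ j, (a j + 1)) + b) (i : Fin m)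
    (V₁ : Submodule k k[X]) (hV₁ : V₁ ≤ Vm k m r a b)
    (hfin : Module.finrank k ↥V₁ + 1 = N) (hU : Vm k m r a (b - 2) ≤ V₁) :
    ∃ ε : ℕ, ε ≤ 1 ∧
      (∑ n ∈ Finset.range d, Module.finrank k
        ↥(V₁ ⊓ (Ideal.span {(X - C (r i)) ^ (n + 1)}).restrictScalars k)) + 1 =
        (N - 1).choose 2 + (N - a i) + ε := by
  haveI : Module.Finite k ↥(Vm k m r a b) := by rw [← range_Tmap r a b]; infer_instance
  have hsum : (∑ j, (a j + 1)) = (∑ j, a j) + m := by
    rw [Finset.sum_add_distrib, Finset.sum_const, Finset.card_univ, Fintype.card_fin,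
      smul_eq_mul, mul_one]
  obtain ⟨L, rfl⟩ : ∃ L, N = L + 1 := ⟨N - 1, by omega⟩
  rw [Nat.add_sub_cancel]
  have hm : 1 ≤ m := by have := i.isLt; omega
  obtain ⟨u, huV, hud, hu⟩ := exists_notMem_marked r a hr b (L+1) hb hN i V₁ hV₁ hfin hU
  rw [Nat.add_sub_cancel] at hud
  have hai : a i ≤ L + 1 := by have := natDegree_Ei_le r a i; omega
  exact weights_hyper' (Vm k m r a b) V₁ hV₁
    (fun n => (Ideal.span {(X - C (r i)) ^ n}).restrictScalars k)
    (fun n n' hnn' v hv => by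
      rw [Submodule.restrictScalars_mem, Ideal.mem_span_singleton] at hv ⊢
      exact (pow_dvd_pow _ hnn').trans hv)
    L (a i) d hai (finrank_Vm r a b (L+1) hN hr) hfin
    (fun n => by rw [finrank_B r a hr b (L+1) hN i n])
    u huV (by rw [Submodule.restrictScalars_mem, Ideal.mem_span_singleton]; exact hud) hu
    (Or.inl (by omega))

theorem weights_inf (hr : Function.Injective r) (ha : ∀ j, 1 ≤ a j) (b N d : ℕ) (hb : 1 ≤ b)
    (hN : N = (∑ j, a j) + b) (hd : d + 1 = (∑ j, (a j + 1)) + b)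
    (V₁ : Submodule k k[X]) (hV₁ : V₁ ≤ Vm k m r a b)
    (hfin : Module.finrank k ↥V₁ + 1 = N) (hU : Vm k m r a (b - 2) ≤ V₁) :
    ∃ ε : ℕ, ε ≤ 1 ∧
      (∑ n ∈ Finset.range d, Module.finrank k ↥(V₁ ⊓ degreeLT k (d - n))) =
        (N - 1).choose 2 + (N - b) + (N - 2) + ε := by
  haveI : Module.Finite k ↥(Vm k m r a b) := by rw [← range_Tmap r a b]; infer_instance
  haveI : Module.Finite k ↥V₁ := Submodule.finiteDimensional_of_le hV₁
  have hsum : (∑ j, (a j + 1)) = (∑ j, a j) + m := by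
    rw [Finset.sum_add_distrib, Finset.sum_const, Finset.card_univ, Fintype.card_fin,
      smul_eq_mul, mul_one]
  have hm_le : m ≤ ∑ j, a j := by
    calc m = ∑ _j : Fin m, 1 := by simp
      _ ≤ ∑ j, a j := Finset.sum_le_sum (fun j _ => ha j)
  obtain ⟨L, rfl⟩ : ∃ L, N = L + 1 := ⟨N - 1, by omega⟩
  rw [Nat.add_sub_cancel]
  rcases Nat.eq_zero_or_pos L with hL0 | hL0
  · -- N = 1
    subst hL0
    have hd0 : d = 0 := by omega
    subst hd0
    exact ⟨0, Nat.zero_le 1, by simp; omega⟩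
  -- general case
  obtain ⟨d', rfl⟩ : ∃ d', d = d' + 1 := ⟨d - 1, by omega⟩
  -- `U = V ⊓ W_2`
  have hUdeg : Vm k m r a (b - 2) ≤ degreeLT k (d' + 1 + 1 - 2) := by
    intro v hv
    by_cases hv0 : v = 0
    · rw [hv0]; exact Submodule.zero_mem _
    · obtain ⟨g, hge, hgN, hg⟩ := degree_data r a (b - 2) ((∑ j, a j) + (b - 2)) rfl hv hv0
      exact mem_degLT_of_natDegree_lt (by omega)
  have hf := fun n => finrank_C r a hr b (L+1) (d'+1) hN hd n
  have hUeq : Vm k m r a (b - 2) = Vm k m r a b ⊓ degreeLT k (d' + 1 + 1 - 2) := by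
    haveI : Module.Finite k ↥(Vm k m r a b ⊓ degreeLT k (d' + 1 + 1 - 2)) := inferInstance
    apply Submodule.eq_of_le_of_finrank_eq (le_inf (hU.trans hV₁) hUdeg)
    rw [hf 2, finrank_Vm r a (b - 2) ((∑ j, a j) + (b - 2)) rfl hr]
    split_ifs <;> omega
  -- terms with n ≥ 1
  have hterm : ∀ n, Module.finrank k ↥(V₁ ⊓ degreeLT k (d' + 1 - (n + 1)))
      = Module.finrank k ↥(Vm k m r a b ⊓ degreeLT k (d' + 1 + 1 - (n + 2))) := by
    intro n
    have hidx : d' + 1 - (n + 1) = d' + 1 + 1 - (n + 2) := by omega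
    rw [hidx]
    have hWle : degreeLT k (d' + 1 + 1 - (n + 2)) ≤ degreeLT k (d' + 1 + 1 - 2) :=
      degreeLT_mono (by omega)
    have : V₁ ⊓ degreeLT k (d' + 1 + 1 - (n + 2))
        = Vm k m r a b ⊓ degreeLT k (d' + 1 + 1 - (n + 2)) := by
      apply le_antisymm (inf_le_inf_right _ hV₁)
      intro v hv
      refine ⟨hU ?_, hv.2⟩
      rw [hUeq]
      exact ⟨hv.1, hWle hv.2⟩
    rw [this]
  -- the first term
  have hφlo : Module.finrank k ↥(Vm k m r a (b - 2))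
      ≤ Module.finrank k ↥(V₁ ⊓ degreeLT k (d' + 1 - 0)) := by
    apply Submodule.finrank_mono
    exact le_inf hU (hUdeg.trans (degreeLT_mono (by omega)))
  have hφhi : Module.finrank k ↥(V₁ ⊓ degreeLT k (d' + 1 - 0)) ≤ Module.finrank k ↥V₁ :=
    Submodule.finrank_mono inf_le_left
  rw [finrank_Vm r a (b - 2) ((∑ j, a j) + (b - 2)) rfl hr] at hφlo
  -- the sum
  have hdd : L + 1 ≤ d' + 1 ∨ (d' + 1 = L ∧ b = L + 1) := by
    rcases Nat.eq_zero_or_pos m with hm | hm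
    · right
      subst hm
      simp only [Finset.univ_eq_empty, Finset.sum_empty] at hN hd
      omega
    · left; omega
  have hfs := fsum (fun n => Module.finrank k ↥(Vm k m r a b ⊓ degreeLT k (d' + 1 + 1 - n)))
    L b (d'+1) (by omega) hf hdd
  rw [Finset.sum_range_succ'] at hfs ⊢
  have hsumeq : (∑ n ∈ Finset.range d', Module.finrank k ↥(V₁ ⊓ degreeLT k (d' + 1 - (n + 1))))
      = ∑ n ∈ Finset.range d', Module.finrank k
        ↥(Vm k m r a b ⊓ degreeLT k (d' + 1 + 1 - (n + 1 + 1))) :=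
    Finset.sum_congr rfl (fun n _ => hterm n)
  rw [hsumeq]
  have hf1 := hf (0 + 1)
  rw [if_pos (by omega)] at hf1
  have hch1 : (L+2).choose 2 = (L+1) + (L+1).choose 2 :=
    (Nat.choose_succ_succ' (L+1) 1).trans (by rw [Nat.choose_one_right])
  have hch2 : (L+1).choose 2 = L + L.choose 2 :=
    (Nat.choose_succ_succ' L 1).trans (by rw [Nat.choose_one_right])
  refine ⟨Module.finrank k ↥(V₁ ⊓ degreeLT k (d' + 1 - 0)) - (L - 1), by omega, ?_⟩
  omega

end sys

theorem main17244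
    (k : Type*) [Field k] [CharZero k] (m : ℕ) (r : Fin m → k) (hr : Function.Injective r)
    (a : Fin m → ℕ) (ha : ∀ j, 1 ≤ a j) (b : ℕ) (hb : 1 ≤ b) (N d : ℕ)
    (hN : N = (∑ j, a j) + b) (hd : d + 1 = (∑ j, (a j + 1)) + b)
    (V : Submodule k (Polynomial k))
    (hV : V = (Polynomial.degreeLT k b).map (LinearMap.mulLeft k (∏ j, (X - C (r j)) ^ (a j + 1))) ⊔
      ⨆ i, (Polynomial.degreeLT k (a i)).map
        (LinearMap.mulLeft k (∏ j ∈ Finset.univ.erase i, (X - C (r j)) ^ (a j + 1))))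
    (V₁ : Submodule k (Polynomial k)) (hV₁ : V₁ ≤ V) (hfin : Module.finrank k ↥V₁ + 1 = N)
    (hU : (Polynomial.degreeLT k (b - 2)).map (LinearMap.mulLeft k (∏ j, (X - C (r j)) ^ (a j + 1))) ⊔
      (⨆ i, (Polynomial.degreeLT k (a i)).map
        (LinearMap.mulLeft k (∏ j ∈ Finset.univ.erase i, (X - C (r j)) ^ (a j + 1)))) ≤ V₁) :
    (∀ i : Fin m, ∃ ε : ℕ, ε ≤ 1 ∧
      (∑ n ∈ Finset.range d, Module.finrank k ↥(V₁ ⊓ (Ideal.span {(X - C (r i)) ^ (n + 1)}).restrictScalars k)) + 1 =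
        (N - 1).choose 2 + (N - a i) + ε) ∧
    (∃ ε : ℕ, ε ≤ 1 ∧
      (∑ n ∈ Finset.range d, Module.finrank k ↥(V₁ ⊓ Polynomial.degreeLT k (d - n))) =
        (N - 1).choose 2 + (N - b) + (N - 2) + ε) := by
  subst hV
  exact ⟨fun i => weights_marked r a hr b N d hb hN hd i V₁ hV₁ hfin hU,
    weights_inf r a hr ha b N d hb hN hd V₁ hV₁ hfin hU⟩

end Groth.Agent.Lib.WronskWt2H1
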