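import Mathlib

namespace Groth.Agent.Lib.YoungEuler

open Finset

theorem main (μ : YoungDiagram) (hμ : μ ≠ ⊥) :
    μ.cells.card + (μ.cells.filter (fun c => (c.1 + 1, c.2 + 1) ∈ μ)).card =
      (μ.cells.filter (fun c => (c.1 + 1, c.2) ∈ μ)).card +
        (μ.cells.filter (fun c => (c.1, c.2 + 1) ∈ μ)).card + 1 := by
  have hmem : ∀ i j : ℕ, (i, j) ∈ μ ↔ j < μ.rowLen i :=
    fun i j => YoungDiagram.mem_iff_lt_rowLen
  have hanti : ∀ i, μ.rowLen (i + 1) ≤ μ.rowLen i :=
    fun i => μ.rowLen_anti i (i + 1) (Nat.le_succ i)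
  have hR0 : 0 < μ.rowLen 0 := by
    have hne : μ.cells ≠ ∅ := by
      intro h
      apply hμ
      exact le_bot_iff.mp (YoungDiagram.cells_subset_iff.mp (by rw [h]; exact Finset.empty_subset _))
    obtain ⟨⟨i, j⟩, hc⟩ := Finset.nonempty_of_ne_empty hne
    rw [YoungDiagram.mem_cells] at hc
    have h00 : (0, 0) ∈ μ := μ.up_left_mem (Nat.zero_le i) (Nat.zero_le j) hc
    exact (hmem 0 0).mp h00
  have hAB : μ.cells.filter (fun c => (c.1 + 1, c.2 + 1) ∈ μ) ⊆
      μ.cells.filter (fun c => (c.1 + 1, c.2) ∈ μ) := by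
    intro c hc
    rw [Finset.mem_filter] at hc ⊢
    exact ⟨hc.1, μ.up_left_mem le_rfl (Nat.le_succ _) hc.2⟩
  have h1 := Finset.card_sdiff_add_card_eq_card hAB
  have hCM : μ.cells.filter (fun c => (c.1, c.2 + 1) ∈ μ) ⊆ μ.cells := Finset.filter_subset _ _
  have h2 := Finset.card_sdiff_add_card_eq_card hCM
  have memE : ∀ i j : ℕ, (i, j) ∈ μ.cells \ μ.cells.filter (fun c => (c.1, c.2 + 1) ∈ μ) ↔
      j < μ.rowLen i ∧ ¬ (j + 1 < μ.rowLen i) := by
    intro i j
    simp only [Finset.mem_sdiff, Finset.mem_filter, YoungDiagram.mem_cells, hmem]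
    omega
  have memD : ∀ i j : ℕ, (i, j) ∈ μ.cells.filter (fun c => (c.1 + 1, c.2) ∈ μ) \
        μ.cells.filter (fun c => (c.1 + 1, c.2 + 1) ∈ μ) ↔
      j < μ.rowLen (i + 1) ∧ ¬ (j + 1 < μ.rowLen (i + 1)) := by
    intro i j
    have := hanti i
    simp only [Finset.mem_sdiff, Finset.mem_filter, YoungDiagram.mem_cells, hmem]
    omega
  have h3 : (μ.cells \ μ.cells.filter (fun c => (c.1, c.2 + 1) ∈ μ)).card =
      (μ.cells.filter (fun c => (c.1 + 1, c.2) ∈ μ) \
        μ.cells.filter (fun c => (c.1 + 1, c.2 + 1) ∈ μ)).card + 1 := by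
    have hφ : Function.Injective (fun c : ℕ × ℕ => (c.1 + 1, c.2)) := by
      rintro ⟨a, b⟩ ⟨a', b'⟩ h
      simp only [Prod.mk.injEq] at h
      obtain ⟨h1, h2⟩ := h
      have h3 : a = a' := by omega
      rw [h3, h2]
    have hE : μ.cells \ μ.cells.filter (fun c => (c.1, c.2 + 1) ∈ μ) =
        insert (0, μ.rowLen 0 - 1)
          ((μ.cells.filter (fun c => (c.1 + 1, c.2) ∈ μ) \
            μ.cells.filter (fun c => (c.1 + 1, c.2 + 1) ∈ μ)).image
            (fun c : ℕ × ℕ => (c.1 + 1, c.2))) := by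
      ext ⟨i, j⟩
      rw [memE, Finset.mem_insert, Finset.mem_image]
      constructor
      · rintro ⟨h1, h2⟩
        rcases Nat.eq_zero_or_pos i with hi | hi
        · left
          subst hi
          exact Prod.ext rfl (by show j = μ.rowLen 0 - 1; omega)
        · right
          refine ⟨(i - 1, j), (memD (i - 1) j).mpr ?_, ?_⟩
          · rw [Nat.sub_add_cancel hi]; exact ⟨h1, h2⟩
          · show (i - 1 + 1, j) = (i, j)
            rw [Nat.sub_add_cancel hi]
      · rintro (h | ⟨⟨a, b⟩, hab, h⟩)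
        · rw [Prod.mk.injEq] at h
          obtain ⟨rfl, rfl⟩ := h
          exact ⟨by omega, by omega⟩
        · rw [memD] at hab
          simp only [Prod.mk.injEq] at h
          obtain ⟨rfl, rfl⟩ := h
          exact hab
    have hnot : (0, μ.rowLen 0 - 1) ∉
        (μ.cells.filter (fun c => (c.1 + 1, c.2) ∈ μ) \
            μ.cells.filter (fun c => (c.1 + 1, c.2 + 1) ∈ μ)).image
            (fun c : ℕ × ℕ => (c.1 + 1, c.2)) := by
      intro h
      rw [Finset.mem_image] at h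
      obtain ⟨⟨a, b⟩, _, h⟩ := h
      simp only [Prod.mk.injEq] at h
      omega
    rw [hE, Finset.card_insert_of_notMem hnot, Finset.card_image_of_injective _ hφ]
  omega

end Groth.Agent.Lib.YoungEuler
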