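import Mathlib
import Groth.Prelude
import Groth.Agent.Lib.ZClos6_helper8
import Groth.Agent.Lib.AssPt2_helper8
import Groth.Agent.Lib.CohDev14_helper8

set_option autoImplicit false
universe u

open CategoryTheory CategoryTheory.Limits AlgebraicGeometry TopologicalSpace Opposite

/-! Associated points and Z-purity; coherence of the stages of the Z-closure. -/

namespace ZClosH8

variable {X : Scheme.{u}}

/-- Injectivity of the restrictions to `U` on affine opens implies injectivity on all opens. -/
theorem res_injective_of_affine (F : X.Modules) (U : X.Opens)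
    (h : ∀ O : X.Opens, IsAffineOpen O →
      Function.Injective (res F (inf_le_left : O ⊓ U ≤ O)))
    (V V' : X.Opens) (hV' : V' ≤ V) (hVU : V ⊓ U ≤ V') : Function.Injective (res F hV') := by
  refine (injective_iff_map_eq_zero (res F hV').hom).mpr ?_
  intro s hs
  have hs' : res F hV' s = 0 := hs
  refine eq_zero_of_locally F V s (fun y hy => ?_)
  obtain ⟨_, ⟨O, hO, rfl⟩, hyO, hOV⟩ :=
    X.isBasis_affineOpens.exists_subset_of_mem_open hy V.2
  refine ⟨O, hOV, hyO, ?_⟩
  apply h O hO
  rw [res_res, map_zero]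
  have hle : O ⊓ U ≤ V' := (inf_le_inf_right U hOV).trans hVU
  have h1 : res F (hle.trans hV') s = res F hle (res F hV' s) := (res_res F hV' hle s).symm
  rw [h1, hs', map_zero]

variable [IsLocallyNoetherian X]

/-- If all associated points of the quasi-coherent module `F` lie in the open `U`, then the
restriction of sections of `F` to `U` is injective (on affine opens). -/
theorem res_injective_of_ass (F : X.Modules) [F.IsQuasicoherent] (U : X.Opens)
    (hU : ∀ x : X, Curv2.IsAssPoint F x → x ∈ U) (O : X.Opens) (hO : IsAffineOpen O) :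
    Function.Injective (res F (inf_le_left : O ⊓ U ≤ O)) := by
  haveI : IsNoetherianRing Γ(X, O) := IsLocallyNoetherian.component_noetherian ⟨O, hO⟩
  refine (injective_iff_map_eq_zero (res F (inf_le_left : O ⊓ U ≤ O)).hom).mpr ?_
  intro s hs
  have hs' : res F (inf_le_left : O ⊓ U ≤ O) s = 0 := hs
  by_contra hne
  let N : Submodule Γ(X, O) Γ(F, O) := Submodule.span Γ(X, O) {s}
  haveI : Nontrivial N := ⟨⟨⟨s, Submodule.mem_span_singleton_self s⟩, 0,
    fun h => hne (congrArg Subtype.val h)⟩⟩
  obtain ⟨p, hp⟩ := associatedPrimes.nonempty Γ(X, O) N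
  have hpM : p ∈ associatedPrimes Γ(X, O) Γ(F, O) :=
    associatedPrimes.subset_of_injective (f := N.subtype) N.injective_subtype hp
  obtain ⟨hprime, n, hn⟩ := (isAssociatedPrime_iff (I := p) (M := N)).mp hp
  obtain ⟨a, ha⟩ := Submodule.mem_span_singleton.mp n.2
  let P : Spec Γ(X, O) := (⟨p, hprime⟩ : PrimeSpectrum Γ(X, O))
  have hyO : hO.fromSpec P ∈ O := AssPtH8.fromSpec_mem hO P
  have hyass : Curv2.IsAssPoint F (hO.fromSpec P) := by
    rw [AssPtH8.isAssPoint_iff F hO hyO, AssPtH8.primeIdealOf_fromSpec hO P hyO]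
    exact hpM
  have hyU : hO.fromSpec P ∈ U := hU _ hyass
  obtain ⟨f, hf, hyf⟩ := hO.exists_basicOpen_le (V := O ⊓ U) ⟨hO.fromSpec P, ⟨hyO, hyU⟩⟩ hyO
  have h0 : F.presheaf.map (homOfLE (X.basicOpen_le f)).op (a • s) = 0 := by
    rw [Scheme.Modules.map_smul]
    have h1 : res F (X.basicOpen_le f) s = res F hf (res F (inf_le_left : O ⊓ U ≤ O) s) :=
      (res_res F _ hf s).symm
    have h2 : F.presheaf.map (homOfLE (X.basicOpen_le f)).op s = 0 := by
      refine h1.trans ?_
      rw [hs', map_zero]
    rw [h2, smul_zero]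
  obtain ⟨k, hk⟩ := Groth.Agent.Lib.QCohLoc_helper4.exists_pow_smul_eq_zero F hO f (a • s) h0
  have hfp : f ^ k ∈ p := by
    rw [hn, Submodule.mem_colon_singleton, Submodule.mem_bot]
    apply Subtype.ext
    rw [Submodule.coe_smul, ← ha]
    exact hk
  have hfp' : f ∈ p := hprime.mem_of_pow_mem _ hfp
  have hmem : P ∈ hO.fromSpec ⁻¹ᵁ X.basicOpen f := hyf
  rw [hO.fromSpec_preimage_basicOpen] at hmem
  exact hmem hfp'

/-- If no associated point of the quasi-coherent module `F` lies in `Z`, the restrictions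
`F(V) → F(V ∖ T)` are injective for all closed `T ⊆ Z`. -/
theorem res_TV_injective_of_ass (Z : Set X) (F : X.Modules) [F.IsQuasicoherent]
    (hass : ∀ x : X, Curv2.IsAssPoint F x → x ∉ Z) (T : ZClos.Cl Z) (V : X.Opens) :
    Function.Injective (res F (TV_le T V)) :=
  res_injective_of_affine F T.U
    (fun O hO => res_injective_of_ass F T.U (fun x hx hxT => hass x hx (T.2 hxT)) O hO)
    V (TV T V) (TV_le T V) (by rw [TV_eq, inf_comm])

/-- If the restrictions `F(V) → F(V ∖ T)` are injective, the stages of the inductive system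
inject into the Z-closure. -/
theorem mono_ιH (Z : Set X) (F : X.Modules)
    (hinj : ∀ (T : ZClos.Cl Z) (V : X.Opens), Function.Injective (res F (TV_le T V)))
    (T : ZClos.Cl Z) : Mono (ιH Z F T) := by
  apply mono_of_injective
  intro V hV
  refine (injective_iff_map_eq_zero ((ιH Z F T).app V).hom).mpr ?_
  intro s hs
  obtain ⟨T', hTT', h0⟩ := H0_eq_zero Z F V hV T s hs
  have e : TV T' (TV T V) = TV T' V := ZClos.resPush_image_eq (ZClos.Cl.U_anti hTT') V
  have h1 : res F (O := TV T V) (TV_le T' (TV T V)) s = 0 :=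
    res_congr F (O := TV T V) e.symm _ _ s h0
  apply hinj T' (TV T V)
  exact h1.trans (map_zero (res F (O := TV T V) (TV_le T' (TV T V))).hom).symm

/-- a) ⇒ d): if `F` is coherent with no associated point in `Z` and `H⁰_{X/Z}(F)` is coherent,
then every `(i_T)_*(F|_{X∖T})` is coherent. -/
theorem isCoh_resPush (Z : Set X) (F : X.Modules) (hF : Coh.IsCoh F)
    (hass : ∀ x ∈ AssSch.Ass F, x ∉ Z) (hH : Coh.IsCoh ((ZClos.H0 Z).obj F)) (T : ZClos.Cl Z) :
    Coh.IsCoh ((ZClos.resPush T.U).obj F) := by
  haveI : F.IsQuasicoherent := hF.1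
  haveI := mono_ιH Z F (res_TV_injective_of_ass Z F hass) T
  exact CohDevH8.isCoh_of_mono (ιH Z F T) (isQuasicoherent_resPush T.U F) hH

end ZClosH8
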