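import Mathlib

/-!
# Lifting an idempotent of `B/IB` to the integral closure via Zariski's main theorem (helper3)

Stacks 15.11 (henselian pairs), the lemma with `B/IB = C₁ × C₂`, `C₁` finite over `A/I`.
APPEND-ONLY once landed.
-/

set_option autoImplicit false

namespace Groth.Agent.Lib.ZMTIdemH3

universe u

section Good

variable {A B : Type u} [CommRing A] [CommRing B] [Algebra A B]

variable (A) in
/-- a power of `r` multiplies every element into the integral closure -/
def Good (r : B) : Prop := ∀ x : B, ∃ n : ℕ, IsIntegral A (r ^ n * x)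

theorem Good.zero : Good A (0 : B) := fun x => ⟨1, by rw [pow_one, zero_mul]; exact isIntegral_zero⟩

theorem Good.mul_left {b r : B} (hb : IsIntegral A b) (h : Good A r) : Good A (b * r) := by
  intro x
  obtain ⟨n, hn⟩ := h x
  refine ⟨n, ?_⟩
  rw [mul_pow, mul_assoc]
  exact (hb.pow n).mul hn

theorem Good.add {r r' : B} (hr : IsIntegral A r) (hr' : IsIntegral A r') (h : Good A r)
    (h' : Good A r') : Good A (r + r') := by
  intro x
  obtain ⟨n, hn⟩ := h x
  obtain ⟨n', hn'⟩ := h' x
  refine ⟨n + n', ?_⟩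
  rw [add_pow, Finset.sum_mul]
  refine IsIntegral.sum _ fun i hi => ?_
  have hi' : i ≤ n + n' := Nat.lt_succ_iff.1 (Finset.mem_range.1 hi)
  by_cases hin : n ≤ i
  · obtain ⟨j, rfl⟩ := Nat.exists_eq_add_of_le hin
    have : r ^ (n + j) * r' ^ (n + n' - (n + j)) * ((n + n').choose (n + j) : B) * x =
        (r ^ j * r' ^ (n + n' - (n + j)) * ((n + n').choose (n + j) : B)) * (r ^ n * x) := by
      rw [pow_add]; ring
    rw [this]
    exact (((hr.pow _).mul (hr'.pow _)).mul (isIntegral_natCast _)).mul hn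
  · have hlt : i < n := not_le.1 hin
    obtain ⟨j, hj⟩ := Nat.exists_eq_add_of_le (show n' ≤ n + n' - i by omega)
    have : r ^ i * r' ^ (n + n' - i) * ((n + n').choose i : B) * x =
        (r ^ i * r' ^ j * ((n + n').choose i : B)) * (r' ^ n' * x) := by
      rw [hj, pow_add]; ring
    rw [this]
    exact (((hr.pow _).mul (hr'.pow _)).mul (isIntegral_natCast _)).mul hn'

theorem Good.of_le {r : B} (hr : IsIntegral A r) (h : Good A r) (x : B) :
    ∃ n, ∀ m, n ≤ m → IsIntegral A (r ^ m * x) := by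
  obtain ⟨n, hn⟩ := h x
  refine ⟨n, fun m hm => ?_⟩
  obtain ⟨j, rfl⟩ := Nat.exists_eq_add_of_le hm
  rw [pow_add, mul_comm (r ^ n), mul_assoc]
  exact (hr.pow j).mul hn

variable (A B) in
/-- the ideal of good elements of the integral closure -/
def goodIdeal : Ideal (integralClosure A B) where
  carrier := {r | Good A (r : B)}
  add_mem' := fun {r r'} h h' => by
    show Good A ((r + r' : integralClosure A B) : B)
    rw [Subalgebra.coe_add]
    exact Good.add r.2 r'.2 h h'
  zero_mem' := by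
    show Good A ((0 : integralClosure A B) : B)
    rw [Subalgebra.coe_zero]
    exact Good.zero
  smul_mem' := fun b r h => by
    show Good A ((b • r : integralClosure A B) : B)
    rw [smul_eq_mul, Subalgebra.coe_mul]
    exact Good.mul_left b.2 h

theorem mem_goodIdeal {r : integralClosure A B} : r ∈ goodIdeal A B ↔ Good A (r : B) := Iff.rfl

end Good

section Main

variable (A B : Type u) [CommRing A] [CommRing B] [Algebra A B] (I : Ideal A)
  (e : B ⧸ Ideal.map (algebraMap A B) I)

/-- the map `B → C₁ = (B/IB)/(1 - e)` -/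
noncomputable def toC1 :
    B →ₐ[A] ((B ⧸ Ideal.map (algebraMap A B) I) ⧸ Ideal.span {1 - e}) :=
  (Ideal.Quotient.mkₐ A (Ideal.span {1 - e})).comp
    (Ideal.Quotient.mkₐ A (Ideal.map (algebraMap A B) I))

theorem toC1_apply (b : B) :
    toC1 A B I e b = Ideal.Quotient.mk (Ideal.span {1 - e})
      (Ideal.Quotient.mk (Ideal.map (algebraMap A B) I) b) := rfl

theorem toC1_lift_eq_one {et : B} (het : Ideal.Quotient.mk (Ideal.map (algebraMap A B) I) et = e) :
    toC1 A B I e et = 1 := by
  rw [toC1_apply, het]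
  have h1 : Ideal.Quotient.mk (Ideal.span {1 - e}) (1 - e) = 0 :=
    Ideal.Quotient.eq_zero_iff_mem.2 (Ideal.mem_span_singleton_self _)
  rw [map_sub, map_one, sub_eq_zero] at h1
  exact h1.symm

theorem toC1_eq_zero_of_mem {b : B} (hb : b ∈ Ideal.map (algebraMap A B) I) :
    toC1 A B I e b = 0 := by
  rw [toC1_apply, Ideal.Quotient.eq_zero_iff_mem.2 hb, map_zero]

variable {A B I e}

/-- if `toC1 c = 0` then `e * c̄ = 0` in `B/IB` -/
theorem e_mul_eq_zero (he : IsIdempotentElem e) {c : B} (hc : toC1 A B I e c = 0) :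
    e * Ideal.Quotient.mk (Ideal.map (algebraMap A B) I) c = 0 := by
  rw [toC1_apply, Ideal.Quotient.eq_zero_iff_mem, Ideal.mem_span_singleton'] at hc
  obtain ⟨u, hu⟩ := hc
  rw [← hu]
  have : e * (u * (1 - e)) = u * (e - e * e) := by ring
  rw [this, he.eq, sub_self, mul_zero]

theorem zmp_of_prime [Algebra.FiniteType A B] (he : IsIdempotentElem e)
    (hfin : Module.Finite (A ⧸ I) ((B ⧸ Ideal.map (algebraMap A B) I) ⧸ Ideal.span {1 - e}))
    (Q : Ideal ((B ⧸ Ideal.map (algebraMap A B) I) ⧸ Ideal.span {1 - e})) [Q.IsPrime] :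
    ∃ r : B, r ∉ Q.comap (toC1 A B I e).toRingHom ∧ IsIntegral A r ∧ Good A r := by
  set q : Ideal B := Q.comap (toC1 A B I e).toRingHom with hq
  haveI : q.IsPrime := Ideal.comap_isPrime _ _
  haveI := hfin
  haveI : Module.Finite A ((B ⧸ Ideal.map (algebraMap A B) I) ⧸ Ideal.span {1 - e}) :=
    Module.Finite.trans (A ⧸ I) _
  have hIq : Ideal.map (algebraMap A B) I ≤ q := by
    intro b hb
    show toC1 A B I e b ∈ Q
    rw [toC1_eq_zero_of_mem A B I e hb]
    exact Q.zero_mem
  obtain ⟨et, het⟩ := Ideal.Quotient.mk_surjective e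
  have hetq : et ∉ q := by
    intro h
    have h1 : toC1 A B I e et ∈ Q := h
    rw [toC1_lift_eq_one A B I e het] at h1
    exact (Ideal.IsPrime.ne_top ‹Q.IsPrime›) ((Ideal.eq_top_iff_one Q).2 h1)
  haveI : Algebra.WeaklyQuasiFiniteAt A q := by
    rw [Algebra.weaklyQuasiFiniteAt_iff]
    let π : B →ₐ[A] (Localization.AtPrime q ⧸
        (q.under A).map (algebraMap A (Localization.AtPrime q))) :=
      (Ideal.Quotient.mkₐ A _).comp (IsScalarTower.toAlgHom A B (Localization.AtPrime q))
    have hπ : ∀ b : B, π b = Ideal.Quotient.mk _ (algebraMap B (Localization.AtPrime q) b) :=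
      fun b => rfl
    have hker1 : ∀ b : B, b ∈ Ideal.map (algebraMap A B) I → π b = 0 := by
      have hle : Ideal.map (algebraMap A B) I ≤ RingHom.ker π.toRingHom := by
        rw [Ideal.map_le_iff_le_comap]
        intro a ha
        rw [Ideal.mem_comap, RingHom.mem_ker]
        show π (algebraMap A B a) = 0
        have hap : a ∈ q.under A := hIq (Ideal.mem_map_of_mem _ ha)
        rw [hπ, ← IsScalarTower.algebraMap_apply, Ideal.Quotient.eq_zero_iff_mem]
        exact Ideal.mem_map_of_mem _ hap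
      intro b hb
      exact hle hb
    let π₁ : (B ⧸ Ideal.map (algebraMap A B) I) →ₐ[A] (Localization.AtPrime q ⧸
        (q.under A).map (algebraMap A (Localization.AtPrime q))) :=
      Ideal.Quotient.liftₐ _ π hker1
    have hπ₁ : ∀ b : B, π₁ (Ideal.Quotient.mk _ b) = π b := fun b => rfl
    have hunit : ∀ s : B, s ∉ q → IsUnit (π s) := by
      intro s hs
      rw [hπ]
      exact (IsLocalization.map_units (Localization.AtPrime q) (⟨s, hs⟩ : q.primeCompl)).map _
    have h2 : π₁ (1 - e) = 0 := by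
      have h3 : π₁ e * π₁ (1 - e) = 0 := by
        rw [← map_mul]
        have : e * (1 - e) = e - e * e := by ring
        rw [this, he.eq, sub_self, map_zero]
      have h4 : IsUnit (π₁ e) := by
        rw [← het, hπ₁]
        exact hunit et hetq
      exact (h4.mul_right_eq_zero).1 h3
    let f : ((B ⧸ Ideal.map (algebraMap A B) I) ⧸ Ideal.span {1 - e}) →ₐ[A]
        (Localization.AtPrime q ⧸ (q.under A).map (algebraMap A (Localization.AtPrime q))) :=
      Ideal.Quotient.liftₐ _ π₁ (by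
        intro b hb
        obtain ⟨u, rfl⟩ := Ideal.mem_span_singleton'.1 hb
        rw [map_mul, h2, mul_zero])
    have hf : ∀ b : B, f (toC1 A B I e b) = π b := fun b => rfl
    refine Algebra.QuasiFinite.of_forall_exists_mul_mem_range f fun x => ?_
    obtain ⟨y, rfl⟩ := Ideal.Quotient.mk_surjective x
    obtain ⟨b, ⟨s, hs⟩, rfl⟩ := IsLocalization.exists_mk'_eq q.primeCompl y
    refine ⟨toC1 A B I e s, ?_, ⟨toC1 A B I e b, ?_⟩⟩
    · rw [hf]; exact hunit s hs
    · show f (toC1 A B I e b) = _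
      rw [hf, hf, hπ, hπ, ← map_mul, IsLocalization.mk'_spec]
  obtain ⟨r, hrq, hr, hgood⟩ := Algebra.zariskisMainProperty_iff.1
    (Algebra.ZariskisMainProperty.of_finiteType_of_weaklyQuasiFiniteAt (R := A) q)
  exact ⟨r, hrq, hr, hgood⟩

theorem exists_add_eq_one [Algebra.FiniteType A B] (he : IsIdempotentElem e)
    (hfin : Module.Finite (A ⧸ I) ((B ⧸ Ideal.map (algebraMap A B) I) ⧸ Ideal.span {1 - e})) :
    ∃ c g : integralClosure A B, toC1 A B I e (c : B) = 0 ∧ Good A (g : B) ∧ c + g = 1 := by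
  let ρ : integralClosure A B →+* ((B ⧸ Ideal.map (algebraMap A B) I) ⧸ Ideal.span {1 - e}) :=
    (toC1 A B I e).toRingHom.comp (algebraMap (integralClosure A B) B)
  have hρ : ∀ b : integralClosure A B, ρ b = toC1 A B I e (b : B) := fun b => rfl
  have htop : RingHom.ker ρ ⊔ goodIdeal A B = ⊤ := by
    by_contra hne
    obtain ⟨P, hPmax, hle⟩ := Ideal.exists_le_maximal _ hne
    haveI : P.IsPrime := hPmax.isPrime
    haveI := hfin
    haveI : Module.Finite A ((B ⧸ Ideal.map (algebraMap A B) I) ⧸ Ideal.span {1 - e}) :=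
      Module.Finite.trans (A ⧸ I) _
    letI : Algebra (integralClosure A B)
        ((B ⧸ Ideal.map (algebraMap A B) I) ⧸ Ideal.span {1 - e}) := ρ.toAlgebra
    have hcomp : ρ.comp (algebraMap A (integralClosure A B)) =
        algebraMap A ((B ⧸ Ideal.map (algebraMap A B) I) ⧸ Ideal.span {1 - e}) := by
      ext a
      show ρ (algebraMap A (integralClosure A B) a) = _
      rw [hρ]
      exact (toC1 A B I e).commutes a
    haveI : Algebra.IsIntegral (integralClosure A B)
        ((B ⧸ Ideal.map (algebraMap A B) I) ⧸ Ideal.span {1 - e}) := by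
      refine ⟨fun y => ?_⟩
      obtain ⟨p, hp, hpy⟩ := IsIntegral.of_finite A y
      refine ⟨p.map (algebraMap A (integralClosure A B)), hp.map _, ?_⟩
      show Polynomial.eval₂ ρ y _ = 0
      rw [Polynomial.eval₂_map, hcomp]
      exact hpy
    have hker : (⊥ : Ideal ((B ⧸ Ideal.map (algebraMap A B) I) ⧸ Ideal.span {1 - e})).comap
        (algebraMap (integralClosure A B) _) ≤ P := by
      intro b hb
      apply hle
      apply Ideal.mem_sup_left
      rw [RingHom.mem_ker]
      exact hb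
    obtain ⟨Q, -, hQprime, hQP⟩ := Ideal.exists_ideal_over_prime_of_isIntegral P _ hker
    haveI := hQprime
    obtain ⟨r, hrq, hr, hgood⟩ := zmp_of_prime he hfin Q
    apply hrq
    have h1 : (⟨r, hr⟩ : integralClosure A B) ∈ P := hle (Ideal.mem_sup_right hgood)
    rw [← hQP] at h1
    exact h1
  have h1 : (1 : integralClosure A B) ∈ RingHom.ker ρ ⊔ goodIdeal A B := by
    rw [htop]; trivial
  obtain ⟨c, hc, g, hg, hcg⟩ := Submodule.mem_sup.1 h1
  exact ⟨c, g, hc, hg, hcg⟩

theorem exists_pow_mul_mem_map {g : integralClosure A B} (hg : Good A (g : B)) {y : B}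
    (hy : y ∈ Ideal.map (algebraMap A B) I) :
    ∃ k : ℕ, ∃ z ∈ Ideal.map (algebraMap A (integralClosure A B)) I,
      (z : B) = (g : B) ^ k * y := by
  unfold Ideal.map at hy
  refine Submodule.span_induction (p := fun y _ => ∃ k : ℕ,
    ∃ z ∈ Ideal.map (algebraMap A (integralClosure A B)) I, (z : B) = (g : B) ^ k * y)
    ?_ ?_ ?_ ?_ hy
  · rintro _ ⟨a, ha, rfl⟩
    refine ⟨0, algebraMap A (integralClosure A B) a, Ideal.mem_map_of_mem _ ha, ?_⟩
    rw [pow_zero, one_mul]
    rfl
  · exact ⟨0, 0, zero_mem _, by rw [mul_zero]; rfl⟩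
  · rintro y₁ y₂ _ _ ⟨k₁, z₁, hz₁, e₁⟩ ⟨k₂, z₂, hz₂, e₂⟩
    refine ⟨k₁ + k₂, g ^ k₂ * z₁ + g ^ k₁ * z₂,
      add_mem (Ideal.mul_mem_left _ _ hz₁) (Ideal.mul_mem_left _ _ hz₂), ?_⟩
    rw [Subalgebra.coe_add, Subalgebra.coe_mul, Subalgebra.coe_mul, Subalgebra.coe_pow,
      Subalgebra.coe_pow, e₁, e₂, pow_add]
    ring
  · rintro b y _ ⟨k, z, hz, ez⟩
    obtain ⟨n, hn⟩ := hg b
    refine ⟨n + k, (⟨(g : B) ^ n * b, hn⟩ : integralClosure A B) * z,
      Ideal.mul_mem_left _ _ hz, ?_⟩
    rw [Subalgebra.coe_mul, ez, smul_eq_mul, pow_add]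
    ring

theorem main [Algebra.FiniteType A B] (he : IsIdempotentElem e)
    (hfin : Module.Finite (A ⧸ I) ((B ⧸ Ideal.map (algebraMap A B) I) ⧸ Ideal.span {1 - e})) :
    ∃ g : integralClosure A B,
      IsIdempotentElem (Ideal.Quotient.mk (Ideal.map (algebraMap A (integralClosure A B)) I) g) ∧
      Ideal.Quotient.mk (Ideal.map (algebraMap A B) I) (g : B) = e ∧
      Function.Bijective (algebraMap (Localization.Away g)
        (Localization (Algebra.algebraMapSubmonoid B (Submonoid.powers g)))) := by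
  obtain ⟨c, g, hc, hg, hcg⟩ := exists_add_eq_one he hfin
  -- images in `B/IB`
  set mkB := Ideal.Quotient.mk (Ideal.map (algebraMap A B) I) with hmkB
  have hec : e * mkB (c : B) = 0 := e_mul_eq_zero he hc
  have hcgB : (c : B) + (g : B) = 1 := by
    have := congrArg (fun z : integralClosure A B => (z : B)) hcg
    simpa using this
  have heg : mkB (g : B) * e = e := by
    have : mkB (g : B) = 1 - mkB (c : B) := by
      rw [← map_one mkB, ← hcgB, map_add]; ring
    rw [this, sub_mul, one_mul, mul_comm, hec, sub_zero]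
  have hegn : ∀ n : ℕ, mkB (g : B) ^ n * e = e := by
    intro n
    induction n with
    | zero => rw [pow_zero, one_mul]
    | succ n ih => rw [pow_succ, mul_assoc, heg, ih]
  obtain ⟨et, het⟩ := Ideal.Quotient.mk_surjective e
  obtain ⟨m', hm'⟩ := hg et
  let h₀ : integralClosure A B := ⟨(g : B) ^ m' * et, hm'⟩
  have hh₀ : mkB (h₀ : B) = e := by
    show mkB ((g : B) ^ m' * et) = e
    rw [map_mul, map_pow, het, hegn]
  -- the two elements of `IB ∩ B'`
  have hw₁ : ((c * h₀ : integralClosure A B) : B) ∈ Ideal.map (algebraMap A B) I := by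
    rw [← Ideal.Quotient.eq_zero_iff_mem, Subalgebra.coe_mul, map_mul]
    show mkB (c : B) * mkB (h₀ : B) = 0
    rw [hh₀, mul_comm, hec]
  have hw₂ : ((h₀ * h₀ - h₀ : integralClosure A B) : B) ∈ Ideal.map (algebraMap A B) I := by
    rw [← Ideal.Quotient.eq_zero_iff_mem, Subalgebra.coe_sub, Subalgebra.coe_mul, map_sub, map_mul]
    show mkB (h₀ : B) * mkB (h₀ : B) - mkB (h₀ : B) = 0
    rw [hh₀, he.eq, sub_self]
  obtain ⟨k₁, z₁, hz₁, e₁⟩ := exists_pow_mul_mem_map (I := I) hg hw₁
  obtain ⟨k₂, z₂, hz₂, e₂⟩ := exists_pow_mul_mem_map (I := I) hg hw₂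
  have e₁' : z₁ = g ^ k₁ * (c * h₀) := by
    apply Subtype.ext
    rw [e₁]
    rfl
  have e₂' : z₂ = g ^ k₂ * (h₀ * h₀ - h₀) := by
    apply Subtype.ext
    rw [e₂]
    rfl
  set k := k₁ + k₂ + 1 with hk
  have hkw₁ : g ^ k * (c * h₀) ∈ Ideal.map (algebraMap A (integralClosure A B)) I := by
    have : g ^ k * (c * h₀) = g ^ (k₂ + 1) * z₁ := by
      rw [e₁', hk, show k₁ + k₂ + 1 = (k₂ + 1) + k₁ by ring, pow_add]; ring
    rw [this]
    exact Ideal.mul_mem_left _ _ hz₁
  have hkw₂ : g ^ k * (h₀ * h₀ - h₀) ∈ Ideal.map (algebraMap A (integralClosure A B)) I := by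
    have : g ^ k * (h₀ * h₀ - h₀) = g ^ (k₁ + 1) * z₂ := by
      rw [e₂', hk, show k₁ + k₂ + 1 = (k₁ + 1) + k₂ by ring, pow_add]; ring
    rw [this]
    exact Ideal.mul_mem_left _ _ hz₂
  refine ⟨g ^ k * h₀, ?_, ?_, ?_⟩
  · -- idempotent modulo `IB'`
    show _ * _ = _
    rw [← map_mul, Ideal.Quotient.eq]
    have hgeom : g ^ k - 1 = -(∑ i ∈ Finset.range k, g ^ i) * c := by
      have h1 := geom_sum_mul g k
      have h2 : g - 1 = -c := by rw [← hcg]; ring
      rw [← h1, h2]; ring
    have : g ^ k * h₀ * (g ^ k * h₀) - g ^ k * h₀ =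
        -(∑ i ∈ Finset.range k, g ^ i) * h₀ * (g ^ k * (c * h₀)) + g ^ k * (h₀ * h₀ - h₀) := by
      have : g ^ k * h₀ * (g ^ k * h₀) - g ^ k * h₀ =
          g ^ k * ((g ^ k - 1) * (h₀ * h₀) + (h₀ * h₀ - h₀)) := by ring
      rw [this, hgeom]; ring
    rw [this]
    exact add_mem (Ideal.mul_mem_left _ _ hkw₁) hkw₂
  · rw [Subalgebra.coe_mul, Subalgebra.coe_pow, map_mul, map_pow]
    show mkB (g : B) ^ k * mkB (h₀ : B) = e
    rw [hh₀, hegn]
  · -- `B'_h ≅ B_h`
    have hgoodh : ∀ x : B, ∃ n : ℕ, IsIntegral A (((g ^ k * h₀ : integralClosure A B) : B) ^ n * x) := by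
      intro x
      obtain ⟨n₀, hn₀⟩ := Good.of_le g.2 hg x
      refine ⟨n₀, ?_⟩
      have hle : n₀ ≤ k * n₀ := Nat.le_mul_of_pos_left n₀ (by omega)
      have : ((g ^ k * h₀ : integralClosure A B) : B) ^ n₀ * x =
          (h₀ : B) ^ n₀ * ((g : B) ^ (k * n₀) * x) := by
        rw [Subalgebra.coe_mul, Subalgebra.coe_pow, mul_pow, ← pow_mul]; ring
      rw [this]
      exact (h₀.2.pow n₀).mul (hn₀ _ hle)
    set h : integralClosure A B := g ^ k * h₀ with hh
    constructor
    · exact localizationAlgebra_injective (Localization.Away h)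
        (Localization (Algebra.algebraMapSubmonoid B (Submonoid.powers h)))
        (Subtype.val_injective)
    · intro x
      obtain ⟨b, ⟨s, hs⟩, rfl⟩ := IsLocalization.exists_mk'_eq
        (Algebra.algebraMapSubmonoid B (Submonoid.powers h)) x
      obtain ⟨_, ⟨j, rfl⟩, rfl⟩ := hs
      obtain ⟨n, hn⟩ := hgoodh b
      have hn' : (h : B) ^ n * b ∈ integralClosure A B := hn
      let y : integralClosure A B := ⟨(h : B) ^ n * b, hn'⟩
      have hmem : h ^ (n + j) ∈ Submonoid.powers h :=
        Submonoid.pow_mem _ (Submonoid.mem_powers h) _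
      refine ⟨IsLocalization.mk' (Localization.Away h) y
        (⟨h ^ (n + j), hmem⟩ : Submonoid.powers h), ?_⟩
      show IsLocalization.map (Localization (Algebra.algebraMapSubmonoid B (Submonoid.powers h)))
        (algebraMap (integralClosure A B) B)
        (show _ ≤ (Algebra.algebraMapSubmonoid B (Submonoid.powers h)).comap _ from
          (Submonoid.powers h).le_comap_map) (IsLocalization.mk' (Localization.Away h) y
        (⟨h ^ (n + j), hmem⟩ : Submonoid.powers h)) = _
      rw [IsLocalization.map_mk', IsLocalization.mk'_eq_iff_eq]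
      congr 1
      show (h : B) ^ j * ((h : B) ^ n * b) = ((h ^ (n + j) : integralClosure A B) : B) * b
      rw [Subalgebra.coe_pow, pow_add]; ring

end Main

end Groth.Agent.Lib.ZMTIdemH3
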