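import Mathlib
import Groth.Prelude
import Groth.Agent.Lib.ZMTFin2_helper7
import Groth.Agent.Lib.ProperLim2_helper7

/-!
# Immersion into a finite scheme and the relative normalization (helper7)

`main4807`: a separated morphism of finite type `f : X ⟶ Y` to a qcqs scheme factors as an
immersion followed by a finite morphism iff `X ⟶` (normalization of `Y` in `X`) is an immersion.
-/

set_option autoImplicit false
set_option linter.style.haveILetI false
universe u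
open CategoryTheory CategoryTheory.Limits AlgebraicGeometry TopologicalSpace Opposite

namespace Groth.Agent.Lib.ZMTFinH7
open Groth.Agent.Lib.IdealFTH7 Groth.Agent.Lib.IntegralImageH7 Groth.Agent.Lib.LimCIStageH7
  Groth.Agent.Lib.ProperLim2H7

theorem isImmersion_of_closed {X Y : Scheme.{u}} (f : X ⟶ Y) (h : IsClosedImmersion f) :
    IsImmersion f := inferInstance

/-- A closed subscheme, locally of finite type over `S`, of a limit of `S`-schemes is a closed
subscheme of some stage. -/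
theorem exists_stage_closedImmersion {J : Type u} [SmallCategory J] [IsCofiltered J]
    (L : J ⥤ Scheme.{u}) [∀ {i j : J} (a : i ⟶ j), IsAffineHom (L.map a)]
    [∀ k, CompactSpace (L.obj k)] [∀ k, QuasiSeparatedSpace (L.obj k)]
    (cL : Cone L) (hcL : IsLimit cL) {X S : Scheme.{u}} (a₁ : X ⟶ cL.pt)
    (ha₁ : IsClosedImmersion a₁) (t : ∀ k, L.obj k ⟶ S)
    (ht : ∀ {k k' : J} (φ : k ⟶ k'), L.map φ ≫ t k' = t k) (f : X ⟶ S) [LocallyOfFiniteType f]
    (hf : ∀ k, a₁ ≫ cL.π.app k ≫ t k = f) : ∃ k, IsClosedImmersion (a₁ ≫ cL.π.app k) := by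
  haveI hAffL : ∀ (i j : J) (a : i ⟶ j), IsAffineHom (L.map a) := fun _ _ a => inferInstance
  obtain ⟨cX, hcX, eX, hcomp⟩ := exists_limit_images L cL a₁ hcL ha₁
  obtain ⟨s, hsdef⟩ : ∃ s : ∀ k : J, (imgDiagram L cL a₁).obj k ⟶ S,
      s = fun k : J => (imgι L cL a₁).app k ≫ t k := ⟨_, rfl⟩
  have hs : ∀ {k k' : J} (φ : k ⟶ k'), (imgDiagram L cL a₁).map φ ≫ s k' = s k := by
    intro k k' φ
    rw [hsdef]
    show (imgDiagram L cL a₁).map φ ≫ (imgι L cL a₁).app k' ≫ t k' = (imgι L cL a₁).app k ≫ t k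
    rw [← Category.assoc, (imgι L cL a₁).naturality φ, Category.assoc, ht]
  have hf' : ∀ k : J, cX.π.app k ≫ s k = eX.hom ≫ f := by
    intro k
    rw [hsdef]
    show cX.π.app k ≫ (imgι L cL a₁).app k ≫ t k = eX.hom ≫ f
    rw [← Category.assoc, hcomp k, Category.assoc, Category.assoc, hf]
  haveI : LocallyOfFiniteType (eX.hom ≫ f) := inferInstance
  haveI : ∀ k : J, CompactSpace ((imgDiagram L cL a₁).obj k) := fun k =>
    QuasiCompact.compactSpace_of_compactSpace ((imgι L cL a₁).app k)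
  obtain ⟨k, hk⟩ := exists_isClosedImmersion_π (imgDiagram L cL a₁) cX hcX s hs (eX.hom ≫ f) hf'
  haveI := hk
  refine ⟨k, ?_⟩
  have hm : a₁ ≫ cL.π.app k = eX.inv ≫ cX.π.app k ≫ (imgι L cL a₁).app k := by
    rw [hcomp k, Iso.inv_hom_id_assoc]
  rw [hm]
  infer_instance

/-- The core limit argument for immersions. -/
theorem core_imm' {X S : Scheme.{u}} [CompactSpace S] [QuasiSeparatedSpace S] (f : X ⟶ S)
    [LocallyOfFiniteType f] [QuasiCompact f]
    {K : Type u} [SmallCategory K] [IsCofiltered K] (E : K ⥤ Scheme.{u})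
    [∀ {i j : K} (a : i ⟶ j), IsAffineHom (E.map a)] (cE : Cone E) (hcE : IsLimit cE)
    (j₀ : X ⟶ cE.pt) [IsImmersion j₀] (ν : cE.pt ⟶ S) [IsIntegralHom ν] (hfac : j₀ ≫ ν = f)
    (g : ∀ k, E.obj k ⟶ S) (hg : ∀ {i j : K} (a : i ⟶ j), E.map a ≫ g j = g i)
    (hgc : ∀ k, cE.π.app k ≫ g k = ν) [∀ k, IsAffineHom (g k)]
    [∀ k, LocallyOfFinitePresentation (g k)] :
    ∃ (Z : Scheme.{u}) (i : X ⟶ Z) (p : Z ⟶ S), IsImmersion i ∧ IsFinite p ∧
      LocallyOfFinitePresentation p ∧ i ≫ p = f := by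
  classical
  haveI : CompactSpace X := QuasiCompact.compactSpace_of_compactSpace f
  haveI : ∀ k, CompactSpace (E.obj k) := fun k =>
    QuasiCompact.compactSpace_of_compactSpace (g k)
  haveI : ∀ k, QuasiSeparatedSpace (E.obj k) := fun k =>
    quasiSeparatedSpace_of_quasiSeparated (g k)
  haveI hAffE : ∀ (i j : K) (a : i ⟶ j), IsAffineHom (E.map a) := fun _ _ a => inferInstance
  -- a compact open `U` in which `X` is closed
  have hcov : ∀ x : X, ∃ O : cE.pt.Opens, IsAffineOpen O ∧ j₀ x ∈ O ∧ O ≤ j₀.coborderRange := by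
    intro x
    have hx : j₀ x ∈ (j₀.coborderRange : Set cE.pt) := subset_coborder ⟨x, rfl⟩
    obtain ⟨_, ⟨O, hO, rfl⟩, hxO, hOW⟩ :=
      cE.pt.isBasis_affineOpens.exists_subset_of_mem_open hx j₀.coborderRange.2
    exact ⟨O, hO, hxO, hOW⟩
  choose O hOaff hxO hOW using hcov
  obtain ⟨t, ht⟩ := isCompact_univ.elim_finite_subcover (fun x => ((j₀ ⁻¹ᵁ O x : X.Opens) : Set X))
    (fun x => (j₀ ⁻¹ᵁ O x).isOpen) (fun x _ => Set.mem_iUnion.mpr ⟨x, hxO x⟩)
  obtain ⟨U, hUdef⟩ : ∃ U : cE.pt.Opens, U = ⨆ x ∈ t, O x := ⟨_, rfl⟩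
  have hUc : IsCompact (U : Set cE.pt) := by
    rw [hUdef]
    simp only [TopologicalSpace.Opens.coe_iSup]
    exact t.isCompact_biUnion (fun x _ => (hOaff x).isCompact)
  have hUW : U ≤ j₀.coborderRange := by
    rw [hUdef]
    exact iSup₂_le (fun x _ => hOW x)
  have hrangeU : Set.range j₀ ⊆ (U : Set cE.pt) := by
    rintro _ ⟨x, rfl⟩
    obtain ⟨x', hx'⟩ := Set.mem_iUnion.mp (ht (Set.mem_univ x))
    obtain ⟨hx't, hx'x⟩ := Set.mem_iUnion.mp hx'
    rw [hUdef]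
    simp only [TopologicalSpace.Opens.coe_iSup, Set.mem_iUnion]
    exact ⟨x', hx't, hx'x⟩
  obtain ⟨a₀, ha₀⟩ : ∃ a₀ : X ⟶ (U : Scheme.{u}), a₀ ≫ U.ι = j₀ :=
    ⟨IsOpenImmersion.lift U.ι j₀ (by rw [Scheme.Opens.range_ι]; exact hrangeU),
      IsOpenImmersion.lift_fac _ _ _⟩
  haveI : IsClosedImmersion a₀ := by
    have e : a₀ ≫ cE.pt.homOfLE hUW = j₀.liftCoborder := by
      rw [← cancel_mono j₀.coborderRange.ι, Category.assoc, Scheme.homOfLE_ι, ha₀,
        j₀.liftCoborder_ι]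
    haveI : IsClosedImmersion (a₀ ≫ cE.pt.homOfLE hUW) := by
      rw [e]
      infer_instance
    exact IsClosedImmersion.of_comp a₀ (cE.pt.homOfLE hUW)
  obtain ⟨i, V, hVc, hVU⟩ := exists_preimage_eq E cE hcE U hUc
  haveI : ∀ k : Over i, CompactSpace ((opensDiagram E i V).obj k) := fun k =>
    isCompact_iff_compactSpace.mp ((E.map k.hom).isCompact_preimage hVc)
  haveI : ∀ k : Over i, QuasiSeparatedSpace ((opensDiagram E i V).obj k) := fun k => by
    show QuasiSeparatedSpace ↥((E.map k.hom ⁻¹ᵁ V : (E.obj k.left).Opens) : Scheme.{u})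
    exact (E.map k.hom ⁻¹ᵁ V).ι.isOpenEmbedding.quasiSeparatedSpace
  obtain ⟨a₁, ha₁cl, ha₁⟩ : ∃ a₁ : X ⟶ ((cE.π.app i ⁻¹ᵁ V : cE.pt.Opens) : Scheme.{u}),
      IsClosedImmersion a₁ ∧ a₁ ≫ (cE.π.app i ⁻¹ᵁ V).ι = j₀ :=
    ⟨a₀ ≫ (cE.pt.isoOfEq hVU.symm).hom, inferInstance, by
      have h1 := Scheme.isoOfEq_hom_ι cE.pt hVU.symm
      rw [Category.assoc]
      exact (congrArg (a₀ ≫ ·) h1).trans ha₀⟩
  have ht' : ∀ {k k' : Over i} (φ : k ⟶ k'), (opensDiagram E i V).map φ ≫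
      (E.map k'.hom ⁻¹ᵁ V).ι ≫ g k'.left = (E.map k.hom ⁻¹ᵁ V).ι ≫ g k.left := by
    intro k k' φ
    show (E.map φ.left).resLE _ _ _ ≫ (E.map k'.hom ⁻¹ᵁ V).ι ≫ g k'.left = _
    rw [Scheme.Hom.resLE_comp_ι_assoc, hg]
  have hf' : ∀ k : Over i, a₁ ≫ (opensCone E cE i V).π.app k ≫
      (E.map k.hom ⁻¹ᵁ V).ι ≫ g k.left = f := by
    intro k
    show a₁ ≫ (cE.π.app k.left).resLE _ _ _ ≫ (E.map k.hom ⁻¹ᵁ V).ι ≫ g k.left = f
    rw [Scheme.Hom.resLE_comp_ι_assoc, hgc, ← Category.assoc, ha₁, hfac]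
  obtain ⟨k, hk⟩ := exists_stage_closedImmersion (opensDiagram E i V) (opensCone E cE i V)
    (isLimitOpensCone E cE hcE i V) a₁ ha₁cl
    (fun k => (E.map k.hom ⁻¹ᵁ V).ι ≫ g k.left) ht' f hf'
  -- the immersion into the stage
  have hm : j₀ ≫ cE.π.app k.left =
      (a₁ ≫ (opensCone E cE i V).π.app k) ≫ (E.map k.hom ⁻¹ᵁ V).ι := by
    show _ = (a₁ ≫ (cE.π.app k.left).resLE _ _ _) ≫ (E.map k.hom ⁻¹ᵁ V).ι
    rw [Category.assoc, Scheme.Hom.resLE_comp_ι, ← Category.assoc, ha₁]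
  haveI : IsImmersion (j₀ ≫ cE.π.app k.left) := by
    rw [hm]
    have h1 : IsImmersion (a₁ ≫ (opensCone E cE i V).π.app k) :=
      isImmersion_of_closed _ hk
    have h2 : IsImmersion (E.map k.hom ⁻¹ᵁ V).ι := inferInstance
    exact MorphismProperty.comp_mem (W := @IsImmersion) _ _ h1 h2
  haveI : IsIntegralHom (cE.π.app k.left ≫ g k.left) := by
    rw [hgc]
    infer_instance
  obtain ⟨J, -, hJK, hJft, hJfin⟩ :=
    exists_finite_ft (cE.π.app k.left) (g k.left) ⊥ bot_le ft_bot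
  haveI := lfp_of_ft J hJft
  have hker : J.subschemeι.ker ≤ (j₀ ≫ cE.π.app k.left).ker := by
    rw [Scheme.IdealSheafData.ker_subschemeι]
    exact hJK.trans (Scheme.Hom.le_ker_comp j₀ (cE.π.app k.left))
  obtain ⟨m₁, hm₁⟩ : ∃ m₁ : X ⟶ J.subscheme, m₁ ≫ J.subschemeι = j₀ ≫ cE.π.app k.left :=
    ⟨IsClosedImmersion.lift J.subschemeι _ hker, IsClosedImmersion.lift_fac _ _ _⟩
  haveI : IsImmersion (m₁ ≫ J.subschemeι) := by
    rw [hm₁]
    infer_instance
  refine ⟨J.subscheme, m₁, J.subschemeι ≫ g k.left, IsImmersion.of_comp m₁ J.subschemeι, hJfin,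
    inferInstance, ?_⟩
  rw [← Category.assoc, hm₁, Category.assoc, hgc, hfac]

/-- The core limit argument for immersions, with the limit identified up to isomorphism. -/
theorem core_imm {X S N : Scheme.{u}} [CompactSpace S] [QuasiSeparatedSpace S] (f : X ⟶ S)
    [LocallyOfFiniteType f] [QuasiCompact f]
    {K : Type u} [SmallCategory K] [IsCofiltered K] (E : K ⥤ Scheme.{u})
    [∀ {i j : K} (a : i ⟶ j), IsAffineHom (E.map a)] (cE : Cone E) (hcE : IsLimit cE)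
    (j₀ : X ⟶ N) [IsImmersion j₀] (ν : N ⟶ S) [IsIntegralHom ν] (hfac : j₀ ≫ ν = f)
    (eN : cE.pt ≅ N)
    (g : ∀ k, E.obj k ⟶ S) (hg : ∀ {i j : K} (a : i ⟶ j), E.map a ≫ g j = g i)
    (hgc : ∀ k, cE.π.app k ≫ g k = eN.hom ≫ ν) [∀ k, IsAffineHom (g k)]
    [∀ k, LocallyOfFinitePresentation (g k)] :
    ∃ (Z : Scheme.{u}) (i : X ⟶ Z) (p : Z ⟶ S), IsImmersion i ∧ IsFinite p ∧
      LocallyOfFinitePresentation p ∧ i ≫ p = f := by
  haveI : IsImmersion (j₀ ≫ eN.inv) := inferInstance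
  haveI : IsIntegralHom (eN.hom ≫ ν) := inferInstance
  exact core_imm' f E cE hcE (j₀ ≫ eN.inv) (eN.hom ≫ ν)
    (by rw [Category.assoc, Iso.inv_hom_id_assoc, hfac]) g hg hgc

attribute [local instance] IsCofiltered.isConnected in
/-- If `X ⟶ N` is an immersion with `N` integral over the qcqs scheme `S` and `X ⟶ S` of finite
type, then `X` is a subscheme of a finite `S`-scheme of finite presentation. -/
theorem exists_immersion_of_integral {X S N : Scheme.{u}} (f : X ⟶ S) [CompactSpace S]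
    [QuasiSeparatedSpace S] [LocallyOfFiniteType f] [QuasiCompact f]
    (j₀ : X ⟶ N) [IsImmersion j₀] (ν : N ⟶ S) [IsIntegralHom ν] (hfac : j₀ ≫ ν = f) :
    ∃ (Z : Scheme.{u}) (i : X ⟶ Z) (p : Z ⟶ S), IsImmersion i ∧ IsFinite p ∧
      LocallyOfFinitePresentation p ∧ i ≫ p = f := by
  haveI : CompactSpace N := QuasiCompact.compactSpace_of_compactSpace ν
  haveI : QuasiSeparatedSpace N := quasiSeparatedSpace_of_quasiSeparated ν
  obtain ⟨I, iC, iF, D, c, hc, h1, ⟨e⟩⟩ :=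
    (Groth.Agent.Lib.NApxN_helper7.main17885 ν).1 inferInstance
  have hc1 : IsLimit ((Over.forget S).mapCone c) := isLimitOfPreserves (Over.forget S) hc
  have hsep : ∀ i, IsSeparated (D.obj i).hom := fun i => by
    haveI := (h1 i).1
    infer_instance
  haveI hAff : ∀ {i j : Iᵒᵖ} (a : i ⟶ j), IsAffineHom ((D ⋙ Over.forget S).map a) := by
    intro i j a
    have h3 : (D.map a).left ≫ (D.obj j).hom = (D.obj i).hom := Over.w (D.map a)
    have h4 : IsAffineHom ((D.map a).left ≫ (D.obj j).hom) := by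
      rw [h3]
      exact (h1 i).1
    exact @IsAffineHom.of_comp _ _ _ (D.map a).left (D.obj j).hom h4 (hsep j)
  haveI : ∀ k : Iᵒᵖ, @IsAffineHom ((D ⋙ Over.forget S).obj k) S (D.obj k).hom :=
    fun k => (h1 k).1
  haveI : ∀ k : Iᵒᵖ, @LocallyOfFinitePresentation ((D ⋙ Over.forget S).obj k) S (D.obj k).hom :=
    fun k => (h1 k).2
  exact core_imm f (D ⋙ Over.forget S) ((Over.forget S).mapCone c) hc1 j₀ ν hfac
    ((Over.forget S).mapIso e) (fun k => (D.obj k).hom) (fun a => Over.w (D.map a))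
    (fun k => (Over.w (c.π.app k)).trans (Over.w e.hom).symm)

/-- **S4807** -/
theorem main4807 {X Y : Scheme.{u}} (f : X ⟶ Y)
    [CompactSpace Y] [QuasiSeparatedSpace Y] [IsSeparated f] [LocallyOfFiniteType f]
    [QuasiCompact f] :
    (∃ (Y' : Scheme.{u}) (f' : X ⟶ Y') (u : Y' ⟶ Y), IsImmersion f' ∧ IsFinite u ∧ f' ≫ u = f) ↔
      IsImmersion f.toNormalization := by
  constructor
  · rintro ⟨Y', f', u, hf', hu, hfu⟩
    haveI := hf'
    haveI := hu
    haveI : IsImmersion (f.toNormalization ≫ f.normalizationDesc f' u hfu.symm) := by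
      rw [f.toNormalization_normalizationDesc]
      infer_instance
    exact IsImmersion.of_comp f.toNormalization (f.normalizationDesc f' u hfu.symm)
  · intro h
    obtain ⟨Z, i, p, hi, hp, -, hip⟩ := exists_immersion_of_integral f f.toNormalization
      f.fromNormalization f.toNormalization_fromNormalization
    exact ⟨Z, i, p, hi, hp, hip⟩

end Groth.Agent.Lib.ZMTFinH7
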