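import Mathlib

/-! A local, essentially finite type algebra with zero-dimensional closed fibre and finite residue
field extension is the localization of a finite algebra at a prime (via Zariski's main theorem). -/

namespace Groth.Agent.Lib.ZMTLocal

open TensorProduct

universe u

/-- If `S'[1/r] → T[1/r]` is surjective then every element of `T` is in `S'` after multiplying
by a power of `r`. -/
theorem exists_pow_mul_mem {R T : Type*} [CommRing R] [CommRing T] [Algebra R T]
    (S' : Subalgebra R T) (r : S')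
    (hsurj : Function.Surjective (Localization.awayMap S'.val.toRingHom r)) (t : T) :
    ∃ (n : ℕ) (a : S'), (r : T) ^ n * t = a := by
  obtain ⟨x, hx⟩ := hsurj (algebraMap T _ t)
  obtain ⟨a, ⟨_, n, rfl⟩, rfl⟩ := IsLocalization.exists_mk'_eq (Submonoid.powers r) x
  rw [Localization.awayMap, IsLocalization.Away.map, IsLocalization.map_mk',
    IsLocalization.mk'_eq_iff_eq_mul, ← map_mul] at hx
  obtain ⟨⟨_, k, rfl⟩, hk⟩ := (IsLocalization.eq_iff_exists
    (Submonoid.powers (S'.val.toRingHom r)) _).mp hx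
  refine ⟨k + n, r ^ k * a, ?_⟩
  simp only [AlgHom.toRingHom_eq_coe, RingHom.coe_coe, Subalgebra.coe_val, map_pow] at hk
  simp only [Subalgebra.coe_mul, Subalgebra.coe_pow]
  rw [hk, pow_add]
  ring

/-- Descending a localization at a prime from `T` to a subalgebra `S'` with `S'[1/r] = T[1/r]`. -/
theorem isLocalization_atPrime_of_away {R T S : Type*} [CommRing R] [CommRing T] [Algebra R T]
    [CommRing S] [Algebra T S] (q : Ideal T) [q.IsPrime] [IsLocalization.AtPrime S q]
    (S' : Subalgebra R T) (r : S') (hr : (r : T) ∉ q)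
    (hsurj : Function.Surjective (Localization.awayMap S'.val.toRingHom r)) :
    letI : Algebra S' S := ((algebraMap T S).comp S'.val.toRingHom).toAlgebra
    IsLocalization.AtPrime S (q.comap S'.val.toRingHom) := by
  letI : Algebra S' S := ((algebraMap T S).comp S'.val.toRingHom).toAlgebra
  have halg : ∀ x : S', algebraMap S' S x = algebraMap T S (x : T) := fun x => rfl
  have hmem : ∀ x : S', x ∈ q.comap S'.val.toRingHom ↔ (x : T) ∈ q := fun x => Iff.rfl
  have hrn : ∀ n : ℕ, (r : T) ^ n ∉ q := fun n h => hr (Ideal.IsPrime.mem_of_pow_mem ‹_› n h)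
  refine ⟨⟨?_, ?_, ?_⟩⟩
  · rintro ⟨y, hy⟩
    rw [halg]
    exact IsLocalization.map_units (M := q.primeCompl) S ⟨(y : T), fun h => hy ((hmem y).mpr h)⟩
  · intro z
    obtain ⟨⟨t, ⟨u, hu⟩⟩, hz⟩ := IsLocalization.surj q.primeCompl z
    obtain ⟨n₁, a₁, h₁⟩ := exists_pow_mul_mem S' r hsurj t
    obtain ⟨n₂, a₂, h₂⟩ := exists_pow_mul_mem S' r hsurj u
    have hy : (r ^ n₁ * a₂ : S') ∉ q.comap S'.val.toRingHom := by
      rw [hmem]
      simp only [Subalgebra.coe_mul, Subalgebra.coe_pow]
      rw [← h₂, ← mul_assoc]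
      exact fun h => (Ideal.IsPrime.mem_or_mem ‹_› h).elim
        (fun h' => (Ideal.IsPrime.mem_or_mem ‹_› h').elim (hrn _) (hrn _)) hu
    refine ⟨⟨r ^ n₂ * a₁, ⟨r ^ n₁ * a₂, hy⟩⟩, ?_⟩
    simp only [halg, Subalgebra.coe_mul, Subalgebra.coe_pow]
    simp only at hz
    rw [← h₁, ← h₂, show (r : T) ^ n₁ * ((r : T) ^ n₂ * u) = ((r : T) ^ n₁ * (r : T) ^ n₂) * u by ring,
      show (r : T) ^ n₂ * ((r : T) ^ n₁ * t) = ((r : T) ^ n₁ * (r : T) ^ n₂) * t by ring,
      map_mul, map_mul (algebraMap T S) _ t, ← hz]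
    ring
  · intro x y hxy
    rw [halg, halg] at hxy
    obtain ⟨⟨u, hu⟩, hu'⟩ := (IsLocalization.eq_iff_exists q.primeCompl S).mp hxy
    obtain ⟨n, a, ha⟩ := exists_pow_mul_mem S' r hsurj u
    have hy : a ∉ q.comap S'.val.toRingHom := by
      rw [hmem, ← ha]
      exact fun h => (Ideal.IsPrime.mem_or_mem ‹_› h).elim (hrn _) hu
    refine ⟨⟨a, hy⟩, Subtype.ext ?_⟩
    simp only [Subalgebra.coe_mul]
    simp only at hu'
    rw [← ha, mul_assoc, hu', mul_assoc]

section main

variable (R S : Type u) [CommRing R] [CommRing S]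
    [IsLocalRing R] [IsLocalRing S] [Algebra R S] [IsLocalHom (algebraMap R S)]
    [Algebra.EssFiniteType R S]

theorem finite_quot
    (hres : Module.Finite (IsLocalRing.ResidueField R) (IsLocalRing.ResidueField S))
    (hdim : ringKrullDim (S ⧸ (IsLocalRing.maximalIdeal R).map (algebraMap R S)) = 0) :
    Module.Finite R (S ⧸ (IsLocalRing.maximalIdeal R).map (algebraMap R S)) := by
  set I := (IsLocalRing.maximalIdeal R).map (algebraMap R S) with hIdef
  have hIle : I ≤ IsLocalRing.maximalIdeal S :=
    ((IsLocalRing.local_hom_TFAE (algebraMap R S)).out 0 2).mp ‹IsLocalHom (algebraMap R S)›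
  have hI : I ≠ ⊤ := fun h => (IsLocalRing.maximalIdeal.isMaximal S).ne_top (top_le_iff.mp (h ▸ hIle))
  haveI : Nontrivial (S ⧸ I) := Ideal.Quotient.nontrivial_iff.mpr hI
  haveI : IsLocalRing (S ⧸ I) :=
    IsLocalRing.of_surjective' (Ideal.Quotient.mk I) Ideal.Quotient.mk_surjective
  haveI : IsNoetherianRing (S ⧸ I) := by
    letI : Field (R ⧸ IsLocalRing.maximalIdeal R) := Ideal.Quotient.field _
    haveI : Algebra.EssFiniteType (R ⧸ IsLocalRing.maximalIdeal R) ((R ⧸ IsLocalRing.maximalIdeal R) ⊗[R] S) :=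
      inferInstance
    haveI : IsNoetherianRing ((R ⧸ IsLocalRing.maximalIdeal R) ⊗[R] S) :=
      Algebra.EssFiniteType.isNoetherianRing (R ⧸ IsLocalRing.maximalIdeal R) _
    let e : (S ⧸ I) ≃ₐ[S] S ⊗[R] (R ⧸ IsLocalRing.maximalIdeal R) :=
      Algebra.TensorProduct.quotIdealMapEquivTensorQuot S (IsLocalRing.maximalIdeal R)
    let e' : (S ⊗[R] (R ⧸ IsLocalRing.maximalIdeal R)) ≃ₐ[R] ((R ⧸ IsLocalRing.maximalIdeal R) ⊗[R] S) :=
      Algebra.TensorProduct.comm R S _
    exact isNoetherianRing_of_ringEquiv _ (e.toRingEquiv.trans e'.toRingEquiv).symm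
  haveI : Ring.KrullDimLE 0 (S ⧸ I) := by
    rw [Ring.krullDimLE_iff]
    exact hdim.le
  haveI : Module.Finite R (IsLocalRing.ResidueField R) :=
    Module.Finite.of_surjective (Algebra.linearMap R (IsLocalRing.ResidueField R)) IsLocalRing.residue_surjective
  haveI : Module.Finite R (IsLocalRing.ResidueField S) := Module.Finite.trans (IsLocalRing.ResidueField R) _
  let f : (S ⧸ I) →ₐ[R] IsLocalRing.ResidueField S :=
    Ideal.Quotient.liftₐ I (IsScalarTower.toAlgHom R S (IsLocalRing.ResidueField S)) (fun a ha => by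
      simpa using (IsLocalRing.residue_eq_zero_iff a).mpr (hIle ha))
  refine Module.finite_of_surjective_of_ker_le_nilradical f ?_ ?_ (IsNoetherian.noetherian _)
  · intro x
    obtain ⟨s, rfl⟩ := IsLocalRing.residue_surjective x
    exact ⟨Ideal.Quotient.mk I s, by simp [f]⟩
  · rw [Ring.KrullDimLE.nilradical_eq_maximalIdeal]
    intro x hx
    by_contra hnot
    have hu : IsUnit x := by
      by_contra h2
      exact hnot ((IsLocalRing.mem_maximalIdeal x).mpr h2)
    have := (hu.map f)
    rw [RingHom.mem_ker.mp hx] at this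
    exact not_isUnit_zero this

theorem submonoid_eq :
    Algebra.EssFiniteType.submonoid R S =
      ((IsLocalRing.maximalIdeal S).comap
        (algebraMap (Algebra.EssFiniteType.subalgebra R S) S)).primeCompl := by
  ext t
  change IsUnit (algebraMap (Algebra.EssFiniteType.subalgebra R S) S t) ↔
    t ∉ (IsLocalRing.maximalIdeal S).comap (algebraMap (Algebra.EssFiniteType.subalgebra R S) S)
  rw [Ideal.mem_comap, IsLocalRing.mem_maximalIdeal, mem_nonunits_iff, not_not]

instance isLocalization_atPrime :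
    IsLocalization.AtPrime S ((IsLocalRing.maximalIdeal S).comap
        (algebraMap (Algebra.EssFiniteType.subalgebra R S) S)) := by
  have h : IsLocalization (Algebra.EssFiniteType.submonoid R S) S := inferInstance
  rw [submonoid_eq] at h
  exact h

theorem under_eq :
    ((IsLocalRing.maximalIdeal S).comap
        (algebraMap (Algebra.EssFiniteType.subalgebra R S) S)).under R =
      IsLocalRing.maximalIdeal R := by
  rw [Ideal.under, Ideal.comap_comap, ← IsScalarTower.algebraMap_eq]
  exact ((IsLocalRing.local_hom_TFAE (algebraMap R S)).out 0 4).mp ‹IsLocalHom (algebraMap R S)›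

theorem quasiFiniteAt
    (hres : Module.Finite (IsLocalRing.ResidueField R) (IsLocalRing.ResidueField S))
    (hdim : ringKrullDim (S ⧸ (IsLocalRing.maximalIdeal R).map (algebraMap R S)) = 0) :
    Algebra.QuasiFiniteAt R ((IsLocalRing.maximalIdeal S).comap
        (algebraMap (Algebra.EssFiniteType.subalgebra R S) S)) := by
  set T := Algebra.EssFiniteType.subalgebra R S
  set q := (IsLocalRing.maximalIdeal S).comap (algebraMap T S) with hq
  haveI : Module.Finite R (S ⧸ (IsLocalRing.maximalIdeal R).map (algebraMap R S)) :=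
    finite_quot R S hres hdim
  let e : S ≃ₐ[R] Localization.AtPrime q :=
    (IsLocalization.algEquiv q.primeCompl S (Localization.AtPrime q)).restrictScalars R
  have hmap : (q.under R).map (algebraMap R (Localization.AtPrime q)) =
      ((IsLocalRing.maximalIdeal R).map (algebraMap R S)).map (e : S →+* Localization.AtPrime q) := by
    rw [under_eq, Ideal.map_map]
    congr 1
    ext x
    exact (e.commutes x).symm
  haveI : Algebra.WeaklyQuasiFiniteAt R q := by
    rw [Algebra.weaklyQuasiFiniteAt_iff]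
    exact (Algebra.QuasiFinite.iff_of_algEquiv
      (Ideal.quotientEquivAlg _ _ e hmap)).mp inferInstance
  exact Algebra.QuasiFiniteAt.of_weaklyQuasiFiniteAt q


theorem exists_finite_localization
    (hres : Module.Finite (IsLocalRing.ResidueField R) (IsLocalRing.ResidueField S))
    (hdim : ringKrullDim (S ⧸ (IsLocalRing.maximalIdeal R).map (algebraMap R S)) = 0) :
    ∃ (S' : Type u) (_ : CommRing S') (_ : Algebra R S') (_ : Algebra S' S) (_ : IsScalarTower R S' S)
      (q : Ideal S') (_ : q.IsPrime), Module.Finite R S' ∧ IsLocalization.AtPrime S q := by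
  set T := Algebra.EssFiniteType.subalgebra R S
  set q := (IsLocalRing.maximalIdeal S).comap (algebraMap T S) with hq
  haveI : Algebra.QuasiFiniteAt R q := quasiFiniteAt R S hres hdim
  obtain ⟨S', hfg, r, hr, hbij⟩ :=
    Algebra.QuasiFiniteAt.exists_fg_and_exists_notMem_and_awayMap_bijective (R := R) q
  letI alg : Algebra S' S := ((algebraMap T S).comp S'.val.toRingHom).toAlgebra
  have htow : IsScalarTower R S' S := IsScalarTower.of_algebraMap_eq (fun x => rfl)
  have hfin : Module.Finite R S' := (Module.Finite.iff_fg (N := S'.toSubmodule)).mpr hfg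
  exact ⟨S', inferInstance, inferInstance, alg, htow, q.comap S'.val.toRingHom,
    inferInstance, hfin, isLocalization_atPrime_of_away q S' r hr hbij.2⟩

end main

end Groth.Agent.Lib.ZMTLocal
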