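import Mathlib
import Groth.Prelude
import Groth.Agent.Lib.ZClos8_helper8
import Groth.Agent.Lib.RestrStalk1_helper8

set_option autoImplicit false
universe u

/-!
# The Z-closure commutes with restriction along open immersions (helper5)

Generalises helper8's `ZClos8_helper8` (restriction to an open subscheme `V.ι`) to an arbitrary
open immersion `j : U ⟶ X`, and deduces
`H⁰_{U/j⁻¹Z}(F|_U) ≅ (H⁰_{X/Z}(F))|_U`.
APPEND-ONLY once landed.
-/

namespace Groth.Agent.Lib.ZResH5

open CategoryTheory CategoryTheory.Limits AlgebraicGeometry TopologicalSpace Opposite ZClosH8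

variable {U X : Scheme.{u}} (j : U ⟶ X) [IsOpenImmersion j] (Z : Set X) (F : X.Modules)

/-- The preimage under `j` of a closed subset contained in `Z`. -/
def ClPre (T : ZClos.Cl Z) : ZClos.Cl (X := U) (j.base ⁻¹' Z) :=
  ⟨⟨j.base ⁻¹' (T.1 : Set X), T.1.isClosed.preimage j.continuous⟩, fun _ hy => T.2 hy⟩

theorem ClPre_U (T : ZClos.Cl Z) : (ClPre j Z T).U = j ⁻¹ᵁ T.U := rfl

theorem res_restrict {O O' : U.Opens} (h : O' ≤ O) :
    res ((Scheme.Modules.restrictFunctor j).obj F) h = res F (j.image_mono h) := by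
  have h1 : ((Scheme.Modules.restrictFunctor j).obj F).presheaf.map (homOfLE h).op =
      F.presheaf.map (j.opensFunctor.map (homOfLE h)).op :=
    Scheme.Modules.restrict_map F j (homOfLE h)
  exact h1.trans (congrArg (fun i => F.presheaf.map (Quiver.Hom.op i)) (Subsingleton.elim _ _))

theorem stable_preimage (hZ : StableUnderSpecialization Z) :
    StableUnderSpecialization (j.base ⁻¹' Z) :=
  fun _ _ h hy => hZ (h.map j.continuous) hy

variable [IsLocallyNoetherian X]

/-- For a closed subset `T'` of `U` contained in `j⁻¹ Z` and a quasi-compact open `O'` of `U`, there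
is a closed subset `T` of `X` contained in `Z` with `j(O') ∖ T ⊆ j(O' ∖ T')`. -/
theorem exists_Cl_of_restrict (hZ : StableUnderSpecialization Z)
    (T' : ZClos.Cl (X := U) (j.base ⁻¹' Z)) (O' : U.Opens) (hO' : IsCompact (O' : Set U)) :
    IsCompact ((j ''ᵁ O' : X.Opens) : Set X) ∧
      ∃ T : ZClos.Cl Z, j ''ᵁ O' ⊓ T.U ≤ j ''ᵁ (O' ⊓ T'.U) := by
  have hO : IsCompact ((j ''ᵁ O' : X.Opens) : Set X) := hO'.image j.continuous
  refine ⟨hO, ?_⟩
  obtain ⟨T, hT⟩ := exists_Cl_le hZ (j ''ᵁ O') hO (j ''ᵁ (O' ⊓ T'.U)) (by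
    rintro _ ⟨y', hy', rfl⟩ hyZ
    refine ⟨y', ⟨hy', ?_⟩, rfl⟩
    intro hyT
    exact hyZ (T'.2 hyT))
  refine ⟨T, ?_⟩
  rw [inf_comm]
  exact hT

theorem isZClosed_restrict (hZ : StableUnderSpecialization Z) (h : ZClos.IsZClosed Z F) :
    ZClos.IsZClosed (X := U) (j.base ⁻¹' Z) ((Scheme.Modules.restrictFunctor j).obj F) := by
  rw [isZClosed_iff_compact]
  intro T' O' hO'
  obtain ⟨hO, T, hle⟩ := exists_Cl_of_restrict j Z hZ T' O' hO'
  have hall := (isZClosed_iff_all Z F).mp h T
  have key : Function.Bijective (res F (j.image_mono (inf_le_left : O' ⊓ T'.U ≤ O'))) := by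
    constructor
    · intro a b hab
      apply (hall (j ''ᵁ O')).1
      have := congrArg (res F hle) hab
      rw [res_res, res_res] at this
      exact this
    · intro t
      obtain ⟨s, hs⟩ := (hall (j ''ᵁ O')).2 (res F hle t)
      refine ⟨s, ?_⟩
      apply (hall (j ''ᵁ (O' ⊓ T'.U))).1
      have hle2 : j ''ᵁ (O' ⊓ T'.U) ⊓ T.U ≤ j ''ᵁ O' ⊓ T.U :=
        inf_le_inf_right _ (j.image_mono inf_le_left)
      rw [res_res]
      have h1 : res F ((inf_le_left : j ''ᵁ (O' ⊓ T'.U) ⊓ T.U ≤ _).trans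
          (j.image_mono (inf_le_left : O' ⊓ T'.U ≤ O'))) s =
          res F hle2 (res F (inf_le_left : j ''ᵁ O' ⊓ T.U ≤ j ''ᵁ O') s) :=
        (res_res F _ _ _).symm
      rw [h1, hs, res_res]
  show Function.Bijective
    (res ((Scheme.Modules.restrictFunctor j).obj F) (inf_le_left : O' ⊓ T'.U ≤ O'))
  rw [res_restrict]
  exact key

omit [IsLocallyNoetherian X] in
/-- Naturality of helper8's stalk comparison for restrictions. -/
theorem stalk_natural {M N : X.Modules} (φ : M ⟶ N) (y : U)
    (t : (M.restrict j).presheaf.stalk y) :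
    RestrStalkH8.restrictStalkEquiv j N y
        ((TopCat.Presheaf.stalkFunctor (C := Ab.{u}) y).map
          ((Scheme.Modules.restrictFunctor j).map φ).mapPresheaf t) =
      (TopCat.Presheaf.stalkFunctor (C := Ab.{u}) (j.base y)).map φ.mapPresheaf
        (RestrStalkH8.restrictStalkEquiv j M y t) := by
  obtain ⟨V, hV, s, rfl⟩ := TopCat.Presheaf.exists_germ_eq (F := (M.restrict j).presheaf) t
  have h1 := TopCat.Presheaf.stalkFunctor_map_germ_apply V y hV
    ((Scheme.Modules.restrictFunctor j).map φ).mapPresheaf s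
  have h2 := RestrStalkH8.restrictStalkEquiv_germ j N y V hV
    (((Scheme.Modules.restrictFunctor j).map φ).app V s)
  have h3 := RestrStalkH8.restrictStalkEquiv_germ j M y V hV s
  have h4 := TopCat.Presheaf.stalkFunctor_map_germ_apply (j ''ᵁ V) (j.base y) ⟨y, hV, rfl⟩
    φ.mapPresheaf (show Γ(M, j ''ᵁ V) from s)
  refine ((congrArg (fun t => RestrStalkH8.restrictStalkEquiv j N y t) h1).trans h2).trans ?_
  refine Eq.trans ?_
    ((congrArg (fun t => (TopCat.Presheaf.stalkFunctor (C := Ab.{u}) (j.base y)).map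
      φ.mapPresheaf t) h3).trans h4).symm
  rfl

omit [IsLocallyNoetherian X] in
theorem stalk_bijective_iff {M N : X.Modules} (φ : M ⟶ N) (y : U) :
    Function.Bijective ((TopCat.Presheaf.stalkFunctor (C := Ab.{u}) y).map
      ((Scheme.Modules.restrictFunctor j).map φ).mapPresheaf) ↔
    Function.Bijective ((TopCat.Presheaf.stalkFunctor (C := Ab.{u}) (j.base y)).map
      φ.mapPresheaf) := by
  have hfun : (RestrStalkH8.restrictStalkEquiv j N y) ∘
      ((TopCat.Presheaf.stalkFunctor (C := Ab.{u}) y).map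
        ((Scheme.Modules.restrictFunctor j).map φ).mapPresheaf) =
      ((TopCat.Presheaf.stalkFunctor (C := Ab.{u}) (j.base y)).map φ.mapPresheaf) ∘
        (RestrStalkH8.restrictStalkEquiv j M y) :=
    funext fun t => stalk_natural j φ y t
  have h1 := Function.Bijective.of_comp_iff' (RestrStalkH8.restrictStalkEquiv j N y).bijective
    ((TopCat.Presheaf.stalkFunctor (C := Ab.{u}) y).map
      ((Scheme.Modules.restrictFunctor j).map φ).mapPresheaf)
  have h2 := Function.Bijective.of_comp_iff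
    ((TopCat.Presheaf.stalkFunctor (C := Ab.{u}) (j.base y)).map φ.mapPresheaf)
    (RestrStalkH8.restrictStalkEquiv j M y).bijective
  exact h1.symm.trans ((iff_of_eq (congrArg Function.Bijective hfun)).trans h2)

/-- The Z-closure commutes with restriction along an open immersion. -/
theorem exists_restrict_iso [IsLocallyNoetherian U] (hZ : StableUnderSpecialization Z) :
    Nonempty ((ZClos.H0 (X := U) (j.base ⁻¹' Z)).obj ((Scheme.Modules.restrictFunctor j).obj F) ≅
      (Scheme.Modules.restrictFunctor j).obj ((ZClos.H0 Z).obj F)) := by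
  have hZ' := stable_preimage j Z hZ
  have hcl := isZClosed_restrict j Z ((ZClos.H0 Z).obj F) hZ (isZClosed_H0 Z F)
  haveI : IsIso (ZClos.rhoApp (X := U) (j.base ⁻¹' Z)
      ((Scheme.Modules.restrictFunctor j).obj ((ZClos.H0 Z).obj F))) := hcl
  let u : (Scheme.Modules.restrictFunctor j).obj F ⟶
      (Scheme.Modules.restrictFunctor j).obj ((ZClos.H0 Z).obj F) :=
    (Scheme.Modules.restrictFunctor j).map (ZClos.rhoApp Z F)
  let v : (ZClos.H0 (X := U) (j.base ⁻¹' Z)).obj ((Scheme.Modules.restrictFunctor j).obj F) ⟶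
      (Scheme.Modules.restrictFunctor j).obj ((ZClos.H0 Z).obj F) :=
    (ZClos.H0 (X := U) (j.base ⁻¹' Z)).map u ≫
      inv (ZClos.rhoApp (X := U) (j.base ⁻¹' Z)
        ((Scheme.Modules.restrictFunctor j).obj ((ZClos.H0 Z).obj F)))
  have hv : ZClos.rhoApp (X := U) (j.base ⁻¹' Z) ((Scheme.Modules.restrictFunctor j).obj F) ≫ v =
      u := by
    have hnat := (ZClos.rho (X := U) (j.base ⁻¹' Z)).naturality u
    show _ ≫ _ ≫ _ = _
    rw [← Category.assoc, IsIso.comp_inv_eq]
    exact hnat.symm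
  have hu : ∀ y : U, y ∉ j.base ⁻¹' Z →
      Function.Bijective ((TopCat.Presheaf.stalkFunctor (C := Ab.{u}) y).map u.mapPresheaf) := by
    intro y hy
    rw [stalk_bijective_iff]
    exact isZClosedAt_of_not_mem Z F (j.base y) hy
  haveI := isIso_of_fac (j.base ⁻¹' Z) hZ' _ _ hcl u hu v hv
  exact ⟨asIso v⟩

end Groth.Agent.Lib.ZResH5
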