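import Mathlib
import Groth.Prelude
import Groth.Agent.Lib.ZRes1_helper5
import Groth.Agent.Lib.ZHull8_helper5
import Groth.Agent.Lib.QCohFP_helper9
import Groth.Agent.Lib.StalkLoc_helper8
import Groth.Agent.Lib.ZClosed5_helper3

set_option autoImplicit false
universe u

/-!
# From an affine open of a locally Noetherian scheme to `Spec` (helper5)

Dictionary lemmas used for EGA IV 5.11.4 d) ⇒ a).  APPEND-ONLY once landed.
-/

namespace Groth.Agent.Lib.ZResH5

open CategoryTheory CategoryTheory.Limits AlgebraicGeometry TopologicalSpace Opposite ZClosH8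
open Groth.Agent.Lib.QCohLoc_helper4

variable {X : Scheme.{u}} (F : X.Modules) {V : X.Opens} (hV : IsAffineOpen V)

theorem primeIdealOf_fromSpec (P : Spec Γ(X, V)) (h : hV.fromSpec P ∈ V) :
    hV.primeIdealOf ⟨hV.fromSpec P, h⟩ = P :=
  hV.fromSpec.isOpenEmbedding.injective (hV.fromSpec_primeIdealOf ⟨hV.fromSpec P, h⟩)

theorem fromSpec_mem (P : Spec Γ(X, V)) : hV.fromSpec P ∈ V := by
  have : hV.fromSpec P ∈ Set.range hV.fromSpec := ⟨P, rfl⟩
  rw [hV.range_fromSpec] at this
  exact this

/-- Dictionary (after helper8's `AssPt1_helper8.isAssPoint_iff`, reproved here to keep the import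
closure small). -/
theorem isAssPoint_iff [F.IsQuasicoherent] [IsNoetherianRing Γ(X, V)] {x : X} (hxV : x ∈ V) :
    Curv2.IsAssPoint F x ↔
      (hV.primeIdealOf ⟨x, hxV⟩).asIdeal ∈ associatedPrimes Γ(X, V) Γ(F, V) := by
  letI := StalkLocH8.modSec F hxV
  haveI := StalkLocH8.isLocalizedModule_germLin F hV hxV
  letI := TopCat.Presheaf.algebra_section_stalk X.presheaf (⟨x, hxV⟩ : V)
  haveI : IsLocalization.AtPrime (X.presheaf.stalk x) (hV.primeIdealOf ⟨x, hxV⟩).asIdeal :=
    hV.isLocalization_stalk ⟨x, hxV⟩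
  haveI : IsScalarTower Γ(X, V) (X.presheaf.stalk x) (F.presheaf.stalk x) :=
    IsScalarTower.of_algebraMap_smul fun _ _ => rfl
  have h := Module.associatedPrimes.preimage_comap_associatedPrimes_eq_associatedPrimes_of_isLocalizedModule
    (hV.primeIdealOf ⟨x, hxV⟩).asIdeal.primeCompl (X.presheaf.stalk x) (StalkLocH8.germLin F hxV)
  have hc : Ideal.comap (algebraMap Γ(X, V) (X.presheaf.stalk x))
      (IsLocalRing.maximalIdeal (X.presheaf.stalk x)) = (hV.primeIdealOf ⟨x, hxV⟩).asIdeal :=
    IsLocalization.AtPrime.under_maximalIdeal _ _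
  show IsLocalRing.maximalIdeal (X.presheaf.stalk x) ∈
    associatedPrimes (X.presheaf.stalk x) (F.presheaf.stalk x) ↔ _
  rw [← h, Set.mem_preimage, hc]

/-- An associated prime of the module of sections gives an associated point. -/
theorem isAssPoint_fromSpec [F.IsQuasicoherent] [IsNoetherianRing Γ(X, V)] (P : Spec Γ(X, V))
    (hP : P.asIdeal ∈ associatedPrimes Γ(X, V) (QCohFP.secSpec hV F)) :
    Curv2.IsAssPoint F (hV.fromSpec P) := by
  rw [isAssPoint_iff F hV (fromSpec_mem hV P), primeIdealOf_fromSpec hV P (fromSpec_mem hV P)]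
  rw [← LinearEquiv.AssociatedPrimes.eq (QCohFP.secSpecEquiv hV F)]
  exact hP

section Bridge

open Groth.Agent.Lib.TildeSecH3

variable [F.IsQuasicoherent]

/-- The comparison `Γ(W, M^~) → Γ(W, F|_{Spec Γ(X,V)})`, `M = Γ(V, F)`, as a linear map. -/
noncomputable def bridge (W : (Spec Γ(X, V)).Opens) :
    Sec (QCohFP.secSpec hV F) W →ₗ[Γ(X, V)]
      ((modulesSpecToSheaf.obj (F.restrict hV.fromSpec)).presheaf.obj (op W)) :=
  ((modulesSpecToSheaf.map (F.restrict hV.fromSpec).fromTildeΓ).1.app (op W)).hom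

theorem bridge_bijective (W : (Spec Γ(X, V)).Opens) : Function.Bijective (bridge F hV W) := by
  haveI : IsIso (F.restrict hV.fromSpec).fromTildeΓ :=
    Scheme.Modules.isIso_fromTildeΓ_of_isQuasicoherent _
  haveI : IsIso (modulesSpecToSheaf.map (F.restrict hV.fromSpec).fromTildeΓ) := inferInstance
  haveI : IsIso (modulesSpecToSheaf.map (F.restrict hV.fromSpec).fromTildeΓ).1 :=
    (inferInstance : IsIso ((sheafToPresheaf _ _).map
      (modulesSpecToSheaf.map (F.restrict hV.fromSpec).fromTildeΓ)))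
  haveI : IsIso ((modulesSpecToSheaf.map (F.restrict hV.fromSpec).fromTildeΓ).1.app (op W)) :=
    inferInstance
  exact ConcreteCategory.bijective_of_isIso
    ((modulesSpecToSheaf.map (F.restrict hV.fromSpec).fromTildeΓ).1.app (op W))

/-- The comparison with values in the sections of `F` over the image open. -/
noncomputable def bridgeFun (W : (Spec Γ(X, V)).Opens) (s : Sec (QCohFP.secSpec hV F) W) :
    Γ(F, hV.fromSpec ''ᵁ W) :=
  (id (bridge F hV W s) : Γ(F, hV.fromSpec ''ᵁ W))

theorem bridgeFun_add (W : (Spec Γ(X, V)).Opens) (s t : Sec (QCohFP.secSpec hV F) W) :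
    bridgeFun F hV W (s + t) = bridgeFun F hV W s + bridgeFun F hV W t := by
  unfold bridgeFun
  rw [map_add]
  rfl

theorem bridgeFun_smul (W : (Spec Γ(X, V)).Opens) (a : Γ(X, V))
    (s : Sec (QCohFP.secSpec hV F) W) :
    bridgeFun F hV W (a • s) =
      (X.presheaf.map (homOfLE (fromSpec_image_le hV W)).op).hom a • bridgeFun F hV W s := by
  unfold bridgeFun
  rw [map_smul]
  exact smul_restrict F hV W a (id (bridge F hV W s) : Γ(F.restrict hV.fromSpec, W))

theorem bridgeFun_injective (W : (Spec Γ(X, V)).Opens) :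
    Function.Injective (bridgeFun F hV W) := (bridge_bijective F hV W).1

/-- Transport of finiteness: from the sections of `j_*(F|_{X∖T})` over `V` to the sections of
`Γ(V,F)^~` over the corresponding open of `Spec Γ(X,V)`. -/
theorem finite_sec_of_finite [IsNoetherianRing Γ(X, V)] {Z : Set X} (T : ZClos.Cl Z)
    (W : (Spec Γ(X, V)).Opens) (e : TV T V = hV.fromSpec ''ᵁ W)
    (hfin : Module.Finite Γ(X, V) Γ((ZClos.resPush T.U).obj F, V)) :
    Module.Finite Γ(X, V) (Sec (QCohFP.secSpec hV F) W) := by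
  let ψ : Sec (QCohFP.secSpec hV F) W →ₗ[Γ(X, V)] Γ((ZClos.resPush T.U).obj F, V) :=
    { toFun := fun s => (show Γ((ZClos.resPush T.U).obj F, V) from
        F.presheaf.map (eqToHom e).op (bridgeFun F hV W s))
      map_add' := fun s t => by
        show F.presheaf.map (eqToHom e).op (bridgeFun F hV W (s + t)) =
          F.presheaf.map (eqToHom e).op (bridgeFun F hV W s) +
            F.presheaf.map (eqToHom e).op (bridgeFun F hV W t)
        rw [bridgeFun_add, map_add]
      map_smul' := fun a s => by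
        have h1 : F.presheaf.map (eqToHom e).op (bridgeFun F hV W (a • s)) =
            (X.presheaf.map (homOfLE (TV_le T V)).op).hom a •
              F.presheaf.map (eqToHom e).op (bridgeFun F hV W s) := by
          rw [bridgeFun_smul]
          refine (Scheme.Modules.map_smul F (eqToHom e) _ _).trans ?_
          congr 1
          exact ring_map_map_eq _ _ _ a
        have h2 := Groth.Agent.Lib.ZHullH5.resPush_smul' F T V a
          (show Γ((ZClos.resPush T.U).obj F, V) from
            F.presheaf.map (eqToHom e).op (bridgeFun F hV W s))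
        exact h1.trans h2.symm }
  have hinj : Function.Injective ψ := by
    intro s t hst
    apply bridgeFun_injective F hV W
    have hiso : Function.Injective (F.presheaf.map (eqToHom e).op) :=
      (ConcreteCategory.bijective_of_isIso (F.presheaf.map (eqToHom e).op)).1
    exact hiso hst
  haveI := hfin
  haveI : IsNoetherian Γ(X, V) Γ((ZClos.resPush T.U).obj F, V) :=
    isNoetherian_of_isNoetherianRing_of_finite _ _
  exact Module.Finite.of_injective ψ hinj

/-- The height bound (EGA IV 5.11.3-type) at an associated prime, from the finiteness of the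
sections of `j_*(F|_{X∖T})` over the affine open `V`. -/
theorem two_le_height [IsNoetherianRing Γ(X, V)] {Z : Set X} (T : ZClos.Cl Z)
    (hT : Module.Finite Γ(X, V) Γ((ZClos.resPush T.U).obj F, V))
    (P Q : Spec Γ(X, V)) (hP : P.asIdeal ∈ associatedPrimes Γ(X, V) (QCohFP.secSpec hV F))
    (hPT : hV.fromSpec P ∉ (T.1 : Set X)) (hQT : hV.fromSpec Q ∈ (T.1 : Set X)) :
    (2 : ℕ∞) ≤ (Q.asIdeal.map (Ideal.Quotient.mk P.asIdeal)).height := by
  let C : Set (PrimeSpectrum Γ(X, V)) := hV.fromSpec ⁻¹' (T.1 : Set X)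
  have hC : IsClosed C := T.1.isClosed.preimage hV.fromSpec.continuous
  let a : Ideal Γ(X, V) := PrimeSpectrum.vanishingIdeal C
  have hz : PrimeSpectrum.zeroLocus (a : Set Γ(X, V)) = C := by
    rw [PrimeSpectrum.zeroLocus_vanishingIdeal_eq_closure, hC.closure_eq]
  have hmemW : ∀ x : Spec Γ(X, V), x ∈ pOpen a ↔ hV.fromSpec x ∉ (T.1 : Set X) := by
    intro x
    show x ∈ (PrimeSpectrum.zeroLocus (a : Set Γ(X, V)))ᶜ ↔ _
    rw [hz]
    rfl
  have e : TV T V = hV.fromSpec ''ᵁ (pOpen a) := by
    rw [TV_eq]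
    ext y
    constructor
    · rintro ⟨hyT, hyV⟩
      have hyr : y ∈ Set.range hV.fromSpec := by
        rw [hV.range_fromSpec]
        exact hyV
      obtain ⟨x, rfl⟩ := hyr
      exact ⟨x, (hmemW x).2 hyT, rfl⟩
    · rintro ⟨x, hx, rfl⟩
      exact ⟨(hmemW x).1 hx, fromSpec_mem hV x⟩
  haveI hfinW : Module.Finite Γ(X, V) (Sec (QCohFP.secSpec hV F) (pOpen a)) :=
    finite_sec_of_finite F hV T (pOpen a) e hT
  have h2 := Groth.Agent.Lib.ZClosed4H3.two_le_depth_sec (QCohFP.secSpec hV F) a
  have hap : ¬ a ≤ P.asIdeal := by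
    intro hle
    have : (show PrimeSpectrum Γ(X, V) from P) ∈ PrimeSpectrum.zeroLocus (a : Set Γ(X, V)) :=
      (PrimeSpectrum.mem_zeroLocus _ _).2 hle
    rw [hz] at this
    exact hPT this
  have hp' := Groth.Agent.Lib.ZClosed4H3.ass_sec_of_ass (QCohFP.secSpec hV F) a P.asIdeal hP hap
  have h3 := Groth.Agent.Lib.ZClosed5H3.two_le_height_of_depth a
    (Sec (QCohFP.secSpec hV F) (pOpen a)) h2 P.asIdeal hp'
  have haQ : a ≤ Q.asIdeal := by
    have : (show PrimeSpectrum Γ(X, V) from Q) ∈ PrimeSpectrum.zeroLocus (a : Set Γ(X, V)) := by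
      rw [hz]
      exact hQT
    exact (PrimeSpectrum.mem_zeroLocus _ _).1 this
  exact h3.trans (Ideal.height_mono (Ideal.map_mono haQ))

end Bridge

end Groth.Agent.Lib.ZResH5
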