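import Mathlib
import Groth.Prelude
import Groth.Agent.Lib.ZRes2_helper5

set_option autoImplicit false
universe u

/-!
# EGA IV 5.11.4 d) ⇒ a) on a locally Noetherian scheme (helper5)
APPEND-ONLY once landed.
-/

namespace Groth.Agent.Lib.ZResH5

open CategoryTheory CategoryTheory.Limits AlgebraicGeometry TopologicalSpace Opposite ZClosH8
open Groth.Agent.Lib.QCohLoc_helper4 Groth.Agent.Lib.TildeSecH3

section Spec

variable {R : CommRingCat.{u}} (N : (Spec R).Modules)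

theorem smul_top_eq' (r : Γ(Spec R, ⊤)) (g : Γ(N, ⊤)) :
    r • g = ((Scheme.ΓSpecIso R).hom.hom r : R) • g := by
  rw [Scheme.Modules.smul_Spec_def]
  have : (Spec R).presheaf.map (Opens.leTop (⊤ : (Spec R).Opens)).op = 𝟙 _ :=
    (Spec R).presheaf.map_id _
  rw [this]
  have h1 : (Scheme.ΓSpecIso R).inv.hom ((Scheme.ΓSpecIso R).hom.hom r) = r := by
    have := congrArg (fun f => f.hom r) (Scheme.ΓSpecIso R).hom_inv_id
    exact this
  show r • g = ((Scheme.ΓSpecIso R).inv.hom ((Scheme.ΓSpecIso R).hom.hom r)) • g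
  rw [h1]

/-- Finiteness over `R` from finiteness over `Γ(Spec R, ⊤)`. -/
theorem finite_of_finite_top' (h : Module.Finite Γ(Spec R, ⊤) Γ(N, ⊤)) :
    Module.Finite R Γ(N, ⊤) := by
  obtain ⟨S, hS⟩ := h.fg_top
  refine ⟨⟨S, ?_⟩⟩
  rw [eq_top_iff]
  intro g _
  have hg : g ∈ Submodule.span Γ(Spec R, ⊤) (S : Set Γ(N, ⊤)) := by
    rw [hS]; trivial
  induction hg using Submodule.span_induction with
  | mem x hx => exact Submodule.subset_span hx
  | zero => exact Submodule.zero_mem _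
  | add x y _ _ hx hy => exact Submodule.add_mem _ (hx trivial) (hy trivial)
  | smul r x _ hx =>
    rw [smul_top_eq']
    exact Submodule.smul_mem _ _ (hx trivial)

/-- Finiteness of sections is invariant under isomorphisms. -/
theorem finite_sections_of_iso {Y : Scheme.{u}} {A B : Y.Modules} (e : A ≅ B) (W : Y.Opens)
    (h : Module.Finite Γ(Y, W) Γ(A, W)) : Module.Finite Γ(Y, W) Γ(B, W) := by
  let ψ : Γ(A, W) →ₗ[Γ(Y, W)] Γ(B, W) :=
    { toFun := fun s => e.hom.app W s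
      map_add' := fun s t => map_add (e.hom.app W).hom s t
      map_smul' := fun r s => Scheme.Modules.Hom.app_smul e.hom r s }
  have hsurj : Function.Surjective ψ := (app_bijective_of_isIso e.hom W).2
  exact Module.Finite.of_surjective ψ hsurj

end Spec

section Main

variable {X : Scheme.{u}} [IsLocallyNoetherian X] (Z : Set X) (F : X.Modules)
  {V : X.Opens} (hV : IsAffineOpen V)

/-- The hull-finiteness at an associated prime, from universal catenarity and N-1. -/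
theorem hullFinite_of_eq [IsNoetherianRing Γ(X, V)] (x q : PrimeSpectrum Γ(X, V)) (hq : q = x)
    (h : CAlg.IsUniversallyCatenary (Γ(X, V) ⧸ q.asIdeal) ∧ CAlg.IsN1 (Γ(X, V) ⧸ q.asIdeal)) :
    EGA4.HeightOneHullFinite (Γ(X, V) ⧸ x.asIdeal) := by
  subst hq
  exact Groth.Agent.EquiCat9.heightOneHullFinite_of_finite_integralClosure
    (A := Γ(X, V) ⧸ q.asIdeal) h.1 h.2

/-- The sections of the Z-closure over an affine open are a finite module. -/
theorem finite_sections_H0 (hZ : StableUnderSpecialization Z) (hF : Coh.IsCoh F)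
    (hX : ∀ (x : X) (hxV : x ∈ V), x ∈ AssSch.Ass F →
        CAlg.IsUniversallyCatenary (Γ(X, V) ⧸ (hV.primeIdealOf ⟨x, hxV⟩).asIdeal) ∧
          CAlg.IsN1 (Γ(X, V) ⧸ (hV.primeIdealOf ⟨x, hxV⟩).asIdeal))
    (𝒯 : Set (ZClos.Cl Z)) (hcov : ∀ z ∈ Z, ∃ T ∈ 𝒯, z ∈ (T.1 : Set X))
    (hd : ∀ T ∈ 𝒯, Coh.IsCoh ((ZClos.resPush T.U).obj F)) :
    Module.Finite Γ(X, V) Γ((ZClos.H0 Z).obj F, V) := by
  haveI : F.IsQuasicoherent := hF.1
  haveI : SheafOfModules.IsFiniteType (R := X.ringCatSheaf) F := hF.2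
  haveI : IsNoetherianRing Γ(X, V) := IsLocallyNoetherian.component_noetherian ⟨V, hV⟩
  haveI hMfin : Module.Finite Γ(X, V) (QCohFP.secSpec hV F) := by
    haveI := QCohFT.finite_of_isFiniteType F hV
    exact Module.Finite.equiv (QCohFP.secSpecEquiv hV F).symm
  have hZ' := stable_preimage hV.fromSpec Z hZ
  -- the Spec-level coherence
  have hmain : Coh.IsCoh ((ZClos.H0 (X := Spec Γ(X, V)) (hV.fromSpec.base ⁻¹' Z)).obj
      (tilde (QCohFP.secSpec hV F))) := by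
    refine Groth.Agent.Lib.ZHullH5.main_ass Γ(X, V) (QCohFP.secSpec hV F)
      (hV.fromSpec.base ⁻¹' Z) hZ' (fun x hx hxZ => ⟨fun y hy _ => ?_, ?_⟩)
    · obtain ⟨T, hT𝒯, hyT⟩ := hcov (hV.fromSpec y) hy
      have hTfin : Module.Finite Γ(X, V) Γ((ZClos.resPush T.U).obj F, V) := by
        haveI := (hd T hT𝒯).1
        haveI := (hd T hT𝒯).2
        exact QCohFT.finite_of_isFiniteType _ hV
      exact two_le_height F hV T hTfin x y hx (fun hxT => hxZ (T.2 hxT)) hyT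
    · have hxass : Curv2.IsAssPoint F (hV.fromSpec x) := isAssPoint_fromSpec F hV x hx
      exact hullFinite_of_eq x _ (primeIdealOf_fromSpec hV x (fromSpec_mem hV x))
        (hX (hV.fromSpec x) (fromSpec_mem hV x) hxass)
  -- transport along the isomorphisms
  haveI : IsIso (F.restrict hV.fromSpec).fromTildeΓ :=
    Scheme.Modules.isIso_fromTildeΓ_of_isQuasicoherent _
  let e1 := (ZClos.H0 (X := Spec Γ(X, V)) (hV.fromSpec.base ⁻¹' Z)).mapIso
    (asIso (F.restrict hV.fromSpec).fromTildeΓ)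
  obtain ⟨e2⟩ := exists_restrict_iso hV.fromSpec Z F hZ
  haveI := hmain.1
  haveI := hmain.2
  have hfin1 := QCohFT.finite_of_isFiniteType
    ((ZClos.H0 (X := Spec Γ(X, V)) (hV.fromSpec.base ⁻¹' Z)).obj (tilde (QCohFP.secSpec hV F)))
    (isAffineOpen_top (Spec Γ(X, V)))
  have hfin2 := finite_sections_of_iso (e1 ≪≫ e2) ⊤ hfin1
  have hfin3 : Module.Finite Γ(X, V) (QCohFP.secSpec hV ((ZClos.H0 Z).obj F)) :=
    finite_of_finite_top' _ hfin2
  exact Module.Finite.equiv (QCohFP.secSpecEquiv hV ((ZClos.H0 Z).obj F))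

/-- EGA IV 5.11.4 d) ⇒ a). -/
theorem isCoh_H0_of_push (hZ : StableUnderSpecialization Z) (hF : Coh.IsCoh F)
    (hX : ∀ (V : X.Opens) (hV : IsAffineOpen V) (x : X) (hxV : x ∈ V), x ∈ AssSch.Ass F →
        CAlg.IsUniversallyCatenary (Γ(X, V) ⧸ (hV.primeIdealOf ⟨x, hxV⟩).asIdeal) ∧
          CAlg.IsN1 (Γ(X, V) ⧸ (hV.primeIdealOf ⟨x, hxV⟩).asIdeal))
    (𝒯 : Set (ZClos.Cl Z)) (hcov : ∀ z ∈ Z, ∃ T ∈ 𝒯, z ∈ (T.1 : Set X))
    (hd : ∀ T ∈ 𝒯, Coh.IsCoh ((ZClos.resPush T.U).obj F)) :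
    Coh.IsCoh ((ZClos.H0 Z).obj F) := by
  haveI : F.IsQuasicoherent := hF.1
  haveI := isQuasicoherent_H0 Z F
  refine ⟨inferInstance, ?_⟩
  refine QCohCrit.isFiniteType_of_sections_cover ((ZClos.H0 Z).obj F)
    (fun V : X.affineOpens => (V : X.Opens)) (fun V => V.2) (iSup_affineOpens_eq_top X)
    (fun V => ?_)
  exact finite_sections_H0 Z F V.2 hZ hF (hX V.1 V.2) 𝒯 hcov hd

end Main

end Groth.Agent.Lib.ZResH5
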