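import Mathlib
import Groth.Prelude.Def_AlgSpRep
import Groth.Agent.Lib.AlgSpCov_helper7

/-!
# A Zariski sheaf covered fppf-locally by fppf subsheaves (representably) is an fppf sheaf (helper7)
-/

set_option autoImplicit false
universe u v
open CategoryTheory CategoryTheory.Limits AlgebraicGeometry Opposite
open AlgSp Groth.Agent.Lib.AlgSpCov_helper7

namespace Groth.Agent.Lib.ZarFppf_helper7

variable {S : Scheme.{u}}

instance : MorphismProperty.IsMultiplicative @LocallyOfFinitePresentation where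
  id_mem _ := inferInstance

/-- Extract a concrete fppf covering family from a covering sieve. -/
theorem exists_family_of_mem_J {T : Over S} (R : Sieve T) (hR : R ∈ J S T) :
    ∃ (κ : Type u) (Tk : κ → Over S) (c : ∀ k, Tk k ⟶ T), (∀ k, R (c k)) ∧
      (∀ k, Flat (c k).left) ∧ (∀ k, LocallyOfFinitePresentation (c k).left) ∧
      (∀ t : ↥T.left, ∃ k, t ∈ Set.range (c k).left) := by
  rw [J_eq, GrothendieckTopology.mem_over_iff] at hR
  have hR' : Sieve.overEquiv T R ∈
      Scheme.grothendieckTopology (@Flat ⊓ @LocallyOfFinitePresentation) T.left := hR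
  obtain ⟨𝒰, h𝒰⟩ := Scheme.mem_grothendieckTopology_iff.1 hR'
  refine ⟨𝒰.I₀, fun k => Over.mk (𝒰.f k ≫ T.hom), fun k => Over.homMk (𝒰.f k) rfl, fun k => ?_,
    fun k => (𝒰.map_prop k).1, fun k => (𝒰.map_prop k).2, fun t => ?_⟩
  · exact (Sieve.overEquiv_iff R (𝒰.f k)).1 (h𝒰 _ _ (Presieve.ofArrows.mk k))
  · obtain ⟨k, y, hy⟩ := 𝒰.exists_eq t
    exact ⟨k, y, hy⟩

/-- A flat morphism locally of finite presentation factors as a surjective such morphism followed
by an open immersion. -/
theorem exists_open_image {T' T : Over S} (c : T' ⟶ T) [Flat c.left]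
    [LocallyOfFinitePresentation c.left] :
    ∃ (W : Over S) (j : W ⟶ T) (c' : T' ⟶ W), IsOpenImmersion j.left ∧ c' ≫ j = c ∧
      Surjective c'.left ∧ Flat c'.left ∧ LocallyOfFinitePresentation c'.left := by
  have hopen : IsOpen (Set.range c.left) := c.left.isOpenMap.isOpen_range
  let U : T.left.Opens := ⟨Set.range c.left, hopen⟩
  have hsub : Set.range c.left ⊆ Set.range U.ι := by
    rw [Scheme.Opens.range_ι]
    exact subset_rfl
  let c₀ : T'.left ⟶ ↑U := IsOpenImmersion.lift U.ι c.left hsub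
  have hc₀ : c₀ ≫ U.ι = c.left := IsOpenImmersion.lift_fac _ _ _
  have hw : c₀ ≫ (U.ι ≫ T.hom) = T'.hom := by
    rw [← Category.assoc, hc₀, Over.w]
  refine ⟨Over.mk (U.ι ≫ T.hom), Over.homMk U.ι rfl, Over.homMk c₀ hw, ?_, ?_, ?_, ?_, ?_⟩
  · show IsOpenImmersion U.ι
    infer_instance
  · ext
    exact hc₀
  · show Surjective c₀
    refine ⟨fun w => ?_⟩
    obtain ⟨y, hy⟩ : U.ι w ∈ Set.range c.left := by
      have h1 : U.ι w ∈ Set.range U.ι := ⟨w, rfl⟩
      rw [Scheme.Opens.range_ι] at h1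
      exact h1
    refine ⟨y, U.ι.isOpenEmbedding.injective ?_⟩
    rw [← Scheme.Hom.comp_apply, hc₀, hy]
  · show Flat c₀
    exact MorphismProperty.HasOfPostcompProperty.of_postcomp (W := @Flat)
      (W' := @IsOpenImmersion) c₀ U.ι inferInstance (by rw [hc₀]; infer_instance)
  · show LocallyOfFinitePresentation c₀
    exact MorphismProperty.HasOfPostcompProperty.of_postcomp (W := @LocallyOfFinitePresentation)
      (W' := @IsOpenImmersion) c₀ U.ι inferInstance (by rw [hc₀]; infer_instance)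

/-- Open coverings generate covering sieves of the Zariski topology over `S`. -/
theorem ofArrows_mem_Jzar {T : Over S} {κ : Type u} (Wk : κ → Over S) (j : ∀ k, Wk k ⟶ T)
    (ho : ∀ k, IsOpenImmersion (j k).left) (hs : ∀ t : ↥T.left, ∃ k, t ∈ Set.range (j k).left) :
    Sieve.ofArrows Wk j ∈ QuotSh.J Scheme.zariskiPrecoverage S T := by
  rw [GrothendieckTopology.mem_over_iff]
  have hmem : Presieve.ofArrows (fun k => (Wk k).left) (fun k => (j k).left) ∈
      Scheme.zariskiPrecoverage T.left :=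
    (Scheme.ofArrows_mem_precoverage_iff _).2 ⟨hs, ho⟩
  refine (Scheme.zariskiPrecoverage.toGrothendieck).superset_covering ?_
    (Precoverage.generate_mem_toGrothendieck hmem)
  rintro Z f ⟨W, a, b, ⟨k⟩, rfl⟩
  rw [Sieve.overEquiv_iff]
  refine ⟨Wk k, Over.homMk a ?_, j k, ⟨k⟩, ?_⟩
  · change a ≫ (Wk k).hom = (a ≫ (j k).left) ≫ T.hom
    rw [Category.assoc, Over.w]
  · ext
    rfl

theorem map_map (F : PSp S) {A B C : Over S} (f : A ⟶ B) (g : B ⟶ C) (x : F.obj (op C)) :
    F.map f.op (F.map g.op x) = F.map (f ≫ g).op x := by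
  rw [op_comp, Functor.map_comp_apply]

section

variable {F : PSp S} {ι : Type v} {Fi : ι → PSp S} (m : ∀ i, Fi i ⟶ F)

theorem map_mem_range (i : ι) {T T' : Over S} (g : T' ⟶ T) {x : F.obj (op T)}
    (hx : x ∈ Set.range ((m i).app (op T))) :
    F.map g.op x ∈ Set.range ((m i).app (op T')) := by
  obtain ⟨a, rfl⟩ := hx
  exact ⟨(Fi i).map g.op a, FunctorToTypes.naturality (m i) g.op a⟩

variable [∀ i, Mono (m i)]

theorem app_injective (i : ι) (Y : Over S) : Function.Injective ((m i).app (op Y)) :=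
  (mono_iff_injective _).1 ((NatTrans.mono_iff_mono_app (m i)).1 inferInstance (op Y))

variable (hb : ∀ i, RepBySp (m i))

include hb in
/-- Membership in a subfunctor which is representable by algebraic spaces is fppf local. -/
theorem mem_range_of_sieve (i : ι) {W : Over S} (R : Sieve W) (hR : R ∈ J S W)
    (x : F.obj (op W))
    (h : ∀ ⦃Y : Over S⦄ (f : Y ⟶ W), R f → F.map f.op x ∈ Set.range ((m i).app (op Y))) :
    x ∈ Set.range ((m i).app (op W)) := by
  let ξ : (pyon S).obj W ⟶ F := uliftYonedaEquiv.symm x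
  have hξ : ∀ {Y : Over S} (f : Y ⟶ W), ξ.app (op Y) (ULift.up f) = F.map f.op x := fun f => rfl
  have sq := IsPullback.of_hasPullback (m i) ξ
  obtain ⟨hZ, -⟩ := hb i ξ (pullback.fst (m i) ξ) (pullback.snd (m i) ξ) sq
  have hZ' : Presieve.IsSheaf (J S) (pullback (m i) ξ) := (isSheaf_iff_isSheaf_of_type _ _).1 hZ
  have hW : Presieve.IsSheaf (J S) ((pyon S).obj W) :=
    (isSheaf_iff_isSheaf_of_type _ _).1 ((yon S).obj W).property
  have sqT : ∀ Y : Over S, IsPullback ((pullback.fst (m i) ξ).app (op Y))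
      ((pullback.snd (m i) ξ).app (op Y)) ((m i).app (op Y)) (ξ.app (op Y)) :=
    fun Y => sq.map ((evaluation _ _).obj (op Y))
  have h' : ∀ ⦃Y : Over S⦄ (f : Y ⟶ W), R f → ∃ a, (m i).app (op Y) a = F.map f.op x :=
    fun Y f hf => h f hf
  choose a ha using h'
  have hz : ∀ ⦃Y : Over S⦄ (f : Y ⟶ W) (hf : R f), ∃ z : (pullback (m i) ξ).obj (op Y),
      (pullback.fst (m i) ξ).app (op Y) z = a f hf ∧
        (pullback.snd (m i) ξ).app (op Y) z = ULift.up f :=
    fun Y f hf => Types.exists_of_isPullback (sqT Y) (a f hf) (ULift.up f)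
      ((ha f hf).trans (hξ f).symm)
  choose z hz1 hz2 using hz
  have hcompat : Presieve.FamilyOfElements.Compatible
      (fun Y f hf => z f hf : Presieve.FamilyOfElements (pullback (m i) ξ) R.arrows) := by
    rw [Presieve.compatible_iff_sieveCompatible]
    intro Y Y' f g hf
    apply Types.ext_of_isPullback (sqT Y')
    · have e1 : (pullback.fst (m i) ξ).app (op Y') ((pullback (m i) ξ).map g.op (z f hf)) =
          (Fi i).map g.op (a f hf) := by
        rw [FunctorToTypes.naturality, hz1]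
      rw [hz1, e1]
      apply app_injective m i Y'
      rw [ha, FunctorToTypes.naturality, ha, map_map]
    · have e2 : (pullback.snd (m i) ξ).app (op Y') ((pullback (m i) ξ).map g.op (z f hf)) =
          ((pyon S).obj W).map g.op (ULift.up f) := by
        rw [FunctorToTypes.naturality, hz2]
      rw [hz2, e2]
      rfl
  obtain ⟨t, ht, -⟩ := hZ' R hR _ hcompat
  have hsnd : (pullback.snd (m i) ξ).app (op W) t = ULift.up (𝟙 W) := by
    refine (hW R hR).isSeparatedFor.ext fun Y f hf => ?_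
    rw [← FunctorToTypes.naturality, ht f hf, hz2]
    show ULift.up f = ULift.up (f ≫ 𝟙 W)
    rw [Category.comp_id]
  refine ⟨(pullback.fst (m i) ξ).app (op W) t, ?_⟩
  have hw : (m i).app (op W) ((pullback.fst (m i) ξ).app (op W) t) =
      ξ.app (op W) ((pullback.snd (m i) ξ).app (op W) t) := ConcreteCategory.congr_hom (sqT W).w t
  rw [hw, hsnd, hξ]
  simp

variable (hc : ∀ (T : Over S) (x : F.obj (op T)), ∃ R ∈ (J S) T,
      ∀ ⦃T' : Over S⦄ (f : T' ⟶ T), R.arrows f →
        ∃ i, F.map f.op x ∈ Set.range ((m i).app (op T')))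

include hb hc in
theorem stepA (T : Over S) (x : F.obj (op T)) :
    ∃ (κ : Type u) (Wk : κ → Over S) (j : ∀ k, Wk k ⟶ T), (∀ k, IsOpenImmersion (j k).left) ∧
      (∀ t : ↥T.left, ∃ k, t ∈ Set.range (j k).left) ∧
      ∀ k, ∃ i, F.map (j k).op x ∈ Set.range ((m i).app (op (Wk k))) := by
  obtain ⟨R, hR, hRx⟩ := hc T x
  obtain ⟨κ, Tk, c, hcR, hcf, hcp, hcs⟩ := exists_family_of_mem_J R hR
  have hfac : ∀ k, ∃ (W : Over S) (j : W ⟶ T) (c' : Tk k ⟶ W), IsOpenImmersion j.left ∧
      c' ≫ j = c k ∧ Surjective c'.left ∧ Flat c'.left ∧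
        LocallyOfFinitePresentation c'.left := fun k =>
    haveI := hcf k
    haveI := hcp k
    exists_open_image (c k)
  choose Wk j c' hjo hfac' hsurj hflat hlfp using hfac
  refine ⟨κ, Wk, j, hjo, fun t => ?_, fun k => ?_⟩
  · obtain ⟨k, y, hy⟩ := hcs t
    refine ⟨k, (c' k).left y, ?_⟩
    rw [← Scheme.Hom.comp_apply, ← Over.comp_left, hfac' k, hy]
  · obtain ⟨i, hi⟩ := hRx (c k) (hcR k)
    refine ⟨i, mem_range_of_sieve m hb i
      (Sieve.ofArrows (fun _ : PUnit.{u + 1} => Tk k) (fun _ => c' k))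
      (ofArrows_mem_J _ _ (fun _ => hflat k) (fun _ => hlfp k)
        (fun w => ⟨PUnit.unit, (hsurj k).surj w⟩)) _ ?_⟩
    intro Y f hf
    obtain ⟨_, g, hg⟩ := (Sieve.mem_ofArrows_iff _ _ f).1 hf
    subst hg
    have e : F.map (g ≫ c' k).op (F.map (j k).op x) = F.map g.op (F.map (c k).op x) := by
      rw [map_map, Category.assoc, hfac' k, ← map_map]
    rw [e]
    exact map_mem_range m i g hi

include hb hc in
theorem stepB (h1 : Presieve.IsSheaf (QuotSh.J Scheme.zariskiPrecoverage S) F)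
    (ha : ∀ i, Presieve.IsSheaf (J S) (Fi i)) {T : Over S} (R : Sieve T) (hR : R ∈ J S T)
    (x x' : F.obj (op T))
    (h : ∀ ⦃Y : Over S⦄ (f : Y ⟶ T), R f → F.map f.op x = F.map f.op x') : x = x' := by
  obtain ⟨κ, Wk, j, hjo, hjs, hji⟩ := stepA m hb hc T x
  have hmem := ofArrows_mem_Jzar Wk j hjo hjs
  refine (h1 _ hmem).isSeparatedFor.ext ?_
  intro Y f hf
  obtain ⟨k, g, rfl⟩ := (Sieve.mem_ofArrows_iff _ _ f).1 hf
  rw [← map_map, ← map_map]
  congr 1
  obtain ⟨i, a, hia⟩ := hji k
  have hRk : R.pullback (j k) ∈ J S (Wk k) := (J S).pullback_stable (j k) hR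
  have hx' : F.map (j k).op x' ∈ Set.range ((m i).app (op (Wk k))) := by
    refine mem_range_of_sieve m hb i _ hRk _ (fun Y g hg => ?_)
    have e : F.map g.op (F.map (j k).op x') = F.map g.op (F.map (j k).op x) := by
      rw [map_map, map_map]
      exact (h (g ≫ j k) hg).symm
    rw [e, ← hia]
    exact map_mem_range m i g ⟨a, rfl⟩
  obtain ⟨a', hia'⟩ := hx'
  rw [← hia, ← hia']
  congr 1
  refine (ha i _ hRk).isSeparatedFor.ext fun Y g hg => ?_
  apply app_injective m i Y
  rw [FunctorToTypes.naturality, FunctorToTypes.naturality, hia, hia', map_map, map_map]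
  exact h (g ≫ j k) hg

include hb hc in
theorem isSheaf (h1 : Presieve.IsSheaf (QuotSh.J Scheme.zariskiPrecoverage S) F)
    (ha : ∀ i, Presieve.IsSheaf (J S) (Fi i)) : Presieve.IsSheaf (J S) F := by
  intro T R hR
  rw [← Presieve.isSeparatedFor_and_exists_isAmalgamation_iff_isSheafFor]
  refine ⟨?_, ?_⟩
  · intro fam t₁ t₂ ht₁ ht₂
    exact stepB m hb hc h1 ha R hR t₁ t₂ (fun Y f hf => (ht₁ f hf).trans (ht₂ f hf).symm)
  · intro fam hfam
    have hsc := (Presieve.compatible_iff_sieveCompatible fam).1 hfam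
    have hsc' : ∀ {Y Z : Over S} (f : Y ⟶ T) (g : Z ⟶ Y) (hf : R f),
        F.map g.op (fam f hf) = fam (g ≫ f) (R.downward_closed hf g) :=
      fun f g hf => (hsc f g hf).symm
    have hcongr : ∀ {Y : Over S} {f f' : Y ⟶ T} (e : f = f') (hf : R f) (hf' : R f'),
        fam f hf = fam f' hf' := by
      intro Y f f' e hf hf'
      subst e
      rfl
    -- the refined sieve
    let R' : Sieve T :=
      { arrows := fun Y f => ∃ hf : R f, ∃ i, fam f hf ∈ Set.range ((m i).app (op Y))
        downward_closed := by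
          rintro Y Z f ⟨hf, i, hi⟩ g
          refine ⟨R.downward_closed hf g, i, ?_⟩
          rw [← hsc' f g hf]
          exact map_mem_range m i g hi }
    have hR' : R' ∈ J S T := by
      refine (J S).transitive hR R' (fun Y f hf => ?_)
      obtain ⟨Rf, hRf, hRfx⟩ := hc Y (fam f hf)
      refine (J S).superset_covering (fun Z g hg => ?_) hRf
      obtain ⟨i, hi⟩ := hRfx g hg
      refine ⟨R.downward_closed hf g, i, ?_⟩
      rw [← hsc' f g hf]
      exact hi
    obtain ⟨κ, Tk, c, hcR', hcf, hcp, hcs⟩ := exists_family_of_mem_J R' hR'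
    have hcR'' : ∀ k, ∃ hf : R (c k), ∃ i, ∃ a, (m i).app (op (Tk k)) a = fam (c k) hf :=
      fun k => hcR' k
    choose hRk ik ak hak using hcR''
    have hfac : ∀ k, ∃ (W : Over S) (j : W ⟶ T) (c' : Tk k ⟶ W), IsOpenImmersion j.left ∧
        c' ≫ j = c k ∧ Surjective c'.left ∧ Flat c'.left ∧
          LocallyOfFinitePresentation c'.left := fun k =>
      haveI := hcf k
      haveI := hcp k
      exists_open_image (c k)
    choose Wk j c' hjo hfac' hsurj hflat hlfp using hfac
    have hjs : ∀ t : ↥T.left, ∃ k, t ∈ Set.range (j k).left := by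
      intro t
      obtain ⟨k, y, hy⟩ := hcs t
      refine ⟨k, (c' k).left y, ?_⟩
      rw [← Scheme.Hom.comp_apply, ← Over.comp_left, hfac' k, hy]
    have hQ : ∀ k, Sieve.ofArrows (fun _ : PUnit.{u + 1} => Tk k) (fun _ => c' k) ∈ J S (Wk k) :=
      fun k => ofArrows_mem_J _ _ (fun _ => hflat k) (fun _ => hlfp k)
        (fun w => ⟨PUnit.unit, (hsurj k).surj w⟩)
    -- descend the local sections to the open images
    have hbex : ∀ k, ∃ b : (Fi (ik k)).obj (op (Wk k)), (Fi (ik k)).map (c' k).op b = ak k := by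
      intro k
      have hsh : Presieve.IsSheafFor (Fi (ik k))
          (Presieve.ofArrows (fun _ : PUnit.{u + 1} => Tk k) (fun _ => c' k)) :=
        (Presieve.isSheafFor_iff_generate _).2 (ha (ik k) _ (hQ k))
      obtain ⟨b, hb', -⟩ := (Presieve.isSheafFor_arrows_iff _ _).1 hsh (fun _ => ak k) (by
        intro _ _ Z gi gj hg
        apply app_injective m (ik k) Z
        rw [FunctorToTypes.naturality, FunctorToTypes.naturality, hak, hsc', hsc']
        apply hcongr
        rw [← hfac' k, ← Category.assoc, hg, Category.assoc])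
      exact ⟨b, hb' PUnit.unit⟩
    choose bk hbk using hbex
    have hy : ∀ k, F.map (c' k).op ((m (ik k)).app (op (Wk k)) (bk k)) = fam (c k) (hRk k) := by
      intro k
      rw [← FunctorToTypes.naturality, hbk, hak]
    -- glue in the Zariski topology
    have hmemZ := ofArrows_mem_Jzar Wk j hjo hjs
    have hshZ : Presieve.IsSheafFor F (Presieve.ofArrows Wk j) :=
      (Presieve.isSheafFor_iff_generate _).2 (h1 _ hmemZ)
    obtain ⟨t, ht, -⟩ := (Presieve.isSheafFor_arrows_iff _ _).1 hshZ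
      (fun k => (m (ik k)).app (op (Wk k)) (bk k)) (by
        intro k l Z gk gl hg
        refine stepB m hb hc h1 ha
          ((Sieve.ofArrows (fun _ : PUnit.{u + 1} => Tk k) (fun _ => c' k)).pullback gk ⊓
            (Sieve.ofArrows (fun _ : PUnit.{u + 1} => Tk l) (fun _ => c' l)).pullback gl)
          ((J S).intersection_covering ((J S).pullback_stable gk (hQ k))
            ((J S).pullback_stable gl (hQ l))) _ _ ?_
        rintro Y h ⟨h1', h2'⟩
        obtain ⟨_, u, hu⟩ := (Sieve.mem_ofArrows_iff _ _ _).1 h1'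
        obtain ⟨_, w, hw⟩ := (Sieve.mem_ofArrows_iff _ _ _).1 h2'
        rw [map_map, map_map, hu, hw, ← map_map, ← map_map, hy, hy, hsc', hsc']
        apply hcongr
        rw [← hfac' k, ← hfac' l, ← Category.assoc, ← Category.assoc, ← hu, ← hw,
          Category.assoc, Category.assoc, hg])
    have hct : ∀ k, F.map (c k).op t = fam (c k) (hRk k) := by
      intro k
      have e0 : F.map (c k).op t = F.map (c' k).op (F.map (j k).op t) := by
        rw [map_map, hfac' k]
      rw [e0, ht k, hy]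
    refine ⟨t, fun Y f hf => ?_⟩
    refine stepB m hb hc h1 ha ((Sieve.ofArrows Tk c).pullback f)
      ((J S).pullback_stable f (ofArrows_mem_J Tk c hcf hcp hcs)) _ _ ?_
    intro Z h hh
    obtain ⟨k, u, hu⟩ := (Sieve.mem_ofArrows_iff _ _ _).1 hh
    rw [map_map, hu, hsc' f h hf]
    have e : F.map (u ≫ c k).op t = fam (u ≫ c k) (R.downward_closed (hRk k) u) := by
      rw [← map_map, hct k, hsc']
    rw [e]
    exact hcongr hu.symm _ _

end

theorem main (S : Scheme.{u}) (F : AlgSp.PSp S)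
    (h1 : Presheaf.IsSheaf (QuotSh.J Scheme.zariskiPrecoverage S) F) {ι : Type v}
    (Fi : ι → AlgSp.PSp S)
    (m : ∀ i, Fi i ⟶ F) [∀ i, Mono (m i)] (ha : ∀ i, Presheaf.IsSheaf (AlgSp.J S) (Fi i))
    (hb : ∀ i, AlgSp.RepBySp (m i))
    (hc : ∀ (T : Over S) (x : F.obj (Opposite.op T)), ∃ R ∈ (AlgSp.J S) T,
      ∀ ⦃T' : Over S⦄ (f : T' ⟶ T), R.arrows f →
        ∃ i, F.map f.op x ∈ Set.range ((m i).app (Opposite.op T'))) :
    Presheaf.IsSheaf (AlgSp.J S) F := by
  rw [isSheaf_iff_isSheaf_of_type]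
  exact isSheaf m hb hc ((isSheaf_iff_isSheaf_of_type _ _).1 h1)
    (fun i => (isSheaf_iff_isSheaf_of_type _ _).1 (ha i))

end Groth.Agent.Lib.ZarFppf_helper7
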