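import Mathlib

open Polynomial

namespace Groth.Agent.Lib.ZariskiMonic

universe u

section CH
variable {A B : Type u} [CommRing A] [CommRing B] [Algebra A B]

/-- Cayley–Hamilton for an element `b` whose multiplication is represented by `T`. -/
lemma aeval_charpoly_eq_zero {n : ℕ} (v : Fin n → B) (hv : Submodule.span A (Set.range v) = ⊤)
    (T : Matrix (Fin n) (Fin n) A) (b : B)
    (hT : ∀ j, ∑ i, T i j • v i = b * v j) : Polynomial.aeval b T.charpoly = 0 := by
  classical
  have hrep : T.Represents v (Algebra.lmul A B b) := by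
    rw [Matrix.represents_iff']
    intro j
    rw [hT j]; rfl
  let Trep : Matrix.isRepresentation A v := ⟨T, (⟨_, hrep⟩ : ∃ f, T.Represents v f)⟩
  have h1 : Matrix.isRepresentation.toEnd A v hv Trep = Algebra.lmul A B b :=
    Matrix.isRepresentation.eq_toEnd_of_represents A v hv Trep hrep
  have h2 : Polynomial.aeval (Algebra.lmul A B b) T.charpoly = 0 := by
    rw [← h1, Polynomial.aeval_algHom_apply]
    have : Polynomial.aeval Trep T.charpoly = 0 := by
      apply Subtype.ext
      rw [Polynomial.aeval_subalgebra_coe]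
      exact Matrix.aeval_self_charpoly T
    rw [this, map_zero]
  have h3 : Algebra.lmul A B (Polynomial.aeval b T.charpoly) = 0 := by
    rw [← Polynomial.aeval_algHom_apply]; exact h2
  have := LinearMap.congr_fun h3 1
  simpa using this

lemma charpoly_map_eq {n : ℕ} (I : Ideal A) (T : Matrix (Fin (n+1)) (Fin (n+1)) A)
    (h00 : T 0 0 - 1 ∈ I) (hI : ∀ i (j : Fin n), T i j.succ ∈ I) :
    T.charpoly.map (Ideal.Quotient.mk I) = (X - 1) * X ^ n := by
  rw [← Matrix.charpoly_map, Matrix.charpoly, Matrix.det_of_isLowerTriangular]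
  · rw [Fin.prod_univ_succ]
    congr 1
    · rw [Matrix.charmatrix_apply_eq, Matrix.map_apply, Ideal.Quotient.eq.mpr h00, map_one, map_one]
    · have : ∀ j : Fin n, Matrix.charmatrix (T.map (Ideal.Quotient.mk I)) j.succ j.succ = X := by
        intro j
        rw [Matrix.charmatrix_apply_eq, Matrix.map_apply,
          Ideal.Quotient.eq_zero_iff_mem.mpr (hI _ _), map_zero, sub_zero]
      rw [Finset.prod_congr rfl (fun j _ => this j), Finset.prod_const, Finset.card_univ,
        Fintype.card_fin]
  · intro i j hij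
    have hij' : i < j := hij
    have hj0 : j ≠ 0 := by
      rintro rfl
      exact absurd hij' (Fin.not_lt_zero i)
    obtain ⟨j', rfl⟩ := Fin.exists_succ_eq_of_ne_zero hj0
    rw [Matrix.charmatrix_apply_ne _ _ _ hij'.ne, Matrix.map_apply,
      Ideal.Quotient.eq_zero_iff_mem.mpr (hI _ _), map_zero, neg_zero]

end CH

theorem main (A B : Type u) [CommRing A] [CommRing B]
    [Algebra A B] [Module.Finite A B] (I : Ideal A) (hI : I ≤ Ideal.jacobson (⊥ : Ideal A))
    (B₁ B₂ : Type u) [CommRing B₁] [CommRing B₂] [Algebra A B₁] [Algebra A B₂]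
    (e : (B ⧸ I.map (algebraMap A B)) ≃ₐ[A] B₁ × B₂) (h₁ : Function.Surjective (algebraMap A B₁))
    (b : B)
    (hb : e (Ideal.Quotient.mk (I.map (algebraMap A B)) b) = (1, 0)) :
    ∃ (f : A[X]) (d : ℕ), f.Monic ∧ Polynomial.aeval b f = 0 ∧ 1 ≤ d ∧
      f.map (Ideal.Quotient.mk I) = (X - 1) * X ^ d := by
  classical
  have he1 : e (Ideal.Quotient.mk (I.map (algebraMap A B)) (1 - b)) = (0, 1) := by
    rw [map_sub, map_sub, map_one, map_one, hb]
    ext <;> simp
  have hF1 : ∀ y : B, b * ((1 - b) * y) ∈ I • (⊤ : Submodule A B) := by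
    intro y
    rw [Ideal.smul_top_eq_map]
    show b * ((1 - b) * y) ∈ (I.map (algebraMap A B))
    have h0 : Ideal.Quotient.mk (I.map (algebraMap A B)) (b * (1 - b)) = 0 := by
      apply e.injective
      rw [map_mul, map_mul, hb, he1, map_zero]
      ext <;> simp
    have h1 : b * (1 - b) ∈ (I.map (algebraMap A B)) := Ideal.Quotient.eq_zero_iff_mem.mp h0
    have := (I.map (algebraMap A B)).mul_mem_right y h1
    rwa [mul_assoc] at this
  let K : Submodule A B := Submodule.map (LinearMap.mulLeft A (1 - b)) ⊤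
  have hF2 : (⊤ : Submodule A B) ≤ Submodule.span A {1} ⊔ K := by
    apply Submodule.le_of_le_smul_of_le_jacobson_bot Module.Finite.fg_top hI
    intro y _
    obtain ⟨a, ha⟩ := h₁ (e (Ideal.Quotient.mk (I.map (algebraMap A B)) y)).1
    set t : B ⧸ (I.map (algebraMap A B)) := Ideal.Quotient.mk (I.map (algebraMap A B)) y - algebraMap A (B ⧸ (I.map (algebraMap A B))) a with ht
    have ht1 : (e t).1 = 0 := by
      rw [ht, map_sub, AlgEquiv.commutes, Prod.fst_sub, Prod.algebraMap_apply, ← ha, sub_self]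
    have ht2 : Ideal.Quotient.mk (I.map (algebraMap A B)) (1 - b) * t = t := by
      apply e.injective
      rw [map_mul, he1]
      ext
      · simp [ht1]
      · simp
    obtain ⟨z, hz⟩ := Ideal.Quotient.mk_surjective t
    have h3 : y - algebraMap A B a - (1 - b) * z ∈ (I.map (algebraMap A B)) := by
      rw [← Ideal.Quotient.eq_zero_iff_mem, map_sub, map_mul, hz, ht2, ht, map_sub,
        Ideal.Quotient.mk_algebraMap, sub_self]
    have h4 : y = (algebraMap A B a + (1 - b) * z) + (y - algebraMap A B a - (1 - b) * z) := by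
      ring
    rw [h4]
    apply Submodule.add_mem_sup
    · apply Submodule.add_mem_sup
      · rw [Algebra.algebraMap_eq_smul_one]
        exact Submodule.smul_mem _ _ (Submodule.subset_span rfl)
      · exact ⟨z, Submodule.mem_top, rfl⟩
    · rw [Ideal.smul_top_eq_map]; exact h3
  obtain ⟨n, s, hs⟩ := Module.Finite.exists_fin (R := A) (M := B)
  let g : Fin (n+1) → B := Fin.cons 0 s
  have hg : Submodule.span A (Set.range g) = ⊤ := by
    rw [eq_top_iff, ← hs]
    apply Submodule.span_mono
    rintro _ ⟨j, rfl⟩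
    exact ⟨j.succ, by simp [g]⟩
  let v : Fin (n+2) → B := Fin.cons 1 (fun j => (1 - b) * g j)
  have hv0 : v 0 = 1 := rfl
  have hvs : ∀ j : Fin (n+1), v j.succ = (1 - b) * g j := fun j => rfl
  have hK : K ≤ Submodule.span A (Set.range v) := by
    show Submodule.map _ ⊤ ≤ _
    rw [← hg, Submodule.map_span, Submodule.span_le]
    rintro _ ⟨_, ⟨j, rfl⟩, rfl⟩
    apply Submodule.subset_span
    exact ⟨j.succ, (hvs j)⟩
  have hv : Submodule.span A (Set.range v) = ⊤ := by
    rw [eq_top_iff]
    refine hF2.trans (sup_le ?_ hK)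
    rw [Submodule.span_le, Set.singleton_subset_iff]
    exact Submodule.subset_span ⟨0, hv0⟩
  obtain ⟨c, hc⟩ : ∃ c : Fin (n+1) → A, ∑ j, c j • g j = 1 := by
    rw [← Submodule.mem_span_range_iff_exists_fun, hg]; trivial
  have hcol : ∀ j : Fin (n+1), ∃ dcol : Fin (n+2) → A, (∀ i, dcol i ∈ I) ∧
      ∑ i, dcol i • v i = b * v j.succ := by
    intro j
    have := hF1 (g j)
    rw [← hv, Submodule.mem_ideal_smul_span_iff_exists_sum] at this
    obtain ⟨a, haI, hsum⟩ := this
    refine ⟨a, haI, ?_⟩
    rw [hvs, ← hsum, Finsupp.sum_fintype]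
    intro i; exact zero_smul _ _
  choose dcol hdI hdsum using hcol
  let T : Matrix (Fin (n+2)) (Fin (n+2)) A :=
    Matrix.of fun i j => Fin.cases (Fin.cases 1 (fun k => - c k) i) (fun j' => dcol j' i) j
  have hT0 : ∀ i, T i 0 = Fin.cases 1 (fun k => - c k) i := fun i => rfl
  have hTs : ∀ i j', T i (Fin.succ j') = dcol j' i := fun i j' => rfl
  have hT : ∀ j, ∑ i, T i j • v i = b * v j := by
    intro j
    refine Fin.cases ?_ (fun j' => ?_) j
    · rw [Fin.sum_univ_succ]
      simp only [hT0, Fin.cases_zero, Fin.cases_succ, hv0, hvs]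
      have : ∑ k : Fin (n+1), (- c k) • ((1 - b) * g k) = - ((1 - b) * ∑ k, c k • g k) := by
        rw [Finset.mul_sum, ← Finset.sum_neg_distrib]
        apply Finset.sum_congr rfl
        intro k _
        rw [neg_smul, mul_smul_comm]
      rw [this, hc]; simp
    · simp only [hTs]; exact hdsum j'
  refine ⟨T.charpoly, n + 1, T.charpoly_monic, aeval_charpoly_eq_zero v hv T b hT, by omega, ?_⟩
  apply charpoly_map_eq I T
  · rw [hT0]; simp
  · intro i j; rw [hTs]; exact hdI j i

end Groth.Agent.Lib.ZariskiMonic
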