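import Mathlib
import Groth.Prelude.Def_Flat
import Groth.Prelude.Def_MoreMor
import Groth.Agent.Lib.ZeroDimFin_helper8

universe u
open AlgebraicGeometry CategoryTheory CategoryTheory.Limits Topology

namespace Groth.Agent.Lib.ZeroDimFinH8

variable {X Y : Scheme.{u}} (f : X ⟶ Y)

theorem setOf_dim_eq_zero_eq [LocallyOfFiniteType f] :
    {y : Y | topologicalKrullDim (f.base ⁻¹' {y}) = 0} =
      (f '' {x : X | FlatMor.fibreDimAt f x ≤ ((0 : ℕ) : WithBot ℕ∞)}ᶜ)ᶜ ∩ (f '' Set.univ) := by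
  have h1 := FibDimConsH8.setOf_dim_le_eq f 0
  have h2 := FibDimConsH8.setOf_dim_le_bot_eq f
  ext y
  have e1 : y ∈ {s : Y | topologicalKrullDim (f.fiber s) ≤ (((0 : ℕ) : ℕ∞) : WithBot ℕ∞)} ↔
      y ∈ (f '' {x : X | FlatMor.fibreDimAt f x ≤ ((0 : ℕ) : WithBot ℕ∞)}ᶜ)ᶜ := by rw [h1]
  have e2 : y ∈ {s : Y | topologicalKrullDim (f.fiber s) ≤ ⊥} ↔ y ∈ (f '' Set.univ)ᶜ := by rw [h2]
  simp only [Set.mem_ofPred_eq] at e1 e2
  rw [Set.mem_inter_iff, ← e1, ← not_not (a := y ∈ f '' Set.univ), ← Set.mem_compl_iff, ← e2,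
    Set.mem_ofPred_eq, dim_preimage_eq]
  generalize topologicalKrullDim ↥(f.fiber y) = c
  induction c with
  | bot => simp
  | coe a =>
    simp only [Nat.cast_zero, WithBot.coe_zero, le_bot_iff, WithBot.coe_ne_bot, not_false_eq_true,
      and_true]
    constructor
    · intro h; rw [h]
    · intro h; exact le_antisymm h (by exact_mod_cast bot_le)

theorem image_not_le_eq [Flat f] [LocallyOfFiniteType f] :
    f '' {x : X | FlatMor.fibreDimAt f x ≤ ((0 : ℕ) : WithBot ℕ∞)}ᶜ =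
      ⋃ d : {d : WithBot ℕ∞ // ¬ d ≤ ((0 : ℕ) : WithBot ℕ∞)},
        f '' {x : X | MoreMor.IsCMAt f x ∧ FlatMor.fibreDimAt f x = d.1} := by
  ext y
  simp only [Set.mem_image, Set.mem_compl_iff, Set.mem_ofPred_eq, Set.mem_iUnion]
  constructor
  · rintro ⟨x, hx, rfl⟩
    obtain ⟨x', h1, h2, h3, h4⟩ := EquidimIrrH8.exists_fibre_max_dim f x
    have h3' : ∀ x'' : X, f.base x'' = f.base x' → x'' ⤳ x' → x'' = x' := fun x'' h h' =>
      h3 x'' (h.trans h1) h'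
    obtain ⟨hcm, hd⟩ := isCMAt_of_fibre_max f x' h3'
    refine ⟨⟨FlatMor.fibreDimAt f x', ?_⟩, x', ⟨hcm, rfl⟩, h1⟩
    intro hle
    apply hx
    rw [hd] at hle
    exact h4.trans hle
  · rintro ⟨⟨d, hd⟩, x, ⟨-, hx⟩, rfl⟩
    exact ⟨x, by rw [hx]; exact hd, rfl⟩

theorem isClopen_dim_eq_zero [IsProper f] [Flat f] [LocallyOfFinitePresentation f] :
    IsClopen {y : Y | topologicalKrullDim (f.base ⁻¹' {y}) = 0} := by
  have hopen : IsOpenMap f := f.isOpenMap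
  have hclosed : IsClosedMap f := f.isClosedMap
  rw [setOf_dim_eq_zero_eq]
  refine ⟨?_, ?_⟩
  · -- closed
    refine IsClosed.inter ?_ (hclosed _ isClosed_univ)
    rw [isClosed_compl_iff, image_not_le_eq]
    exact isOpen_iUnion fun d => hopen _ (CMMorH8.isOpen_isCMAt_fibreDimAt_eq f d.1)
  · refine IsOpen.inter ?_ (hopen _ isOpen_univ)
    rw [isOpen_compl_iff]
    apply hclosed
    rw [isClosed_compl_iff]
    exact ChevH8.isOpen_fibreDimAt_le f 0

theorem isFinite_restrict [IsProper f] (U : Y.Opens)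
    (hU : (U : Set Y) ⊆ {y : Y | topologicalKrullDim (f.base ⁻¹' {y}) = 0}) :
    IsFinite (f ∣_ U) := by
  haveI : LocallyQuasiFinite ((f ⁻¹ᵁ U).ι ≫ f) := by
    apply FibCohH8.lqf_of_forall_fibreDimAt_eq_zero
    intro ζ
    rw [EquidimAtH8.fibreDimAt_ι_comp]
    refine le_antisymm ?_ (fibreDimAt_nonneg f _)
    have hmem : f ((f ⁻¹ᵁ U).ι ζ) ∈ {y : Y | topologicalKrullDim (f.base ⁻¹' {y}) = 0} :=
      hU ζ.2
    rw [setOf_dim_eq_zero_eq] at hmem
    by_contra hcon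
    exact hmem.1 ⟨_, hcon, rfl⟩
  haveI : LocallyQuasiFinite (f ∣_ U ≫ U.ι) := by
    rw [morphismRestrict_ι]; infer_instance
  haveI : LocallyQuasiFinite (f ∣_ U) := LocallyQuasiFinite.of_comp (f ∣_ U) U.ι
  exact IsFinite.of_isProper_of_locallyQuasiFinite _

theorem main10889 [IsProper f] [Flat f] [LocallyOfFinitePresentation f] :
    IsClopen {y : Y | topologicalKrullDim (f.base ⁻¹' {y}) = 0} ∧
      ∀ U : Y.Opens, (U : Set Y) ⊆ {y : Y | topologicalKrullDim (f.base ⁻¹' {y}) = 0} →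
        IsFinite (f ∣_ U) :=
  ⟨isClopen_dim_eq_zero f, fun U hU => isFinite_restrict f U hU⟩

end Groth.Agent.Lib.ZeroDimFinH8
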