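import Mathlib
import Groth.Prelude
import Groth.Agent.Lib.AnnSh_helper8
import Groth.Agent.Lib.FLF8_helper8
import Groth.Agent.Lib.PB8_helper8
import Groth.Agent.Lib.BasisHom_helper7

/-!
# The zero scheme of a homomorphism into a finite locally free module (helper8)

For `v : E ⟶ F` with `E` quasi-coherent and `F` finite locally free, the ideal sheaf
`zeroIdeal v` with `zeroIdeal(U) = ⟨φ(v x) | x ∈ E(U), φ ∈ F(U)^∨⟩` on affine opens, and its
universal property: `f : T ⟶ S` factors through `V(zeroIdeal v)` iff `f^* v = 0`.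
APPEND-ONLY once landed.
-/

set_option autoImplicit false

universe u

open CategoryTheory CategoryTheory.Limits AlgebraicGeometry Opposite TopologicalSpace
open QcqsLoc QCohExtn RelFPKit

namespace Groth.Agent.Lib.ZeroHomH8

section Alg

/-- the ideal generated by the "coordinates" of the values of `v`. -/
def zI (A : Type u) [CommRing A] {M N : Type u} [AddCommGroup N] [Module A N] (v : M → N) :
    Ideal A :=
  Ideal.span {c | ∃ (x : M) (φ : N →ₗ[A] A), c = φ (v x)}

theorem mem_zI {A : Type u} [CommRing A] {M N : Type u} [AddCommGroup N] [Module A N] (v : M → N)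
    (x : M) (φ : N →ₗ[A] A) : φ (v x) ∈ zI A v :=
  Ideal.subset_span ⟨x, φ, rfl⟩

/-- finite dual basis of a finite projective module -/
theorem exists_dual_basis (A : Type u) [CommRing A] (N : Type u) [AddCommGroup N] [Module A N]
    [Module.Finite A N] [Module.Projective A N] :
    ∃ (n : ℕ) (m : Fin n → N) (φ : Fin n → (N →ₗ[A] A)), ∀ x, x = ∑ j, φ j x • m j := by
  obtain ⟨n, π, hπ⟩ := Module.Finite.exists_fin' A N
  obtain ⟨s, hs⟩ := Module.projective_lifting_property π LinearMap.id hπ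
  refine ⟨n, fun j => π (Pi.single j 1), fun j => (LinearMap.proj j).comp s, fun x => ?_⟩
  have h1 : x = π (s x) := (LinearMap.congr_fun hs x).symm
  conv_lhs => rw [h1]
  rw [LinearMap.pi_apply_eq_sum_univ π (s x)]
  refine Finset.sum_congr rfl (fun j _ => ?_)
  congr 2
  funext k
  simp [Pi.single_apply, eq_comm]

variable {A A' : Type u} [CommRing A] [CommRing A'] {ρ : A →+* A'} {a : A}
  {M M' N N' : Type u} [AddCommGroup M] [Module A M] [AddCommGroup M'] [Module A' M']
  [AddCommGroup N] [Module A N] [AddCommGroup N'] [Module A' N']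
  {lM : M →+ M'} {lN : N →+ N'}

/-- functionals localize -/
theorem exists_loc_functional (h : LocData ρ a lN) (φ : N →ₗ[A] A) :
    ∃ φ' : N' →ₗ[A'] A', ∀ n, φ' (lN n) = ρ (φ n) := by
  letI algA' : Algebra A A' := ρ.toAlgebra
  haveI : IsLocalization.Away a A' := h.isLoc
  letI modAN' : Module A N' := Module.compHom N' ρ
  haveI : IsScalarTower A A' N' := IsScalarTower.of_algebraMap_smul (fun _ _ => rfl)
  let lA : N →ₗ[A] N' := { toFun := lN, map_add' := lN.map_add, map_smul' := h.smul }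
  haveI : IsLocalizedModule (Submonoid.powers a) lA := by
    refine ⟨?_, ?_, ?_⟩
    · rintro ⟨x, n, rfl⟩
      rw [Module.End.isUnit_iff]
      have hu : IsUnit (ρ (a ^ n)) := by
        rw [map_pow]
        exact (IsLocalization.Away.algebraMap_isUnit (S := A') a).pow n
      obtain ⟨u, hu⟩ := hu
      have : (fun m' : N' => (algebraMap A (Module.End A N') (a ^ n)) m') = fun m' => u • m' := by
        funext m'
        show ρ (a ^ n) • m' = u • m'
        rw [← hu]; rfl
      show Function.Bijective (fun m' : N' => (algebraMap A (Module.End A N') (a ^ n)) m')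
      rw [this]
      exact MulAction.bijective u
    · intro y
      obtain ⟨n, m, hnm⟩ := h.surj y
      refine ⟨(m, ⟨a ^ n, n, rfl⟩), ?_⟩
      show ρ (a ^ n) • y = lN m
      rw [map_pow]; exact hnm
    · intro x₁ x₂ hx
      have h0 : lN (x₁ - x₂) = 0 := by
        rw [map_sub]; exact sub_eq_zero.mpr hx
      obtain ⟨n, hn⟩ := h.ker _ h0
      refine ⟨⟨a ^ n, n, rfl⟩, ?_⟩
      show a ^ n • x₁ = a ^ n • x₂
      rw [smul_sub] at hn
      exact sub_eq_zero.mp hn
  let g : N →ₗ[A] A' := (Algebra.linearMap A A').comp φ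
  have hunits : ∀ x : Submonoid.powers a, IsUnit (algebraMap A (Module.End A A') x) := by
    rintro ⟨x, n, rfl⟩
    rw [Module.End.isUnit_iff]
    have hu : IsUnit (ρ (a ^ n)) := by
      rw [map_pow]
      exact (IsLocalization.Away.algebraMap_isUnit (S := A') a).pow n
    obtain ⟨u, hu⟩ := hu
    have : (fun m' : A' => (algebraMap A (Module.End A A') (a ^ n)) m') = fun m' => u • m' := by
      funext m'
      show ρ (a ^ n) • m' = u • m'
      rw [← hu]; rfl
    show Function.Bijective (fun m' : A' => (algebraMap A (Module.End A A') (a ^ n)) m')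
    rw [this]
    exact MulAction.bijective u
  let ℓ : N' →ₗ[A] A' := IsLocalizedModule.lift (Submonoid.powers a) lA g hunits
  refine ⟨LinearMap.extendScalarsOfIsLocalization (Submonoid.powers a) A' ℓ, fun n => ?_⟩
  show ℓ (lA n) = ρ (φ n)
  exact IsLocalizedModule.lift_apply (Submonoid.powers a) lA g hunits n

/-- the ideal `zI` commutes with localization away from an element. -/
theorem map_zI (hM : LocData ρ a lM) (hN : LocData ρ a lN) [Module.Finite A N]
    [Module.Projective A N] (v : M → N) (v' : M' → N') (hv : ∀ x, v' (lM x) = lN (v x))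
    (hv' : ∀ (c : A') (x : M'), v' (c • x) = c • v' x) :
    (zI A v).map ρ = zI A' v' := by
  letI := ρ.toAlgebra
  haveI := hN.isLoc
  have hu : IsUnit (ρ a) := IsLocalization.Away.algebraMap_isUnit (S := A') a
  apply le_antisymm
  · rw [Ideal.map_le_iff_le_comap]
    refine Ideal.span_le.mpr ?_
    rintro c ⟨x, φ, rfl⟩
    obtain ⟨φ', hφ'⟩ := exists_loc_functional hN φ
    show ρ (φ (v x)) ∈ zI A' v'
    rw [← hφ', ← hv]
    exact mem_zI v' _ φ'
  · refine Ideal.span_le.mpr ?_
    rintro c ⟨y, ψ, rfl⟩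
    obtain ⟨n, x, hx⟩ := hM.surj y
    obtain ⟨k, m, φ, hdb⟩ := exists_dual_basis A N
    have h1 : ρ a ^ n * ψ (v' y) = ∑ j, ρ (φ j (v x)) * ψ (lN (m j)) := by
      have h2 : ρ a ^ n * ψ (v' y) = ψ (v' (ρ a ^ n • y)) := by
        rw [hv', map_smul, smul_eq_mul]
      rw [h2, hx, hv]
      conv_lhs => rw [hdb (v x)]
      rw [map_sum, map_sum]
      refine Finset.sum_congr rfl (fun j _ => ?_)
      rw [hN.smul, map_smul, smul_eq_mul]
    have h3 : ρ a ^ n * ψ (v' y) ∈ (zI A v).map ρ := by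
      rw [h1]
      refine Ideal.sum_mem _ (fun j _ => ?_)
      exact Ideal.mul_mem_right _ _ (Ideal.mem_map_of_mem ρ (mem_zI v x (φ j)))
    obtain ⟨w, hw⟩ := hu.pow n
    have h4 : ψ (v' y) = ((w⁻¹ : A'ˣ) : A') * (ρ a ^ n * ψ (v' y)) := by
      rw [← hw, ← mul_assoc, Units.inv_mul, one_mul]
    show ψ (v' y) ∈ (zI A v).map ρ
    rw [h4]
    exact Ideal.mul_mem_left _ _ h3

end Alg


section Sheaf

variable {S : Scheme.{u}} {E F : S.Modules} (v : E ⟶ F)

/-- **The ideal sheaf of the zero scheme of `v : E ⟶ F`** (`E` quasi-coherent, `F` finite locally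
free). -/
noncomputable def zeroIdeal [E.IsQuasicoherent] [F.IsQuasicoherent]
    (hF : FlatMod.IsFinLocFree F) : S.IdealSheafData where
  ideal U := zI Γ(S, U.1) (ap v U.1)
  map_ideal_basicOpen U a := by
    obtain ⟨hfp, hflat⟩ := FLFH8.fp_flat_sections_of_finLocFree F hF U.2
    haveI : Module.Projective Γ(S, U.1) Γ(F, U.1) := Module.Flat.projective_of_finitePresentation
    haveI : Module.Finite Γ(S, U.1) Γ(F, U.1) := inferInstance
    exact map_zI (RelFPAff.locData (F := E) U.2 a (homOfLE (S.basicOpen_le a)) rfl)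
      (RelFPAff.locData (F := F) U.2 a (homOfLE (S.basicOpen_le a)) rfl) (ap v U.1)
      (ap v (S.basicOpen a)) (fun x => ap_rF v (S.basicOpen_le a) x)
      (fun c x => ap_smul v c x)

theorem zeroIdeal_ideal [E.IsQuasicoherent] [F.IsQuasicoherent]
    (hF : FlatMod.IsFinLocFree F) (U : S.affineOpens) :
    (zeroIdeal v hF).ideal U = zI Γ(S, U.1) (ap v U.1) := rfl

/-- factorization through a closed subscheme, in terms of sections. -/
theorem factors_iff {T : Scheme.{u}} (f : T ⟶ S) (I : S.IdealSheafData) :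
    (∃ g : T ⟶ I.subscheme, g ≫ I.subschemeι = f) ↔
      ∀ U : S.affineOpens, I.ideal U ≤ RingHom.ker (f.app U.1).hom := by
  constructor
  · rintro ⟨g, rfl⟩ U
    have h1 := Scheme.Hom.le_ker_comp g I.subschemeι
    rw [Scheme.IdealSheafData.ker_subschemeι] at h1
    exact (h1 U).trans (Scheme.Hom.ideal_ker_le _ U)
  · intro h
    have h1 : I.subschemeι.ker ≤ f.ker := by
      rw [Scheme.IdealSheafData.ker_subschemeι]
      exact Scheme.IdealSheafData.le_ofIdeals_iff.mpr h
    exact ⟨IsClosedImmersion.lift I.subschemeι f h1, IsClosedImmersion.lift_fac _ _ _⟩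

variable {T : Scheme.{u}} (f : T ⟶ S)

/-- if `f^* v = 0` then the coordinates of `v` die on `T`. -/
theorem appLE_eq_zero_of_pullback_eq_zero [F.IsQuasicoherent]
    (hv : (Scheme.Modules.pullback f).map v = 0)
    {U : S.Opens} {W : T.Opens} (hU : IsAffineOpen U) (hW : IsAffineOpen W) (h : W ≤ f ⁻¹ᵁ U)
    (x : Γ(E, U)) (φ : Γ(F, U) →ₗ[Γ(S, U)] Γ(S, U)) :
    f.appLE U W h (φ (ap v U x)) = 0 := by
  letI := (f.appLE U W h).hom.toAlgebra
  letI m₂ : Module Γ(S, U) Γ((Scheme.Modules.pullback f).obj F, W) :=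
    Module.compHom _ (f.appLE U W h).hom
  haveI : IsScalarTower Γ(S, U) Γ(T, W) Γ((Scheme.Modules.pullback f).obj F, W) :=
    IsScalarTower.of_algebraMap_smul fun _ _ => rfl
  have hb := PBH8.isBaseChange_cUV f F h hW hU
  let g : Γ(F, U) →ₗ[Γ(S, U)] Γ(T, W) := (Algebra.linearMap Γ(S, U) Γ(T, W)).comp φ
  have h1 : hb.lift g (PBH8.cUVLin f F h (ap v U x)) = g (ap v U x) := hb.lift_eq g _
  have h2 : PBH8.cUVLin f F h (ap v U x) = 0 := by
    have h3 := PBH8.cUV_naturality f v h x
    rw [hv] at h3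
    exact h3.symm
  rw [h2, map_zero] at h1
  exact h1.symm

/-- if the coordinates of `v` die on `T` then `f^* v` vanishes on sections. -/
theorem pullback_app_eq_zero [E.IsQuasicoherent] [F.IsQuasicoherent]
    (hF : FlatMod.IsFinLocFree F)
    {U : S.Opens} {W : T.Opens} (hU : IsAffineOpen U) (hW : IsAffineOpen W) (h : W ≤ f ⁻¹ᵁ U)
    (hz : ∀ (x : Γ(E, U)) (φ : Γ(F, U) →ₗ[Γ(S, U)] Γ(S, U)), f.appLE U W h (φ (ap v U x)) = 0)
    (y : Γ((Scheme.Modules.pullback f).obj E, W)) :
    ap ((Scheme.Modules.pullback f).map v) W y = 0 := by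
  letI := (f.appLE U W h).hom.toAlgebra
  letI m₁ : Module Γ(S, U) Γ((Scheme.Modules.pullback f).obj E, W) :=
    Module.compHom _ (f.appLE U W h).hom
  haveI : IsScalarTower Γ(S, U) Γ(T, W) Γ((Scheme.Modules.pullback f).obj E, W) :=
    IsScalarTower.of_algebraMap_smul fun _ _ => rfl
  letI m₂ : Module Γ(S, U) Γ((Scheme.Modules.pullback f).obj F, W) :=
    Module.compHom _ (f.appLE U W h).hom
  haveI : IsScalarTower Γ(S, U) Γ(T, W) Γ((Scheme.Modules.pullback f).obj F, W) :=
    IsScalarTower.of_algebraMap_smul fun _ _ => rfl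
  have hb := PBH8.isBaseChange_cUV f E h hW hU
  obtain ⟨hfp, hflat⟩ := FLFH8.fp_flat_sections_of_finLocFree F hF hU
  haveI : Module.Projective Γ(S, U) Γ(F, U) := Module.Flat.projective_of_finitePresentation
  haveI : Module.Finite Γ(S, U) Γ(F, U) := inferInstance
  obtain ⟨k, m, φ, hdb⟩ := exists_dual_basis Γ(S, U) Γ(F, U)
  refine hb.inductionOn y (fun y => ap ((Scheme.Modules.pullback f).map v) W y = 0)
    (map_zero _) ?_ ?_ ?_
  · intro x
    have h3 : ap ((Scheme.Modules.pullback f).map v) W (PBH8.cUVLin f E h x) =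
        PBH8.cUVLin f F h (ap v U x) := PBH8.cUV_naturality f v h x
    rw [h3]
    conv_lhs => rw [hdb (ap v U x)]
    rw [map_sum]
    refine Finset.sum_eq_zero (fun j _ => ?_)
    rw [map_smul]
    show (f.appLE U W h (φ j (ap v U x))) • PBH8.cUVLin f F h (m j) = 0
    rw [hz, zero_smul]
  · intro s n hn
    show ap ((Scheme.Modules.pullback f).map v) W (s • n) = 0
    rw [ap_smul, hn, smul_zero]
  · intro n₁ n₂ h₁ h₂
    show ap ((Scheme.Modules.pullback f).map v) W (n₁ + n₂) = 0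
    rw [map_add, h₁, h₂, add_zero]

/-- the affine opens of `T` mapping into an affine open of `S` form a basis. -/
theorem isBasis_affine_over :
    Opens.IsBasis {W : T.Opens | IsAffineOpen W ∧ ∃ V : S.Opens, IsAffineOpen V ∧ W ≤ f ⁻¹ᵁ V} := by
  rw [Opens.isBasis_iff_nbhd]
  intro O x hx
  obtain ⟨_, ⟨V, hV : IsAffineOpen V, rfl⟩, hyV, -⟩ :=
    (S.isBasis_affineOpens).exists_subset_of_mem_open (Set.mem_univ (f.base x)) isOpen_univ
  obtain ⟨_, ⟨U, hU : IsAffineOpen U, rfl⟩, hxU, hUV⟩ :=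
    (T.isBasis_affineOpens).exists_subset_of_mem_open
      (show x ∈ (O ⊓ f ⁻¹ᵁ V : T.Opens) from ⟨hx, hyV⟩) (O ⊓ f ⁻¹ᵁ V).isOpen
  exact ⟨U, ⟨hU, V, hV, fun y hy => (hUV hy).2⟩, hxU, fun y hy => (hUV hy).1⟩

/-- **Universal property of the zero scheme.** -/
theorem factors_zeroIdeal_iff [E.IsQuasicoherent] [F.IsQuasicoherent]
    (hF : FlatMod.IsFinLocFree F) :
    (∃ g : T ⟶ (zeroIdeal v hF).subscheme, g ≫ (zeroIdeal v hF).subschemeι = f) ↔
      (Scheme.Modules.pullback f).map v = 0 := by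
  rw [factors_iff]
  constructor
  · intro h
    refine Groth.Agent.Lib.BasisHomH7.hom_ext_basis (isBasis_affine_over f) _ _ ?_
    rintro W ⟨hW, V, hV, hWV⟩ y
    have hz : ∀ (x : Γ(E, V)) (φ : Γ(F, V) →ₗ[Γ(S, V)] Γ(S, V)),
        f.appLE V W hWV (φ (ap v V x)) = 0 := by
      intro x φ
      have h1 : φ (ap v V x) ∈ RingHom.ker (f.app V).hom := h ⟨V, hV⟩ (mem_zI _ x φ)
      have h2 : (f.app V).hom (φ (ap v V x)) = 0 := h1
      show (f.app V ≫ T.presheaf.map (homOfLE hWV).op).hom (φ (ap v V x)) = 0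
      rw [CommRingCat.hom_comp, RingHom.comp_apply, h2, map_zero]
    rw [pullback_app_eq_zero v f hF hV hW hWV hz y]
    rfl
  · intro hv U
    refine Ideal.span_le.mpr ?_
    rintro c ⟨x, φ, rfl⟩
    show (f.app U.1).hom (φ (ap v U.1 x)) = 0
    refine TopCat.Sheaf.eq_of_locally_eq' T.sheaf
      (fun i : {W : T.Opens // IsAffineOpen W ∧ W ≤ f ⁻¹ᵁ U.1} => i.1) (f ⁻¹ᵁ U.1)
      (fun i => homOfLE i.2.2) ?_ _ 0 ?_
    · intro t ht
      obtain ⟨_, ⟨W, hW : IsAffineOpen W, rfl⟩, htW, hWU⟩ :=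
        (T.isBasis_affineOpens).exists_subset_of_mem_open ht (f ⁻¹ᵁ U.1).isOpen
      exact Opens.mem_iSup.mpr ⟨⟨W, hW, hWU⟩, htW⟩
    · intro i
      have h1 := appLE_eq_zero_of_pullback_eq_zero v f hv U.2 i.2.1 i.2.2 x φ
      have h2 : (T.presheaf.map (homOfLE i.2.2).op).hom ((f.app U.1).hom (φ (ap v U.1 x))) = 0 :=
        h1
      refine h2.trans ?_
      exact (map_zero (T.presheaf.map (homOfLE i.2.2).op).hom).symm

end Sheaf

end Groth.Agent.Lib.ZeroHomH8
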