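import Mathlib
import Groth.Agent.Lib.HtTrdeg_helper8
import Groth.Agent.Lib.ClosHt_helper8
import Groth.Agent.Lib.GenDense_helper8

/-! Dimension of nowhere dense closed subsets; hypersurface sections of schemes locally of
finite type over a field. -/

universe u

open CategoryTheory CategoryTheory.Limits AlgebraicGeometry
attribute [local instance] Curv2.stalkAlgebra Curv2.resAlgebra

namespace Groth.Agent.ZeroLocDimH8

theorem dim_closed_le (X : Scheme.{u}) (Y : Set X) (hY : IsClosed Y) :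
    topologicalKrullDim ↥Y ≤ ⨆ y : Y, ((Order.height (y.1 : X) : ℕ∞) : WithBot ℕ∞) := by
  have hemb : Topology.IsClosedEmbedding (Subtype.val : Y → X) := hY.isClosedEmbedding_subtypeVal
  haveI : QuasiSober Y := hemb.quasiSober
  have h1 : topologicalKrullDim ↥Y = @Order.krullDim Y (specializationPreorder _) := by
    unfold topologicalKrullDim
    exact @Order.krullDim_eq_of_orderIso (TopologicalSpace.IrreducibleCloseds Y) Y _
      (specializationPreorder _) (irreducibleSetEquivPoints (α := Y))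
  rw [h1]
  letI := specializationPreorder Y
  rw [Order.krullDim_eq_iSup_height]
  refine iSup_le fun y => ?_
  refine le_trans ?_ (le_iSup (fun y : Y => ((Order.height (y.1 : X) : ℕ∞) : WithBot ℕ∞)) y)
  have hsm : StrictMono (Subtype.val : Y → X) := by
    intro a b hab
    rw [lt_iff_le_not_ge] at hab ⊢
    obtain ⟨h1, h2⟩ := hab
    have h1' : b ⤳ a := h1
    constructor
    · change (b : X) ⤳ (a : X)
      exact (subtype_specializes_iff b a).mp h1'
    · intro h3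
      apply h2
      have h3' : (a : X) ⤳ (b : X) := h3
      change a ⤳ b
      exact (subtype_specializes_iff a b).mpr h3'
  exact_mod_cast Order.height_le_height_apply_of_strictMono _ hsm y

theorem height_le_dim_closed (X : Scheme.{u}) (Y : Set X) (hY : IsClosed Y) (y : X) (hy : y ∈ Y) :
    ((Order.height y : ℕ∞) : WithBot ℕ∞) ≤ topologicalKrullDim ↥Y := by
  rw [← Groth.Agent.ClosHtH8.topologicalKrullDim_closure_singleton X y]
  have hsub : closure ({y} : Set X) ⊆ Y := hY.closure_subset_iff.mpr (Set.singleton_subset_iff.mpr hy)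
  exact (Topology.IsEmbedding.inclusion hsub).isInducing.topologicalKrullDim_le

theorem dim_add_one_le (X : Scheme.{u}) [IsLocallyNoetherian X] (Y : Set X) (hYc : IsClosed Y)
    (hY : interior Y = ∅) : topologicalKrullDim ↥Y + 1 ≤ topologicalKrullDim X := by
  have hd : Dense Yᶜ := interior_eq_empty_iff_dense_compl.mp hY
  have hstar : ∀ y : Y, ((Order.height (y.1 : X) + 1 : ℕ∞) : WithBot ℕ∞) ≤ topologicalKrullDim X := by
    intro y
    have hnm : ¬ ∀ z : X, z ⤳ y.1 → z = y.1 := by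
      intro hmax
      exact Groth.Agent.GenDenseH8.mem_of_dense_of_isMax X Yᶜ hYc.isOpen_compl hd y.1 hmax y.2
    push Not at hnm
    obtain ⟨z, hz, hzne⟩ := hnm
    have hlt : y.1 < z := by
      rw [lt_iff_le_not_ge]
      refine ⟨hz, fun h => hzne ?_⟩
      have h' : y.1 ⤳ z := h
      exact ((hz.antisymm h').eq)
    have h1 := Order.height_add_one_le hlt
    rw [Groth.Agent.ClosHtH8.topologicalKrullDim_eq_iSup_height]
    refine le_trans ?_ (le_iSup (fun a : X => ((Order.height a : ℕ∞) : WithBot ℕ∞)) z)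
    exact_mod_cast h1
  refine le_trans (add_le_add_left (dim_closed_le X Y hYc) 1) ?_
  by_cases hne : Nonempty Y
  · rw [← WithBot.coe_iSup (OrderTop.bddAbove _)]
    have : (((⨆ y : Y, Order.height (y.1 : X) : ℕ∞) : WithBot ℕ∞) + 1) =
        (((⨆ y : Y, Order.height (y.1 : X)) + 1 : ℕ∞) : WithBot ℕ∞) := by
      push_cast; rfl
    rw [this, ENat.iSup_add]
    rw [WithBot.coe_iSup (OrderTop.bddAbove _)]
    exact iSup_le hstar
  · rw [not_nonempty_iff] at hne
    rw [iSup_of_empty, WithBot.bot_add]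
    exact bot_le

section field

theorem mem_zeroLocus_fromSpec_iff (X : Scheme.{u}) {U : X.Opens} (hU : IsAffineOpen U) (f : Γ(X, ⊤))
    (q : PrimeSpectrum Γ(X, U)) :
    hU.fromSpec q ∈ X.zeroLocus (U := ⊤) {f} ↔
      (X.presheaf.map (homOfLE (le_top : U ≤ ⊤)).op).hom f ∈ q.asIdeal := by
  have h1 := X.zeroLocus_map (le_top : U ≤ ⊤) ({f} : Set Γ(X, ⊤))
  rw [Set.image_singleton] at h1
  have h2 := hU.fromSpec_preimage_zeroLocus
    ({(X.presheaf.map (homOfLE (le_top : U ≤ ⊤)).op).hom f} : Set Γ(X, U))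
  have hmem : hU.fromSpec q ∈ U := Groth.Agent.SchFTH8.fromSpec_mem hU q
  have h3 : hU.fromSpec q ∈ X.zeroLocus (U := ⊤) {f} ↔
      hU.fromSpec q ∈ X.zeroLocus (U := U) {(X.presheaf.map (homOfLE (le_top : U ≤ ⊤)).op).hom f} := by
    rw [h1]
    constructor
    · intro h; exact Or.inl h
    · rintro (h | h)
      · exact h
      · exact absurd hmem h
  rw [h3]
  have h4 : hU.fromSpec q ∈ X.zeroLocus (U := U)
      {(X.presheaf.map (homOfLE (le_top : U ≤ ⊤)).op).hom f} ↔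
      q ∈ hU.fromSpec ⁻¹' X.zeroLocus (U := U)
        {(X.presheaf.map (homOfLE (le_top : U ≤ ⊤)).op).hom f} := Iff.rfl
  rw [h4, h2]
  change ({(X.presheaf.map (homOfLE (le_top : U ≤ ⊤)).op).hom f} : Set Γ(X, U)) ⊆
    (q.asIdeal : Set Γ(X, U)) ↔ _
  rw [Set.singleton_subset_iff]
  rfl

theorem trdeg_congr (k : Type u) [Field k] {A : Type u} [CommRing A] [Algebra k A] (I J : Ideal A) (h : I = J) :
    Algebra.trdeg k (A ⧸ I) = Algebra.trdeg k (A ⧸ J) := by
  subst h; rfl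

theorem le_dim_add_one (k : Type u) [Field k] (X : Scheme.{u}) [X.Over (Spec (CommRingCat.of k))]
    [LocallyOfFiniteType (X ↘ (Spec (CommRingCat.of k)))] (f : Γ(X, ⊤)) (hY : interior (X.zeroLocus (U := ⊤) {f}) = ∅)
    (Z : Set X) (hZ : Z ∈ irreducibleComponents X)
    (hZd : topologicalKrullDim ↥Z = topologicalKrullDim X)
    (hne : (Z ∩ X.zeroLocus (U := ⊤) {f}).Nonempty) :
    topologicalKrullDim X ≤ topologicalKrullDim ↥(X.zeroLocus (U := ⊤) {f}) + 1 := by
  classical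
  haveI : IsLocallyNoetherian X :=
    LocallyOfFiniteType.isLocallyNoetherian (X ↘ (Spec (CommRingCat.of k)))
  have hYc : IsClosed (X.zeroLocus (U := ⊤) {f}) := X.zeroLocus_isClosed _
  have hd : Dense (X.zeroLocus (U := ⊤) {f})ᶜ := interior_eq_empty_iff_dense_compl.mp hY
  obtain ⟨y, hyZ, hyY⟩ := hne
  obtain ⟨ξ, hξ⟩ := QuasiSober.sober hZ.1 (isClosed_of_mem_irreducibleComponents Z hZ)
  have hξZ : closure ({ξ} : Set X) = Z := hξ.def
  have hdimZ : topologicalKrullDim ↥Z = ((Order.height ξ : ℕ∞) : WithBot ℕ∞) := by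
    rw [← hξZ]
    exact Groth.Agent.ClosHtH8.topologicalKrullDim_closure_singleton X ξ
  obtain ⟨n, hn, hhn⟩ := Groth.Agent.HtTrdegH8.height_eq_trdeg k X ξ
  have hmax : ∀ z : X, z ⤳ ξ → z = ξ :=
    (Groth.Agent.SchFTH8.closure_mem_irreducibleComponents_iff ξ).mp (hξZ ▸ hZ)
  have hξY : ξ ∉ X.zeroLocus (U := ⊤) {f} :=
    Groth.Agent.GenDenseH8.mem_of_dense_of_isMax X _ hYc.isOpen_compl hd ξ hmax
  have hsp : ξ ⤳ y := by
    rw [specializes_iff_mem_closure, hξZ]; exact hyZ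
  obtain ⟨U, hU, hyU⟩ := Groth.Agent.HtTrdegH8.exists_affine X y
  have hξU : ξ ∈ U := hsp.mem_open U.2 hyU
  letI := Groth.Agent.SchFTH8.secAlgebra k X U
  haveI := Groth.Agent.SchFTH8.finiteType_sec k X U hU
  haveI : IsNoetherianRing Γ(X, U) := Algebra.FiniteType.isNoetherianRing k Γ(X, U)
  set fU := (X.presheaf.map (homOfLE (le_top : U ≤ ⊤)).op).hom f with hfU
  set p := (hU.primeIdealOf ⟨ξ, hξU⟩).asIdeal with hp
  set Py := (hU.primeIdealOf ⟨y, hyU⟩).asIdeal with hPy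
  haveI hpp : p.IsPrime := (hU.primeIdealOf ⟨ξ, hξU⟩).2
  haveI hPyp : Py.IsPrime := (hU.primeIdealOf ⟨y, hyU⟩).2
  have hle : p ≤ Py :=
    (Groth.Agent.SchFTH8.specializes_iff_primeIdealOf_le hU ξ y hξU hyU).mp hsp
  have hfp : fU ∉ p := by
    intro h
    apply hξY
    have := (mem_zeroLocus_fromSpec_iff X hU f (hU.primeIdealOf ⟨ξ, hξU⟩)).mpr h
    rwa [hU.fromSpec_primeIdealOf] at this
  have hfPy : fU ∈ Py := by
    have := (mem_zeroLocus_fromSpec_iff X hU f (hU.primeIdealOf ⟨y, hyU⟩)).mp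
      (by rw [hU.fromSpec_primeIdealOf]; exact hyY)
    exact this
  -- the quotient domain
  haveI : Algebra.FiniteType k (Γ(X, U) ⧸ p) :=
    Algebra.FiniteType.of_surjective (Ideal.Quotient.mkₐ k p) (Ideal.Quotient.mkₐ_surjective k p)
  have hker : RingHom.ker (Ideal.Quotient.mk p) ≤ Py := by rwa [Ideal.mk_ker]
  haveI hPy' : (Py.map (Ideal.Quotient.mk p)).IsPrime :=
    Ideal.map_isPrime_of_surjective Ideal.Quotient.mk_surjective hker
  have hfbar : Ideal.Quotient.mk p fU ≠ 0 := by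
    rwa [Ne, Ideal.Quotient.eq_zero_iff_mem]
  have hspan : Ideal.span {Ideal.Quotient.mk p fU} ≤ Py.map (Ideal.Quotient.mk p) := by
    rw [Ideal.span_singleton_le_iff_mem]
    exact Ideal.mem_map_of_mem _ hfPy
  obtain ⟨Qb, hQb, hQble⟩ := Ideal.exists_minimalPrimes_le hspan
  haveI hQbp : Qb.IsPrime := hQb.1.1
  have hfQb : Ideal.Quotient.mk p fU ∈ Qb := hQb.1.2 (Ideal.subset_span rfl)
  have hQb1 : Qb.height = 1 := by
    apply le_antisymm
    · exact Ideal.height_le_one_of_isPrincipal_of_mem_minimalPrimes _ Qb hQb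
    · rw [Order.one_le_iff_pos, pos_iff_ne_zero, Ne, Ideal.height_eq_zero_iff_eq_bot]
      intro h
      rw [h] at hfQb
      exact hfbar hfQb
  have hKS := Groth.Agent.DimFT3H8.trdeg_quotient_of_height_eq_one k (Γ(X, U) ⧸ p) Qb hQb1
  -- the prime Q of A and the point y'
  set Q := Qb.comap (Ideal.Quotient.mk p) with hQ
  haveI hQp : Q.IsPrime := Ideal.IsPrime.comap _
  have hpQ : p ≤ Q := by
    intro a ha
    rw [hQ, Ideal.mem_comap, Ideal.Quotient.eq_zero_iff_mem.mpr ha]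
    exact zero_mem _
  have hQmap : Q.map (Ideal.Quotient.mk p) = Qb :=
    Ideal.map_comap_of_surjective _ Ideal.Quotient.mk_surjective Qb
  set y' := hU.fromSpec ⟨Q, hQp⟩ with hy'
  have hy'U : y' ∈ U := Groth.Agent.SchFTH8.fromSpec_mem hU _
  have hy'Y : y' ∈ X.zeroLocus (U := ⊤) {f} :=
    (mem_zeroLocus_fromSpec_iff X hU f ⟨Q, hQp⟩).mpr hfQb
  have hpy' := Groth.Agent.SchFTH8.primeIdealOf_fromSpec hU ⟨Q, hQp⟩ hy'U
  have ht1 : Algebra.trdeg k (X.residueField y') = Algebra.trdeg k (Γ(X, U) ⧸ Q) := by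
    rw [Groth.Agent.SchFTH8.trdeg_residueField k hU y' hy'U]
    exact trdeg_congr k _ _ (congrArg PrimeSpectrum.asIdeal hpy')
  have e := DoubleQuot.quotQuotEquivQuotOfLEₐ k hpQ
  have ht2 : Algebra.trdeg k ((Γ(X, U) ⧸ p) ⧸ Q.map (Ideal.Quotient.mkₐ k p)) =
      Algebra.trdeg k (Γ(X, U) ⧸ Q) := e.trdeg_eq
  have ht3 : Algebra.trdeg k ((Γ(X, U) ⧸ p) ⧸ Qb) = Algebra.trdeg k (Γ(X, U) ⧸ Q) := by
    rw [← ht2]
    exact trdeg_congr k _ _ hQmap.symm
  have ht4 : Algebra.trdeg k (X.residueField ξ) = Algebra.trdeg k (Γ(X, U) ⧸ p) :=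
    Groth.Agent.SchFTH8.trdeg_residueField k hU ξ hξU
  obtain ⟨m, hm, hhm⟩ := Groth.Agent.HtTrdegH8.height_eq_trdeg k X y'
  have hmn : m + 1 = n := by
    have : ((m : ℕ) : Cardinal) + 1 = (n : Cardinal) := by
      rw [← hm, ht1, ← ht3, hKS, ← ht4, hn]
    exact_mod_cast this
  have hfin := height_le_dim_closed X _ hYc y' hy'Y
  rw [hhm] at hfin
  rw [← hZd, hdimZ, hhn, ← hmn]
  calc (((m + 1 : ℕ) : ℕ∞) : WithBot ℕ∞) = (((m : ℕ) : ℕ∞) : WithBot ℕ∞) + 1 := by push_cast; rfl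
    _ ≤ topologicalKrullDim ↥(X.zeroLocus (U := ⊤) {f}) + 1 := add_le_add_left hfin 1

end field

end Groth.Agent.ZeroLocDimH8
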