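import Mathlib
import Groth.Prelude.Def_W4c1zetahwZeta
import Groth.Agent.Lib.PtCountInt_helper4
import Groth.Agent.Lib.FTInt_helper8

/-! Dirichlet series of effective 0-cycles on a scheme of finite type over `ℤ`:
absolute convergence and non-vanishing for `Re s > dim`. -/

set_option autoImplicit false
set_option linter.style.haveILetI false
set_option linter.unusedSectionVars false

universe u

open CategoryTheory AlgebraicGeometry

namespace Groth.Agent.Lib.ZetaDirichletH4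

/-! ### Part 1: abstract Euler-product combinatorics -/

section Abstract

variable {P : Type*}

/-- weight of a cycle -/
noncomputable def W (t : P → ℂ) (α : P →₀ ℕ) : ℂ := α.prod (fun x m => t x ^ m)

theorem W_zero (t : P → ℂ) : W t 0 = 1 := Finsupp.prod_zero_index

theorem W_add (t : P → ℂ) (α β : P →₀ ℕ) : W t (α + β) = W t α * W t β :=
  Finsupp.prod_add_index' (fun _ => pow_zero _) (fun _ _ _ => pow_add _ _ _)

theorem norm_W (t : P → ℂ) (α : P →₀ ℕ) :
    ‖W t α‖ = α.prod (fun x m => ‖t x‖ ^ m) := by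
  unfold W Finsupp.prod
  rw [norm_prod]
  exact Finset.prod_congr rfl fun x _ => norm_pow _ _

theorem sum_finsupp_prod {R : Type*} [CommSemiring R] (s : Finset P) (t : P → Finset ℕ)
    (f : P → ℕ → R) :
    ∑ α ∈ s.finsupp t, ∏ x ∈ s, f x (α x) = ∏ x ∈ s, ∑ b ∈ t x, f x b := by
  classical
  rw [Finset.prod_sum]
  unfold Finset.finsupp
  rw [Finset.sum_map]
  refine Finset.sum_congr rfl fun p _ => ?_
  refine (Finset.prod_attach s (fun x => f x ((Finsupp.indicator s p) x))).symm.trans ?_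
  refine Finset.prod_congr rfl fun x _ => ?_
  show f x.1 (Finsupp.indicator s p x.1) = f x.1 (p x.1 x.2)
  rw [Finsupp.indicator_of_mem x.2]

theorem geom_le_exp (v u₀ : ℝ) (h0 : 0 ≤ v) (hv : v ≤ u₀) (hu₀ : u₀ < 1) (n : ℕ) :
    ∑ b ∈ Finset.range n, v ^ b ≤ Real.exp ((1 - u₀)⁻¹ * v) := by
  have hv1 : v < 1 := lt_of_le_of_lt hv hu₀
  have hpos : 0 < 1 - v := by linarith
  have hpos0 : 0 < 1 - u₀ := by linarith
  have h1 : ∑ b ∈ Finset.range n, v ^ b ≤ (1 - v)⁻¹ := by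
    rw [← tsum_geometric_of_lt_one h0 hv1]
    exact (summable_geometric_of_lt_one h0 hv1).sum_le_tsum _ (fun b _ => pow_nonneg h0 b)
  have e : 1 + v * (1 - v)⁻¹ = (1 - v)⁻¹ := by
    have h3 : (1 - v) * (1 - v)⁻¹ = 1 := mul_inv_cancel₀ hpos.ne'
    calc 1 + v * (1 - v)⁻¹ = (1 - v) * (1 - v)⁻¹ + v * (1 - v)⁻¹ := by rw [h3]
      _ = ((1 - v) + v) * (1 - v)⁻¹ := by rw [add_mul]
      _ = (1 - v)⁻¹ := by rw [sub_add_cancel, one_mul]
  have hinv : (1 - v)⁻¹ ≤ (1 - u₀)⁻¹ := inv_anti₀ hpos0 (by linarith)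
  have h2 : (1 - v)⁻¹ ≤ (1 - u₀)⁻¹ * v + 1 := by
    have h4 := mul_le_mul_of_nonneg_left hinv h0
    linarith
  exact h1.trans (h2.trans (Real.add_one_le_exp _))

theorem sum_le_exp (u : P → ℝ) (u₀ : ℝ) (h0 : ∀ x, 0 ≤ u x) (hu : ∀ x, u x ≤ u₀) (hu₀ : u₀ < 1)
    (hs : Summable u) (F : Finset (P →₀ ℕ)) :
    ∑ α ∈ F, α.prod (fun x m => u x ^ m) ≤ Real.exp ((1 - u₀)⁻¹ * ∑' x, u x) := by
  classical
  let S : Finset P := F.biUnion Finsupp.support
  let M : ℕ := F.sup (fun α => α.support.sup (fun x => α x))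
  have hsub : F ⊆ S.finsupp (fun _ => Finset.range (M + 1)) := by
    intro α hα
    rw [Finset.mem_finsupp_iff]
    refine ⟨Finset.subset_biUnion_of_mem Finsupp.support hα, fun x _ => ?_⟩
    rw [Finset.mem_range, Nat.lt_succ_iff]
    by_cases hx : x ∈ α.support
    · exact (Finset.le_sup (f := fun x => α x) hx).trans
        (Finset.le_sup (f := fun α : P →₀ ℕ => α.support.sup (fun x => α x)) hα)
    · rw [Finsupp.notMem_support_iff.mp hx]; exact Nat.zero_le _
  have hnn : ∀ α : P →₀ ℕ, 0 ≤ α.prod (fun x m => u x ^ m) := fun α =>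
    Finset.prod_nonneg fun x _ => pow_nonneg (h0 x) _
  have hpos0 : 0 < 1 - u₀ := by linarith
  calc ∑ α ∈ F, α.prod (fun x m => u x ^ m)
      ≤ ∑ α ∈ S.finsupp (fun _ => Finset.range (M + 1)), α.prod (fun x m => u x ^ m) :=
        Finset.sum_le_sum_of_subset_of_nonneg hsub (fun α _ _ => hnn α)
    _ = ∑ α ∈ S.finsupp (fun _ => Finset.range (M + 1)), ∏ x ∈ S, u x ^ (α x) := by
        refine Finset.sum_congr rfl fun α hα => ?_
        exact Finsupp.prod_of_support_subset α (Finset.mem_finsupp_iff.mp hα).1 _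
          (fun x _ => pow_zero _)
    _ = ∏ x ∈ S, ∑ b ∈ Finset.range (M + 1), u x ^ b :=
        sum_finsupp_prod S _ (fun x m => u x ^ m)
    _ ≤ ∏ x ∈ S, Real.exp ((1 - u₀)⁻¹ * u x) := by
        refine Finset.prod_le_prod
          (fun x _ => Finset.sum_nonneg fun b _ => pow_nonneg (h0 x) _) (fun x _ => ?_)
        exact geom_le_exp (u x) u₀ (h0 x) (hu x) hu₀ (M + 1)
    _ = Real.exp (∑ x ∈ S, (1 - u₀)⁻¹ * u x) := (Real.exp_sum S _).symm
    _ ≤ Real.exp ((1 - u₀)⁻¹ * ∑' x, u x) := by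
        rw [Real.exp_le_exp, ← Finset.mul_sum]
        refine mul_le_mul_of_nonneg_left ?_ (inv_nonneg.mpr hpos0.le)
        exact hs.sum_le_tsum S (fun x _ => h0 x)

theorem summable_prod_pow (u : P → ℝ) (u₀ : ℝ) (h0 : ∀ x, 0 ≤ u x) (hu : ∀ x, u x ≤ u₀)
    (hu₀ : u₀ < 1) (hs : Summable u) :
    Summable (fun α : P →₀ ℕ => α.prod (fun x m => u x ^ m)) :=
  summable_of_sum_le (fun α => Finset.prod_nonneg fun x _ => pow_nonneg (h0 x) _)
    (fun F => sum_le_exp u u₀ h0 hu hu₀ hs F)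

theorem summable_norm_W (t : P → ℂ) (u₀ : ℝ) (hu : ∀ x, ‖t x‖ ≤ u₀) (hu₀ : u₀ < 1)
    (hs : Summable (fun x => ‖t x‖)) : Summable (fun α => ‖W t α‖) :=
  (summable_prod_pow (fun x => ‖t x‖) u₀ (fun x => norm_nonneg _) hu hu₀ hs).congr
    (fun α => (norm_W t α).symm)

/-- indicator cycle of a finite set -/
noncomputable def ind (T : Finset P) : P →₀ ℕ := Finsupp.indicator T (fun _ _ => 1)

theorem ind_apply_mem {T : Finset P} {x : P} (hx : x ∈ T) : ind T x = 1 :=
  Finsupp.indicator_of_mem hx _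

theorem ind_apply_not_mem {T : Finset P} {x : P} (hx : x ∉ T) : ind T x = 0 :=
  Finsupp.indicator_of_notMem hx _

theorem support_ind (T : Finset P) : (ind T).support = T := by
  ext x
  rw [Finsupp.mem_support_iff]
  by_cases hx : x ∈ T
  · rw [ind_apply_mem hx]; exact ⟨fun _ => hx, fun _ => one_ne_zero⟩
  · rw [ind_apply_not_mem hx]; exact ⟨fun h => absurd rfl h, fun h => absurd h hx⟩

theorem ind_injective : Function.Injective (ind : Finset P → P →₀ ℕ) := fun T T' h => by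
  rw [← support_ind T, ← support_ind T', h]

theorem ind_le {T : Finset P} {β : P →₀ ℕ} (h : T ⊆ β.support) : ind T ≤ β := by
  refine Finsupp.le_def.mpr fun x => ?_
  by_cases hx : x ∈ T
  · rw [ind_apply_mem hx]
    exact Nat.one_le_iff_ne_zero.mpr (Finsupp.mem_support_iff.mp (h hx))
  · rw [ind_apply_not_mem hx]; exact Nat.zero_le _

theorem tsum_W_mul_eq_one (t : P → ℂ) (hs : Summable (fun α => ‖W t α‖)) :
    (∑' α, W t α) * (∑' T : Finset P, (-1 : ℂ) ^ T.card * W t (ind T)) = 1 := by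
  classical
  have hg : Summable (fun T : Finset P => ‖(-1 : ℂ) ^ T.card * W t (ind T)‖) := by
    refine (hs.comp_injective ind_injective).congr fun T => ?_
    show ‖W t (ind T)‖ = ‖(-1 : ℂ) ^ T.card * W t (ind T)‖
    rw [norm_mul, norm_pow, norm_neg, norm_one, one_pow, one_mul]
  rw [tsum_mul_tsum_of_summable_norm hs hg]
  let H : (P →₀ ℕ) × Finset P → ℂ := fun w =>
    if w.2 ⊆ w.1.support then (-1 : ℂ) ^ w.2.card * W t w.1 else 0
  let φ : (P →₀ ℕ) × Finset P → (P →₀ ℕ) × Finset P := fun z => (z.1 + ind z.2, z.2)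
  have hφ : Function.Injective φ := by
    rintro ⟨α, T⟩ ⟨α', T'⟩ h
    have h2 : T = T' := congrArg Prod.snd h
    subst h2
    have h1 : α + ind T = α' + ind T := congrArg Prod.fst h
    rw [add_right_cancel h1]
  have hsub : ∀ (α : P →₀ ℕ) (T : Finset P), T ⊆ (α + ind T).support := by
    intro α T x hx
    rw [Finsupp.mem_support_iff, Finsupp.add_apply, ind_apply_mem hx]
    exact Nat.succ_ne_zero _
  have hHφ : ∀ z, H (φ z) = W t z.1 * ((-1 : ℂ) ^ z.2.card * W t (ind z.2)) := by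
    rintro ⟨α, T⟩
    show (if T ⊆ (α + ind T).support then (-1 : ℂ) ^ T.card * W t (α + ind T) else 0) = _
    rw [if_pos (hsub α T), W_add]
    ring
  have hrange : Function.support H ⊆ Set.range φ := by
    rintro ⟨β, T⟩ hw
    have hT : T ⊆ β.support := by
      by_contra hT
      exact hw (if_neg hT)
    refine ⟨(β - ind T, T), ?_⟩
    show (β - ind T + ind T, T) = (β, T)
    rw [tsub_add_cancel_of_le (ind_le hT)]
  have hsumφ : Summable (H ∘ φ) :=
    (summable_mul_of_summable_norm hs hg).congr fun z => (hHφ z).symm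
  have hsumH : Summable H := (hφ.summable_iff (fun w hw => by
      by_contra h
      exact hw (hrange h))).mp hsumφ
  have inner : ∀ β : P →₀ ℕ, ∑' T, H (β, T) = if β = 0 then 1 else 0 := by
    intro β
    have h1 : ∑' T, H (β, T) = ∑ T ∈ β.support.powerset, H (β, T) :=
      tsum_eq_sum fun T hT => if_neg (fun h => hT (Finset.mem_powerset.mpr h))
    have h2 : ∑ T ∈ β.support.powerset, H (β, T)
        = (∑ T ∈ β.support.powerset, (-1 : ℂ) ^ T.card) * W t β := by
      rw [Finset.sum_mul]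
      exact Finset.sum_congr rfl fun T hT => if_pos (Finset.mem_powerset.mp hT)
    have h3 : (∑ T ∈ β.support.powerset, (-1 : ℂ) ^ T.card)
        = ((∑ T ∈ β.support.powerset, (-1 : ℤ) ^ T.card : ℤ) : ℂ) := by
      push_cast; rfl
    rw [h1, h2, h3, Finset.sum_powerset_neg_one_pow_card]
    by_cases hβ : β = 0
    · simp [hβ, W_zero]
    · simp [hβ]
  calc ∑' z : (P →₀ ℕ) × Finset P, W t z.1 * ((-1 : ℂ) ^ z.2.card * W t (ind z.2))
      = ∑' z, H (φ z) := tsum_congr fun z => (hHφ z).symm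
    _ = ∑' w, H w := hφ.tsum_eq hrange
    _ = ∑' β, ∑' T, H (β, T) := hsumH.tsum_prod' (fun β => hsumH.prod_factor β)
    _ = ∑' β : P →₀ ℕ, (if β = 0 then (1 : ℂ) else 0) := tsum_congr inner
    _ = 1 := by
        rw [tsum_eq_single (0 : P →₀ ℕ) (fun b hb => if_neg hb)]
        exact if_pos rfl

theorem tsum_W_ne_zero (t : P → ℂ) (hs : Summable (fun α => ‖W t α‖)) : ∑' α, W t α ≠ 0 := by
  intro h
  have h1 := tsum_W_mul_eq_one t hs
  rw [h, zero_mul] at h1
  exact zero_ne_one h1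

/-! ### Part 2: bridge to L-series -/

/-- norm of a cycle -/
noncomputable def nrm (N : P → ℕ) (α : P →₀ ℕ) : ℕ := α.prod (fun x m => N x ^ m)

theorem nrm_pos (N : P → ℕ) (hN : ∀ x, 0 < N x) (α : P →₀ ℕ) : 0 < nrm N α :=
  Finset.prod_pos fun x _ => pow_pos (hN x) _

noncomputable def cnt (N : P → ℕ) (n : ℕ) : ℂ :=
  (Nat.card {α : P →₀ ℕ // nrm N α = n} : ℂ)

noncomputable def gterm (N : P → ℕ) (s : ℂ) (α : P →₀ ℕ) : ℂ := ((nrm N α : ℕ) : ℂ) ^ (-s)

theorem natCast_cpow_prod {ι : Type*} (s : ℂ) (S : Finset ι) (a : ι → ℕ) :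
    ((∏ i ∈ S, a i : ℕ) : ℂ) ^ s = ∏ i ∈ S, (a i : ℂ) ^ s := by
  classical
  induction S using Finset.induction_on with
  | empty => simp
  | insert i S hi ih =>
    rw [Finset.prod_insert hi, Finset.prod_insert hi, Nat.cast_mul,
      Complex.natCast_mul_natCast_cpow, ih]

theorem natCast_pow_cpow (n m : ℕ) (s : ℂ) : ((n ^ m : ℕ) : ℂ) ^ s = ((n : ℂ) ^ s) ^ m := by
  induction m with
  | zero => simp
  | succ m ih =>
    rw [pow_succ, Nat.cast_mul, Complex.natCast_mul_natCast_cpow, ih, pow_succ]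

theorem W_eq_cpow (N : P → ℕ) (s : ℂ) (α : P →₀ ℕ) :
    W (fun x => (N x : ℂ) ^ (-s)) α = gterm N s α := by
  unfold W gterm nrm Finsupp.prod
  rw [natCast_cpow_prod]
  exact Finset.prod_congr rfl fun x _ => (natCast_pow_cpow _ _ _).symm

theorem lseries_bridge (N : P → ℕ) (hN : ∀ x, 0 < N x) (s : ℂ)
    (hsum : Summable (fun α : P →₀ ℕ => ‖gterm N s α‖)) :
    LSeriesSummable (cnt N) s ∧ LSeries (cnt N) s = ∑' α : P →₀ ℕ, gterm N s α := by
  have hgs : Summable (gterm N s) := hsum.of_norm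
  let e := Equiv.sigmaFiberEquiv (nrm N)
  have hge : Summable (gterm N s ∘ e) := e.summable_iff.mpr hgs
  have ha0 : cnt N 0 = 0 := by
    haveI : IsEmpty {α : P →₀ ℕ // nrm N α = 0} := ⟨fun α => (nrm_pos N hN α.1).ne' α.2⟩
    show ((Nat.card {α : P →₀ ℕ // nrm N α = 0} : ℕ) : ℂ) = 0
    rw [Nat.card_of_isEmpty, Nat.cast_zero]
  have hterm : ∀ n : ℕ, LSeries.term (cnt N) s n =
      ∑' c : {α : P →₀ ℕ // nrm N α = n}, (gterm N s ∘ e) ⟨n, c⟩ := by
    intro n
    rw [LSeries.term_def₀ ha0]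
    have h1 : ∀ c : {α : P →₀ ℕ // nrm N α = n},
        (gterm N s ∘ e) ⟨n, c⟩ = ((n : ℕ) : ℂ) ^ (-s) := by
      intro c
      show ((nrm N c.1 : ℕ) : ℂ) ^ (-s) = _
      rw [c.2]
    rw [tsum_congr h1, tsum_const, nsmul_eq_mul]
    rfl
  have hfun : LSeries.term (cnt N) s =
      fun n => ∑' c : {α : P →₀ ℕ // nrm N α = n}, (gterm N s ∘ e) ⟨n, c⟩ := funext hterm
  refine ⟨?_, ?_⟩
  · show Summable (LSeries.term (cnt N) s)
    rw [hfun]
    exact hge.sigma
  · show ∑' n, LSeries.term (cnt N) s n = ∑' α, gterm N s α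
    rw [hfun, ← e.tsum_eq (gterm N s)]
    exact (hge.tsum_sigma' (fun n => hge.sigma_factor n)).symm

end Abstract

/-! ### Part 3: schemes of finite type over `ℤ` -/

section Sch

/-- closed points -/
def cl (X : Scheme.{u}) : Set X := {x | IsClosed ({x} : Set X)}

/-- absolute norm of a closed point -/
noncomputable def Nm (X : Scheme.{u}) (x : ↥(cl X)) : ℕ := Nat.card (X.residueField x.1)

variable {X : Scheme.{u}} (f : X ⟶ Spec (CommRingCat.of (ULift.{u} ℤ)))
  [LocallyOfFiniteType f] [QuasiCompact f]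

include f in
theorem finite_res (x : ↥(cl X)) : Finite (X.residueField x.1) :=
  (Groth.Agent.FTIntH8.isClosed_iff_finite f x.1).mp x.2

include f in
theorem two_le_Nm (x : ↥(cl X)) : 2 ≤ Nm X x := by
  haveI := finite_res f x
  exact Finite.one_lt_card

include f in
theorem finite_hom (F : Type u) [Field F] [Finite F] :
    Finite (Spec (CommRingCat.of F) ⟶ X) := by
  classical
  haveI : CompactSpace X := QuasiCompact.compactSpace_of_compactSpace f
  have hch : ∀ x : X, ∃ U : X.Opens, IsAffineOpen U ∧ x ∈ U := fun x => by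
    obtain ⟨U, hU, hx, -⟩ := TopologicalSpace.Opens.isBasis_iff_nbhd.mp X.isBasis_affineOpens
      (TopologicalSpace.Opens.mem_top x)
    exact ⟨U, hU, hx⟩
  choose U hU hxU using hch
  obtain ⟨t, ht⟩ := isCompact_univ.elim_finite_subcover (fun x => ((U x : X.Opens) : Set X))
    (fun x => (U x).isOpen) (fun x _ => Set.mem_iUnion.mpr ⟨x, hxU x⟩)
  haveI : Subsingleton ↥(Spec (CommRingCat.of F)) :=
    inferInstanceAs (Subsingleton (PrimeSpectrum F))
  let pt : ↥(Spec (CommRingCat.of F)) := (default : PrimeSpectrum F)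
  let S : X → Set (Spec (CommRingCat.of F) ⟶ X) := fun x =>
    {g | Set.range g.base ⊆ ((U x : X.Opens) : Set X)}
  have hcov : (Set.univ : Set (Spec (CommRingCat.of F) ⟶ X)) ⊆ ⋃ x ∈ t, S x := by
    intro g _
    obtain ⟨x, hx, hgx⟩ := Set.mem_iUnion₂.mp (ht (Set.mem_univ (g.base pt)))
    refine Set.mem_iUnion₂.mpr ⟨x, hx, ?_⟩
    rintro _ ⟨z, rfl⟩
    have hz : z = pt := Subsingleton.elim _ _
    rw [hz]; exact hgx
  have hSx : ∀ x : X, (S x).Finite := by
    intro x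
    haveI := Groth.Agent.FTIntH8.finiteType_int_sec f (U x) (hU x)
    haveI : Finite (Γ(X, U x) →+* F) := Groth.Agent.FTIntH8.finite_ringHom _ _
    have hex : ∀ g' ∈ S x, ∃ ψ : Γ(X, U x) ⟶ CommRingCat.of F,
        Spec.map ψ ≫ (hU x).fromSpec = g' := fun g' hg' =>
      Groth.Agent.Lib.PtCountBoundH4.exists_ringHom_of_range_subset (U x) (hU x) F g' hg'
    choose ψ hψ using hex
    let Θ : ↥(S x) → (Γ(X, U x) →+* F) := fun y => (ψ y.1 y.2).hom
    have hΘ : Function.Injective Θ := by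
      intro y y' h
      have h2 : ψ y.1 y.2 = ψ y'.1 y'.2 := CommRingCat.hom_ext h
      apply Subtype.ext
      rw [← hψ y.1 y.2, ← hψ y'.1 y'.2, h2]
    haveI : Finite ↥(S x) := Finite.of_injective Θ hΘ
    exact Set.toFinite _
  have hfinU : (⋃ x ∈ t, S x).Finite :=
    Set.Finite.biUnion t.finite_toSet (fun x _ => hSx x)
  exact Set.finite_univ_iff.mp (hfinU.subset hcov)

include f in
theorem fibre_bound (c : ℝ) (p₀ : ℕ) (r : ℕ)
    (hb : ∀ (p m : ℕ), p.Prime → 1 ≤ m → ∀ (F : Type u) [Field F], Nat.card F = p ^ m →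
        (p₀ ≤ p → (Nat.card (Spec (CommRingCat.of F) ⟶ X) : ℝ) ≤
            c * (p : ℝ) ^ ((m : ℝ) * ((r : ℝ) - 1))) ∧
        (p < p₀ → (Nat.card (Spec (CommRingCat.of F) ⟶ X) : ℝ) ≤ c * (p : ℝ) ^ ((m : ℝ) * r)))
    (q : ℕ) (x₀ : ↥(cl X)) (hx₀ : Nm X x₀ = q) :
    Finite {x : ↥(cl X) // Nm X x = q} ∧
    ∃ p m : ℕ, p.Prime ∧ 1 ≤ m ∧ q = p ^ m ∧
      (p₀ ≤ p → (Nat.card {x : ↥(cl X) // Nm X x = q} : ℝ) ≤ c * (q : ℝ) ^ ((r : ℝ) - 1)) ∧
      (p < p₀ → (Nat.card {x : ↥(cl X) // Nm X x = q} : ℝ) ≤ c * (q : ℝ) ^ (r : ℝ)) := by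
  classical
  haveI hF : Finite (X.residueField x₀.1) := finite_res f x₀
  letI : Fintype (X.residueField x₀.1) := Fintype.ofFinite _
  obtain ⟨p, hchar, m, hp, hcard⟩ := FiniteField.card' (X.residueField x₀.1)
  have hcard' : Nat.card (X.residueField x₀.1) = p ^ (m : ℕ) := by
    rw [Nat.card_eq_fintype_card]; exact hcard
  have hq : q = p ^ (m : ℕ) := by rw [← hx₀]; exact hcard'
  haveI : Finite (Spec (CommRingCat.of ↑(X.residueField x₀.1)) ⟶ X) := finite_hom f _
  have hiso : ∀ x : {x : ↥(cl X) // Nm X x = q},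
      Nonempty (↑(X.residueField x.1.1) ≃+* ↑(X.residueField x₀.1)) := by
    intro x
    haveI : Finite (X.residueField x.1.1) := finite_res f x.1
    letI : Fintype (X.residueField x.1.1) := Fintype.ofFinite _
    refine ⟨FiniteField.ringEquivOfCardEq ?_⟩
    rw [← Nat.card_eq_fintype_card, ← Nat.card_eq_fintype_card]
    exact x.2.trans hx₀.symm
  let ι := fun x => Classical.choice (hiso x)
  let Θ : {x : ↥(cl X) // Nm X x = q} → (Spec (CommRingCat.of ↑(X.residueField x₀.1)) ⟶ X) :=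
    fun x => Spec.map (CommRingCat.ofHom (ι x).toRingHom) ≫ X.fromSpecResidueField x.1.1
  let pt : ↥(Spec (CommRingCat.of ↑(X.residueField x₀.1))) :=
    (default : PrimeSpectrum ↑(X.residueField x₀.1))
  have hΘpt : ∀ x, (Θ x) pt = x.1.1 := by
    intro x
    show (Spec.map (CommRingCat.ofHom (ι x).toRingHom) ≫ X.fromSpecResidueField x.1.1) pt = x.1.1
    rw [Scheme.Hom.comp_apply, Scheme.fromSpecResidueField_apply]
  have hΘ : Function.Injective Θ := by
    intro x x' h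
    apply Subtype.ext
    apply Subtype.ext
    rw [← hΘpt x, ← hΘpt x', h]
  have hfin : Finite {x : ↥(cl X) // Nm X x = q} := Finite.of_injective Θ hΘ
  have hle : Nat.card {x : ↥(cl X) // Nm X x = q} ≤
      Nat.card (Spec (CommRingCat.of ↑(X.residueField x₀.1)) ⟶ X) :=
    Nat.card_le_card_of_injective Θ hΘ
  have hleR : (Nat.card {x : ↥(cl X) // Nm X x = q} : ℝ) ≤
      (Nat.card (Spec (CommRingCat.of ↑(X.residueField x₀.1)) ⟶ X) : ℝ) := by
    exact_mod_cast hle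
  have hconv : ∀ y : ℝ, (p : ℝ) ^ (((m : ℕ) : ℝ) * y) = (q : ℝ) ^ y := by
    intro y
    rw [Real.rpow_mul (Nat.cast_nonneg p), Real.rpow_natCast, hq, Nat.cast_pow]
  obtain ⟨hbig, hsmall⟩ := hb p (m : ℕ) hp m.pos ↑(X.residueField x₀.1) hcard'
  refine ⟨hfin, p, (m : ℕ), hp, m.pos, hq, fun hpp => ?_, fun hpp => ?_⟩
  · have h1 := hbig hpp
    rw [hconv] at h1
    exact hleR.trans h1
  · have h1 := hsmall hpp
    rw [hconv] at h1
    exact hleR.trans h1

include f in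
theorem summable_pts (r : ℕ) (hr : topologicalKrullDim X ≤ r) (σ : ℝ) (hσ : (r : ℝ) < σ) :
    Summable (fun x : ↥(cl X) => ((Nm X x : ℕ) : ℝ) ^ (-σ)) := by
  classical
  obtain ⟨c, p₀, hc, hb⟩ := Groth.Agent.Lib.PtCountIntH4.main13070 f r hr
  obtain ⟨ε, hε⟩ : ∃ ε : ℝ, ε = σ - r := ⟨_, rfl⟩
  have hεpos : 0 < ε := by rw [hε]; exact sub_pos.mpr hσ
  let hfun : ℕ → ℕ → ℝ := fun p q =>
    if (p.Prime ∧ ∃ m : ℕ, q = p ^ m) then c * (q : ℝ) ^ (-ε) else 0
  let G : ℕ → ℝ := fun q => c * (q : ℝ) ^ (-(1 + ε)) + ∑ p ∈ Finset.range p₀, hfun p q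
  have hfun_nonneg : ∀ p q, 0 ≤ hfun p q := by
    intro p q
    show 0 ≤ (if (p.Prime ∧ ∃ m : ℕ, q = p ^ m) then c * (q : ℝ) ^ (-ε) else 0)
    split_ifs
    · exact mul_nonneg hc.le (Real.rpow_nonneg (Nat.cast_nonneg q) _)
    · exact le_rfl
  have hfun_summable : ∀ p, Summable (hfun p) := by
    intro p
    by_cases hp : p.Prime
    · have hinj : Function.Injective (fun m : ℕ => p ^ m) := Nat.pow_right_injective hp.two_le
      have hzero : ∀ q ∉ Set.range (fun m : ℕ => p ^ m), hfun p q = 0 := by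
        intro q hq
        show (if (p.Prime ∧ ∃ m : ℕ, q = p ^ m) then c * (q : ℝ) ^ (-ε) else 0) = 0
        rw [if_neg]
        rintro ⟨-, m, hm⟩
        exact hq ⟨m, hm.symm⟩
      refine (hinj.summable_iff hzero).mp ?_
      have hρ0 : 0 ≤ (p : ℝ) ^ (-ε) := Real.rpow_nonneg (Nat.cast_nonneg p) _
      have hρ1 : (p : ℝ) ^ (-ε) < 1 :=
        Real.rpow_lt_one_of_one_lt_of_neg (by exact_mod_cast hp.one_lt) (neg_lt_zero.mpr hεpos)
      have hval : ∀ m : ℕ, hfun p (p ^ m) = c * ((p : ℝ) ^ (-ε)) ^ m := by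
        intro m
        show (if (p.Prime ∧ ∃ m' : ℕ, p ^ m = p ^ m') then c * ((p ^ m : ℕ) : ℝ) ^ (-ε) else 0) = _
        rw [if_pos ⟨hp, m, rfl⟩, Nat.cast_pow, Real.rpow_pow_comm (Nat.cast_nonneg p)]
      exact ((summable_geometric_of_lt_one hρ0 hρ1).mul_left c).congr (fun m => (hval m).symm)
    · have h0 : hfun p = fun _ => 0 := by
        funext q
        show (if (p.Prime ∧ ∃ m : ℕ, q = p ^ m) then c * (q : ℝ) ^ (-ε) else 0) = 0
        rw [if_neg (fun h => hp h.1)]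
      rw [h0]; exact summable_zero
  have hGsum : Summable G :=
    Summable.add ((Real.summable_nat_rpow.mpr (by linarith)).mul_left c)
      (summable_sum fun p _ => hfun_summable p)
  have hG0 : ∀ q, 0 ≤ G q := fun q =>
    add_nonneg (mul_nonneg hc.le (Real.rpow_nonneg (Nat.cast_nonneg q) _))
      (Finset.sum_nonneg fun p _ => hfun_nonneg p q)
  let e := Equiv.sigmaFiberEquiv (Nm X)
  refine e.summable_iff.mp ?_
  refine (summable_sigma_of_nonneg
    (fun z => Real.rpow_nonneg (Nat.cast_nonneg _) _)).mpr ⟨fun q => ?_, ?_⟩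
  · by_cases hne : Nonempty {x : ↥(cl X) // Nm X x = q}
    · obtain ⟨x₀⟩ := hne
      haveI := (fibre_bound f c p₀ r hb q x₀.1 x₀.2).1
      exact Summable.of_finite
    · haveI : IsEmpty {x : ↥(cl X) // Nm X x = q} := not_nonempty_iff.mp hne
      exact Summable.of_finite
  · refine Summable.of_nonneg_of_le
      (fun q => tsum_nonneg fun _ => Real.rpow_nonneg (Nat.cast_nonneg _) _) (fun q => ?_) hGsum
    have h1 : ∀ y : {x : ↥(cl X) // Nm X x = q},
        ((Nm X (e ⟨q, y⟩) : ℕ) : ℝ) ^ (-σ) = (q : ℝ) ^ (-σ) := by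
      intro y
      show ((Nm X y.1 : ℕ) : ℝ) ^ (-σ) = _
      rw [y.2]
    rw [tsum_congr h1, tsum_const, nsmul_eq_mul]
    by_cases hne : Nonempty {x : ↥(cl X) // Nm X x = q}
    · obtain ⟨x₀⟩ := hne
      obtain ⟨-, p, m, hp, hm, hq, hbig, hsmall⟩ := fibre_bound f c p₀ r hb q x₀.1 x₀.2
      have hqpos : (0 : ℝ) < q := by rw [hq]; exact_mod_cast pow_pos hp.pos m
      have hqσ : 0 ≤ (q : ℝ) ^ (-σ) := (Real.rpow_pos_of_pos hqpos _).le
      rcases le_or_gt p₀ p with hpp | hpp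
      · have h2 := mul_le_mul_of_nonneg_right (hbig hpp) hqσ
        have h3 : c * (q : ℝ) ^ ((r : ℝ) - 1) * (q : ℝ) ^ (-σ) = c * (q : ℝ) ^ (-(1 + ε)) := by
          rw [mul_assoc, ← Real.rpow_add hqpos]
          congr 2
          rw [hε]; ring
        rw [h3] at h2
        refine h2.trans ?_
        show c * (q : ℝ) ^ (-(1 + ε)) ≤
          c * (q : ℝ) ^ (-(1 + ε)) + ∑ p ∈ Finset.range p₀, hfun p q
        exact le_add_of_nonneg_right (Finset.sum_nonneg fun p _ => hfun_nonneg p q)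
      · have h2 := mul_le_mul_of_nonneg_right (hsmall hpp) hqσ
        have h3 : c * (q : ℝ) ^ (r : ℝ) * (q : ℝ) ^ (-σ) = c * (q : ℝ) ^ (-ε) := by
          rw [mul_assoc, ← Real.rpow_add hqpos]
          congr 2
          rw [hε]; ring
        rw [h3] at h2
        have h4 : hfun p q = c * (q : ℝ) ^ (-ε) := if_pos ⟨hp, m, hq⟩
        have h5 : hfun p q ≤ ∑ p' ∈ Finset.range p₀, hfun p' q :=
          Finset.single_le_sum (f := fun p' => hfun p' q) (fun i _ => hfun_nonneg i q)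
            (Finset.mem_range.mpr hpp)
        refine h2.trans ?_
        rw [← h4]
        show hfun p q ≤ c * (q : ℝ) ^ (-(1 + ε)) + ∑ p ∈ Finset.range p₀, hfun p q
        exact h5.trans (le_add_of_nonneg_left
          (mul_nonneg hc.le (Real.rpow_nonneg (Nat.cast_nonneg q) _)))
    · haveI : IsEmpty {x : ↥(cl X) // Nm X x = q} := not_nonempty_iff.mp hne
      rw [Nat.card_of_isEmpty, Nat.cast_zero, zero_mul]
      exact hG0 q

theorem nrm_restrict (X : Scheme.{u}) (γ : {α : X →₀ ℕ // ↑α.support ⊆ cl X}) :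
    nrm (Nm X) (Finsupp.restrictSupportEquiv (cl X) ℕ γ) =
      γ.1.prod (fun x m => Nat.card (X.residueField x) ^ m) := by
  show (Finsupp.subtypeDomain (· ∈ cl X) γ.1).prod
      (fun (a : ↥(cl X)) (b : ℕ) => Nat.card (X.residueField a.1) ^ b) = _
  exact Finsupp.prod_subtypeDomain_index (h := fun x m => Nat.card (X.residueField x) ^ m)
    (fun x hx => γ.2 (Finset.mem_coe.mpr hx))

theorem cycleNormCount_eq (X : Scheme.{u}) (n : ℕ) :
    Zeta.cycleNormCount X n = Nat.card {β : ↥(cl X) →₀ ℕ // nrm (Nm X) β = n} := by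
  unfold Zeta.cycleNormCount
  refine Nat.card_congr ?_
  have E1 : {α : X →₀ ℕ // (∀ x ∈ α.support, IsClosed ({x} : Set X)) ∧
        α.prod (fun x m => Nat.card (X.residueField x) ^ m) = n} ≃
      {α : X →₀ ℕ // ((↑α.support : Set X) ⊆ cl X) ∧
        α.prod (fun x m => Nat.card (X.residueField x) ^ m) = n} :=
    Equiv.subtypeEquivRight fun α => and_congr_left'
      ⟨fun h x hx => h x (Finset.mem_coe.mp hx), fun h x hx => h (Finset.mem_coe.mpr hx)⟩
  have E2 : {α : X →₀ ℕ // ((↑α.support : Set X) ⊆ cl X) ∧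
        α.prod (fun x m => Nat.card (X.residueField x) ^ m) = n} ≃
      {γ : {α : X →₀ ℕ // (↑α.support : Set X) ⊆ cl X} //
        γ.1.prod (fun x m => Nat.card (X.residueField x) ^ m) = n} :=
    (Equiv.subtypeSubtypeEquivSubtypeInter (fun α : X →₀ ℕ => (↑α.support : Set X) ⊆ cl X)
      (fun α => α.prod (fun x m => Nat.card (X.residueField x) ^ m) = n)).symm
  have E3 : {γ : {α : X →₀ ℕ // (↑α.support : Set X) ⊆ cl X} //
        γ.1.prod (fun x m => Nat.card (X.residueField x) ^ m) = n} ≃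
      {β : ↥(cl X) →₀ ℕ // nrm (Nm X) β = n} :=
    Equiv.subtypeEquiv (Finsupp.restrictSupportEquiv (cl X) ℕ)
      (fun γ => by rw [nrm_restrict])
  exact E1.trans (E2.trans E3)

theorem main13086 {X : Scheme.{u}}
    (f : X ⟶ Spec (CommRingCat.of (ULift.{u} ℤ))) [LocallyOfFiniteType f] [QuasiCompact f] (r : ℕ)
    (hr : topologicalKrullDim X ≤ r) :
    LSeries.abscissaOfAbsConv (Zeta.arithCoeff X) ≤ (r : ℝ) ∧
      ∀ s : ℂ, (r : ℝ) < s.re → LSeries (Zeta.arithCoeff X) s ≠ 0 := by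
  have hcoef : Zeta.arithCoeff X = cnt (Nm X) := by
    funext n
    show ((Zeta.cycleNormCount X n : ℕ) : ℂ) = _
    rw [cycleNormCount_eq]; rfl
  have key : ∀ s : ℂ, (r : ℝ) < s.re →
      LSeriesSummable (cnt (Nm X)) s ∧ LSeries (cnt (Nm X)) s ≠ 0 := by
    intro s hs
    have hNpos : ∀ x : ↥(cl X), 0 < Nm X x := fun x =>
      lt_of_lt_of_le (by norm_num) (two_le_Nm f x)
    have hσpos : 0 < s.re := lt_of_le_of_lt (Nat.cast_nonneg r) hs
    let t : ↥(cl X) → ℂ := fun x => ((Nm X x : ℕ) : ℂ) ^ (-s)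
    have hnorm : ∀ x, ‖t x‖ = ((Nm X x : ℕ) : ℝ) ^ (-s.re) := fun x => by
      show ‖((Nm X x : ℕ) : ℂ) ^ (-s)‖ = _
      rw [Complex.norm_natCast_cpow_of_pos (hNpos x), Complex.neg_re]
    have hu : ∀ x, ‖t x‖ ≤ (2 : ℝ) ^ (-s.re) := fun x => by
      rw [hnorm]
      exact Real.rpow_le_rpow_of_nonpos (by norm_num) (by exact_mod_cast two_le_Nm f x)
        (by linarith)
    have hu₀ : (2 : ℝ) ^ (-s.re) < 1 :=
      Real.rpow_lt_one_of_one_lt_of_neg (by norm_num) (by linarith)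
    have hst : Summable (fun x => ‖t x‖) :=
      (summable_pts f r hr s.re hs).congr (fun x => (hnorm x).symm)
    have hW := summable_norm_W t _ hu hu₀ hst
    have hWeq : ∀ α, W t α = gterm (Nm X) s α := fun α => W_eq_cpow (Nm X) s α
    have hsum : Summable (fun α => ‖gterm (Nm X) s α‖) := hW.congr (fun α => by rw [hWeq])
    obtain ⟨h1, h2⟩ := lseries_bridge (Nm X) hNpos s hsum
    refine ⟨h1, ?_⟩
    rw [h2, ← tsum_congr hWeq]
    exact tsum_W_ne_zero t hW
  rw [hcoef]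
  refine ⟨?_, fun s hs => (key s hs).2⟩
  refine LSeries.abscissaOfAbsConv_le_of_forall_lt_LSeriesSummable fun y hy => ?_
  exact (key (y : ℂ) (by rwa [Complex.ofReal_re])).1

theorem main13084 {k : Type u} [Field k] [Finite k]
    {Y : Scheme.{u}} (f : Y ⟶ Spec (CommRingCat.of k)) [LocallyOfFiniteType f] [QuasiCompact f]
    (r : ℕ) (hr : topologicalKrullDim Y ≤ r) :
    LSeries.abscissaOfAbsConv (Zeta.arithCoeff Y) ≤ (r : ℝ) ∧
      ∀ s : ℂ, (r : ℝ) < s.re → LSeries (Zeta.arithCoeff Y) s ≠ 0 := by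
  let φ : ULift.{u} ℤ →+* k :=
    (Int.castRingHom k).comp (ULift.ringEquiv : ULift.{u} ℤ ≃+* ℤ).toRingHom
  have hφ : φ.FiniteType := by
    have h1 : φ.Finite :=
      @Module.Finite.of_finite (ULift.{u} ℤ) k _ _ φ.toAlgebra.toModule _
    exact RingHom.Finite.finiteType h1
  haveI : LocallyOfFiniteType (Spec.map (CommRingCat.ofHom φ)) :=
    (HasRingHomProperty.Spec_iff (P := @LocallyOfFiniteType)).mpr hφ
  exact main13086 (f ≫ Spec.map (CommRingCat.ofHom φ)) r hr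

end Sch

end Groth.Agent.Lib.ZetaDirichletH4
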