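import Mathlib
import Groth.Prelude.Def_ConstGrp

set_option autoImplicit false
set_option maxHeartbeats 1000000

/-!
# ℤ/n is self-dual iff there is a primitive n-th root of unity (helper1)
-/

namespace ZnDualH1

open TensorProduct

universe u

variable (k : Type u) [Field k] (n : ℕ) [NeZero n]

theorem gen_pow (l : ℕ) :
    (Multiplicative.ofAdd (1 : ZMod n)) ^ l = Multiplicative.ofAdd ((l : ℕ) : ZMod n) := by
  rw [← ofAdd_nsmul, nsmul_eq_mul, mul_one]

theorem forward
    (Φ : ConstGrp.F k (Multiplicative (ZMod n)) ≃ₐc[k] MonoidAlgebra k (Multiplicative (ZMod n))) :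
    ∃ ζ : k, IsPrimitiveRoot ζ n := by
  obtain ⟨g0, hg0⟩ : ∃ g0 : Multiplicative (ZMod n), g0 = Multiplicative.ofAdd (1 : ZMod n) :=
    ⟨_, rfl⟩
  obtain ⟨f, hf⟩ := EquivLike.surjective Φ (MonoidAlgebra.single g0 (1 : k))
  have hgl : IsGroupLikeElem k f := by
    rw [← isGroupLikeElem_map_equiv Φ, hf]
    exact MonoidAlgebra.isGroupLikeElem_single_one g0
  have hmul : ∀ a b, f (a * b) = f a * f b := by
    intro a b
    have h := congrArg (fun t => ConstGrp.pair k _ t (a, b)) hgl.comul_eq_tmul_self
    simp only [ConstGrp.pair_comul, ConstGrp.pair_tmul] at h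
    exact h
  have hone : f 1 = 1 := hgl.counit_eq_one
  obtain ⟨χ, hχ⟩ : ∃ χ : Multiplicative (ZMod n) →* k, ∀ a, χ a = f a :=
    ⟨{ toFun := f, map_one' := hone, map_mul' := hmul }, fun _ => rfl⟩
  have hcast : ∀ h : Multiplicative (ZMod n), h = g0 ^ (Multiplicative.toAdd h).val := by
    intro h
    rw [hg0, gen_pow, ZMod.natCast_zmod_val]
    rfl
  refine ⟨f g0, ?_⟩
  rw [IsPrimitiveRoot.iff_def]
  constructor
  · have h1 : g0 ^ n = 1 := by
      rw [hg0, gen_pow, ZMod.natCast_self]
      rfl
    rw [← hχ, ← map_pow, h1, map_one]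
  · intro l hl
    have hfl : f ^ l = 1 := by
      ext h
      have e1 : (f ^ l) h = (f h) ^ l := rfl
      rw [e1, ConstGrp.one_apply, hcast h, ← hχ, map_pow, ← pow_mul, mul_comm, pow_mul, hχ, hl,
        one_pow]
    have h1 : (MonoidAlgebra.single (g0 ^ l) (1 : k) :
        MonoidAlgebra k (Multiplicative (ZMod n))) = MonoidAlgebra.single 1 1 := by
      have e2 : (MonoidAlgebra.single (g0 ^ l) (1 : k) :
          MonoidAlgebra k (Multiplicative (ZMod n))) = (MonoidAlgebra.single g0 1) ^ l := by
        rw [MonoidAlgebra.single_pow, one_pow]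
      rw [e2, ← hf, ← map_pow, hfl, map_one, MonoidAlgebra.one_def]
    have h3 : g0 ^ l = 1 := MonoidAlgebra.single_left_injective (one_ne_zero : (1 : k) ≠ 0) h1
    rw [hg0, gen_pow] at h3
    have h4 : ((l : ℕ) : ZMod n) = 0 := h3
    exact (ZMod.natCast_eq_zero_iff l n).mp h4

theorem backward (ζ : k) (hζ : IsPrimitiveRoot ζ n) :
    Nonempty (ConstGrp.F k (Multiplicative (ZMod n)) ≃ₐc[k]
      MonoidAlgebra k (Multiplicative (ZMod n))) := by
  have hζn : ζ ^ n = 1 := ((IsPrimitiveRoot.iff_def ζ n).mp hζ).left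
  obtain ⟨ψ, hψ⟩ : ∃ ψ : AddChar (ZMod n) k, ψ.IsPrimitive :=
    ⟨AddChar.zmodChar n hζn, AddChar.zmodChar_primitive_of_primitive_root n hζ⟩
  let χF : Multiplicative (ZMod n) →* ConstGrp.F k (Multiplicative (ZMod n)) :=
    { toFun := fun g => (fun h => ψ (Multiplicative.toAdd g * Multiplicative.toAdd h))
      map_one' := by
        funext h
        show ψ ((0 : ZMod n) * _) = 1
        rw [zero_mul, AddChar.map_zero_eq_one]
      map_mul' := by
        intro g g'
        funext h
        show ψ ((Multiplicative.toAdd g + Multiplicative.toAdd g') * Multiplicative.toAdd h) =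
          ψ (Multiplicative.toAdd g * Multiplicative.toAdd h) *
            ψ (Multiplicative.toAdd g' * Multiplicative.toAdd h)
        rw [add_mul, AddChar.map_add_eq_mul] }
  have hχF : ∀ g h, χF g h = ψ (Multiplicative.toAdd g * Multiplicative.toAdd h) := fun _ _ => rfl
  obtain ⟨Ψ, hΨdef⟩ : ∃ Ψ : MonoidAlgebra k (Multiplicative (ZMod n)) →ₐ[k]
      ConstGrp.F k (Multiplicative (ZMod n)),
      Ψ = MonoidAlgebra.lift k (ConstGrp.F k (Multiplicative (ZMod n)))
        (Multiplicative (ZMod n)) χF := ⟨_, rfl⟩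
  have hΨ : ∀ g, Ψ (MonoidAlgebra.single g 1) = χF g := by
    intro g
    rw [hΨdef, MonoidAlgebra.lift_single, one_smul]
  have hgl : ∀ g, IsGroupLikeElem k (χF g) := by
    intro g
    constructor
    · show χF g 1 = 1
      show ψ (Multiplicative.toAdd g * (0 : ZMod n)) = 1
      rw [mul_zero, AddChar.map_zero_eq_one]
    · rw [ConstGrp.comul_eq_sum]
      conv_rhs => rw [ConstGrp.eq_sum_smul_e (χF g)]
      rw [TensorProduct.sum_tmul]
      refine Finset.sum_congr rfl (fun a _ => ?_)
      rw [TensorProduct.tmul_sum]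
      refine Finset.sum_congr rfl (fun b _ => ?_)
      rw [TensorProduct.smul_tmul_smul]
      congr 1
      show ψ (Multiplicative.toAdd g * (Multiplicative.toAdd a + Multiplicative.toAdd b)) =
        ψ (Multiplicative.toAdd g * Multiplicative.toAdd a) *
          ψ (Multiplicative.toAdd g * Multiplicative.toAdd b)
      rw [mul_add, AddChar.map_add_eq_mul]
  obtain ⟨Ψc, hΨc⟩ : ∃ Ψc : MonoidAlgebra k (Multiplicative (ZMod n)) →ₐc[k]
      ConstGrp.F k (Multiplicative (ZMod n)), ∀ x, Ψc x = Ψ x := by
    refine ⟨BialgHom.ofAlgHom Ψ ?_ ?_, fun _ => rfl⟩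
    · apply MonoidAlgebra.algHom_ext
      · intro g
        show Coalgebra.counit (R := k) (Ψ (MonoidAlgebra.single g 1)) =
          Coalgebra.counit (R := k) (MonoidAlgebra.single g (1 : k))
        rw [hΨ, (hgl g).counit_eq_one,
          (MonoidAlgebra.isGroupLikeElem_single_one (R := k) (A := k) g).counit_eq_one]
      · exact Subsingleton.elim _ _
    · apply MonoidAlgebra.algHom_ext
      · intro g
        show Algebra.TensorProduct.map Ψ Ψ
            (Coalgebra.comul (R := k) (MonoidAlgebra.single g (1 : k))) =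
          Coalgebra.comul (R := k) (Ψ (MonoidAlgebra.single g 1))
        rw [hΨ, (hgl g).comul_eq_tmul_self,
          (MonoidAlgebra.isGroupLikeElem_single_one (R := k) (A := k) g).comul_eq_tmul_self,
          Algebra.TensorProduct.map_tmul, hΨ]
      · exact Subsingleton.elim _ _
  have hinj : Function.Injective Ψ := by
    rw [injective_iff_map_eq_zero]
    intro x hx
    have hsum : Ψ x = ∑ g, x.coeff g • χF g := by
      rw [hΨdef, MonoidAlgebra.lift_apply]
      exact Finsupp.sum_fintype _ _ (fun i => zero_smul _ _)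
    have hli : LinearIndependent k (fun g : Multiplicative (ZMod n) =>
        (((ψ.mulShift (Multiplicative.toAdd g)).toMonoidHom : Multiplicative (ZMod n) →* k) :
          Multiplicative (ZMod n) → k)) :=
      (linearIndependent_monoidHom (Multiplicative (ZMod n)) k).comp
        (fun g : Multiplicative (ZMod n) => (ψ.mulShift (Multiplicative.toAdd g)).toMonoidHom)
        (fun a b hab => Multiplicative.toAdd.injective
          (AddChar.to_mulShift_inj_of_isPrimitive hψ (AddChar.toMonoidHomEquiv.injective hab)))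
    rw [Fintype.linearIndependent_iff] at hli
    have hc : ∀ g : Multiplicative (ZMod n), x.coeff g = 0 := by
      apply hli (fun g => x.coeff g)
      funext h
      have h1 : (∑ g, x.coeff g • χF g) h = 0 := by rw [← hsum, hx]; rfl
      rw [ConstGrp.sum_apply] at h1
      simp only [Finset.sum_apply, Pi.smul_apply, smul_eq_mul, Pi.zero_apply,
        AddChar.toMonoidHom_apply, AddChar.mulShift_apply]
      exact h1
    apply MonoidAlgebra.ext
    ext g
    exact hc g
  have hfr : Module.finrank k (MonoidAlgebra k (Multiplicative (ZMod n))) =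
      Module.finrank k (ConstGrp.F k (Multiplicative (ZMod n))) := by
    rw [Module.finrank_eq_card_basis (MonoidAlgebra.basis (Multiplicative (ZMod n)) k),
      Module.finrank_eq_card_basis (ConstGrp.basis k (Multiplicative (ZMod n)))]
  haveI : Module.Finite k (MonoidAlgebra k (Multiplicative (ZMod n))) :=
    Module.Finite.of_basis (MonoidAlgebra.basis (Multiplicative (ZMod n)) k)
  have hsurj : Function.Surjective Ψ :=
    (LinearMap.injective_iff_surjective_of_finrank_eq_finrank hfr (f := Ψ.toLinearMap)).mp hinj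
  have hbij : Function.Bijective Ψc := by
    constructor
    · intro a b hab
      apply hinj
      rw [← hΨc, ← hΨc, hab]
    · intro y
      obtain ⟨x, hx⟩ := hsurj y
      exact ⟨x, by rw [hΨc, hx]⟩
  exact ⟨(BialgEquiv.ofBijective Ψc hbij).symm⟩

theorem main :
    Nonempty (ConstGrp.F k (Multiplicative (ZMod n)) ≃ₐc[k]
      MonoidAlgebra k (Multiplicative (ZMod n))) ↔ ∃ ζ : k, IsPrimitiveRoot ζ n :=
  ⟨fun ⟨Φ⟩ => forward k n Φ, fun ⟨ζ, hζ⟩ => backward k n ζ hζ⟩

end ZnDualH1
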